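import Cfsg.Agent.Lib.StrongCrit.Blocks

/-!
In the setting of Aschbacher's criterion, if members at a point centralising one bad involution
commute: every member at a fixed point of a bad involution `u` commutes with a member centralising
`u`, and no bad involution centralises just one member at a point with more than one member.
-/

set_option autoImplicit false

namespace CfsgLib.StrongCrit

open CfsgLib.Involutions MulAction

universe u v w

variable {G : Type u} [Group G] {Ω : Type v} [MulAction G Ω] {Z : Set G}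

/-- An involution centralising at most one member at each of its fixed points. -/
def IsSingle (Ω : Type v) [MulAction G Ω] (Z : Set G) (u : G) : Prop :=
  ∀ d : Ω, u • d = d → ∀ a ∈ memAt Z d, ∀ b ∈ memAt Z d, Commute u a → Commute u b → a = b

namespace Setting

variable (h : Setting Ω Z)
include h

/-- Every member at a fixed point of a bad involution commutes with a member centralising it. -/
theorem exists_cover [Finite G] [Finite Ω] (hfaith : ∀ g : G, (∀ x : Ω, g • x = x) → g = 1)
    {c : Ω} (hsec : ∀ w : G, IsBad Ω w → w • c = c → ∀ a ∈ memAt Z c, ∀ b ∈ memAt Z c,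
      Commute w a → Commute w b → Commute a b)
    {u : G} (hu : IsBad Ω u) (huc : u • c = c) {t : G} (ht : t ∈ memAt Z c) :
    ∃ b ∈ memAt Z c, Commute u b ∧ Commute t b := by
  have ht2 := h.invol t ht.1
  rcases Nat.even_or_odd (orderOf (t * u)) with he | ho
  swap
  · obtain ⟨g, -, hg⟩ := conj_of_odd_order ht2 hu.1 ho
    exact absurd (hg ▸ h.conj_mem g t ht.1) (h.not_mem_of_isBad hu)
  obtain ⟨he2, het, heu⟩ := central_involution ht2 hu.1 he
  set e := (t * u) ^ (orderOf (t * u) / 2)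
  have hec : e • c = c := h.fix_of_commute ht het
  rcases h.mem_or_isBad hfaith he2 hec with hm | hb
  · exact ⟨e, ⟨hm, hec⟩, heu.symm, het.symm⟩
  rcases eq_or_ne e u with heq | hne
  · exact ⟨t, ht, heq ▸ het, Commute.refl t⟩
  have heu1 : orderOf (e * u) = 2 ^ 1 := by
    rw [pow_one, orderOf_eq_two_iff_mul]
    refine ⟨fun h1 => hne ?_, ?_⟩
    · rwa [mul_eq_one_iff_eq_inv, inv_eq_self_of_involution hu.1] at h1
    · rw [mul_assoc, ← mul_assoc u, ← heu.eq, mul_assoc e, mul_self_eq_one hu.1, mul_one,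
        mul_self_eq_one he2]
  obtain ⟨b, hbZ, hbc, hcomm⟩ := h.central c _ (isPGroup_two_closure_pair he2 hu.1 heu1)
    (by
      rw [Subgroup.closure_le]
      rintro z (rfl | rfl)
      · exact hec
      · exact huc)
  have hub : Commute u b := hcomm u (Subgroup.subset_closure (by simp))
  have heb : Commute e b := hcomm e (Subgroup.subset_closure (by simp))
  exact ⟨b, ⟨hbZ, hbc⟩, hub, hsec e hb hec t ht b ⟨hbZ, hbc⟩ het heb⟩

/-- Centralising one member at one fixed point, an involution does so at all of them. -/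
theorem isSingle_of_single [Finite G] {u : G} (hu : orderOf u = 2) {c : Ω} (huc : u • c = c)
    (h1 : ∀ a ∈ memAt Z c, ∀ b ∈ memAt Z c, Commute u a → Commute u b → a = b) :
    IsSingle Ω Z u := by
  intro d hd a ha a' ha' hua hua'
  rcases eq_or_ne d c with rfl | hdc
  · exact h1 a ha a' ha' hua hua'
  obtain ⟨b, hb, hub⟩ := h.exists_memAt_commute hu huc
  obtain ⟨g, hg, hga, hgd⟩ := h.exists_conj_of_ne ha hb hdc
  have hug : Commute u g := by
    have hle : Subgroup.closure ({a, b} : Set G) ≤ Subgroup.centralizer {u} := by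
      rw [Subgroup.closure_le]
      rintro z (rfl | rfl) <;>
        simp only [SetLike.mem_coe, Subgroup.mem_centralizer_singleton_iff]
      · exact hua.eq.symm
      · exact hub.eq.symm
    exact (Subgroup.mem_centralizer_singleton_iff.1 (hle hg)).symm
  have h2 : g * a' * g⁻¹ = b := by
    have hm := h.conj_memAt (g := g) ha'
    rw [hgd] at hm
    exact h1 _ hm b hb ((hug.mul_right hua').mul_right hug.inv_right) hub
  exact mul_left_cancel (mul_right_cancel (hga.trans h2.symm))

theorem isSingle_conj {u : G} (h1 : IsSingle Ω Z u) (g : G) : IsSingle Ω Z (g * u * g⁻¹) := by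
  intro d hd a ha b hb hua hub
  have key : ∀ {a : G}, a ∈ memAt Z d → Commute (g * u * g⁻¹) a →
      g⁻¹ * a * g ∈ memAt Z (g⁻¹ • d) ∧ Commute u (g⁻¹ * a * g) := by
    intro a ha hua
    refine ⟨?_, ?_⟩
    · have := h.conj_memAt (g := g⁻¹) ha
      rwa [inv_inv] at this
    · calc u * (g⁻¹ * a * g) = g⁻¹ * ((g * u * g⁻¹) * a) * g := by group
        _ = g⁻¹ * (a * (g * u * g⁻¹)) * g := by rw [hua.eq]
        _ = g⁻¹ * a * g * u := by group
  have hfix : u • g⁻¹ • d = g⁻¹ • d := by
    calc u • g⁻¹ • d = g⁻¹ • (g * u * g⁻¹) • d := by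
          simp only [smul_smul]; congr 1; group
      _ = g⁻¹ • d := by rw [hd]
  obtain ⟨ha1, ha2⟩ := key ha hua
  obtain ⟨hb1, hb2⟩ := key hb hub
  have := h1 _ hfix _ ha1 _ hb1 ha2 hb2
  exact mul_left_cancel (mul_right_cancel this)

/-- If a bad involution centralises one member at `c`, all members at `c` commute. -/
theorem commute_all_of_single [Finite G] [Finite Ω]
    (hfaith : ∀ g : G, (∀ x : Ω, g • x = x) → g = 1) {c : Ω}
    (hsec : ∀ w : G, IsBad Ω w → w • c = c → ∀ a ∈ memAt Z c, ∀ b ∈ memAt Z c,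
      Commute w a → Commute w b → Commute a b)
    {u : G} (hu : IsBad Ω u) (huc : u • c = c) (h1 : IsSingle Ω Z u) :
    ∀ a ∈ memAt Z c, ∀ b ∈ memAt Z c, Commute a b := by
  intro a ha a' ha'
  obtain ⟨b, hb, hub⟩ := h.exists_memAt_commute hu.1 huc
  obtain ⟨g, hg, hga⟩ := h.exists_conj_memAt hb ha
  have hm : g⁻¹ * a' * g ∈ memAt Z c := by
    have h2 := h.conj_memAt (g := g⁻¹) ha'
    rwa [inv_inv, mem_stabilizer_iff.1 (inv_mem hg)] at h2
  obtain ⟨b', hb', hub', htb'⟩ := h.exists_cover hfaith hsec hu huc hm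
  obtain rfl := h1 c huc b' hb' b hb hub' hub
  rw [← hga]
  have h3 : Commute (g * b' * g⁻¹) (g * (g⁻¹ * a' * g) * g⁻¹) := by
    show g * b' * g⁻¹ * (g * (g⁻¹ * a' * g) * g⁻¹) = g * (g⁻¹ * a' * g) * g⁻¹ * (g * b' * g⁻¹)
    rw [show g * b' * g⁻¹ * (g * (g⁻¹ * a' * g) * g⁻¹) = g * (b' * (g⁻¹ * a' * g)) * g⁻¹ by group,
      ← htb'.eq]
    group
  rwa [show g * (g⁻¹ * a' * g) * g⁻¹ = a' by group] at h3

/-- A member times a single bad involution commuting with it is single, if members commute. -/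
theorem isSingle_mul [Finite G] [Finite Ω] (hfaith : ∀ g : G, (∀ x : Ω, g • x = x) → g = 1)
    {c : Ω} (hab : ∀ a ∈ memAt Z c, ∀ b ∈ memAt Z c, Commute a b) {u t : G} (hu : IsBad Ω u)
    (huc : u • c = c) (h1 : IsSingle Ω Z u) (ht : t ∈ memAt Z c) (hut : Commute u t) :
    IsSingle Ω Z (u * t) := by
  refine h.isSingle_of_single (h.isBad_mul hfaith hu ht.1 hut).1 (c := c)
    (by rw [mul_smul, ht.2, huc]) ?_
  intro a ha b hb hua hub
  have key : ∀ {a : G}, a ∈ memAt Z c → Commute (u * t) a → Commute u a := by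
    intro a ha hua
    have : Commute (u * t * t⁻¹) a := hua.mul_left (hab t ht a ha).inv_left
    rwa [mul_inv_cancel_right] at this
  exact h1 c huc a ha b hb (key ha hua) (key hb hub)

/-- An involution centralising one of several pairwise commuting members at `c` acts on them as a
transposition of a set of three. -/
theorem three_of_single [Finite G] [Finite Ω] (hfaith : ∀ g : G, (∀ x : Ω, g • x = x) → g = 1)
    {c : Ω} (hab : ∀ a ∈ memAt Z c, ∀ b ∈ memAt Z c, Commute a b) {u : G} (hu : orderOf u = 2)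
    (huc : u • c = c) (h1 : IsSingle Ω Z u) {b : G} (hb : b ∈ memAt Z c) (hub : Commute u b)
    {a : G} (ha : a ∈ memAt Z c) (hne : a ≠ b) :
    a * b ∈ memAt Z c ∧ u * a * u⁻¹ = a * b ∧ u * (a * b) * u⁻¹ = a ∧
      ∀ d ∈ memAt Z c, d = b ∨ d = a ∨ d = a * b := by
  have hflip : ∀ {a : G}, a ∈ memAt Z c → a ≠ b → u * a * u⁻¹ = a * b := by
    intro a ha hne
    have ha' : u * a * u⁻¹ ∈ memAt Z c := by
      have := h.conj_memAt (g := u) ha
      rwa [huc] at this
    have hne' : a ≠ u * a * u⁻¹ := fun e => hne (h1 c huc a ha b hb (by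
      show u * a = a * u
      exact mul_inv_eq_iff_eq_mul.1 e.symm) hub)
    have hcomm := hab a ha _ ha'
    have hp : a * (u * a * u⁻¹) ∈ memAt Z c :=
      ⟨h.mul_mem_of_commute hfaith ha.1 ha'.1 hcomm hne', by rw [mul_smul, ha'.2, ha.2]⟩
    have hui := inv_eq_self_of_involution hu
    have hup : Commute u (a * (u * a * u⁻¹)) := by
      show u * (a * (u * a * u⁻¹)) = a * (u * a * u⁻¹) * u
      rw [show u * (a * (u * a * u⁻¹)) = u * a * u⁻¹ * (u * u) * a * u⁻¹ by group,
        mul_self_eq_one hu, mul_one, hcomm.eq, hui]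
    have he := h1 c huc _ hp b hb hup hub
    rw [← he, ← mul_assoc, mul_self_eq_one (h.invol a ha.1), one_mul]
  have hbb : b * b = 1 := mul_self_eq_one (h.invol b hb.1)
  have habm : a * b ∈ memAt Z c :=
    ⟨h.mul_mem_of_commute hfaith ha.1 hb.1 (hab a ha b hb) hne, by rw [mul_smul, hb.2, ha.2]⟩
  have hab_ne : a * b ≠ b := fun e => ne_one_of_involution (h.invol a ha.1) (mul_eq_right.1 e)
  refine ⟨habm, hflip ha hne, ?_, ?_⟩
  · rw [hflip habm hab_ne, mul_assoc, hbb, mul_one]
  intro d hd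
  by_cases hdb : d = b
  · exact Or.inl hdb
  by_cases hda : d = a
  · exact Or.inr (Or.inl hda)
  refine Or.inr (Or.inr ?_)
  have hp : a * d ∈ memAt Z c :=
    ⟨h.mul_mem_of_commute hfaith ha.1 hd.1 (hab a ha d hd) (Ne.symm hda),
      by rw [mul_smul, hd.2, ha.2]⟩
  have hup : Commute u (a * d) := by
    refine mul_inv_eq_iff_eq_mul.1 ?_
    rw [show u * (a * d) * u⁻¹ = u * a * u⁻¹ * (u * d * u⁻¹) by group, hflip ha hne, hflip hd hdb,
      mul_assoc, ← mul_assoc b, (hab b hb d hd).eq, mul_assoc d, hbb, mul_one]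
  have he := h1 c huc _ hp b hb hup hub
  rw [← he, ← mul_assoc, mul_self_eq_one (h.invol a ha.1), one_mul]

/-- A bad involution `u` and its product with a member `t` commuting with it are not both sent to
one non-trivial element, with all their conjugates, by a homomorphism from a Sylow 2-subgroup to
an abelian group. -/
theorem false_of_sylow_hom_class [Finite G] [Finite Ω] (S : Sylow 2 G) {A : Type w} [CommGroup A]
    (φ : (S : Subgroup G) →* A) {i : A} (hi : i ≠ 1) (hi2 : i * i = 1)
    {u t : G} (hu : orderOf u = 2) (ht : t ∈ Z) (hut : Commute u t)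
    (hφu : ∀ (g : G) (hg : g * u * g⁻¹ ∈ (S : Subgroup G)), φ ⟨_, hg⟩ = i)
    (hφut : ∀ (g : G) (hg : g * (u * t) * g⁻¹ ∈ (S : Subgroup G)), φ ⟨_, hg⟩ = i)
    (hgen : u ∈ Subgroup.closure Z) : False := by
  have : Fact (Nat.Prime 2) := ⟨Nat.prime_two⟩
  have hidx : Odd (S : Subgroup G).index := Nat.not_even_iff_odd.1 fun he =>
    S.not_dvd_index (even_iff_two_dvd.1 he)
  have hV : ∀ b : G, b * b = 1 →
      (∀ (g : G) (hg : g * b * g⁻¹ ∈ (S : Subgroup G)), φ ⟨_, hg⟩ = i) →
      MonoidHom.transfer φ b = i := fun b hb hφ =>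
    transfer_involution φ hidx hb hi2 fun c hc => by
      have hc' : c⁻¹ * b * c⁻¹⁻¹ ∈ (S : Subgroup G) := by rwa [inv_inv]
      simpa only [inv_inv] using hφ c⁻¹ hc'
  have hu2 := mul_self_eq_one hu
  have hut2 : u * t * (u * t) = 1 := by
    rw [mul_assoc, ← mul_assoc t, ← hut.eq, mul_assoc u, mul_self_eq_one (h.invol t ht), mul_one,
      hu2]
  have hVt : MonoidHom.transfer φ t = 1 := by
    have h1 := hV _ hut2 hφut
    rw [map_mul, hV u hu2 hφu] at h1
    exact mul_eq_left.1 h1
  have hle : Subgroup.closure Z ≤ (MonoidHom.transfer φ).ker := by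
    rw [Subgroup.closure_le]
    intro s hs
    obtain ⟨g, hg⟩ := isConj_iff.1 (h.isConj_mem ht hs)
    rw [SetLike.mem_coe, MonoidHom.mem_ker, ← hg, map_mul, map_mul, hVt, mul_one, ← map_mul,
      mul_inv_cancel, map_one]
  exact hi ((hV u hu2 hφu).symm.trans (hle hgen))

/-- A 2-subgroup fixes a point. -/
theorem exists_fixed_point [Finite G] [Finite Ω] {T : Subgroup G} (hT : IsPGroup 2 T) (c : Ω) :
    ∃ d : Ω, ∀ g ∈ T, g • d = d := by
  have : Fact (Nat.Prime 2) := ⟨Nat.prime_two⟩
  obtain ⟨t, ht⟩ := h.exists_memAt c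
  have hm := (isPGroup_zpowers (h.invol t ht.1)).card_modEq_card_fixedPoints Ω
  have hfix : Nat.card (fixedPoints (Subgroup.zpowers t) Ω) = 1 := by
    rw [Nat.card_eq_one_iff_exists]
    refine ⟨⟨c, ?_⟩, ?_⟩
    · rintro ⟨g, k, rfl⟩
      exact zpow_mem (mem_stabilizer_iff.2 ht.2 : t ∈ stabilizer G c) k
    · rintro ⟨d, hd⟩
      exact Subtype.ext (h.unique t ht.1 d c (hd ⟨t, Subgroup.mem_zpowers t⟩) ht.2)
  rw [hfix] at hm
  have hodd : ¬ 2 ∣ Nat.card Ω := by
    have h1 : Nat.card Ω % 2 = 1 := hm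
    omega
  obtain ⟨d, hd⟩ := hT.nonempty_fixed_point_of_prime_not_dvd_card Ω hodd
  exact ⟨d, fun g hg => hd ⟨g, hg⟩⟩

/-- No bad involution centralises just one member at a point with several members. -/
theorem not_isSingle [Finite G] [Finite Ω] (hfaith : ∀ g : G, (∀ x : Ω, g • x = x) → g = 1)
    (hsec : ∀ c : Ω, ∀ w : G, IsBad Ω w → w • c = c → ∀ a ∈ memAt Z c, ∀ b ∈ memAt Z c,
      Commute w a → Commute w b → Commute a b)
    (hbig : ∀ c : Ω, 1 < (memAt Z c).ncard)
    {u : G} (hu : IsBad Ω u) (hgen : u ∈ Subgroup.closure Z) : ¬ IsSingle Ω Z u := by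
  classical
  intro h1
  have : Fact (Nat.Prime 2) := ⟨Nat.prime_two⟩
  obtain ⟨hu2, p, q, hpq, hp, hq⟩ := id hu
  obtain ⟨t, ht, hut⟩ := h.exists_memAt_commute hu2 hp
  have habp := h.commute_all_of_single hfaith (hsec p) hu hp h1
  have h1' := h.isSingle_mul hfaith habp hu hp h1 ht hut
  have hut' := h.isBad_mul hfaith hu ht.1 hut
  obtain ⟨S, hS⟩ := (isPGroup_zpowers hu2).exists_le_sylow
  obtain ⟨c, hc⟩ := h.exists_fixed_point S.isPGroup' p
  have huc : u • c = c := hc u (hS (Subgroup.mem_zpowers u))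
  have hab := h.commute_all_of_single hfaith (hsec c) hu huc h1
  let act : MulAction (S : Subgroup G) (memAt Z c) :=
    { smul := fun g s => ⟨(g : G) * s.1 * (g : G)⁻¹, by
        have := h.conj_memAt (g := (g : G)) s.2
        rwa [hc g g.2] at this⟩
      one_smul := fun s => Subtype.ext (by show (1 : G) * s.1 * (1 : G)⁻¹ = s.1; group)
      mul_smul := fun g g' s => Subtype.ext (by
        show (g : G) * g' * s.1 * ((g : G) * g')⁻¹ = g * (g' * s.1 * (g' : G)⁻¹) * (g : G)⁻¹
        group) }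
  have := Fintype.ofFinite (memAt Z c)
  let φ : (S : Subgroup G) →* ℤˣ := Equiv.Perm.sign.comp (MulAction.toPermHom _ (memAt Z c))
  have key : ∀ (w : G) (hw : w ∈ (S : Subgroup G)), orderOf w = 2 → IsSingle Ω Z w →
      φ ⟨w, hw⟩ = -1 := by
    intro w hw hw2 hw1
    have hwc := hc w hw
    obtain ⟨b, hb, hwb⟩ := h.exists_memAt_commute hw2 hwc
    obtain ⟨a, ha, hne⟩ := Set.exists_ne_of_one_lt_ncard (hbig c) b
    obtain ⟨habm, h2, h3, h4⟩ := h.three_of_single hfaith hab hw2 hwc hw1 hb hwb ha hne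
    have hne2 : (⟨a, ha⟩ : memAt Z c) ≠ ⟨a * b, habm⟩ := fun e =>
      ne_one_of_involution (h.invol b hb.1) (mul_eq_left.1 (congrArg Subtype.val e).symm)
    have hperm : MulAction.toPermHom (S : Subgroup G) (memAt Z c) ⟨w, hw⟩ =
        Equiv.swap ⟨a, ha⟩ ⟨a * b, habm⟩ := by
      ext1 ⟨d, hd⟩
      apply Subtype.ext
      show w * d * w⁻¹ = _
      rcases h4 d hd with rfl | rfl | rfl
      · rw [Equiv.swap_apply_of_ne_of_ne]
        · rw [hwb.eq, mul_inv_cancel_right]
        · exact fun e => hne (congrArg Subtype.val e).symm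
        · exact fun e => ne_one_of_involution (h.invol a ha.1)
            (mul_eq_right.1 (congrArg Subtype.val e).symm)
      · rw [Equiv.swap_apply_left]; exact h2
      · rw [Equiv.swap_apply_right]; exact h3
    show Equiv.Perm.sign _ = -1
    rw [hperm, Equiv.Perm.sign_swap hne2]
  exact h.false_of_sylow_hom_class S φ (i := -1) (by decide) (by decide) hu2 ht.1 hut
    (fun g hg => key _ hg ((orderOf_conj_eq g u).trans hu2) (h.isSingle_conj h1 g))
    (fun g hg => key _ hg ((orderOf_conj_eq g _).trans hut'.1) (h.isSingle_conj h1' g)) hgen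

/-- A bad involution centralises two members at each of its fixed points with several members. -/
theorem exists_ne_commute [Finite G] [Finite Ω] (hfaith : ∀ g : G, (∀ x : Ω, g • x = x) → g = 1)
    (hsec : ∀ c : Ω, ∀ w : G, IsBad Ω w → w • c = c → ∀ a ∈ memAt Z c, ∀ b ∈ memAt Z c,
      Commute w a → Commute w b → Commute a b)
    (hbig : ∀ c : Ω, 1 < (memAt Z c).ncard)
    {u : G} (hu : IsBad Ω u) (hgen : u ∈ Subgroup.closure Z) {c : Ω} (huc : u • c = c) :
    ∃ a ∈ memAt Z c, ∃ b ∈ memAt Z c, a ≠ b ∧ Commute u a ∧ Commute u b ∧ Commute a b := by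
  by_contra hcon
  push Not at hcon
  refine h.not_isSingle hfaith hsec hbig hu hgen
    (h.isSingle_of_single hu.1 huc fun a ha b hb hua hub => ?_)
  by_contra hne
  exact hcon a ha b hb hne hua hub (hsec c u hu huc a ha b hb hua hub)

end Setting

end CfsgLib.StrongCrit
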