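import Cfsg.Agent.Lib.StrongCrit.Basic
import Cfsg.Prelude.Def_Involutions

/-!
The hypotheses of the general criterion for strong embedding (interface for the proof that there is
no bad involution).
-/

set_option autoImplicit false

namespace CfsgLib.StrongCrit

open MulAction

universe u v

variable {G : Type u} [Group G]

/-- The group generated by the members commuting with `u`. -/
def memCent (Z : Set G) (u : G) : Subgroup G := Subgroup.closure {t | t ∈ Z ∧ Commute u t}

variable (Ω : Type v) [MulAction G Ω]

/-- The standing hypotheses: the setting, faithful, generated by the members, and for every bad
involution the members commuting with it generate a group in which each point stabiliser of a fixed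
point is strongly embedded. -/
structure Crit (Z : Set G) : Prop where
  base : Setting Ω Z
  faith : ∀ g : G, (∀ x : Ω, g • x = x) → g = 1
  gen : Subgroup.closure Z = ⊤
  sec : ∀ w : G, IsBad Ω w → ∀ c : Ω, w • c = c →
    Cfsg.IsStronglyEmbedded ((stabilizer G c).subgroupOf (memCent Z w))

/-- The members at one point centralised by one bad involution commute (no two members with one
centre agree on another point). -/
def SecComm (Z : Set G) : Prop :=
  ∀ c : Ω, ∀ w : G, IsBad Ω w → w • c = c → ∀ a ∈ memAt Z c, ∀ b ∈ memAt Z c,
    Commute w a → Commute w b → Commute a b

/-- The goal: there is no bad involution. -/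
def NoBad : Prop := ∀ w : G, ¬ IsBad Ω w

end CfsgLib.StrongCrit
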