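import Cfsg.Agent.Lib.StrongCrit.Sections
import Cfsg.Agent.Lib.StrongCrit.Crit
import Cfsg.Agent.Lib.StrongCrit.Cover

/-!
Under the standing hypotheses of the criterion and `SecComm`: the group generated by the members
commuting with a bad involution, its regular 2-subgroup at a fixed point, and the members there.
-/

set_option autoImplicit false

namespace CfsgLib.StrongCrit

open CfsgLib.Involutions MulAction

universe u

variable {G : Type u} [Group G] {Ω : Type u} [MulAction G Ω] {Z : Set G}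

/-- The members at `c` commuting with `w`. -/
def bMem (Z : Set G) (c : Ω) (w : G) : Set G := {t | t ∈ memAt Z c ∧ Commute w t}

theorem memCent_eq (Z : Set G) (w : G) : memCent Z w = sectGroup Z (Subgroup.zpowers w) := by
  refine congrArg Subgroup.closure (Set.ext fun t => and_congr_right fun _ => ?_)
  refine ⟨fun h g hg => ?_, fun h => h w (Subgroup.mem_zpowers w)⟩
  obtain ⟨n, rfl⟩ := Subgroup.mem_zpowers_iff.1 hg
  exact h.zpow_left n

theorem fixSet_zpowers (w : G) : fixSet Ω (Subgroup.zpowers w) = {x : Ω | w • x = x} :=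
  Set.ext fun _ => mem_fixSet_zpowers

theorem bMem_subset_memCent {c : Ω} {w t : G} (ht : t ∈ bMem Z c w) : t ∈ memCent Z w :=
  Subgroup.subset_closure ⟨ht.1.1, ht.2⟩

theorem commute_memCent {w g : G} (hg : g ∈ memCent Z w) : Commute w g :=
  commute_of_mem_sectGroup (memCent_eq Z w ▸ hg) (Subgroup.mem_zpowers w)

namespace Crit

variable (hC : Crit Ω Z)
include hC

variable [Finite G] [Finite Ω]

/-- Two point stabilisers in the section of a bad involution have odd order. -/
theorem oddSect {w : G} (hw : IsBad Ω w) : OddSect Ω Z (Subgroup.zpowers w) := by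
  intro g hg x hx y hy hxy hgx hgy
  obtain ⟨-, -, hodd⟩ := hC.sec w hw x (mem_fixSet_zpowers.1 hx)
  obtain ⟨s, hs, hsL⟩ := hC.base.exists_swap_sect (isPGroup_zpowers hw.1) hx hy hxy
  rw [← memCent_eq] at hg hsL
  set K := (stabilizer G x).subgroupOf (memCent Z w) with hK
  have hsK : (⟨s, hsL⟩ : memCent Z w) ∉ K := fun e => hxy (by
    rw [hK, Subgroup.mem_subgroupOf, mem_stabilizer_iff] at e
    exact e.symm.trans hs.2)
  have hmem : (⟨g, hg⟩ : memCent Z w) ∈ K ⊓ K.map (MulAut.conj (⟨s, hsL⟩ : memCent Z w)).toMonoidHom := by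
    refine ⟨show g • x = x from hgx, ?_⟩
    refine ⟨(⟨s, hsL⟩ : memCent Z w)⁻¹ * (⟨g, hg⟩ : memCent Z w) * (⟨s, hsL⟩ : memCent Z w), ?_, ?_⟩
    swap
    · exact Subtype.ext (show s * (s⁻¹ * g * s) * s⁻¹ = g by group)
    show (s⁻¹ * g * s) • x = x
    rw [mul_smul, mul_smul, hs.2, hgy, inv_smul_eq_iff, hs.2]
  have h1 := (hodd _ hsK).of_dvd_nat (Subgroup.orderOf_dvd_natCard _ hmem)
  rwa [← Subgroup.orderOf_coe] at h1

variable (hsc : SecComm Ω Z) (hbig : ∀ c : Ω, 1 < (memAt Z c).ncard)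
include hsc hbig

/-- A bad involution centralises two commuting members at one fixed point. -/
theorem exists_four_bad {w : G} (hw : IsBad Ω w) :
    ∃ a ∈ Z, ∃ b ∈ Z, a ∈ sectGroup Z (Subgroup.zpowers w) ∧ b ∈ sectGroup Z (Subgroup.zpowers w) ∧
      a ≠ b ∧ Commute a b := by
  have h1 := hC.base.not_isSingle hC.faith hsc hbig hw (by rw [hC.gen]; trivial)
  simp only [IsSingle, not_forall] at h1
  obtain ⟨d, hd, a, ha, b, hb, hwa, hwb, hab⟩ := h1
  rw [← memCent_eq]
  exact ⟨a, ha.1, b, hb.1, bMem_subset_memCent ⟨ha, hwa⟩, bMem_subset_memCent ⟨hb, hwb⟩, hab,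
    hsc d w hw hd a ha b hb hwa hwb⟩

/-- The section of a bad involution acts on its fixed points as in Bender's theorem. -/
theorem sectSetting_bad {w : G} (hw : IsBad Ω w) :
    SectSetting (memCent Z w) {x : Ω | w • x = x} := by
  obtain ⟨x, hx, y, hy, hxy⟩ := exists_pair_fixSet hw
  rw [memCent_eq, ← fixSet_zpowers]
  exact hC.base.sectSetting (isPGroup_zpowers hw.1) hx hy hxy (hC.oddSect hw)
    (hC.exists_four_bad hsc hbig hw)

/-- Members at one point commuting with a bad involution and acting alike on its fixed points are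
equal. -/
theorem eq_of_same {w : G} (hw : IsBad Ω w) {c : Ω} (hc : w • c = c) {a b : G}
    (ha : a ∈ bMem Z c w) (hb : b ∈ bMem Z c w) (hab : ∀ z : Ω, w • z = z → a • z = b • z) :
    a = b := by
  have hcomm := hsc c w hw hc a ha.1 b hb.1 ha.2 hb.2
  have ha2 := hC.base.invol a ha.1.1
  have hb2 := hC.base.invol b hb.1.1
  have hS := hC.sectSetting_bad hsc hbig hw
  obtain ⟨k, -, -, hk, hkab⟩ := hS.conj_of_same (bMem_subset_memCent ha) (bMem_subset_memCent hb)
    ha2 hb2 hab
  rw [← (hk a (Commute.refl a) hcomm).eq, mul_inv_cancel_right] at hkab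
  exact hkab

/-- Whatever centralises a bad involution and fixes its fixed points centralises the members
commuting with it. -/
theorem commute_of_fix {w p : G} (hw : IsBad Ω w) (hwp : Commute w p)
    (hp : ∀ z : Ω, w • z = z → p • z = z) {g : G} (hg : g ∈ memCent Z w) : Commute p g := by
  have hle : memCent Z w ≤ Subgroup.centralizer {p} := by
    rw [memCent, Subgroup.closure_le]
    intro t ht
    rw [SetLike.mem_coe, Subgroup.mem_centralizer_singleton_iff]
    obtain ⟨c, hc⟩ := hC.base.exists_fix t ht.1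
    have hwc : w • c = c := hC.base.fix_of_commute ⟨ht.1, hc⟩ ht.2
    have hwt : ∀ z : Ω, w • z = z → w • t • z = t • z := fun z hz => by
      rw [smul_smul, ht.2.eq, mul_smul, hz]
    have hmem : p * t * p⁻¹ ∈ bMem Z c w := by
      refine ⟨?_, (hwp.mul_right ht.2).mul_right hwp.inv_right⟩
      have := hC.base.conj_memAt (g := p) (⟨ht.1, hc⟩ : t ∈ memAt Z c)
      rwa [hp c hwc] at this
    have h1 := hC.eq_of_same hsc hbig hw hwc hmem ⟨⟨ht.1, hc⟩, ht.2⟩ fun z hz => by
      have hpz : p⁻¹ • z = z := inv_smul_eq_iff.2 (hp z hz).symm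
      rw [mul_smul, mul_smul, hpz, hp _ (hwt z hz)]
    exact (mul_inv_eq_iff_eq_mul.1 h1).symm
  exact (Subgroup.mem_centralizer_singleton_iff.1 (hle hg)).symm

/-- The elements of the section fixing its points are central in it. -/
theorem commute_kernel {w k g : G} (hw : IsBad Ω w) (hk : k ∈ memCent Z w)
    (hkfix : ∀ z : Ω, w • z = z → k • z = z) (hg : g ∈ memCent Z w) : Commute k g :=
  hC.commute_of_fix hsc hbig hw (commute_memCent hk) hkfix hg

/-- Two fixed points of a bad involution have as many members commuting with it. -/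
theorem ncard_bMem_eq {w : G} (hw : IsBad Ω w) {c d : Ω} (hc : w • c = c) (hd : w • d = d) :
    (bMem Z c w).ncard = (bMem Z d w).ncard := by
  obtain ⟨g, hg, rfl⟩ := (hC.sectSetting_bad hsc hbig hw).trans c hc d hd
  have hwg := commute_memCent hg
  refine Set.ncard_congr (fun t _ => g * t * g⁻¹)
    (fun t ht => ⟨hC.base.conj_memAt ht.1, (hwg.mul_right ht.2).mul_right hwg.inv_right⟩)
    (fun a b _ _ hab => by simpa using hab) fun b hb => ⟨g⁻¹ * b * g, ⟨?_, ?_⟩, by group⟩
  · have h1 := hC.base.conj_memAt (g := g⁻¹) hb.1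
    rwa [inv_inv, inv_smul_smul] at h1
  · exact (hwg.inv_right.mul_right hb.2).mul_right hwg

/-- The two point stabilisers of the section are transitive on the members at the first point. -/
theorem exists_torus_conj {w : G} (hw : IsBad Ω w) {c y : Ω} (hc : w • c = c) (hy : w • y = y)
    (hyc : y ≠ c) {a b : G} (ha : a ∈ bMem Z c w) (hb : b ∈ bMem Z c w) :
    ∃ d ∈ memCent Z w, d • c = c ∧ d • y = y ∧ Odd (orderOf d) ∧ d * a * d⁻¹ = b := by
  obtain ⟨d, hd, hdc, hdy, hdab⟩ := (hC.sectSetting_bad hsc hbig hw).exists_conj hc hy hyc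
    (bMem_subset_memCent ha) (bMem_subset_memCent hb) (hC.base.invol a ha.1.1)
    (hC.base.invol b hb.1.1) ha.1.2 hb.1.2
  refine ⟨d, hd, hdc, hdy, ?_, hdab⟩
  exact hC.oddSect hw d (memCent_eq Z w ▸ hd) c (mem_fixSet_zpowers.2 hc) y
    (mem_fixSet_zpowers.2 hy) hyc.symm hdc hdy

/-- The elements of 2-power order of the section at a fixed point `c` form a subgroup `Q`, regular on
the other fixed points, centralising the members at `c`, which are its involutions. -/
theorem exists_sectKernel {w : G} (hw : IsBad Ω w) {c : Ω} (hc : w • c = c) :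
    ∃ Q : Subgroup G, IsPGroup 2 Q ∧
      (∀ g : G, g ∈ Q ↔ g ∈ memCent Z w ∧ g • c = c ∧ ∃ j : ℕ, g ^ 2 ^ j = 1) ∧
      (∀ g : G, Commute w g → g • c = c → ∀ x ∈ Q, g * x * g⁻¹ ∈ Q) ∧
      (∀ y z : Ω, w • y = y → w • z = z → y ≠ c → z ≠ c → ∃ g ∈ Q, g • y = z) ∧
      (∀ g ∈ Q, ∀ y : Ω, w • y = y → y ≠ c → g • y = y → g = 1) ∧
      (∀ a ∈ bMem Z c w, a ∈ Q ∧ ∀ g ∈ Q, Commute a g) ∧
      (∀ a ∈ Q, orderOf a = 2 → a ∈ bMem Z c w) := by
  have hS := hC.sectSetting_bad hsc hbig hw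
  obtain ⟨T, hTL, hT2, hTc, htr, hfree, hcent, hmeet, -⟩ := hS.exists_twoGroup (x := c) hc
  have hbMem : ∀ a ∈ bMem Z c w, a ∈ T := by
    intro a ha
    obtain ⟨k, hkL, hk, hka⟩ :=
      hmeet a (bMem_subset_memCent ha) (hC.base.invol a ha.1.1) ha.1.2
    rwa [(hC.commute_kernel hsc hbig hw hkL hk (bMem_subset_memCent ha)).eq,
      mul_inv_cancel_right] at hka
  have hiff : ∀ g : G, g ∈ T ↔ g ∈ memCent Z w ∧ g • c = c ∧ ∃ j : ℕ, g ^ 2 ^ j = 1 := by
    intro g
    refine ⟨fun hg => ?_, ?_⟩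
    · obtain ⟨j, hj⟩ := hT2 ⟨g, hg⟩
      exact ⟨hTL hg, hTc g hg, j, congrArg Subtype.val hj⟩
    rintro ⟨hgL, hgc, j, hj⟩
    obtain ⟨y, hy, hyc⟩ := hS.two c hc
    have hgyc : g • y ≠ c := fun e => hyc (MulAction.injective g (e.trans hgc.symm))
    obtain ⟨t, ht, hty⟩ := htr y hy (g • y) (hS.stable g hgL y hy) hyc hgyc
    obtain ⟨Qb, hQb⟩ := hS.exists_kernel ⟨c, hc⟩
    set f := hS.toPerm.rangeRestrict
    have hmem : ∀ x : G, ∀ hx : x ∈ memCent Z w, x • c = c → (∃ j : ℕ, x ^ 2 ^ j = 1) →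
        f ⟨x, hx⟩ ∈ Qb := fun x hx hxc ⟨j, hj⟩ =>
      mem_kernel_of_two hS.oneFix hQb (Subtype.ext hxc) (j := j) (by
        rw [← map_pow, show (⟨x, hx⟩ : memCent Z w) ^ 2 ^ j = 1 from Subtype.ext hj, map_one])
    obtain ⟨i, hi⟩ := hT2 ⟨t, ht⟩
    have h1 : f ((⟨t, hTL ht⟩ : memCent Z w)⁻¹ * ⟨g, hgL⟩) = 1 := by
      rw [map_mul, map_inv]
      refine hQb.free _ (mul_mem (inv_mem (hmem t (hTL ht) (hTc t ht)
        ⟨i, congrArg Subtype.val hi⟩)) (hmem g hgL hgc ⟨j, hj⟩)) ⟨y, hy⟩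
        (fun e => hyc (congrArg Subtype.val e)) (Subtype.ext ?_)
      show t⁻¹ • g • y = y
      rw [← hty, inv_smul_smul]
    have hkfix := hS.toPerm_eq_one.1 (congrArg Subtype.val h1)
    have hkL : t⁻¹ * g ∈ memCent Z w := mul_mem (inv_mem (hTL ht)) hgL
    have hk1 : t⁻¹ * g = 1 := by
      have hct : Commute (t⁻¹ * g) t := hC.commute_kernel hsc hbig hw hkL hkfix (hTL ht)
      have h2 : (t⁻¹ * g) ^ 2 ^ (i + j) = 1 := by
        have h3 : g ^ 2 ^ (i + j) = 1 := by rw [pow_add, mul_comm, pow_mul, hj, one_pow]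
        have hti : t ^ 2 ^ i = 1 := congrArg Subtype.val hi
        have h4 : t ^ 2 ^ (i + j) = 1 := by rw [pow_add, pow_mul, hti, one_pow]
        rw [show g = t * (t⁻¹ * g) by group, hct.symm.mul_pow, h4, one_mul] at h3
        exact h3
      exact orderOf_eq_one_iff.1 (Nat.eq_one_of_dvd_coprimes
        (Nat.Coprime.pow_left _ (Nat.coprime_two_left.2 (hS.odd_ker _ hkL hkfix)))
        (orderOf_dvd_of_pow_eq_one h2) dvd_rfl)
    rwa [inv_mul_eq_one.1 hk1] at ht
  refine ⟨T, hT2, hiff, fun g hwg hgc x hx => ?_, fun y z hy hz => htr y hy z hz,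
    fun g hg y hy => hfree g hg y hy,
    fun a ha => ⟨hbMem a ha, fun g hg => hcent a (hbMem a ha) g hg (hC.base.invol a ha.1.1)⟩, ?_⟩
  · obtain ⟨hxL, hxc, j, hj⟩ := (hiff x).1 hx
    refine (hiff _).2 ⟨?_, ?_, j, by rw [conj_pow, hj, mul_one, mul_inv_cancel]⟩
    · have hle : (memCent Z w).map (MulAut.conj g).toMonoidHom ≤ memCent Z w := by
        rw [memCent, MonoidHom.map_closure, Subgroup.closure_le]
        rintro _ ⟨s, hs, rfl⟩
        exact Subgroup.subset_closure
          ⟨hC.base.conj_mem g s hs.1, (hwg.mul_right hs.2).mul_right hwg.inv_right⟩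
      exact hle ⟨x, hxL, rfl⟩
    · rw [mul_smul, mul_smul, inv_smul_eq_iff.2 hgc.symm, hxc, hgc]
  · intro a ha ha2
    have haL := hTL ha
    refine ⟨⟨?_, hTc a ha⟩, commute_memCent haL⟩
    rw [memCent_eq] at haL hS
    rw [← fixSet_zpowers] at hS
    exact hC.base.mem_of_mem_sect (isPGroup_zpowers hw.1) hS haL ha2

/-- The number of members at a fixed point commuting with a bad involution is `q - 1` with `q` a
power of 2, at least 4, dividing the number of other fixed points. -/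
theorem exists_q {w : G} (hw : IsBad Ω w) {c : Ω} (hc : w • c = c) :
    ∃ e : ℕ, 2 ≤ e ∧ (bMem Z c w).ncard + 1 = 2 ^ e ∧
      2 ^ e ∣ ({x : Ω | w • x = x} \ {c}).ncard := by
  obtain ⟨Q, hQ2, hQmem, -, htr, hfree, hB, hQB⟩ := hC.exists_sectKernel hsc hbig hw hc
  let B0 : Subgroup Q :=
    { carrier := {g | (g : G) = 1 ∨ (g : G) ∈ bMem Z c w}
      one_mem' := Or.inl rfl
      inv_mem' := fun {g} hg => by
        rcases hg with hg | hg
        · exact Or.inl (by simp [hg])
        · refine Or.inr ?_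
          rw [Subgroup.coe_inv, inv_eq_self_of_involution (hC.base.invol _ hg.1.1)]
          exact hg
      mul_mem' := fun {a b} ha hb => by
        rcases ha with ha | ha
        · show ((a * b : Q) : G) = 1 ∨ _
          rw [Subgroup.coe_mul, ha, one_mul]
          exact hb
        rcases hb with hb | hb
        · show ((a * b : Q) : G) = 1 ∨ _
          rw [Subgroup.coe_mul, hb, mul_one]
          exact Or.inr ha
        by_cases hab : (a : G) * b = 1
        · exact Or.inl hab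
        refine Or.inr (hQB _ (a * b).2 (orderOf_eq_two_iff_mul.2 ⟨hab, ?_⟩))
        rw [Subgroup.coe_mul, mul_assoc, ← mul_assoc (b : G), ← ((hB _ ha).2 _ b.2).eq,
          mul_assoc (a : G), mul_self_eq_one (hC.base.invol _ hb.1.1), mul_one,
          mul_self_eq_one (hC.base.invol _ ha.1.1)] }
  have : Fact (Nat.Prime 2) := ⟨Nat.prime_two⟩
  have hinj : Function.Injective (fun g : B0 => ((g : Q) : G)) := fun a b h =>
    Subtype.ext (Subtype.ext h)
  have hcard : Nat.card B0 = (bMem Z c w).ncard + 1 := by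
    have h1 : Set.range (fun g : B0 => ((g : Q) : G)) = insert 1 (bMem Z c w) := by
      ext g
      constructor
      · rintro ⟨x, rfl⟩
        exact x.2
      · rintro (rfl | hg)
        · exact ⟨1, rfl⟩
        · exact ⟨⟨⟨g, (hB g hg).1⟩, Or.inr hg⟩, rfl⟩
    rw [← Set.ncard_insert_of_notMem (fun e => ne_one_of_involution (hC.base.invol _ e.1.1) rfl)
      (Set.toFinite _), ← h1, ← Set.image_univ, Set.ncard_image_of_injective _ hinj,
      Set.ncard_univ]
  obtain ⟨e, he⟩ := (hQ2.to_subgroup B0).exists_card_eq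
  have hS := hC.sectSetting_bad hsc hbig hw
  obtain ⟨y, hy, hyc⟩ := hS.two c hc
  refine ⟨e, ?_, hcard.symm.trans he, ?_⟩
  · obtain ⟨a, haZ, b, hbZ, ha, hb, hne, hab⟩ := hC.exists_four_bad hsc hbig hw
    rw [← memCent_eq] at ha hb
    obtain ⟨d, hd⟩ := hC.base.exists_fix a haZ
    have hwa := commute_memCent ha
    have hda : w • d = d := hC.base.fix_of_commute ⟨haZ, hd⟩ hwa
    have hbd : b • d = d := hC.base.fix_of_commute ⟨haZ, hd⟩ hab.symm
    have h2 : 2 ≤ (bMem Z d w).ncard := (Set.one_lt_ncard (Set.toFinite _)).2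
      ⟨a, ⟨⟨haZ, hd⟩, hwa⟩, b, ⟨⟨hbZ, hbd⟩, commute_memCent hb⟩, hne⟩
    rw [hC.ncard_bMem_eq hsc hbig hw hda hc] at h2
    by_contra he2
    have : 2 ^ e ≤ 2 ^ 1 := Nat.pow_le_pow_right (by norm_num) (by omega)
    omega
  · have h1 : ({x : Ω | w • x = x} \ {c}).ncard = Nat.card Q := by
      rw [← Set.ncard_univ]
      symm
      refine Set.ncard_congr (fun g _ => (g : G) • y) (fun g _ => ?_) (fun a b _ _ hab => ?_)
        fun z hz => ?_
      · obtain ⟨hgL, hgc⟩ : (g : G) ∈ memCent Z w ∧ (g : G) • c = c := by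
          obtain ⟨h2, h3, -⟩ := (hQmem g).1 g.2
          exact ⟨h2, h3⟩
        exact ⟨hS.stable _ hgL y hy, fun e => hyc (MulAction.injective (g : G) (e.trans hgc.symm))⟩
      · exact Subtype.ext (inv_mul_eq_one.1 (hfree _ (mul_mem (inv_mem a.2) b.2) y hy hyc
          (by rw [mul_smul, ← hab, inv_smul_smul])))
      · obtain ⟨g, hg, rfl⟩ := htr y z hy hz.1 hyc hz.2
        exact ⟨⟨g, hg⟩, trivial, rfl⟩
    rw [h1, ← he]
    exact Subgroup.card_subgroup_dvd_card B0

end Crit

end CfsgLib.StrongCrit
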