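import Cfsg.Agent.Lib.StrongCrit.CentralKernel
import Cfsg.Agent.Lib.StrongCrit.CritSections

/-!
The local hypothesis of the criterion follows from the setting if products of commuting members are
members; in particular it is not needed for a faithful action.
-/

set_option autoImplicit false

namespace CfsgLib.StrongCrit

open CfsgLib.Involutions MulAction

universe u

/-- The points fixed by `v`, acted on by the group generated by the members commuting with `v`. -/
def fixSub {G : Type u} [Group G] {Ω : Type u} [MulAction G Ω] (Z : Set G) (v : G) :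
    SubMulAction (memCent Z v) Ω where
  carrier := {x | v • x = x}
  smul_mem' := by
    intro g x hx
    show v • (g : G) • x = (g : G) • x
    rw [smul_smul, (commute_memCent g.2).eq, mul_smul, hx]

/-- If products of commuting members are members, no bad involution lies in the group generated by
the members. -/
theorem notMem_closure_of_mul (main : CriterionMain.{u}) :
    ∀ (G : Type u) [Group G] [Finite G] (Ω : Type u) [MulAction G Ω] [Finite Ω] (Z : Set G),
      Setting Ω Z → MulClosed Z → ∀ w : G, IsBad Ω w → w ∉ Subgroup.closure Z := by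
  intro G _ _ Ω _ _ Z
  induction hn : Nat.card G using Nat.strong_induction_on generalizing G Ω with
  | _ n IH =>
    subst hn
    intro h hmul w hw
    have IH' : ∀ (H : Type u) [Group H] [Finite H] (Δ : Type u) [MulAction H Δ] [Finite Δ] (Y : Set H),
        Nat.card H < Nat.card G → Setting Δ Y → MulClosed Y → ∀ v : H, IsBad Δ v →
          v ∉ Subgroup.closure Y :=
      fun H _ _ Δ _ _ Y hlt => IH _ hlt H Δ Y rfl
    refine h.noBad_closure main (fun v hv c hvc g hg hgc x hx hx2 hxc hxg => ?_) hw
    by_cases htop : memCent Z v = ⊤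
    · -- then `v` is central
      have hgen : Subgroup.closure Z = ⊤ :=
        top_le_iff.1 (htop ▸ Subgroup.closure_mono fun t ht => ht.1)
      exact false_of_central main h hmul hgen hv
        (fun k => commute_memCent (htop ▸ Subgroup.mem_top k))
        fun H _ _ _ Y hlt => IH' H Ω Y hlt
    set L := memCent Z v with hL
    set F := fixSub (Ω := Ω) Z v with hF
    set Y : Set L := {t | (t : G) ∈ Z} with hY
    have hmemL : ∀ {t : G}, t ∈ Z → Commute v t → t ∈ L := fun ht hc =>
      Subgroup.subset_closure ⟨ht, hc⟩
    have hgenY : Subgroup.closure Y = ⊤ := by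
      refine Subgroup.map_injective L.subtype_injective ?_
      rw [MonoidHom.map_closure, ← MonoidHom.range_eq_map, Subgroup.range_subtype]
      show Subgroup.closure (L.subtype '' Y) = memCent Z v
      refine congrArg Subgroup.closure (Set.ext fun t => ⟨?_, fun ht =>
        ⟨⟨t, hmemL ht.1 ht.2⟩, ht.1, rfl⟩⟩)
      rintro ⟨k, hk, rfl⟩
      exact ⟨hk, commute_memCent k.2⟩
    have hset : Setting F Y := by
      refine ⟨fun t ht => ?_, fun k t ht => h.conj_mem (k : G) t ht, fun p q => ?_, fun p => ?_,
        fun t ht => ?_, fun t ht p q hp hq => ?_, fun s hs t ht hst hne p q hp hq => ?_,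
        fun p T hT hTp => ?_⟩
      · rw [← Subgroup.orderOf_coe]; exact h.invol _ ht
      · rcases eq_or_ne (p : Ω) q with e | hne
        · exact ⟨1, by rw [one_smul]; exact Subtype.ext e⟩
        obtain ⟨s, hs, hsv⟩ := h.exists_memAt_commute hv.1 p.2
        obtain ⟨t, ht, htv⟩ := h.exists_memAt_commute hv.1 q.2
        obtain ⟨k, hk, -, hkq⟩ := h.exists_conj_of_ne hs ht hne
        have hkL : k ∈ L := (Subgroup.closure_le L).2 (Set.insert_subset (hmemL hs.1 hsv)
          (Set.singleton_subset_iff.2 (hmemL ht.1 htv))) hk
        exact ⟨⟨k, hkL⟩, Subtype.ext hkq⟩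
      · obtain ⟨-, a, b, hab, ha, hb⟩ := id hv
        by_cases e : (p : Ω) = a
        · exact ⟨⟨b, hb⟩, fun e' => hab (by rw [← e, ← e'])⟩
        · exact ⟨⟨a, ha⟩, fun e' => e (by rw [← e'])⟩
      · obtain ⟨p, hp⟩ := h.exists_fix _ ht
        have hcom : Commute v (t : G) := commute_memCent t.2
        exact ⟨⟨p, h.fix_of_commute ⟨ht, hp⟩ hcom⟩, Subtype.ext hp⟩
      · exact Subtype.ext (h.unique _ ht _ _ (congrArg Subtype.val hp) (congrArg Subtype.val hq))
      · exact Subtype.ext (h.pair _ hs _ ht (congrArg Subtype.val hst)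
          (fun e => hne (Subtype.ext e)) _ _ (congrArg Subtype.val hp) (congrArg Subtype.val hq))
      · set T' := T.map L.subtype with hT'
        have hn : Subgroup.zpowers v ≤ Subgroup.normalizer (T' : Set G) := by
          rw [Subgroup.zpowers_le]
          refine Coprime.mem_normalizer_of_forall_conj ?_
          rintro _ ⟨k, hk, rfl⟩
          have hc : Commute v (k : G) := commute_memCent k.2
          exact ⟨k, hk, by simp [hc.eq]⟩
        have : Fact (Nat.Prime 2) := ⟨Nat.prime_two⟩
        obtain ⟨t, ht, htp, htc⟩ := h.central (p : Ω) (T' ⊔ Subgroup.zpowers v)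
          ((hT.map _).to_sup_of_normal_left' (isPGroup_zpowers hv.1) hn)
          (sup_le (by rintro _ ⟨k, hk, rfl⟩; exact congrArg Subtype.val (hTp hk))
            (Subgroup.zpowers_le.2 p.2))
        exact ⟨⟨t, hmemL ht (htc v (Subgroup.mem_sup_right (Subgroup.mem_zpowers v)))⟩, ht,
          Subtype.ext htp, fun k hk => Subtype.ext (htc _ (Subgroup.mem_sup_left ⟨k, hk, rfl⟩))⟩
    have hmulY : MulClosed Y := fun s hs t ht hst hne =>
      hmul _ hs _ ht (congrArg Subtype.val hst) fun e => hne (Subtype.ext e)
    have hlt : Nat.card L < Nat.card G :=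
      lt_of_le_of_ne (Subgroup.card_le_card_group L) fun e => htop (Subgroup.eq_top_of_card_eq L e)
    have hgF : v • g • c = g • c := by
      rw [smul_smul, (commute_memCent hg).eq, mul_smul, hvc]
    exact IH' L F Y hlt hset hmulY ⟨x, hx⟩
      ⟨by rw [← Subgroup.orderOf_coe]; exact hx2, ⟨c, hvc⟩, ⟨g • c, hgF⟩,
        fun e => hgc (congrArg Subtype.val e).symm, Subtype.ext hxc, Subtype.ext hxg⟩
      (hgenY ▸ Subgroup.mem_top _)

namespace Setting

variable {G : Type u} [Group G] [Finite G] {Ω : Type u} [MulAction G Ω] [Finite Ω] {Z : Set G}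
variable (h : Setting Ω Z)
include h

/-- The local hypothesis from closure of commuting members under products. -/
theorem localOdd_of_mul (main : CriterionMain.{u}) (hmul : MulClosed Z) : LocalOdd Ω Z := by
  intro v hv c hvc g hg hgc x hx hx2 hxc hxg
  exact notMem_closure_of_mul main G Ω Z h hmul x
    ⟨hx2, c, g • c, fun e => hgc e.symm, hxc, hxg⟩
    (Subgroup.closure_mono (fun t ht => ht.1) hx)

/-- In a faithful setting no bad involution lies in the group generated by the members. -/
theorem notMem_closure_of_bad (main : CriterionMain.{u})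
    (hfaith : ∀ g : G, (∀ x : Ω, g • x = x) → g = 1) {w : G} (hw : IsBad Ω w) :
    w ∉ Subgroup.closure Z :=
  notMem_closure_of_mul main G Ω Z h
    (fun _ hs _ ht hst hne => h.mul_mem_of_commute hfaith hs ht hst hne) w hw

end Setting

end CfsgLib.StrongCrit
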