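import Cfsg.Agent.Lib.StrongCrit.Basic

/-!
In the setting of Aschbacher's criterion: every good involution is a member, and no homomorphism
from a Sylow 2-subgroup to an abelian group sends all bad involutions of it to one non-trivial
element.
-/

set_option autoImplicit false

namespace CfsgLib.StrongCrit

open CfsgLib.Involutions MulAction

universe u v w

variable {G : Type u} [Group G] {Ω : Type v} [MulAction G Ω] {Z : Set G}

/-- The transfer of an involution all whose conjugates in an odd-index subgroup map to `i` is `i`. -/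
theorem transfer_involution [Finite G] {H : Subgroup G} {A : Type w} [CommGroup A] (φ : H →* A)
    (hH : Odd H.index) {g : G} (hg : g * g = 1) {i : A} (hi2 : i * i = 1)
    (hi : ∀ (c : G) (hc : c⁻¹ * g * c ∈ H), φ ⟨c⁻¹ * g * c, hc⟩ = i) :
    MonoidHom.transfer φ g = i := by
  classical
  have := Fintype.ofFinite (Quotient (orbitRel (Subgroup.zpowers g) (G ⧸ H)))
  rw [MonoidHom.transfer_eq_prod_quotient_orbitRel_zpowers_quot]
  calc _ = ∏ q : Quotient (orbitRel (Subgroup.zpowers g) (G ⧸ H)),
        i ^ Function.minimalPeriod (g • ·) q.out := by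
        refine Finset.prod_congr rfl fun q _ => ?_
        have hper : Function.IsPeriodicPt (g • · : G ⧸ H → G ⧸ H) 2 q.out := by
          show g • g • q.out = q.out
          rw [smul_smul, hg, one_smul]
        have hdvd := hper.minimalPeriod_dvd
        rcases (Nat.dvd_prime Nat.prime_two).1 hdvd with h1 | h2
        · simp only [h1, pow_one]
          exact hi _ _
        · simp only [h2, pow_two, hi2]
          convert map_one φ
          simp [hg]
    _ = i ^ H.index := by rw [Finset.prod_pow_eq_pow_sum, ← Subgroup.index_eq_sum_minimalPeriod H g]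
    _ = i := by
        obtain ⟨k, hk⟩ := hH
        rw [hk, pow_succ, pow_mul, pow_two, hi2, one_pow, one_mul]

namespace Setting

variable (h : Setting Ω Z)
include h

/-- All members are conjugate. -/
theorem isConj_mem [Finite G] {s t : G} (hs : s ∈ Z) (ht : t ∈ Z) : IsConj s t := by
  obtain ⟨x, hx⟩ := h.exists_fix s hs
  obtain ⟨y, hy⟩ := h.exists_fix t ht
  rcases eq_or_ne x y with rfl | hxy
  · obtain ⟨g, -, hg⟩ := h.exists_conj_memAt ⟨hs, hx⟩ ⟨ht, hy⟩
    exact isConj_iff.2 ⟨g, hg⟩
  · obtain ⟨g, -, hg, -⟩ := h.exists_conj_of_ne ⟨hs, hx⟩ ⟨ht, hy⟩ hxy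
    exact isConj_iff.2 ⟨g, hg⟩

/-- Every good involution is a member. -/
theorem mem_of_fix_unique [Finite G] [Finite Ω]
    (hfaith : ∀ g : G, (∀ x : Ω, g • x = x) → g = 1) {a : G} {c : Ω} (ha : orderOf a = 2)
    (hac : a • c = c) (huniq : ∀ x : Ω, a • x = x → x = c) : a ∈ Z := by
  obtain ⟨y, hy⟩ := h.nontriv c
  obtain ⟨t, ht⟩ := h.exists_memAt y
  have ht2 := h.invol t ht.1
  rcases Nat.even_or_odd (orderOf (a * t)) with he | ho
  · obtain ⟨he2, hea, het⟩ := central_involution ha ht2 he
    set e := (a * t) ^ (orderOf (a * t) / 2)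
    have hec : e • c = c := huniq _ (by rw [smul_smul, ← hea.eq, mul_smul, hac])
    exact h.mem_of_commute_bad hfaith ha hac huniq
      ⟨he2, c, y, hy.symm, hec, h.fix_of_commute ht het⟩ hea.symm
  · obtain ⟨g, -, hg⟩ := conj_of_odd_order ha ht2 ho
    have h1 := h.conj_mem g⁻¹ t ht.1
    rwa [← hg, inv_inv, show g⁻¹ * (g * a * g⁻¹) * g = a by group] at h1

/-- An involution fixing a point is a member or bad. -/
theorem mem_or_isBad [Finite G] [Finite Ω] (hfaith : ∀ g : G, (∀ x : Ω, g • x = x) → g = 1)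
    {a : G} {c : Ω} (ha : orderOf a = 2) (hac : a • c = c) : a ∈ Z ∨ IsBad Ω a := by
  by_cases hu : ∀ x : Ω, a • x = x → x = c
  · exact Or.inl (h.mem_of_fix_unique hfaith ha hac hu)
  · push Not at hu
    obtain ⟨x, hx, hxc⟩ := hu
    exact Or.inr ⟨ha, x, c, hxc, hx, hac⟩

/-- Two distinct commuting members multiply to a member. -/
theorem mul_mem_of_commute [Finite G] [Finite Ω]
    (hfaith : ∀ g : G, (∀ x : Ω, g • x = x) → g = 1) {s t : G} (hs : s ∈ Z) (ht : t ∈ Z)
    (hst : Commute s t) (hne : s ≠ t) : s * t ∈ Z := by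
  obtain ⟨c, hc⟩ := h.exists_fix s hs
  have htc : t • c = c := h.fix_of_commute ⟨hs, hc⟩ hst.symm
  have hstc : (s * t) • c = c := by rw [mul_smul, htc, hc]
  refine h.mem_of_fix_unique hfaith (orderOf_eq_two_iff_mul.2 ⟨?_, ?_⟩) hstc
    fun x hx => h.pair s hs t ht hst hne x c hx hstc
  · intro e
    rw [mul_eq_one_iff_eq_inv, inv_eq_self_of_involution (h.invol t ht)] at e
    exact hne e
  · rw [mul_assoc, ← mul_assoc t, ← hst.eq, mul_assoc s, mul_self_eq_one (h.invol t ht), mul_one,
      mul_self_eq_one (h.invol s hs)]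

/-- If a bad involution lies in the group generated by the members, no homomorphism from a Sylow
2-subgroup to an abelian group sends all bad involutions to one element other than one. -/
theorem false_of_sylow_hom [Finite G] [Finite Ω]
    (hfaith : ∀ g : G, (∀ x : Ω, g • x = x) → g = 1) (S : Sylow 2 G) {A : Type w} [CommGroup A]
    (φ : (S : Subgroup G) →* A) {i : A} (hi : i ≠ 1)
    (hφ : ∀ x : (S : Subgroup G), IsBad Ω (x : G) → φ x = i) {u : G} (hu : IsBad Ω u)
    (hgen : u ∈ Subgroup.closure Z) : False := by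
  have : Fact (Nat.Prime 2) := ⟨Nat.prime_two⟩
  have hidx : Odd (S : Subgroup G).index := Nat.not_even_iff_odd.1 fun he =>
    S.not_dvd_index (even_iff_two_dvd.1 he)
  have hi2 : i * i = 1 := by
    obtain ⟨g, hg⟩ := MulAction.exists_smul_eq G
      ((isPGroup_zpowers hu.1).exists_le_sylow.choose) S
    have hgu : g * u * g⁻¹ ∈ (S : Subgroup G) := by
      rw [← hg]
      exact ⟨u, (isPGroup_zpowers hu.1).exists_le_sylow.choose_spec (Subgroup.mem_zpowers u), rfl⟩
    have h1 := hφ ⟨_, hgu⟩ (isBad_conj hu g)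
    rw [← h1, ← map_mul]
    convert map_one φ
    exact Subtype.ext (mul_self_eq_one (isBad_conj hu g).1)
  have hV : ∀ b : G, IsBad Ω b → MonoidHom.transfer φ b = i := fun b hb =>
    transfer_involution φ hidx (mul_self_eq_one hb.1) hi2 fun c hc => hφ ⟨_, hc⟩ (by
      have := isBad_conj hb c⁻¹
      rwa [inv_inv] at this)
  obtain ⟨hu2, x, y, hxy, hx, hy⟩ := id hu
  obtain ⟨t, ht, hut⟩ := h.exists_memAt_commute hu2 hx
  have hVt : MonoidHom.transfer φ t = 1 := by
    have h1 := hV _ (h.isBad_mul hfaith hu ht.1 hut)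
    rw [map_mul, hV u hu] at h1
    exact mul_eq_left.1 h1
  have hle : Subgroup.closure Z ≤ (MonoidHom.transfer φ).ker := by
    rw [Subgroup.closure_le]
    intro s hs
    obtain ⟨g, hg⟩ := isConj_iff.1 (h.isConj_mem ht.1 hs)
    rw [SetLike.mem_coe, MonoidHom.mem_ker, ← hg, map_mul, map_mul, hVt, mul_one, ← map_mul,
      mul_inv_cancel, map_one]
  exact hi ((hV u hu).symm.trans (hle hgen))

end Setting

end CfsgLib.StrongCrit
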