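import Mathlib
import Cfsg.Agent.Lib.Involutions.Basic
import Cfsg.Agent.Lib.Involutions.BaerSuzuki

/-!
Translations: a faithful 2-transitive group of 2-power degree with commutative pair stabilisers, in
which some fixed point free involution centralises the odd elements of the stabiliser of a pair it
interchanges, has a regular normal elementary abelian 2-subgroup; if a transitive group of
automorphisms of an abelian 2-group normalises the linear image of such a subgroup, that image is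
trivial.
-/

set_option autoImplicit false

namespace CfsgLib.StrongCrit

open MulAction

universe u v w

section Regular

variable {X : Type u} [Group X] [Finite X] {Γ : Type v} [MulAction X Γ] [Finite Γ]

/-- The regular normal elementary abelian 2-subgroup. -/
theorem exists_regular_normal {a : ℕ} (hcard : Nat.card Γ = 2 ^ a)
    (hfaith : ∀ g : X, (∀ x : Γ, g • x = x) → g = 1)
    {x₀ y₀ : Γ} (hne : x₀ ≠ y₀)
    (htr : ∀ x : Γ, ∃ g : X, g • x₀ = x)
    (htr2 : ∀ y : Γ, y ≠ x₀ → ∃ g : X, g • x₀ = x₀ ∧ g • y₀ = y)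
    (hab : ∀ g h : X, g • x₀ = x₀ → g • y₀ = y₀ → h • x₀ = x₀ → h • y₀ = y₀ → Commute g h)
    {s : X} (hs : s * s = 1) (hs₀ : s • x₀ = y₀) (hfix : ∀ x : Γ, s • x ≠ x)
    (hc : ∀ g : X, g • x₀ = x₀ → g • y₀ = y₀ → Odd (orderOf g) → Commute s g) :
    ∃ N : Subgroup X, N.Normal ∧ (∀ g ∈ N, g * g = 1) ∧ (∀ g ∈ N, ∀ h ∈ N, Commute g h) ∧
      (∀ x y : Γ, ∃ g ∈ N, g • x = y) ∧ ∀ g ∈ N, ∀ x : Γ, g • x = x → g = 1 := by
  classical
  haveI : Fact (Nat.Prime 2) := ⟨Nat.prime_two⟩
  set I : Set X := {i | ∃ g : X, g * s * g⁻¹ = i} with hI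
  have hs1 : s ≠ 1 := fun e => hfix x₀ (by rw [e, one_smul])
  have hso : orderOf s = 2 := CfsgLib.Involutions.orderOf_eq_two_iff_mul.2 ⟨hs1, hs⟩
  have ho : ∀ i ∈ I, orderOf i = 2 := by
    rintro _ ⟨g, rfl⟩
    rw [CfsgLib.Involutions.orderOf_conj_eq, hso]
  have hsq : ∀ i ∈ I, i * i = 1 := fun i hi => CfsgLib.Involutions.mul_self_eq_one (ho i hi)
  have hconj : ∀ g : X, ∀ i ∈ I, g * i * g⁻¹ ∈ I := by
    rintro g _ ⟨k, rfl⟩
    exact ⟨g * k, by group⟩
  have hfree : ∀ i ∈ I, ∀ x : Γ, i • x ≠ x := by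
    rintro _ ⟨g, rfl⟩ x hx
    rw [mul_smul, mul_smul] at hx
    exact hfix (g⁻¹ • x) (MulAction.injective g (hx.trans (smul_inv_smul g x).symm))
  -- every involution of the class centralises the odd elements of the pairs it interchanges
  have hcent : ∀ i ∈ I, ∀ x : Γ, ∀ z : X, Odd (orderOf z) → z • x = x → z • (i • x) = i • x →
      Commute i z := by
    intro i hi x z hz hzx hzy
    obtain ⟨g1, hg1⟩ := htr x
    obtain ⟨g2, hg2, hg2y⟩ := htr2 (g1⁻¹ • i • x) fun e => hfree i hi x (by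
      rw [inv_smul_eq_iff, hg1] at e; exact e)
    set g := g1 * g2 with hg
    have hgx : g • x₀ = x := by rw [hg, mul_smul, hg2, hg1]
    have hgy : g • y₀ = i • x := by rw [hg, mul_smul, hg2y, smul_inv_smul]
    have hs' : s • y₀ = x₀ := by rw [← hs₀, smul_smul, hs, one_smul]
    set t := g⁻¹ * i * g * s with ht
    have hi' : i • i • x = x := by rw [smul_smul, hsq i hi, one_smul]
    have htx : t • x₀ = x₀ := by
      rw [ht, mul_smul, hs₀, mul_smul, mul_smul, hgy, hi', inv_smul_eq_iff, hgx]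
    have hty : t • y₀ = y₀ := by
      rw [ht, mul_smul, hs', mul_smul, mul_smul, hgx, inv_smul_eq_iff, hgy]
    set w := g⁻¹ * z * g with hw
    have hwx : w • x₀ = x₀ := by rw [hw, mul_smul, mul_smul, hgx, hzx, inv_smul_eq_iff, hgx]
    have hwy : w • y₀ = y₀ := by rw [hw, mul_smul, mul_smul, hgy, hzy, inv_smul_eq_iff, hgy]
    have hwo : Odd (orderOf w) := by
      rw [hw, show g⁻¹ * z * g = g⁻¹ * z * g⁻¹⁻¹ by group, CfsgLib.Involutions.orderOf_conj_eq]
      exact hz
    have h1 : Commute t w := hab t w htx hty hwx hwy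
    have h2 : Commute s w := hc w hwx hwy hwo
    have h3 : Commute (g⁻¹ * i * g) w := by
      have := h1.mul_left h2.inv_left
      rwa [ht, mul_inv_cancel_right] at this
    show i * z = z * i
    calc i * z = g * ((g⁻¹ * i * g) * w) * g⁻¹ := by rw [hw]; group
      _ = g * (w * (g⁻¹ * i * g)) * g⁻¹ := by rw [h3.eq]
      _ = z * i := by rw [hw]; group
  -- two involutions generate a 2-group
  have hpair : ∀ i ∈ I, ∀ j ∈ I, ∃ m, orderOf (i * j) = 2 ^ m := by
    intro i hi j hj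
    refine ⟨(orderOf (i * j)).primeFactorsList.length, ?_⟩
    by_contra hne
    obtain ⟨p, hp, hpd, hp2⟩ : ∃ p : ℕ, p.Prime ∧ p ∣ orderOf (i * j) ∧ p ≠ 2 := by
      by_contra hc'
      push Not at hc'
      exact hne (Nat.eq_prime_pow_of_unique_prime_dvd (orderOf_pos (i * j)).ne' fun {d} hd hdd =>
        hc' d hd hdd)
    haveI : Fact p.Prime := ⟨hp⟩
    set z := (i * j) ^ (orderOf (i * j) / p) with hz
    have hzo : orderOf z = p := orderOf_pow_orderOf_div (orderOf_pos _).ne' hpd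
    have hiz : i * z * i⁻¹ = z⁻¹ := by
      rw [hz]
      exact CfsgLib.Involutions.inverts_pow (CfsgLib.Involutions.left_inverts_prod (ho i hi) (ho j hj)) _
    obtain ⟨x, hx⟩ := (IsPGroup.of_card (G := Subgroup.zpowers z) (n := 1) (by
        rw [Nat.card_zpowers, hzo, pow_one])).nonempty_fixed_point_of_prime_not_dvd_card Γ (by
      rw [hcard]
      exact fun hd => hp2 ((Nat.prime_dvd_prime_iff_eq hp Nat.prime_two).1 (hp.dvd_of_dvd_pow hd)))
    have hzx : z • x = x := hx ⟨z, Subgroup.mem_zpowers z⟩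
    have hzy : z • (i • x) = i • x := by
      have h1 : z * i = i * z⁻¹ := by
        rw [← hiz, ← mul_assoc, ← mul_assoc, hsq i hi, one_mul,
          CfsgLib.Involutions.inv_eq_self_of_involution (ho i hi)]
      rw [smul_smul, h1, mul_smul, inv_smul_eq_iff.2 hzx.symm]
    have h2 : z * z = 1 := by
      rw [(hcent i hi x z (hzo ▸ hp.odd_of_ne_two hp2) hzx hzy).eq, mul_inv_cancel_right] at hiz
      nth_rewrite 1 [hiz]
      exact inv_mul_cancel z
    have h3 : p ∣ 2 := hzo ▸ orderOf_dvd_of_pow_eq_one (by rw [pow_two, h2])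
    exact hp2 ((Nat.prime_dvd_prime_iff_eq hp Nat.prime_two).1 h3)
  set N := Subgroup.closure I with hN
  have hNn : N.Normal := ⟨fun n hn g => by
    induction hn using Subgroup.closure_induction with
    | mem i hi => exact Subgroup.subset_closure (hconj g i hi)
    | one => simp
    | mul a b _ _ ha hb =>
      rw [show g * (a * b) * g⁻¹ = g * a * g⁻¹ * (g * b * g⁻¹) by group]
      exact mul_mem ha hb
    | inv a _ ha =>
      rw [show g * a⁻¹ * g⁻¹ = (g * a * g⁻¹)⁻¹ by group]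
      exact inv_mem ha⟩
  have hN2 : IsPGroup 2 N := CfsgLib.Involutions.isPGroup_closure_of_pairwise
    (fun g i hi => hconj g i hi) fun i hi j hj => by
      obtain ⟨m, hm⟩ := hpair i hi j hj
      exact CfsgLib.Involutions.isPGroup_two_closure_pair (ho i hi) (ho j hj) hm
  have hItr : ∀ x y : Γ, x ≠ y → ∃ i ∈ I, i • x = y := by
    intro x y hxy
    obtain ⟨g1, hg1⟩ := htr x
    obtain ⟨g2, hg2, hg2y⟩ := htr2 (g1⁻¹ • y) fun e => hxy (by
      rw [inv_smul_eq_iff, hg1] at e; exact e.symm)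
    refine ⟨g1 * g2 * s * (g1 * g2)⁻¹, ⟨g1 * g2, rfl⟩, ?_⟩
    have h1 : (g1 * g2) • x₀ = x := by rw [mul_smul, hg2, hg1]
    rw [mul_smul, mul_smul, inv_smul_eq_iff.2 h1.symm, hs₀, mul_smul, hg2y, smul_inv_smul]
  have hNfree : ∀ g ∈ N, ∀ x : Γ, g • x = x → g = 1 := by
    intro g hg x hgx
    refine hfaith g fun y => ?_
    rcases eq_or_ne y x with rfl | hyx
    · exact hgx
    let U : Subgroup X := N ⊓ stabilizer X x
    let D : Type v := {z : Γ // z ≠ x}
    letI : MulAction U D :=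
      { smul := fun k z => ⟨(k : X) • (z : Γ), fun e =>
          z.2 (MulAction.injective (k : X) (e.trans k.2.2.symm))⟩
        one_smul := fun z => Subtype.ext (one_smul X (z : Γ))
        mul_smul := fun k l z => Subtype.ext (mul_smul (k : X) (l : X) (z : Γ)) }
    have hU2 : IsPGroup 2 U := hN2.to_le inf_le_left
    obtain ⟨⟨e, hex⟩, he⟩ := hU2.nonempty_fixed_point_of_prime_not_dvd_card D (by
      have h1 : Nat.card D = ({x}ᶜ : Set Γ).ncard := Nat.card_coe_set_eq _
      rw [h1, Set.ncard_compl, Set.ncard_singleton, hcard]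
      rcases Nat.eq_zero_or_pos a with ha | ha
      · exfalso
        rw [ha, pow_zero, Nat.card_eq_one_iff_unique] at hcard
        exact hne (@Subsingleton.elim _ hcard.1 x₀ y₀)
      · intro hd
        have h2 : 2 ∣ 2 ^ a := dvd_pow_self 2 ha.ne'
        have h3 : 0 < 2 ^ a := by positivity
        omega)
    -- a conjugate of `g` in the stabiliser fixes `e`
    obtain ⟨g1, hg1⟩ := htr x
    obtain ⟨g2, hg2, hg2e⟩ := htr2 (g1⁻¹ • e) fun e' => hex (by
      rw [inv_smul_eq_iff, hg1] at e'; exact e')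
    obtain ⟨g3, hg3, hg3y⟩ := htr2 (g1⁻¹ • y) fun e' => hyx (by
      rw [inv_smul_eq_iff, hg1] at e'; exact e')
    set k := g1 * g2 * (g1 * g3)⁻¹ with hk
    have hkx : k • x = x := by
      rw [hk, mul_smul, inv_smul_eq_iff.2 (show x = (g1 * g3) • x₀ by rw [mul_smul, hg3, hg1]),
        mul_smul, hg2, hg1]
    have hky : k • y = e := by
      rw [hk, mul_smul, inv_smul_eq_iff.2 (show y = (g1 * g3) • y₀ by
        rw [mul_smul, hg3y, smul_inv_smul]), mul_smul, hg2e, smul_inv_smul]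
    have hkg : k * g * k⁻¹ ∈ U := ⟨hNn.conj_mem g hg k, show (k * g * k⁻¹) • x = x by
      rw [mul_smul, mul_smul, inv_smul_eq_iff.2 hkx.symm, hgx, hkx]⟩
    have h4 : (k * g * k⁻¹) • e = e := congrArg Subtype.val (he ⟨_, hkg⟩)
    rw [mul_smul, mul_smul, inv_smul_eq_iff.2 hky.symm] at h4
    exact MulAction.injective k (h4.trans hky.symm)
  have hI2 : ∀ g ∈ N, g * g = 1 := by
    intro g hg
    by_cases hg1 : g = 1
    · rw [hg1, one_mul]
    have hgx : x₀ ≠ g • x₀ := fun e => hg1 (hNfree g hg x₀ e.symm)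
    obtain ⟨i, hi, hix⟩ := hItr _ _ hgx
    have h2 := hNfree _ (mul_mem (inv_mem hg) (Subgroup.subset_closure hi)) x₀
      (by rw [mul_smul, hix, inv_smul_smul])
    rw [inv_mul_eq_one] at h2
    rw [h2]; exact hsq i hi
  refine ⟨N, hNn, hI2, fun g hg h hh => ?_, fun x y => ?_, hNfree⟩
  · have h1 := hI2 _ (mul_mem hg hh)
    show g * h = h * g
    calc g * h = (g * h)⁻¹ := (inv_eq_of_mul_eq_one_right h1).symm
      _ = h⁻¹ * g⁻¹ := mul_inv_rev g h
      _ = h * g := by
        rw [inv_eq_of_mul_eq_one_right (hI2 g hg), inv_eq_of_mul_eq_one_right (hI2 h hh)]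
  · rcases eq_or_ne x y with rfl | hxy
    · exact ⟨1, one_mem _, one_smul X x⟩
    · obtain ⟨i, hi, hix⟩ := hItr x y hxy
      exact ⟨i, Subgroup.subset_closure hi, hix⟩

end Regular

section Linear

variable {X : Type u} [Group X] [Finite X] {B : Type w} [Group B] [Finite B]

/-- A normal 2-subgroup of a group transitive on the non-trivial elements of a 2-group acts
trivially on it. -/
theorem eq_one_of_transitive_image (ρ : X →* MulAut B) (hB : IsPGroup 2 B)
    (htr : ∀ b c : B, b ≠ 1 → c ≠ 1 → ∃ g : X, ρ g b = c) {N : Subgroup X} (hN : N.Normal)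
    (hN2 : IsPGroup 2 N) : ∀ g ∈ N, ρ g = 1 := by
  classical
  haveI : Fact (Nat.Prime 2) := ⟨Nat.prime_two⟩
  intro g hg
  refine MulEquiv.ext fun b => ?_
  by_cases hb : b = 1
  · rw [hb, map_one, map_one]
  letI : MulAction N B := MulAction.compHom B (ρ.comp N.subtype)
  have h1 : (1 : B) ∈ fixedPoints N B := fun n => map_one (ρ n)
  haveI : Nontrivial B := ⟨⟨b, 1, hb⟩⟩
  obtain ⟨k, hk⟩ := IsPGroup.iff_card.1 hB
  have hk0 : k ≠ 0 := fun h => by
    have := Finite.one_lt_card (α := B)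
    rw [hk, h, pow_zero] at this
    exact lt_irrefl _ this
  obtain ⟨e, he, he1⟩ := hN2.exists_fixed_point_of_prime_dvd_card_of_fixed_point B
    (hk ▸ dvd_pow_self 2 hk0) h1
  obtain ⟨x, hx⟩ := htr e b (Ne.symm he1) hb
  have hconj : x⁻¹ * g * x ∈ N := by simpa using hN.conj_mem g hg x⁻¹
  have h2 : ρ (x⁻¹ * g * x) e = e := he ⟨_, hconj⟩
  have h3 : ρ g (ρ x e) = ρ x e := by
    conv_rhs => rw [← h2]
    rw [← MulAut.mul_apply, ← MulAut.mul_apply, ← map_mul, ← map_mul]
    congr 2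
    group
  rw [hx] at h3
  rw [h3]; rfl

end Linear

end CfsgLib.StrongCrit
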