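import Cfsg.Agent.Lib.StrongCrit.Sign

/-!
In the setting of Aschbacher's criterion a homomorphism of a point stabiliser to an abelian group
killing the members at the point kills every element of 2-power order; hence a quotient by a normal
subgroup containing those members has trivial Sylow 2-subgroups as soon as these are cyclic.
-/

set_option autoImplicit false

namespace CfsgLib.StrongCrit

open CfsgLib.Involutions MulAction

universe u v w

variable {G : Type u} [Group G] {Ω : Type v} [MulAction G Ω] {Z : Set G}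

namespace Setting

variable (h : Setting Ω Z)
include h

/-- The centraliser of a 2-element is transitive on its fixed points. -/
theorem exists_commute_smul_two [Finite G] {x : G} {k : ℕ} (hk : x ^ 2 ^ k = 1) {p q : Ω}
    (hp : x • p = p) (hq : x • q = q) : ∃ g : G, Commute x g ∧ g • p = q := by
  rcases eq_or_ne p q with rfl | hpq
  · exact ⟨1, Commute.one_right x, one_smul G p⟩
  have hT : IsPGroup 2 (Subgroup.zpowers x) := fun ⟨y, n, hy⟩ => ⟨k, Subtype.ext (by
    show y ^ 2 ^ k = 1
    rw [← hy, ← zpow_natCast, ← zpow_mul, mul_comm, zpow_mul, zpow_natCast, hk, one_zpow])⟩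
  obtain ⟨a, ha, hap, hax⟩ := h.central p _ hT (Subgroup.zpowers_le.2 hp)
  obtain ⟨b, hb, hbq, hbx⟩ := h.central q _ hT (Subgroup.zpowers_le.2 hq)
  obtain ⟨g, hg, -, hgp⟩ := h.exists_conj_of_ne ⟨ha, hap⟩ ⟨hb, hbq⟩ hpq
  refine ⟨g, ?_, hgp⟩
  have hle : Subgroup.closure ({a, b} : Set G) ≤ Subgroup.centralizer {x} := by
    rw [Subgroup.closure_le]
    rintro z (rfl | rfl) <;> simp only [SetLike.mem_coe, Subgroup.mem_centralizer_singleton_iff]
    · exact (hax x (Subgroup.mem_zpowers x)).eq.symm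
    · exact (hbx x (Subgroup.mem_zpowers x)).eq.symm
  exact (Subgroup.mem_centralizer_singleton_iff.1 (hle hg)).symm

/-- A homomorphism of a point stabiliser to an abelian group killing the members there kills the
elements of 2-power order, if the members generate. -/
theorem hom_eq_one_of_two_elt [Finite G] [Finite Ω] (hgen : Subgroup.closure Z = ⊤) {c : Ω}
    {A : Type w} [CommGroup A] (φ : stabilizer G c →* A)
    (hφ : ∀ (a : G) (ha : a ∈ memAt Z c), φ ⟨a, ha.2⟩ = 1) (x : stabilizer G c) {k : ℕ}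
    (hk : x ^ 2 ^ k = 1) : φ x = 1 := by
  classical
  have : IsPretransitive G Ω := ⟨h.trans⟩
  have hidx : Odd (stabilizer G c).index := by
    rw [index_stabilizer_of_transitive G c]
    exact h.odd_natCard c
  -- every member is killed by the transfer
  obtain ⟨t, ht⟩ := h.exists_memAt c
  have hVt : MonoidHom.transfer φ t = 1 := by
    refine transfer_involution φ hidx (mul_self_eq_one (h.invol t ht.1)) (mul_one 1) fun g hg => ?_
    refine hφ _ ⟨?_, hg⟩
    have h1 := h.conj_mem g⁻¹ t ht.1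
    rwa [inv_inv] at h1
  have hker : Subgroup.closure Z ≤ (MonoidHom.transfer φ).ker := by
    rw [Subgroup.closure_le]
    intro s hs
    obtain ⟨g, hg⟩ := isConj_iff.1 (h.isConj_mem ht.1 hs)
    rw [SetLike.mem_coe, MonoidHom.mem_ker, ← hg, map_mul, map_mul, hVt, mul_one, ← map_mul,
      mul_inv_cancel, map_one]
  -- the transfer of a 2-element
  have hxk : (x : G) ^ 2 ^ k = 1 := congrArg Subtype.val hk
  have hclass : ∀ (l : ℕ) (g : G) (hg : g⁻¹ * (x : G) ^ l * g ∈ stabilizer G c),
      φ ⟨g⁻¹ * (x : G) ^ l * g, hg⟩ = φ x ^ l := by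
    intro l g hg
    have hlc : (x : G) ^ l • c = c := mem_stabilizer_iff.1 (pow_mem x.2 l)
    have hgc : (x : G) ^ l • g • c = g • c := by
      have h1 : g • (g⁻¹ * (x : G) ^ l * g) • c = g • c := congrArg (g • ·) hg
      simpa [smul_smul, mul_assoc] using h1
    obtain ⟨j, hj, hjc⟩ := h.exists_commute_smul_two (x := (x : G) ^ l) (k := k)
      (by rw [← pow_mul, mul_comm, pow_mul, hxk, one_pow]) hgc hlc
    have hjg : j * g ∈ stabilizer G c := by rw [mem_stabilizer_iff, mul_smul, hjc]
    have h2 : (⟨g⁻¹ * (x : G) ^ l * g, hg⟩ : stabilizer G c) =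
        (⟨j * g, hjg⟩ : stabilizer G c)⁻¹ * x ^ l * ⟨j * g, hjg⟩ := by
      refine Subtype.ext ?_
      show g⁻¹ * (x : G) ^ l * g = (j * g)⁻¹ * (x : G) ^ l * (j * g)
      calc g⁻¹ * (x : G) ^ l * g = g⁻¹ * (j⁻¹ * (j * (x : G) ^ l)) * g := by group
        _ = (j * g)⁻¹ * (x : G) ^ l * (j * g) := by rw [← hj.eq]; group
    rw [h2, map_mul, map_mul, mul_comm (φ _⁻¹), mul_assoc, ← map_mul, inv_mul_cancel, map_one,
      mul_one, map_pow]
  have hV : MonoidHom.transfer φ (x : G) = φ x ^ (stabilizer G c).index := by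
    have := Fintype.ofFinite (Quotient (orbitRel (Subgroup.zpowers (x : G)) (G ⧸ stabilizer G c)))
    rw [MonoidHom.transfer_eq_prod_quotient_orbitRel_zpowers_quot,
      Subgroup.index_eq_sum_minimalPeriod (stabilizer G c) (x : G), ← Finset.prod_pow_eq_pow_sum]
    exact Finset.prod_congr rfl fun q _ => hclass _ _ _
  have h1 : φ x ^ (stabilizer G c).index = 1 :=
    hV ▸ hker (hgen ▸ Subgroup.mem_top (x : G))
  have h2 : φ x ^ 2 ^ k = 1 := by rw [← map_pow, hk, map_one]
  have h3 : orderOf (φ x) ∣ 1 := by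
    rw [← (Nat.Coprime.pow_right k (Nat.coprime_two_right.2 hidx) :
      Nat.Coprime (stabilizer G c).index (2 ^ k)).gcd_eq_one]
    exact Nat.dvd_gcd (orderOf_dvd_of_pow_eq_one h1) (orderOf_dvd_of_pow_eq_one h2)
  exact orderOf_eq_one_iff.1 (Nat.dvd_one.1 h3)

/-- A quotient of a point stabiliser killing the members there, with a cyclic Sylow 2-subgroup, has
odd order on 2-elements: they map to one. -/
theorem map_eq_one_of_cyclic_sylow [Finite G] [Finite Ω] (hgen : Subgroup.closure Z = ⊤) {c : Ω}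
    {K : Type w} [Group K] [Finite K] (f : stabilizer G c →* K)
    (hf : ∀ (a : G) (ha : a ∈ memAt Z c), f ⟨a, ha.2⟩ = 1) (P : Sylow 2 K)
    (hP : IsCyclic (P : Subgroup K)) (hrange : (P : Subgroup K) ≤ f.range) (x : stabilizer G c)
    {k : ℕ} (hk : x ^ 2 ^ k = 1) : f x = 1 := by
  classical
  have : Fact (Nat.Prime 2) := ⟨Nat.prime_two⟩
  by_contra hx
  have h2K : 2 ∣ Nat.card K := by
    have h1 : orderOf (f x) ∣ 2 ^ k := orderOf_dvd_of_pow_eq_one (by rw [← map_pow, hk, map_one])
    obtain ⟨i, -, hi⟩ := (Nat.dvd_prime_pow Nat.prime_two).1 h1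
    rcases Nat.eq_zero_or_pos i with rfl | hi0
    · exact absurd (orderOf_eq_one_iff.1 (by rw [hi, pow_zero])) hx
    · exact ((dvd_pow_self 2 hi0.ne').trans (dvd_of_eq hi.symm)).trans (orderOf_dvd_natCard _)
  have hmin : (Nat.card K).minFac = 2 := (Nat.minFac_eq_two_iff _).2 h2K
  have hnc : Subgroup.normalizer ((P : Subgroup K) : Set K) ≤
      Subgroup.centralizer ((P : Subgroup K) : Set K) := IsCyclic.normalizer_le_centralizer hmin hP
  letI : CommGroup (P : Subgroup K) :=
    { (inferInstance : Group (P : Subgroup K)) with mul_comm := hP.isMulCommutative.is_comm.comm }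
  set τ := MonoidHom.transferSylow P hnc
  obtain ⟨g, hg, hg1⟩ : ∃ g ∈ (P : Subgroup K), g ≠ 1 := by
    by_contra hc
    push Not at hc
    refine P.not_dvd_index ?_
    have h1 : (P : Subgroup K) = ⊥ := (Subgroup.eq_bot_iff_forall _).2 hc
    rwa [h1, Subgroup.index_bot]
  obtain ⟨y, hy⟩ := hrange hg
  -- the 2-part of a preimage
  obtain ⟨j, o, hndvd, ho⟩ :=
    Nat.exists_eq_pow_mul_and_not_dvd (orderOf_pos y).ne' 2 (by norm_num)
  have h1 : τ (f (y ^ o)) = 1 := h.hom_eq_one_of_two_elt hgen (τ.comp f)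
    (fun a ha => by rw [MonoidHom.comp_apply, hf a ha, map_one]) (y ^ o) (k := j)
    (by rw [← pow_mul, mul_comm, ← ho, pow_orderOf_eq_one])
  rw [map_pow, hy] at h1
  have h2 : g ^ (o * (P : Subgroup K).index) = 1 := by
    rw [pow_mul]
    have := MonoidHom.transferSylow_eq_pow P hnc (g ^ o) (pow_mem hg o)
    exact (congrArg Subtype.val this).symm.trans (congrArg Subtype.val h1)
  obtain ⟨i, hi⟩ := (P.isPGroup' ⟨g, hg⟩)
  have h3 : g ^ 2 ^ i = 1 := congrArg Subtype.val hi
  refine hg1 (orderOf_eq_one_iff.1 (Nat.dvd_one.1 ?_))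
  have hodd : Odd (o * (P : Subgroup K).index) :=
    (Nat.not_even_iff_odd.1 fun e => hndvd (even_iff_two_dvd.1 e)).mul
      (Nat.not_even_iff_odd.1 fun e => P.not_dvd_index (even_iff_two_dvd.1 e))
  rw [← (Nat.Coprime.pow_right i (Nat.coprime_two_right.2 hodd) :
    Nat.Coprime (o * (P : Subgroup K).index) (2 ^ i)).gcd_eq_one]
  exact Nat.dvd_gcd (orderOf_dvd_of_pow_eq_one h2) (orderOf_dvd_of_pow_eq_one h3)

end Setting

end CfsgLib.StrongCrit
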