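import Cfsg.Agent.Lib.FTCons.Kantor
import Cfsg.Agent.Lib.TransOdd.Semilinear

/-!
The semilinear group of a one dimensional space: a group normalising an abelian group transitive on
the nonzero vectors of an elementary abelian 2-group, or a solvable group transitive on them, maps to
a cyclic group such that in the kernel 2-elements and elements fixing a nonzero vector act trivially.
-/

set_option autoImplicit false

namespace CfsgLib.StrongCrit

universe u v

variable {D : Type u} [Group D] {E : Type v} [AddCommGroup E] [DistribMulAction D E]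

/-- A homomorphism to a cyclic group whose kernel acts freely on the nonzero vectors, abelianly and
with trivial 2-elements. -/
def HasGaloisHom (D : Type u) [Group D] (E : Type v) [AddCommGroup E] [DistribMulAction D E] :
    Prop :=
  ∃ (A : Type v) (_ : Group A) (_ : Finite A) (_ : IsCyclic A) (π : D →* A),
    (∀ d, π d = 1 → ∀ v : E, v ≠ 0 → d • v = v → ∀ w : E, d • w = w) ∧
    (∀ d d', π d = 1 → π d' = 1 → ∀ v : E, d • d' • v = d' • d • v) ∧
    (∀ d, π d = 1 → ∀ k : ℕ, (∀ v : E, d ^ 2 ^ k • v = v) → ∀ v : E, d • v = v) ∧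
    (∀ d, (∀ v : E, d • v = v) → π d = 1)

/-- An element of a field of characteristic two of 2-power order is one. -/
theorem eq_one_of_pow_two_pow {K : Type v} [Field K] (h2 : (1 : K) + 1 = 0) {a : K} :
    ∀ k : ℕ, a ^ 2 ^ k = 1 → a = 1 := by
  intro k
  induction k with
  | zero => intro h; simpa using h
  | succ k ih =>
    intro h
    refine ih ?_
    rw [pow_succ, pow_mul] at h
    set b := a ^ 2 ^ k
    have h1 : (b + 1) * (b + 1) = 0 := by linear_combination h + (b + 1) * h2
    have h3 : b + 1 = 0 := mul_self_eq_zero.1 h1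
    linear_combination h3 - h2

/-- A semilinear action has the homomorphism to the automorphisms of the field. -/
theorem hasGaloisHom_of_semilinear [Finite E] [Nontrivial E] (hexp : ∀ x : E, x + x = 0)
    {F : Type v} [Field F] [Finite F] (e : E ≃+ F)
    (he : ∀ d : D, ∃ (a : F) (σ : F ≃+* F), a ≠ 0 ∧ ∀ v : E, e (d • v) = a * σ (e v)) :
    HasGaloisHom D E := by
  choose a σ ha hσ using he
  set u₀ := e.symm (1 : F) with hu
  have hu1 : e u₀ = 1 := e.apply_symm_apply 1
  have haval : ∀ d, a d = e (d • u₀) := fun d => by rw [hσ d u₀, hu1, map_one, mul_one]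
  have hmul : ∀ d d', σ (d * d') = σ d * σ d' := by
    intro d d'
    have h1 : ∀ v, a (d * d') * σ (d * d') (e v) = (a d * σ d (a d')) * σ d (σ d' (e v)) := by
      intro v
      rw [← hσ, mul_smul, hσ, hσ, map_mul, mul_assoc]
    have h2 : a (d * d') = a d * σ d (a d') := by
      have := h1 u₀
      rwa [hu1, map_one, map_one, map_one, mul_one, mul_one] at this
    refine RingEquiv.ext fun z => mul_left_cancel₀ (ha (d * d')) ?_
    have h3 := h1 (e.symm z)
    rw [e.apply_symm_apply, ← h2] at h3
    exact h3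
  let π : D →* (F ≃+* F) := MonoidHom.mk' σ hmul
  have hker : ∀ d, π d = 1 → ∀ v, e (d • v) = a d * e v := fun d hd v => by
    rw [hσ]; rw [show σ d = 1 from hd]; rfl
  have htwo : (1 : F) + 1 = 0 := by rw [← hu1, ← map_add, hexp, map_zero]
  haveI : Finite (F ≃+* F) :=
    Finite.of_injective (fun s : F ≃+* F => (s : F → F)) DFunLike.coe_injective
  refine ⟨F ≃+* F, inferInstance, inferInstance, TransOdd.isCyclic_ringEquiv F, π, ?_, ?_, ?_, ?_⟩
  · intro d hd v hv hdv w
    have h1 := hker d hd v
    rw [hdv] at h1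
    have h2 : a d = 1 :=
      mul_right_cancel₀ (fun h => hv (e.map_eq_zero_iff.1 h)) (by rw [one_mul]; exact h1.symm)
    exact e.injective (by rw [hker d hd w, h2, one_mul])
  · intro d d' hd hd' v
    exact e.injective (by rw [hker d hd, hker d' hd', hker d' hd', hker d hd, mul_left_comm])
  · intro d hd k hk v
    have hpow : ∀ n : ℕ, π (d ^ n) = 1 ∧ a (d ^ n) = a d ^ n := by
      intro n
      induction n with
      | zero => exact ⟨by rw [pow_zero, map_one], by rw [pow_zero, pow_zero, haval, one_smul, hu1]⟩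
      | succ n ih =>
        refine ⟨by rw [pow_succ, map_mul, ih.1, hd, one_mul], ?_⟩
        rw [pow_succ, pow_succ, haval, mul_smul, hker _ ih.1, ih.2, hker d hd, hu1, mul_one]
    have h1 : a d ^ 2 ^ k = 1 := by rw [← (hpow _).2, haval, hk, hu1]
    exact e.injective (by rw [hker d hd v, eq_one_of_pow_two_pow htwo k h1, one_mul])
  · intro d hd
    refine RingEquiv.ext fun z => ?_
    have h1 : a d = 1 := by rw [haval, hd, hu1]
    have h2 := hσ d (e.symm z)
    rw [hd, e.apply_symm_apply, h1, one_mul] at h2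
    exact h2.symm

/-- A solvable group transitive on the nonzero vectors. -/
theorem hasGaloisHom_of_solvable [Finite D] [Group.IsSolvable D] [Finite E] [Nontrivial E]
    (hexp : ∀ x : E, x + x = 0) (htr : ∀ v w : E, v ≠ 0 → w ≠ 0 → ∃ d : D, d • v = w) :
    HasGaloisHom D E := by
  letI : Module (ZMod 2) E := AddCommGroup.zmodModule fun x => by rw [two_nsmul]; exact hexp x
  have hex : Nat.card E ∉ ({9, 25, 49, 121, 529, 81} : Set ℕ) := by
    obtain ⟨n, hn⟩ : ∃ n, Nat.card E = 2 ^ n :=
      ⟨_, by rw [Module.natCard_eq_pow_finrank (K := ZMod 2) (V := E), Nat.card_zmod]⟩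
    intro hm
    have hn0 : n ≠ 0 := by
      rintro rfl
      have := Finite.one_lt_card (α := E)
      simp [hn] at this
    have hev : Even (2 ^ n) := Nat.even_pow.2 ⟨even_two, hn0⟩
    simp only [Set.mem_insert_iff, Set.mem_singleton_iff, hn] at hm
    rcases hm with h | h | h | h | h | h <;> rw [h] at hev <;> revert hev <;> decide
  obtain ⟨F, hF, hFt, e, he⟩ := (FTCons.Kantor.semilinear_of_transitive (p := 2) (H := D)
    (V := E) (fun v w hv hw => by
      obtain ⟨d, hd⟩ := htr v w hv hw
      exact ⟨d, Or.inl hd⟩)).resolve_right hex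
  choose a σ ha hσ using he
  letI : Field (ULift.{v} F) := Equiv.ulift.field
  let c : F ≃+* ULift.{v} F := (ULift.ringEquiv).symm
  exact hasGaloisHom_of_semilinear hexp (e.trans c.toAddEquiv) fun d =>
    ⟨c (a d), c.symm.trans ((σ d).trans c), fun h => ha d (c.map_eq_zero_iff.1 h), fun v => by
      show c (e (d • v)) = c (a d) * c (σ d (c.symm (c (e v))))
      rw [hσ, c.symm_apply_apply, map_mul]⟩

/-- A group normalising the action of an abelian group transitive on the nonzero vectors. -/
theorem hasGaloisHom_of_abelian_transitive [Finite E] [Nontrivial E] (hexp : ∀ x : E, x + x = 0)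
    (T : Set D) (hnorm : ∀ d : D, ∀ t ∈ T, ∃ t' ∈ T, ∀ v : E, d • t • v = t' • d • v)
    (hcomm : ∀ s ∈ T, ∀ t ∈ T, ∀ v : E, s • t • v = t • s • v)
    (htr : ∀ v w : E, v ≠ 0 → w ≠ 0 → ∃ t ∈ T, t • v = w) : HasGaloisHom D E := by
  classical
  let act : D → AddMonoid.End E := fun d => DistribMulAction.toAddMonoidEnd D E d
  let K : Subring (AddMonoid.End E) := Subring.centralizer (act '' T)
  have hK : ∀ f : AddMonoid.End E, f ∈ K ↔ ∀ t ∈ T, ∀ v : E, t • f v = f (t • v) := by
    intro f
    simp only [K, Subring.mem_centralizer_iff, Set.forall_mem_image]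
    exact ⟨fun h t ht v => DFunLike.congr_fun (h ht) v,
      fun h t ht => DFunLike.ext _ _ fun v => h t ht v⟩
  obtain ⟨e₀, he₀⟩ := exists_ne (0 : E)
  -- evaluation at a nonzero vector is injective on the commutant
  have hev : ∀ f ∈ K, ∀ g ∈ K, f e₀ = g e₀ → f = g := by
    intro f hf g hg hfg
    refine DFunLike.ext _ _ fun v => ?_
    rcases eq_or_ne v 0 with rfl | hv
    · rw [map_zero, map_zero]
    obtain ⟨t, ht, rfl⟩ := htr e₀ v he₀ hv
    rw [← (hK f).1 hf t ht, ← (hK g).1 hg t ht, hfg]
  have hTK : ∀ t ∈ T, act t ∈ K := fun t ht => (hK _).2 fun s hs v => hcomm s hs t ht v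
  have helem : ∀ f ∈ K, f = 0 ∨ ∃ t ∈ T, f = act t := by
    intro f hf
    rcases eq_or_ne (f e₀) 0 with h0 | h0
    · exact Or.inl (hev f hf 0 K.zero_mem (by rw [h0]; rfl))
    · obtain ⟨t, ht, hte⟩ := htr e₀ _ he₀ h0
      exact Or.inr ⟨t, ht, hev f hf _ (hTK t ht) hte.symm⟩
  letI : CommRing K :=
    { (inferInstance : Ring K) with
      mul_comm := fun f g => Subtype.ext (by
        rcases helem f f.2 with hf | ⟨s, hs, hf⟩
        · show (f : AddMonoid.End E) * g = g * f
          rw [hf, zero_mul, mul_zero]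
        · exact DFunLike.ext _ _ fun v => by
            show (f : AddMonoid.End E) ((g : AddMonoid.End E) v) = (g : AddMonoid.End E) ((f : AddMonoid.End E) v)
            rw [hf]
            exact (hK _).1 g.2 s hs v) }
  have hinj : ∀ f : K, f ≠ 0 → ∀ v : E, (f : AddMonoid.End E) v = 0 → v = 0 := by
    intro f hf v hfv
    by_contra hv
    refine hf (Subtype.ext (DFunLike.ext _ _ fun w => ?_))
    rcases eq_or_ne w 0 with rfl | hw
    · exact map_zero _
    obtain ⟨t, ht, rfl⟩ := htr v w hv hw
    rw [← (hK _).1 f.2 t ht, hfv, smul_zero]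
    rfl
  haveI : Nontrivial K := ⟨0, 1, fun h => he₀ (by
    have := DFunLike.congr_fun (congrArg Subtype.val h) e₀
    exact this.symm)⟩
  haveI : NoZeroDivisors K := ⟨fun {f g} h => by
    by_contra hfg
    push Not at hfg
    exact he₀ (hinj g hfg.2 e₀ (hinj f hfg.1 _ (DFunLike.congr_fun (congrArg Subtype.val h) e₀)))⟩
  haveI : IsDomain K := NoZeroDivisors.to_isDomain K
  haveI : Finite K := Finite.of_injective (fun f : K => (f : AddMonoid.End E) e₀)
    fun f g h => Subtype.ext (hev f f.2 g g.2 h)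
  haveI := Fintype.ofFinite K
  letI : Field K := Fintype.fieldOfDomain K
  let ev : K →+ E :=
    { toFun := fun f => (f : AddMonoid.End E) e₀
      map_zero' := rfl
      map_add' := fun _ _ => rfl }
  have hbij : Function.Bijective ev := ⟨fun f g h => Subtype.ext (hev f f.2 g g.2 h), fun v => by
    rcases eq_or_ne v 0 with rfl | hv
    · exact ⟨0, rfl⟩
    · obtain ⟨t, ht, rfl⟩ := htr e₀ v he₀ hv
      exact ⟨⟨act t, hTK t ht⟩, rfl⟩⟩
  let e : K ≃+ E := AddEquiv.ofBijective ev hbij
  have hconj : ∀ d : D, ∀ f ∈ K, act d * f * act d⁻¹ ∈ K := by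
    intro d f hf
    refine (hK _).2 fun t ht v => ?_
    obtain ⟨t', ht', h'⟩ := hnorm d⁻¹ t ht
    show t • d • f (d⁻¹ • v) = d • f (d⁻¹ • t • v)
    rw [h', ← (hK f).1 hf t' ht']
    have h2 := h' (d • f (d⁻¹ • v))
    rw [inv_smul_smul] at h2
    rw [← h2, smul_inv_smul]
  have hcan : ∀ d : D, act d⁻¹ * act d = 1 ∧ act d * act d⁻¹ = 1 := fun d =>
    ⟨DFunLike.ext _ _ fun v => inv_smul_smul d v, DFunLike.ext _ _ fun v => smul_inv_smul d v⟩
  let σ : D → (K ≃+* K) := fun d =>
    { toFun := fun f => ⟨act d * f * act d⁻¹, hconj d f f.2⟩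
      invFun := fun f => ⟨act d⁻¹ * f * act d, by
        have := hconj d⁻¹ f f.2
        rwa [inv_inv] at this⟩
      left_inv := fun f => Subtype.ext (by
        show act d⁻¹ * (act d * f * act d⁻¹) * act d = f
        rw [mul_assoc, mul_assoc (act d * _), (hcan d).1, mul_one, ← mul_assoc, (hcan d).1, one_mul])
      right_inv := fun f => Subtype.ext (by
        show act d * (act d⁻¹ * f * act d) * act d⁻¹ = f
        rw [mul_assoc, mul_assoc (act d⁻¹ * _), (hcan d).2, mul_one, ← mul_assoc, (hcan d).2,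
          one_mul])
      map_mul' := fun f g => Subtype.ext (DFunLike.ext _ _ fun v => by
        show d • (f : AddMonoid.End E) ((g : AddMonoid.End E) (d⁻¹ • v)) =
          d • (f : AddMonoid.End E) (d⁻¹ • d • (g : AddMonoid.End E) (d⁻¹ • v))
        rw [inv_smul_smul])
      map_add' := fun f g => Subtype.ext (DFunLike.ext _ _ fun v => by
        show d • ((f : AddMonoid.End E) (d⁻¹ • v) + (g : AddMonoid.End E) (d⁻¹ • v)) = _
        exact smul_add _ _ _) }
  refine hasGaloisHom_of_semilinear hexp e.symm fun d => ?_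
  refine ⟨e.symm (d • e₀), σ d, fun h => he₀ ?_, fun v => ?_⟩
  · rw [e.symm.map_eq_zero_iff, smul_eq_zero_iff_eq] at h
    exact h
  · refine e.injective ?_
    rw [e.apply_symm_apply, mul_comm]
    show d • v = d • ((e.symm v : K) : AddMonoid.End E)
      (d⁻¹ • ((e.symm (d • e₀) : K) : AddMonoid.End E) e₀)
    rw [show ((e.symm (d • e₀) : K) : AddMonoid.End E) e₀ = d • e₀ from e.apply_symm_apply _,
      inv_smul_smul, show ((e.symm v : K) : AddMonoid.End E) e₀ = v from e.apply_symm_apply _]

/-- A 2-element acting nontrivially maps nontrivially. -/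
theorem HasGaloisHom.exists_hom (h : HasGaloisHom D E) :
    ∃ (A : Type v) (_ : CommGroup A) (_ : Finite A) (_ : IsCyclic A) (π : D →* A),
      ∀ d : D, ∀ k : ℕ, (∀ v : E, d ^ 2 ^ k • v = v) → (π d = 1 ↔ ∀ v : E, d • v = v) := by
  obtain ⟨A, hA, hfin, hcyc, π, -, -, h2, h1⟩ := h
  letI : CommGroup A := IsCyclic.commGroup
  exact ⟨A, inferInstance, hfin, hcyc, π, fun d k hk => ⟨fun hd => h2 d hd k hk, h1 d⟩⟩

end CfsgLib.StrongCrit
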