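import Cfsg.Agent.Lib.StrongCrit.Basic
import Cfsg.Agent.Lib.Involutions.BrauerSuzuki
import Cfsg.Agent.Lib.LivWag.KleinFormula
import Cfsg.Agent.Lib.BenderTrans.Local

/-!
In the setting of Aschbacher's criterion the members interchanging two points form a coset of
inverted elements of a normal subgroup of odd order of the stabiliser of the pair, so a four group
fixing both points satisfies Wielandt's formula on them and on the members at either point.
-/

set_option autoImplicit false

namespace CfsgLib.StrongCrit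

open CfsgLib.Involutions MulAction

universe u v

variable {G : Type u} [Group G] {Ω : Type v} [MulAction G Ω] {Z : Set G}

variable (G) in
/-- The elements fixing or interchanging two points. -/
def pairGroup (x y : Ω) : Subgroup G :=
  Subgroup.closure {g | (g • x = x ∧ g • y = y) ∨ (g • x = y ∧ g • y = x)}

theorem mem_pairGroup {x y : Ω} {g : G} :
    g ∈ pairGroup G x y ↔ (g • x = x ∧ g • y = y) ∨ (g • x = y ∧ g • y = x) :=
  ⟨pair_of_le_closure fun _ h => h, fun h => Subgroup.subset_closure h⟩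

namespace Setting

variable (h : Setting Ω Z)
include h

theorem swapMem_le_pairGroup {x y : Ω} {s : G} (hs : s ∈ swapMem Z x y) : s ∈ pairGroup G x y :=
  mem_pairGroup.2 (Or.inr ⟨hs.2, h.swap_symm hs⟩)

theorem conj_swapMem {x y : Ω} {g s : G} (hg : g ∈ pairGroup G x y) (hs : s ∈ swapMem Z x y) :
    g * s * g⁻¹ ∈ swapMem Z x y := by
  refine ⟨h.conj_mem g s hs.1, ?_⟩
  rcases mem_pairGroup.1 (inv_mem hg) with ⟨hx, hy⟩ | ⟨hx, hy⟩
  · rw [mul_smul, mul_smul, hx, hs.2]
    exact (eq_inv_smul_iff.1 hy.symm)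
  · rw [mul_smul, mul_smul, hx, h.swap_symm hs]
    exact (eq_inv_smul_iff.1 hy.symm)

/-- A member interchanging two points is isolated in the stabiliser of the pair. -/
theorem isolated_swap [Finite G] {x y : Ω} (hxy : x ≠ y) {s : G} (hs : s ∈ swapMem Z x y) :
    Cfsg.IsIsolatedInvolution (⟨s, h.swapMem_le_pairGroup hs⟩ : pairGroup G x y) := by
  refine ⟨by rw [← Subgroup.orderOf_coe]; exact h.invol s hs.1, fun g hg => Subtype.ext ?_⟩
  have hs' := h.conj_swapMem g.2 hs
  have hc : Commute s ((g : G) * s * (g : G)⁻¹) := congrArg Subtype.val hg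
  by_contra hne
  have hne' : (g : G) * s * (g : G)⁻¹ ≠ s := hne
  have h2 : orderOf (s * ((g : G) * s * (g : G)⁻¹)) = 2 := by
    refine orderOf_eq_two_iff_mul.2 ⟨fun e => hne' ?_, ?_⟩
    · rw [mul_eq_one_iff_inv_eq, inv_eq_self_of_involution (h.invol s hs.1)] at e
      exact e.symm
    · generalize (g : G) * s * (g : G)⁻¹ = t at hc hs'
      calc s * t * (s * t) = s * (t * s) * t := by group
        _ = s * s * (t * t) := by rw [← hc.eq]; group
        _ = 1 := by rw [mul_self_eq_one (h.invol s hs.1), mul_self_eq_one (h.invol t hs'.1), one_mul]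
  have := h.odd_order_mul_swap hxy hs hs'
  rw [h2] at this
  exact absurd this (by decide)

/-- The products of two members interchanging two points lie in the odd core of the pair
stabiliser. -/
theorem mul_mem_core [Finite G] {x y : Ω} (hxy : x ≠ y) {s s' : G} (hs : s ∈ swapMem Z x y)
    (hs' : s' ∈ swapMem Z x y) : s' * s ∈ BenderTrans.coreIn (pairGroup G x y) := by
  set N := pairGroup G x y
  have hle : Subgroup.closure ({s, s'} : Set G) ≤ N := by
    rw [Subgroup.closure_le]
    rintro z (rfl | rfl) <;> exact h.swapMem_le_pairGroup ‹_›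
  obtain ⟨g, hg, hgs⟩ := conj_of_odd_order (h.invol s hs.1) (h.invol s' hs'.1)
    (h.odd_order_mul_swap hxy hs hs')
  have hz := Involutions.zstar N _ (h.isolated_swap hxy hs) ⟨g, hle hg⟩
  refine ⟨_, hz, ?_⟩
  show g * s * g⁻¹ * s⁻¹ = s' * s
  rw [hgs, inv_eq_self_of_involution (h.invol s hs.1)]

/-- An element of the core inverted by a swapper gives another one. -/
theorem mul_swap_mem [Finite G] {x y : Ω} {s j : G} (hs : s ∈ swapMem Z x y)
    (hj : j ∈ BenderTrans.coreIn (pairGroup G x y)) (hinv : s * j * s = j⁻¹) :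
    j * s ∈ swapMem Z x y := by
  obtain ⟨e, he⟩ := LivWag.exists_sqrt (BenderTrans.odd_coreIn (pairGroup G x y))
  set w := j ^ e
  have hw2 : w * w = j := by rw [← pow_two]; exact (he j hj).1
  have hs2 := mul_self_eq_one (h.invol s hs.1)
  have hwinv : s * w * s = w⁻¹ := by
    rw [LivWag.pow_conj_of_sq hs2, hinv, inv_pow]
  have hmem : w ∈ pairGroup G x y := pow_mem (BenderTrans.coreIn_le _ hj) e
  have heq : w * s * w⁻¹ = j * s := by
    calc w * s * w⁻¹ = w * s * (s * w * s) := by rw [hwinv]
      _ = w * (s * s) * w * s := by group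
      _ = j * s := by rw [hs2, mul_one, hw2]
  exact heq ▸ h.conj_swapMem hmem hs

/-- The swappers centralised by a set correspond to the inverted elements of the core centralised
by it. -/
theorem ncard_swapMem_centralized [Finite G] {x y : Ω} (hxy : x ≠ y) {s : G}
    (hs : s ∈ swapMem Z x y) (V : Set G) (hV : ∀ g ∈ V, Commute g s) :
    {t ∈ swapMem Z x y | ∀ g ∈ V, Commute g t}.ncard =
      Nat.card {j : G // j ∈ BenderTrans.coreIn (pairGroup G x y) ⊓ Subgroup.centralizer V ∧
        s * j * s = j⁻¹} := by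
  have hs2 := mul_self_eq_one (h.invol s hs.1)
  rw [← Nat.card_coe_set_eq]
  refine Nat.card_congr
    { toFun := fun t => ⟨t.1 * s, ⟨h.mul_mem_core hxy hs t.2.1,
        fun g hg => ((t.2.2 g hg).mul_right (hV g hg)).eq⟩, by
          rw [mul_inv_rev, inv_eq_self_of_involution (h.invol s hs.1),
            inv_eq_self_of_involution (h.invol t.1 t.2.1.1), mul_assoc, mul_assoc, hs2, mul_one]⟩
      invFun := fun j => ⟨j.1 * s, h.mul_swap_mem hs j.2.1.1 j.2.2,
        fun g hg => (Commute.mul_right (show Commute g j.1 from j.2.1.2 g hg) (hV g hg))⟩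
      left_inv := fun t => Subtype.ext ((mul_assoc _ _ _).trans (by rw [hs2, mul_one]))
      right_inv := fun j => Subtype.ext ((mul_assoc _ _ _).trans (by rw [hs2, mul_one])) }

/-- Wielandt's formula for a four group fixing two points on the members interchanging them. -/
theorem four_swap_formula [Finite G] [Finite Ω] {x y : Ω} (hxy : x ≠ y) {u w : G}
    (hu : u * u = 1) (hw : w * w = 1) (hc : Commute u w) (hux : u • x = x) (huy : u • y = y)
    (hwx : w • x = x) (hwy : w • y = y) :
    (swapMem Z x y).ncard * {t ∈ swapMem Z x y | Commute u t ∧ Commute w t}.ncard ^ 2 =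
      {t ∈ swapMem Z x y | Commute u t}.ncard * {t ∈ swapMem Z x y | Commute w t}.ncard *
        {t ∈ swapMem Z x y | Commute (u * w) t}.ncard := by
  set N := pairGroup G x y
  set H := BenderTrans.coreIn N
  have hHodd : Odd (Nat.card H) := BenderTrans.odd_coreIn N
  have huN : u ∈ N := mem_pairGroup.2 (Or.inl ⟨hux, huy⟩)
  have hwN : w ∈ N := mem_pairGroup.2 (Or.inl ⟨hwx, hwy⟩)
  have hT : IsPGroup 2 (Subgroup.closure ({u, w} : Set G)) := by
    intro g
    refine ⟨1, ?_⟩
    show g ^ 2 = 1
    obtain ⟨g, hg⟩ := g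
    refine Subtype.ext ?_
    show g ^ 2 = 1
    rw [pow_two]
    have key : ∀ a ∈ Subgroup.closure ({u, w} : Set G),
        a * a = 1 ∧ Commute a u ∧ Commute a w := by
      intro a ha
      induction ha using Subgroup.closure_induction with
      | mem z hz =>
        rcases hz with rfl | rfl
        · exact ⟨hu, Commute.refl _, hc⟩
        · exact ⟨hw, hc.symm, Commute.refl _⟩
      | one => exact ⟨one_mul 1, Commute.one_left _, Commute.one_left _⟩
      | mul a b ha hb iha ihb =>
        refine ⟨?_, iha.2.1.mul_left ihb.2.1, iha.2.2.mul_left ihb.2.2⟩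
        have hab : Commute a b := Subgroup.mem_centralizer_singleton_iff.1
          ((Subgroup.closure_le _).2 (by
            rintro z (rfl | rfl) <;>
              rw [SetLike.mem_coe, Subgroup.mem_centralizer_singleton_iff]
            · exact ihb.2.1.eq.symm
            · exact ihb.2.2.eq.symm) ha)
        rw [mul_assoc, ← mul_assoc b, ← hab.eq, mul_assoc a, ← mul_assoc a, iha.1, one_mul, ihb.1]
      | inv a _ iha =>
        exact ⟨by rw [← mul_inv_rev, iha.1, inv_one], iha.2.1.inv_left, iha.2.2.inv_left⟩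
    exact (key g hg).1
  obtain ⟨s, hs, hsc⟩ := h.exists_swap_centralized hT hxy fun g hg =>
    pair_of_le_closure (by rintro z (rfl | rfl) <;> [exact Or.inl ⟨hux, huy⟩; exact Or.inl ⟨hwx, hwy⟩]) hg
  have hsu : Commute u s := hsc u (Subgroup.subset_closure (by simp))
  have hsw : Commute w s := hsc w (Subgroup.subset_closure (by simp))
  have hsuw : Commute (u * w) s := hsu.mul_left hsw
  have hs2 := mul_self_eq_one (h.invol s hs.1)
  have hconj : ∀ {a : G}, a * a = 1 → a ∈ N → ∀ z ∈ H, a * z * a ∈ H := by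
    intro a ha haN z hz
    have h1 := Subgroup.mem_normalizer_iff.1 (BenderTrans.le_normalizer_coreIn N haN) z |>.1 hz
    rwa [inv_eq_of_mul_eq_one_right ha] at h1
  have hconjC : ∀ (V : Set G), (∀ g ∈ V, Commute g s) →
      ∀ z ∈ H ⊓ Subgroup.centralizer V, s * z * s ∈ H ⊓ Subgroup.centralizer V := fun V hV z hz =>
    ⟨hconj hs2 (h.swapMem_le_pairGroup hs) z hz.1, fun g hg =>
      (((hV g hg).mul_right (show Commute g z from hz.2 g hg)).mul_right (hV g hg)).eq⟩
  -- each centraliser splits into the swappers and the centraliser of `s`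
  have hsplit : ∀ (V : Set G), (∀ g ∈ V, Commute g s) →
      Nat.card (H ⊓ Subgroup.centralizer V : Subgroup G) =
        {t ∈ swapMem Z x y | ∀ g ∈ V, Commute g t}.ncard *
          Nat.card (H ⊓ Subgroup.centralizer V ⊓ Subgroup.centralizer {s} : Subgroup G) := by
    intro V hV
    rw [h.ncard_swapMem_centralized hxy hs V hV]
    exact LivWag.card_eq_inverted_mul (hHodd.of_dvd_nat (Subgroup.card_dvd_of_le inf_le_left)) hs2
      (hconjC V hV)
  have hA := hsplit ∅ (fun g hg => absurd hg (Set.notMem_empty g))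
  have hu' := hsplit {u} (fun g hg => (Set.mem_singleton_iff.1 hg) ▸ hsu)
  have hw' := hsplit {w} (fun g hg => (Set.mem_singleton_iff.1 hg) ▸ hsw)
  have huw' := hsplit {u * w} (fun g hg => (Set.mem_singleton_iff.1 hg) ▸ hsuw)
  have hV' := hsplit {w, u} (by rintro g (rfl | rfl) <;> assumption)
  simp only [Set.mem_insert_iff, Set.mem_singleton_iff, forall_eq, forall_eq_or_imp,
    Set.mem_empty_iff_false, IsEmpty.forall_iff, implies_true, and_true] at hA hu' hw' huw' hV'
  have hcV : Subgroup.centralizer ({w, u} : Set G) =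
      Subgroup.centralizer {w} ⊓ Subgroup.centralizer {u} := by
    ext g
    simp [Subgroup.mem_centralizer_iff]
  have hC0 : H ⊓ Subgroup.centralizer (∅ : Set G) = H :=
    inf_eq_left.2 fun g _ z hz => absurd hz (Set.notMem_empty z)
  rw [hC0] at hA
  rw [hcV, ← inf_assoc] at hV'
  have hF := LivWag.klein_card_formula hHodd hu hw hc.eq.symm (hconj hu huN) (hconj hw hwN)
  have hFs := LivWag.klein_card_formula (H := H ⊓ Subgroup.centralizer {s})
    (hHodd.of_dvd_nat (Subgroup.card_dvd_of_le inf_le_left)) hu hw hc.eq.symm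
    (fun z hz => ⟨hconj hu huN z hz.1, Subgroup.mem_centralizer_singleton_iff.2
      ((hsu.mul_left (Subgroup.mem_centralizer_singleton_iff.1 hz.2)).mul_left hsu).eq⟩)
    (fun z hz => ⟨hconj hw hwN z hz.1, Subgroup.mem_centralizer_singleton_iff.2
      ((hsw.mul_left (Subgroup.mem_centralizer_singleton_iff.1 hz.2)).mul_left hsw).eq⟩)
  simp only [inf_right_comm H (Subgroup.centralizer {s})] at hFs
  rw [inf_right_comm (H ⊓ Subgroup.centralizer {w}) (Subgroup.centralizer {s})] at hFs
  rw [hA, hV', hu', hw', huw'] at hF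
  set a := {t ∈ swapMem Z x y | Commute u t}.ncard
  set b := {t ∈ swapMem Z x y | Commute w t}.ncard
  set c := {t ∈ swapMem Z x y | Commute (u * w) t}.ncard
  set d := {t ∈ swapMem Z x y | Commute w t ∧ Commute u t}.ncard with hd
  have hd' : {t ∈ swapMem Z x y | Commute u t ∧ Commute w t}.ncard = d := by
    rw [hd]; congr 1; ext t; simp [and_comm]
  rw [hd', show (swapMem Z x y).ncard = {t | t ∈ swapMem Z x y}.ncard from rfl]
  refine Nat.eq_of_mul_eq_mul_right (m := Nat.card (H ⊓ Subgroup.centralizer {s} : Subgroup G) *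
    Nat.card (H ⊓ Subgroup.centralizer {w} ⊓ Subgroup.centralizer {u} ⊓ Subgroup.centralizer {s} :
      Subgroup G) ^ 2) (Nat.mul_pos Nat.card_pos (pow_pos Nat.card_pos 2)) ?_
  linear_combination hF - (a * b * c : ℕ) * hFs


/-- The swappers centralised by a set correspond to the members at an end centralised by it. -/
theorem ncard_swap_eq_memAt [Finite G] [Finite Ω] {x y : Ω} (hxy : x ≠ y) {b : G}
    (hb : b ∈ memAt Z y) {g : G} (hgb : Commute g b) (hgx : g • x = x) (hgy : g • y = y) :
    (fun t => t * b * t⁻¹) '' {t ∈ swapMem Z x y | Commute g t} = {a ∈ memAt Z x | Commute g a} := by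
  refine Set.Subset.antisymm ?_ fun a ha => ?_
  · rintro _ ⟨t, ⟨ht, hgt⟩, rfl⟩
    exact ⟨(h.bijOn_conj hxy hb).mapsTo ht, ((hgt.mul_right hgb).mul_right hgt.inv_right)⟩
  · obtain ⟨t, ht, rfl⟩ := (h.bijOn_conj hxy hb).surjOn ha.1
    refine ⟨t, ⟨ht, ?_⟩, rfl⟩
    have hgt : g * t * g⁻¹ = t := (h.bijOn_conj hxy hb).injOn
      (h.conj_swapMem (mem_pairGroup.2 (Or.inl ⟨hgx, hgy⟩)) ht) ht (by
        show g * t * g⁻¹ * b * (g * t * g⁻¹)⁻¹ = t * b * t⁻¹
        have h1 : g * (t * b * t⁻¹) * g⁻¹ = t * b * t⁻¹ := mul_inv_eq_iff_eq_mul.2 ha.2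
        have h2 : g * b * g⁻¹ = b := mul_inv_eq_iff_eq_mul.2 hgb
        conv_rhs => rw [← h1]
        conv_lhs => rw [← h2]
        group)
    exact mul_inv_eq_iff_eq_mul.1 hgt


/-- The swappers centralised by two commuting involutions fixing both points divide in number those
centralised by one of them. -/
theorem ncard_swap_dvd [Finite G] [Finite Ω] {x y : Ω} (hxy : x ≠ y) {u w s : G} (hw : w * w = 1)
    (hc : Commute u w) (hwx : w • x = x) (hwy : w • y = y) (hs : s ∈ swapMem Z x y)
    (hsu : Commute u s) (hsw : Commute w s) :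
    {t ∈ swapMem Z x y | Commute u t ∧ Commute w t}.ncard ∣
      {t ∈ swapMem Z x y | Commute u t}.ncard := by
  set N := pairGroup G x y
  set H := BenderTrans.coreIn N
  set K := H ⊓ Subgroup.centralizer {u}
  have hs2 := mul_self_eq_one (h.invol s hs.1)
  have hKodd : Odd (Nat.card K) :=
    (BenderTrans.odd_coreIn N).of_dvd_nat (Subgroup.card_dvd_of_le inf_le_left)
  have hconj : ∀ {a : G}, a * a = 1 → a ∈ N → Commute u a → ∀ z ∈ K, a * z * a ∈ K := by
    intro a ha haN hua z hz
    have h1 := Subgroup.mem_normalizer_iff.1 (BenderTrans.le_normalizer_coreIn N haN) z |>.1 hz.1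
    rw [inv_eq_of_mul_eq_one_right ha] at h1
    exact ⟨h1, Subgroup.mem_centralizer_singleton_iff.2
      ((hua.mul_right (Subgroup.mem_centralizer_singleton_iff.1 hz.2).symm).mul_right hua).eq.symm⟩
  have hsK := hconj hs2 (h.swapMem_le_pairGroup hs) hsu
  have hwK := hconj hw (mem_pairGroup.2 (Or.inl ⟨hwx, hwy⟩)) hc
  have e1 := LivWag.card_eq_inverted_mul hKodd hs2 hsK
  have e2 := LivWag.card_eq_inverted_mul (H := K ⊓ Subgroup.centralizer {w})
    (hKodd.of_dvd_nat (Subgroup.card_dvd_of_le inf_le_left)) hs2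
    (fun z hz => ⟨hsK z hz.1, Subgroup.mem_centralizer_singleton_iff.2
      ((hsw.mul_right (Subgroup.mem_centralizer_singleton_iff.1 hz.2).symm).mul_right hsw).eq.symm⟩)
  have hF := LivWag.klein_card_formula hKodd hs2 hw hsw.eq hsK hwK
  have hu1 := h.ncard_swapMem_centralized hxy hs {u}
    fun g hg => (Set.mem_singleton_iff.1 hg) ▸ hsu
  have hV1 := h.ncard_swapMem_centralized hxy hs {u, w} (by rintro g (rfl | rfl) <;> assumption)
  simp only [Set.mem_insert_iff, Set.mem_singleton_iff, forall_eq, forall_eq_or_imp] at hu1 hV1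
  have hcV : H ⊓ Subgroup.centralizer ({u, w} : Set G) = K ⊓ Subgroup.centralizer {w} := by
    ext g
    simp [K, Subgroup.mem_centralizer_iff, and_assoc]
  rw [hcV] at hV1
  rw [hu1, hV1]
  set a := Nat.card {j : G // j ∈ K ∧ s * j * s = j⁻¹}
  set b := Nat.card {j : G // j ∈ K ⊓ Subgroup.centralizer {w} ∧ s * j * s = j⁻¹}
  obtain ⟨d, hd⟩ := Subgroup.card_dvd_of_le
    (show K ⊓ Subgroup.centralizer {w} ⊓ Subgroup.centralizer {s} ≤
        K ⊓ Subgroup.centralizer {s * w} from fun z hz => ⟨hz.1.1,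
      Subgroup.mem_centralizer_singleton_iff.2
        (Commute.mul_right (Subgroup.mem_centralizer_singleton_iff.1 hz.2 : Commute z s)
          (Subgroup.mem_centralizer_singleton_iff.1 hz.1.2 : Commute z w)).eq⟩)
  refine ⟨d, Nat.eq_of_mul_eq_mul_right (m := Nat.card (K ⊓ Subgroup.centralizer {s} : Subgroup G) *
    Nat.card (K ⊓ Subgroup.centralizer {w} ⊓ Subgroup.centralizer {s} : Subgroup G) ^ 2)
    (Nat.mul_pos Nat.card_pos (pow_pos Nat.card_pos 2)) ?_⟩
  rw [e1, e2, hd] at hF
  linear_combination hF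

/-- Wielandt's formula for a four group fixing two points on the members at one of them. -/
theorem four_memAt_formula [Finite G] [Finite Ω] {x y : Ω} (hxy : x ≠ y) {u w : G}
    (hu : u * u = 1) (hw : w * w = 1) (hc : Commute u w) (hux : u • x = x) (huy : u • y = y)
    (hwx : w • x = x) (hwy : w • y = y) {b : G} (hb : b ∈ memAt Z y) (hub : Commute u b)
    (hwb : Commute w b) :
    (memAt Z x).ncard * {t ∈ memAt Z x | Commute u t ∧ Commute w t}.ncard ^ 2 =
      {t ∈ memAt Z x | Commute u t}.ncard * {t ∈ memAt Z x | Commute w t}.ncard *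
        {t ∈ memAt Z x | Commute (u * w) t}.ncard := by
  have hinj := (h.bijOn_conj hxy hb).injOn
  have key : ∀ {g : G}, Commute g b → g • x = x → g • y = y →
      {t ∈ memAt Z x | Commute g t}.ncard = {t ∈ swapMem Z x y | Commute g t}.ncard :=
    fun hgb hgx hgy => by
      rw [← h.ncard_swap_eq_memAt hxy hb hgb hgx hgy,
        (hinj.mono fun t ht => ht.1).ncard_image]
  have hboth : {t ∈ memAt Z x | Commute u t ∧ Commute w t}.ncard =
      {t ∈ swapMem Z x y | Commute u t ∧ Commute w t}.ncard := by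
    have he : ∀ X : Set G, {t ∈ X | Commute u t ∧ Commute w t} =
        {t ∈ X | Commute u t} ∩ {t ∈ X | Commute w t} := fun X => by
      ext t; simp only [Set.mem_inter_iff, Set.mem_setOf_eq]; tauto
    rw [he, he, ← h.ncard_swap_eq_memAt hxy hb hub hux huy, ← h.ncard_swap_eq_memAt hxy hb hwb hwx hwy,
      ← hinj.image_inter (fun t ht => ht.1) (fun t ht => ht.1),
      (hinj.mono fun t ht => ht.1.1).ncard_image]
  rw [key hub hux huy, key hwb hwx hwy,
    key (hub.mul_left hwb) (by rw [mul_smul, hwx, hux]) (by rw [mul_smul, hwy, huy]), hboth,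
    ← h.ncard_swapMem hxy]
  exact h.four_swap_formula hxy hu hw hc hux huy hwx hwy

end Setting

end CfsgLib.StrongCrit
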