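import Cfsg.Agent.Lib.StrongCrit.Commute
import Cfsg.Agent.Lib.StrongCrit.Swap

/-!
In the setting of Aschbacher's criterion: the number of members at a point is the number of those
centralised by an involution `v` fixing two points times the number of swappers of the two points
centralised by the product of `v` with a commuting swapper; the two types of bad involutions when
members commute.
-/

set_option autoImplicit false

namespace CfsgLib.StrongCrit

open CfsgLib.Involutions MulAction

universe u v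

variable {G : Type u} [Group G] {Ω : Type v} [MulAction G Ω] {Z : Set G}

namespace Setting

variable (h : Setting Ω Z)
include h

/-- Wielandt's formula for a swapper `t` and an involution `v` commuting with it fixing both
points. -/
theorem ncard_memAt_eq_mul [Finite G] [Finite Ω] {x y : Ω} (hxy : x ≠ y) {t v : G}
    (ht : t ∈ swapMem Z x y) (hv : orderOf v = 2) (hvx : v • x = x) (hvy : v • y = y)
    (hvt : Commute v t) :
    (memAt Z x).ncard =
      (cenMem Z v x).ncard * {t' ∈ swapMem Z x y | Commute (v * t) t'}.ncard := by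
  set N := pairGroup G x y
  set H := BenderTrans.coreIn N
  have hHodd : Odd (Nat.card H) := BenderTrans.odd_coreIn N
  have hvN : v ∈ N := mem_pairGroup.2 (Or.inl ⟨hvx, hvy⟩)
  have htN := h.swapMem_le_pairGroup ht
  have ht2 := mul_self_eq_one (h.invol t ht.1)
  have hv2 := mul_self_eq_one hv
  have hconj : ∀ {a : G}, a * a = 1 → a ∈ N → ∀ z ∈ H, a * z * a ∈ H := by
    intro a ha haN z hz
    have h1 := Subgroup.mem_normalizer_iff.1 (BenderTrans.le_normalizer_coreIn N haN) z |>.1 hz
    rwa [inv_eq_of_mul_eq_one_right ha] at h1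
  have hconjC : ∀ (V : Set G), (∀ g ∈ V, Commute g t) →
      ∀ z ∈ H ⊓ Subgroup.centralizer V, t * z * t ∈ H ⊓ Subgroup.centralizer V := fun V hV z hz =>
    ⟨hconj ht2 htN z hz.1, fun g hg =>
      (((hV g hg).mul_right (show Commute g z from hz.2 g hg)).mul_right (hV g hg)).eq⟩
  have hsplit : ∀ (V : Set G), (∀ g ∈ V, Commute g t) →
      Nat.card (H ⊓ Subgroup.centralizer V : Subgroup G) =
        {t' ∈ swapMem Z x y | ∀ g ∈ V, Commute g t'}.ncard *
          Nat.card (H ⊓ Subgroup.centralizer V ⊓ Subgroup.centralizer {t} : Subgroup G) := by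
    intro V hV
    rw [h.ncard_swapMem_centralized hxy ht V hV]
    exact LivWag.card_eq_inverted_mul (hHodd.of_dvd_nat (Subgroup.card_dvd_of_le inf_le_left)) ht2
      (hconjC V hV)
  have hA := hsplit ∅ (fun g hg => absurd hg (Set.notMem_empty g))
  have hv' := hsplit {v} (fun g hg => (Set.mem_singleton_iff.1 hg) ▸ hvt)
  have hu' := hsplit {v * t} (fun g hg => (Set.mem_singleton_iff.1 hg) ▸
    hvt.mul_left (Commute.refl t))
  simp only [Set.mem_singleton_iff, forall_eq, Set.mem_empty_iff_false, IsEmpty.forall_iff,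
    implies_true, and_true] at hA hv' hu'
  have hC0 : H ⊓ Subgroup.centralizer (∅ : Set G) = H :=
    inf_eq_left.2 fun g _ z hz => absurd hz (Set.notMem_empty z)
  rw [hC0] at hA
  have hcap : H ⊓ Subgroup.centralizer {v * t} ⊓ Subgroup.centralizer {t} =
      H ⊓ Subgroup.centralizer {v} ⊓ Subgroup.centralizer {t} := by
    ext g
    simp only [Subgroup.mem_inf, Subgroup.mem_centralizer_singleton_iff]
    refine ⟨fun ⟨⟨hH, h1⟩, h2⟩ => ⟨⟨hH, ?_⟩, h2⟩, fun ⟨⟨hH, h1⟩, h2⟩ => ⟨⟨hH, ?_⟩, h2⟩⟩
    · have h3 : Commute g (v * t * t) := Commute.mul_right h1 h2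
      rwa [mul_assoc, ht2, mul_one] at h3
    · exact Commute.mul_right h1 h2
  rw [hcap] at hu'
  have hF := LivWag.klein_card_formula (t := v) (t' := t) hHodd hv2 ht2 hvt.eq.symm
    (hconj hv2 hvN) (hconj ht2 htN)
  rw [inf_right_comm H (Subgroup.centralizer {t})] at hF
  rw [hA, hv', hu'] at hF
  obtain ⟨b, hb, hvb⟩ := h.exists_memAt_commute hv hvy
  have hk : (cenMem Z v x).ncard = {t' ∈ swapMem Z x y | Commute v t'}.ncard := by
    rw [show cenMem Z v x = {a ∈ memAt Z x | Commute v a} from rfl,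
      ← h.ncard_swap_eq_memAt hxy hb hvb hvx hvy,
      (((h.bijOn_conj hxy hb).injOn).mono fun t' ht' => ht'.1).ncard_image]
  rw [hk, ← h.ncard_swapMem hxy, show (swapMem Z x y).ncard = {t' | t' ∈ swapMem Z x y}.ncard from rfl]
  refine Nat.eq_of_mul_eq_mul_right (m := Nat.card (H ⊓ Subgroup.centralizer {t} : Subgroup G) *
    Nat.card (H ⊓ Subgroup.centralizer {v} ⊓ Subgroup.centralizer {t} : Subgroup G) ^ 2)
      (Nat.mul_pos Nat.card_pos (pow_pos Nat.card_pos 2)) ?_
  linear_combination hF

/-- When members commute, the members at a point are as many as those centralised by a bad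
involution there times the swappers it centralises of a moved point. -/
theorem ncard_cenMem_mul_swapCen [Finite G] [Finite Ω] (hab : AllCommute Ω Z) {u : G}
    (hu : IsBad Ω u) {c : Ω} (huc : u • c = c) {x : Ω} (hx : u • x ≠ x) :
    (cenMem Z u c).ncard * (swapCen Z u x).ncard = (memAt Z c).ncard := by
  have hu2 := hu.1
  have huu : u • u • x = x := by rw [smul_smul, mul_self_eq_one hu2, one_smul]
  obtain ⟨t, ht, hcomm⟩ := h.exists_swap_centralized (isPGroup_zpowers hu2) (x := x) (y := u • x)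
    (Ne.symm hx) (by
      intro g hg
      rw [Subgroup.zpowers_eq_closure] at hg
      refine pair_of_le_closure ?_ hg
      rintro z rfl
      exact Or.inr ⟨rfl, huu⟩)
  have hut : Commute u t := hcomm u (Subgroup.mem_zpowers u)
  obtain ⟨d, hd⟩ := h.exists_fix t ht.1
  have hud : u • d = d := h.fix_of_commute ⟨ht.1, hd⟩ hut
  have ht2 := mul_self_eq_one (h.invol t ht.1)
  have hv2 : orderOf (u * t) = 2 := orderOf_eq_two_iff_mul.2 ⟨fun e => by
      obtain ⟨-, p, q, hpq, hp, hq⟩ := hu
      rw [mul_eq_one_iff_eq_inv, inv_eq_self_of_involution (h.invol t ht.1)] at e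
      exact hpq (h.unique t ht.1 p q (e ▸ hp) (e ▸ hq)), by
      rw [mul_assoc, ← mul_assoc t, ← hut.eq, mul_assoc u, ht2, mul_one, mul_self_eq_one hu2]⟩
  have hvx : (u * t) • x = x := by rw [mul_smul, ht.2, huu]
  have hvy : (u * t) • u • x = u • x := by rw [mul_smul, h.swap_symm ht]
  have h1 := h.ncard_memAt_eq_mul (Ne.symm hx) ht hv2 hvx hvy (hut.mul_left (Commute.refl t))
  rw [h.ncard_memAt_eq c x, h1, h.ncard_cenMem_eq hu2 huc hud, ← h.cenMem_mul hab ⟨ht.1, hd⟩,
    h.ncard_cenMem_eq hv2 (show (u * t) • d = d by rw [mul_smul, hd, hud]) hvx, mul_assoc u t t, ht2,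
    mul_one]
  rfl

/-- When members commute, a bad involution either centralises all members at its fixed points, or
centralises `q₀ - 1` of `q₀ ^ 2 - 1` and `q₀ + 1` swappers of each moved point. -/
theorem bad_types [Finite G] [Finite Ω] (hfaith : ∀ g : G, (∀ x : Ω, g • x = x) → g = 1)
    (hab : AllCommute Ω Z) {u : G} (hu : IsBad Ω u) {c : Ω} (huc : u • c = c) :
    ((∀ a ∈ memAt Z c, Commute u a) ∧ ∀ x : Ω, u • x ≠ x → (swapCen Z u x).ncard = 1) ∨
      (((cenMem Z u c).ncard + 1) ^ 2 = (memAt Z c).ncard + 1 ∧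
        ∀ x : Ω, u • x ≠ x → (swapCen Z u x).ncard = (cenMem Z u c).ncard + 2) := by
  obtain ⟨x, hx⟩ : ∃ x : Ω, u • x ≠ x := by
    by_contra hc
    push Not at hc
    exact ne_one_of_involution hu.1 (hfaith u hc)
  rcases h.ncard_cenMem_dichotomy hfaith hab hu.1 huc
    ⟨_, (h.ncard_cenMem_mul_swapCen hab hu huc hx).symm⟩ with hall | hsq
  · exact Or.inl ⟨hall, fun x hx => h.ncard_swapCen_of_all hab hu huc hall hx⟩
  · refine Or.inr ⟨hsq, fun x hx => ?_⟩
    have h1 := h.ncard_cenMem_mul_swapCen hab hu huc hx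
    have hpos : 0 < (cenMem Z u c).ncard :=
      (Set.ncard_pos (Set.toFinite _)).2 (h.cenMem_nonempty hu.1 huc)
    refine Nat.eq_of_mul_eq_mul_left hpos ?_
    have h2 : ((cenMem Z u c).ncard + 1) ^ 2 =
      (cenMem Z u c).ncard * ((cenMem Z u c).ncard + 2) + 1 := by ring
    omega

/-- The number of points for a bad involution not centralising all members at its fixed point. -/
theorem card_of_field [Finite G] [Finite Ω] (hfaith : ∀ g : G, (∀ x : Ω, g • x = x) → g = 1)
    (hab : AllCommute Ω Z) {u t : G} {c : Ω} (hu : IsBad Ω u) (huc : u • c = c)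
    (hne : ¬ ∀ a ∈ memAt Z c, Commute u a) (ht : t ∈ memAt Z c) (hut : Commute u t) :
    (fixedBy Ω (u * t)).ncard = (fixedBy Ω u).ncard ∧
      (Nat.card Ω - (fixedBy Ω u).ncard) * ((cenMem Z u c).ncard + 2) =
        (fixedBy Ω u).ncard * (cenMem Z u c).ncard * ((fixedBy Ω u).ncard - 1) := by
  have hu' := h.isBad_mul hfaith hu ht.1 hut
  have hutc : (u * t) • c = c := by rw [mul_smul, ht.2, huc]
  have hk := h.cenMem_mul hab (u := u) ht
  obtain ⟨-, hs⟩ := ((h.bad_types hfaith hab hu huc).resolve_left fun h1 => hne h1.1)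
  have hne' : ¬ ∀ a ∈ memAt Z c, Commute (u * t) a := fun h1 => hne fun a ha =>
    (hk.subset ⟨ha, h1 a ha⟩).2
  obtain ⟨-, hs'⟩ := ((h.bad_types hfaith hab hu' hutc).resolve_left fun h1 => hne' h1.1)
  exact h.ncard_fixedBy_twin hfaith hab hu ht hut hs (fun x hx => by rw [hs' x hx, hk]) (by omega)

end Setting

end CfsgLib.StrongCrit
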