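import Cfsg.Agent.Lib.StrongCrit.LemmaN
import Cfsg.Agent.Lib.StrongCrit.Wielandt

/-!
In the setting of Aschbacher's criterion, if members at a point centralising one bad involution
commute: the number `c` of swappers a bad involution centralises of a moved point, and the formula
`(n - 1) c = (f - 1) (c + f k)` for the number of points.
-/

set_option autoImplicit false

namespace CfsgLib.StrongCrit

open CfsgLib.Involutions MulAction

universe u v

variable {G : Type u} [Group G] {Ω : Type v} [MulAction G Ω] {Z : Set G}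

theorem cenMem_eq_cenSet (u : G) (c : Ω) : cenMem Z u c = cenSet Z u c := rfl

namespace Setting

variable (h : Setting Ω Z)
include h

/-- Wielandt's formula: the members at a point are as many as those centralised by a bad involution
there times the swappers it centralises of a moved point. -/
theorem ncard_cenSet_mul_swapCen [Finite G] [Finite Ω]
    (hfaith : ∀ g : G, (∀ x : Ω, g • x = x) → g = 1) (hsec : SecComm Ω Z) {u : G}
    (hu : IsBad Ω u) {c : Ω} (huc : u • c = c) {x : Ω} (hx : u • x ≠ x) :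
    (cenSet Z u c).ncard * (swapCen Z u x).ncard = (memAt Z c).ncard := by
  have hu2 := hu.1
  have huu : u • u • x = x := by rw [smul_smul, mul_self_eq_one hu2, one_smul]
  obtain ⟨t, ht, hcomm⟩ := h.exists_swap_centralized (isPGroup_zpowers hu2) (x := x) (y := u • x)
    (Ne.symm hx) (by
      intro g hg
      rw [Subgroup.zpowers_eq_closure] at hg
      refine pair_of_le_closure ?_ hg
      rintro z rfl
      exact Or.inr ⟨rfl, huu⟩)
  have hut : Commute u t := hcomm u (Subgroup.mem_zpowers u)
  obtain ⟨d, hd⟩ := h.exists_fix t ht.1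
  have hud : u • d = d := h.fix_of_commute ⟨ht.1, hd⟩ hut
  have ht2 := mul_self_eq_one (h.invol t ht.1)
  have hbad : IsBad Ω (u * t) := h.isBad_mul hfaith hu ht.1 hut
  have hvx : (u * t) • x = x := by rw [mul_smul, ht.2, huu]
  have hvy : (u * t) • u • x = u • x := by rw [mul_smul, h.swap_symm ht]
  have h1 := h.ncard_memAt_eq_mul (Ne.symm hx) ht hbad.1 hvx hvy (hut.mul_left (Commute.refl t))
  have h2 : (cenMem Z (u * t) x).ncard = (cenMem Z u c).ncard := by
    rw [h.ncard_cenMem_eq hbad.1 hvx (show (u * t) • d = d by rw [mul_smul, hd, hud]),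
      h.ncard_cenMem_eq hu2 huc hud, cenMem_eq_cenSet, cenMem_eq_cenSet,
      h.cenSet_mul hfaith hsec hu hud ⟨⟨ht.1, hd⟩, hut⟩]
  rw [h.ncard_memAt_eq c x, h1, h2, mul_assoc u t t, ht2, mul_one, cenMem_eq_cenSet]
  rfl

/-- The number of points: with `k` members centralised at a fixed point and `s` swappers centralised
at a moved one, `k s` is the number of members at a point and `(n - 1) s = (f - 1) (s + f k)`. -/
theorem card_sub_one_formula [Finite G] [Finite Ω]
    (hfaith : ∀ g : G, (∀ x : Ω, g • x = x) → g = 1) (hsec : SecComm Ω Z) {u : G} (hu : IsBad Ω u)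
    {c : Ω} (huc : u • c = c) (htwo : ∃ a ∈ cenSet Z u c, ∃ b ∈ cenSet Z u c, a ≠ b) :
    ∃ s : ℕ, (cenSet Z u c).ncard * s = (memAt Z c).ncard ∧
      (∀ x : Ω, u • x ≠ x → (swapCen Z u x).ncard = s) ∧
      (Nat.card Ω - 1) * s = ((fixedBy Ω u).ncard - 1) * (s + (fixedBy Ω u).ncard *
        (cenSet Z u c).ncard) := by
  obtain ⟨x, hx⟩ : ∃ x : Ω, u • x ≠ x := by
    by_contra hall
    push Not at hall
    exact ne_one_of_involution hu.1 (hfaith u hall)
  have hk : 0 < (cenSet Z u c).ncard := by
    obtain ⟨a, ha, -⟩ := htwo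
    exact (Set.ncard_pos (Set.toFinite _)).2 ⟨a, ha⟩
  refine ⟨(swapCen Z u x).ncard, h.ncard_cenSet_mul_swapCen hfaith hsec hu huc hx, ?_, ?_⟩
  · intro y hy
    refine Nat.eq_of_mul_eq_mul_left hk ?_
    rw [h.ncard_cenSet_mul_swapCen hfaith hsec hu huc hy,
      h.ncard_cenSet_mul_swapCen hfaith hsec hu huc hx]
  · obtain ⟨t, ht, ht'⟩ := htwo
    have hcount := h.count_moved hu ht.1.1 ht.2 huc (s := (swapCen Z u x).ncard) fun y hy =>
      Nat.eq_of_mul_eq_mul_left hk (by
        rw [h.ncard_cenSet_mul_swapCen hfaith hsec hu huc hy,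
          h.ncard_cenSet_mul_swapCen hfaith hsec hu huc hx])
    rw [h.ncard_fixedBy_mul hfaith hsec hu huc ⟨t, ht, ht'⟩ ht, cenMem_eq_cenSet]
      at hcount
    set f := (fixedBy Ω u).ncard with hf
    set s := (swapCen Z u x).ncard
    have hf1 : 1 ≤ f := (Set.ncard_pos (Set.toFinite _)).2 ⟨c, huc⟩
    have hfn : f ≤ Nat.card Ω := Set.ncard_le_card _
    obtain ⟨a, ha⟩ := Nat.exists_eq_add_of_le hf1
    obtain ⟨b, hb⟩ := Nat.exists_eq_add_of_le hfn
    rw [ha] at hcount hb ⊢
    rw [hb] at hcount ⊢
    simp only [add_tsub_cancel_left] at hcount ⊢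
    rw [show 1 + a + b - 1 = a + b by omega]
    linear_combination hcount

end Setting

end CfsgLib.StrongCrit
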