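import Cfsg.Agent.Lib.StrongCrit.Torus
import Cfsg.Agent.Lib.BenderQ.Classify
import Cfsg.Agent.Lib.RankOneRecog.Abelian
import Cfsg.Agent.Lib.SuzukiTwo.Count

/-!
The 2-subgroup `Q` of the section of a bad involution: it has order `q`, `q ^ 2` or `q ^ 3` and its
squares and commutators are members or trivial.
-/

set_option autoImplicit false

namespace CfsgLib.StrongCrit

open CfsgLib.Involutions CfsgLib.BenderTrans CfsgLib.BenderQ MulAction
open scoped commutatorElement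

universe u

variable {G : Type u} [Group G] {Ω : Type u} [MulAction G Ω] {Z : Set G}

namespace Crit

variable (hC : Crit Ω Z)
include hC

variable [Finite G] [Finite Ω] (hsc : SecComm Ω Z) (hbig : ∀ c : Ω, 1 < (memAt Z c).ncard)
include hsc hbig

/-- The kernel `Q` of the section at `c` has order `q`, `q ^ 2` or `q ^ 3`, `q - 1` the number of
members at `c` commuting with `w`; squares and commutators in it are members or trivial. -/
theorem exists_qShape {w : G} (hw : IsBad Ω w) {c : Ω} (hc : w • c = c) :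
    ∃ Q : Subgroup G,
      (∀ g : G, g ∈ Q ↔ g ∈ memCent Z w ∧ g • c = c ∧ ∃ j : ℕ, g ^ 2 ^ j = 1) ∧
      ({x : Ω | w • x = x} \ {c}).ncard = Nat.card Q ∧
      (Nat.card Q = (bMem Z c w).ncard + 1 ∧ (∀ x ∈ Q, x = 1 ∨ x ∈ bMem Z c w) ∨
        (∃ x ∈ Q, ∃ y ∈ Q, x * y ≠ y * x) ∧
          (Nat.card Q = ((bMem Z c w).ncard + 1) ^ 2 ∨ Nat.card Q = ((bMem Z c w).ncard + 1) ^ 3)) ∧
      (∀ x ∈ Q, x * x = 1 ∨ x * x ∈ bMem Z c w) ∧
      (∀ x ∈ Q, ∀ y ∈ Q, ⁅x, y⁆ = 1 ∨ ⁅x, y⁆ ∈ bMem Z c w) := by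
  classical
  obtain ⟨Q, hQ2, hQmem, hQconj, htr, hfree, hB, hQB⟩ := hC.exists_sectKernel hsc hbig hw hc
  have hS := hC.sectSetting_bad hsc hbig hw
  obtain ⟨y, hy, hyc⟩ := hS.two c hc
  have hFQ : ({x : Ω | w • x = x} \ {c}).ncard = Nat.card Q := by
    rw [← Set.ncard_univ]
    symm
    refine Set.ncard_congr (fun g _ => (g : G) • y) (fun g _ => ?_) (fun a b _ _ hab => ?_)
      fun z hz => ?_
    · obtain ⟨hgL, hgc, -⟩ := (hQmem g).1 g.2
      exact ⟨hS.stable _ hgL y hy, fun e => hyc (MulAction.injective (g : G) (e.trans hgc.symm))⟩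
    · exact Subtype.ext (inv_mul_eq_one.1 (hfree _ (mul_mem (inv_mem a.2) b.2) y hy hyc
        (by rw [mul_smul, ← hab, inv_smul_smul])))
    · obtain ⟨g, hg, rfl⟩ := htr y z hy hz.1 hyc hz.2
      exact ⟨⟨g, hg⟩, trivial, rfl⟩
  -- the torus acts on `Q` regularly on its involutions
  obtain ⟨r, hr, hrL⟩ := hC.base.exists_swap_sect (isPGroup_zpowers hw.1)
    (mem_fixSet_zpowers.2 hc) (mem_fixSet_zpowers.2 hy) hyc.symm
  rw [← memCent_eq] at hrL
  obtain ⟨J, hJ, hJcyc, -, hJL, hJreg⟩ :=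
    hC.exists_torus hsc hbig hw hc hy hyc hr (commute_memCent hrL)
  have hJc : ∀ k ∈ J, k • c = c := fun k hk =>
    (show k ∈ torusSet Z w c y r by rw [← hJ]; exact hk).2.1
  letI : CommGroup J :=
    { (inferInstance : Group J) with mul_comm := fun a b => hJcyc.isMulCommutative.is_comm.comm a b }
  letI : MulDistribMulAction J Q :=
    { smul := fun k x => ⟨(k : G) * x * (k : G)⁻¹,
        hQconj k (commute_memCent (hJL k.2)) (hJc k k.2) x x.2⟩
      one_smul := fun x => Subtype.ext (by show (1 : G) * x * (1 : G)⁻¹ = x; simp)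
      mul_smul := fun k l x => Subtype.ext (by
        show (k : G) * l * x * ((k : G) * l)⁻¹ = (k : G) * ((l : G) * x * (l : G)⁻¹) * (k : G)⁻¹
        group)
      smul_mul := fun k x z => Subtype.ext (by
        show (k : G) * ((x : G) * z) * (k : G)⁻¹ = (k : G) * x * (k : G)⁻¹ * ((k : G) * z * (k : G)⁻¹)
        group)
      smul_one := fun k => Subtype.ext (by show (k : G) * 1 * (k : G)⁻¹ = 1; simp) }
  have hinvol : ∀ x : Q, x * x = 1 ↔ (x : G) = 1 ∨ (x : G) ∈ bMem Z c w := by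
    intro x
    refine ⟨fun h => or_iff_not_imp_left.2 fun h1 =>
      hQB x x.2 (orderOf_eq_two_iff_mul.2 ⟨h1, congrArg Subtype.val h⟩), fun h => Subtype.ext ?_⟩
    rcases h with h | h
    · rw [Subgroup.coe_mul, h, one_mul]; rfl
    · exact mul_self_eq_one (hC.base.invol _ h.1.1)
  obtain ⟨e, he2, heq, -⟩ := hC.exists_q hsc hbig hw hc
  have hbig' : 2 ≤ (bMem Z c w).ncard := by
    have : 2 ^ 2 ≤ 2 ^ e := Nat.pow_le_pow_right (by norm_num) he2
    omega
  obtain ⟨a₀, ha₀, b₀, hb₀, hne₀⟩ := (Set.one_lt_ncard (Set.toFinite _)).1 hbig'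
  have hset : SuzukiTwo.Setting Q J := by
    refine ⟨hQ2, ⟨⟨a₀, (hB a₀ ha₀).1⟩, ⟨b₀, (hB b₀ hb₀).1⟩, fun e => hne₀ (congrArg Subtype.val e),
      fun e => ne_one_of_involution (hC.base.invol a₀ ha₀.1.1) (congrArg Subtype.val e),
      (hinvol _).2 (Or.inr ha₀),
      fun e => ne_one_of_involution (hC.base.invol b₀ hb₀.1.1) (congrArg Subtype.val e),
      (hinvol _).2 (Or.inr hb₀)⟩, fun x z hx hxx hz hzz => ?_⟩
    have hx' := ((hinvol x).1 hxx).resolve_left fun e => hx (Subtype.ext e)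
    have hz' := ((hinvol z).1 hzz).resolve_left fun e => hz (Subtype.ext e)
    obtain ⟨-, hinj, hsurj⟩ := hJreg _ hx'
    obtain ⟨k, hk, hkz⟩ := hsurj hz'
    refine ⟨⟨k, hk⟩, Subtype.ext hkz, fun l hl => Subtype.ext (hinj l.2 hk ?_)⟩
    exact (congrArg Subtype.val hl).trans hkz.symm
  have hW : ∀ x : Q, x ∈ SuzukiTwo.invols Q → (x : G) = 1 ∨ (x : G) ∈ bMem Z c w :=
    fun x hx => (hinvol x).1 (hset.mem_invols.1 hx)
  by_cases hab : ∀ x ∈ Q, ∀ z ∈ Q, x * z = z * x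
  · -- abelian: compare with the image, a rank one group with abelian kernel
    obtain ⟨Qb, hQb⟩ := hS.exists_kernel ⟨c, hc⟩
    set f := hS.toPerm.rangeRestrict with hf
    obtain ⟨t, ht⟩ := exists_rankOneSetup hS.oneFix hQb
    have hfs : FaithfulSMul hS.toPerm.range ({x : Ω | w • x = x} : Set Ω) := ⟨fun {g₁ g₂} e =>
      inv_mul_eq_one.1 (hS.faith _ fun x => by rw [mul_smul, ← e, inv_smul_smul])⟩
    obtain ⟨s₁, s₂, hs₁, hs₂, hne, hcm⟩ := hS.hasFour
    let π : Q →* hS.toPerm.range :=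
      f.comp (Subgroup.inclusion fun g hg => ((hQmem g).1 hg).1)
    have hπQ : ∀ x : Q, π x ∈ Qb := fun x => by
      obtain ⟨-, hgc, j, hj⟩ := (hQmem x).1 x.2
      exact mem_kernel_of_two hS.oneFix hQb (Subtype.ext hgc) (j := j) (by
        rw [← map_pow, show x ^ 2 ^ j = 1 from Subtype.ext hj, map_one])
    have hlift : ∀ g ∈ Qb, ∃ x : Q, π x = g := by
      intro g hg
      have hgy : ((g • (⟨y, hy⟩ : ({x : Ω | w • x = x} : Set Ω))) : ({x : Ω | w • x = x} : Set Ω)) ≠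
          ⟨c, hc⟩ := fun e => hyc (congrArg Subtype.val
            (MulAction.injective g (e.trans (mem_stabilizer_iff.1 (hQb.le hg)).symm)))
      obtain ⟨x, hx, hxy⟩ := htr y _ hy (g • (⟨y, hy⟩ : ({x : Ω | w • x = x} : Set Ω))).2 hyc
        fun e => hgy (Subtype.ext e)
      refine ⟨⟨x, hx⟩, inv_mul_eq_one.1 (hQb.free _ (mul_mem (inv_mem (hπQ ⟨x, hx⟩)) hg) ⟨y, hy⟩
        (fun e => hyc (congrArg Subtype.val e)) ?_)⟩
      rw [mul_smul, inv_smul_eq_iff]
      exact Subtype.ext hxy.symm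
    have hQbab : ∀ x ∈ Qb, ∀ z ∈ Qb, x * z = z * x := by
      intro x hx z hz
      obtain ⟨x', rfl⟩ := hlift x hx
      obtain ⟨z', rfl⟩ := hlift z hz
      rw [← map_mul, ← map_mul, show x' * z' = z' * x' from Subtype.ext (hab _ x'.2 _ z'.2)]
    have hcard := RankOneRecog.card_eq_of_comm ht
      ⟨s₁, s₂, ne_one_of_involution hs₁, ne_one_of_involution hs₂, hne, mul_self_eq_one hs₁,
        mul_self_eq_one hs₂, hcm.eq⟩ hQbab
    have hπinj : Function.Injective π := by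
      refine (injective_iff_map_eq_one π).2 fun x hx => ?_
      have h1 := hS.toPerm_eq_one.1 (congrArg Subtype.val hx)
      exact Subtype.ext (hfree x x.2 y hy hyc (h1 y hy))
    have hQQb : Nat.card Q = Nat.card Qb := by
      refine Nat.card_congr (Equiv.ofBijective (fun x => (⟨π x, hπQ x⟩ : Qb)) ⟨fun a b e => ?_, ?_⟩)
      · exact hπinj (congrArg Subtype.val e)
      · rintro ⟨g, hg⟩
        obtain ⟨x, rfl⟩ := hlift g hg
        exact ⟨x, rfl⟩
    let B0 := SuzukiTwo.invols Q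
    have hmap : B0.map π = RankOneTwo.Zsub hS.toPerm.range (⟨c, hc⟩ : ({x : Ω | w • x = x} : Set Ω)) := by
      refine le_antisymm ?_ ((Subgroup.closure_le _).2 ?_)
      · rintro _ ⟨x, hx, rfl⟩
        rcases eq_or_ne (π x) 1 with h1 | h1
        · rw [h1]; exact one_mem _
        · refine Subgroup.subset_closure ⟨mem_stabilizer_iff.1 (hQb.le (hπQ x)), h1, ?_⟩
          rw [← map_mul, hset.mem_invols.1 hx, map_one]
      · rintro g ⟨hgc, hg1, hgg⟩
        obtain ⟨x, rfl⟩ := hlift g (hQb.invol_mem hS.oneFix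
          ⟨orderOf_eq_two_iff_mul.2 ⟨hg1, hgg⟩, hgc⟩)
        refine ⟨x, hset.mem_invols.2 (hπinj ?_), rfl⟩
        rw [map_mul, map_one, hgg]
    have hB0 : Nat.card B0 = (bMem Z c w).ncard + 1 := by
      have h1 : Set.range (fun g : B0 => ((g : Q) : G)) = insert 1 (bMem Z c w) := by
        ext g
        constructor
        · rintro ⟨x, rfl⟩
          exact hW x x.2
        · rintro (rfl | hg)
          · exact ⟨1, rfl⟩
          · exact ⟨⟨⟨g, (hB g hg).1⟩, hset.mem_invols.2 ((hinvol _).2 (Or.inr hg))⟩, rfl⟩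
      rw [← Set.ncard_insert_of_notMem (fun e => ne_one_of_involution (hC.base.invol _ e.1.1) rfl)
        (Set.toFinite _), ← h1, ← Set.image_univ,
        Set.ncard_image_of_injective _ (fun a b h => Subtype.ext (Subtype.ext h)), Set.ncard_univ]
    have hZcard : Nat.card (RankOneTwo.Zsub hS.toPerm.range
        (⟨c, hc⟩ : ({x : Ω | w • x = x} : Set Ω))) = Nat.card B0 := by
      rw [← hmap]
      exact (Nat.card_congr (B0.equivMapOfInjective π hπinj).toEquiv).symm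
    rw [hZcard] at hcard
    have hfull : B0 = ⊤ := Subgroup.eq_top_of_card_eq B0 (by rw [hQQb, hcard])
    have hall : ∀ x ∈ Q, x = 1 ∨ x ∈ bMem Z c w := fun x hx =>
      hW ⟨x, hx⟩ (by show _ ∈ B0; rw [hfull]; trivial)
    refine ⟨Q, hQmem, hFQ, Or.inl ⟨by rw [hQQb, hcard, hB0], hall⟩,
      fun x hx => hall _ (mul_mem hx hx), fun x hx z hz => hall _ ?_⟩
    exact mul_mem (mul_mem (mul_mem hx hz) (inv_mem hx)) (inv_mem hz)
  · push Not at hab
    obtain ⟨x₀, hx₀, z₀, hz₀, hne⟩ := hab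
    have hna : ∃ x z : Q, x * z ≠ z * x :=
      ⟨⟨x₀, hx₀⟩, ⟨z₀, hz₀⟩, fun e => hne (congrArg Subtype.val e)⟩
    obtain ⟨hsq, hcm⟩ := hset.sq_mem hna
    have hB0 : Nat.card (SuzukiTwo.invols Q) = (bMem Z c w).ncard + 1 := by
      have h1 : Set.range (fun g : SuzukiTwo.invols Q => ((g : Q) : G)) =
          insert 1 (bMem Z c w) := by
        ext g
        constructor
        · rintro ⟨x, rfl⟩
          exact hW x x.2
        · rintro (rfl | hg)
          · exact ⟨1, rfl⟩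
          · exact ⟨⟨⟨g, (hB g hg).1⟩, hset.mem_invols.2 ((hinvol _).2 (Or.inr hg))⟩, rfl⟩
      rw [← Set.ncard_insert_of_notMem (fun e => ne_one_of_involution (hC.base.invol _ e.1.1) rfl)
        (Set.toFinite _), ← h1, ← Set.image_univ,
        Set.ncard_image_of_injective _ (fun a b h => Subtype.ext (Subtype.ext h)), Set.ncard_univ]
    refine ⟨Q, hQmem, hFQ, Or.inr ⟨⟨x₀, hx₀, z₀, hz₀, hne⟩, ?_⟩,
      fun x hx => hW _ (hsq ⟨x, hx⟩), fun x hx z hz => hW _ (hcm ⟨x, hx⟩ ⟨z, hz⟩)⟩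
    rw [← hB0]
    exact hset.card_eq hna

end Crit

end CfsgLib.StrongCrit
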