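import Cfsg.Agent.Lib.StrongCrit.Cover
import Cfsg.Agent.Lib.StrongCrit.Wielandt
import Cfsg.Agent.Lib.StrongCrit.Semilinear
import Cfsg.Agent.Lib.PF.OddOrder

/-!
In the setting of Aschbacher's criterion: if members commute and the group of one and the members at
a point is transitive on the other points, there is no bad involution (transfer into the Galois
group).
-/

set_option autoImplicit false

namespace CfsgLib.StrongCrit

open CfsgLib.Involutions MulAction

universe u v

variable {G : Type u} [Group G] {Ω : Type v} [MulAction G Ω] {Z : Set G}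

/-- In a finite cyclic group two elements of order two are equal. -/
theorem eq_of_mul_self_eq_one {A : Type u} [Group A] [Finite A] [IsCyclic A] {a b : A}
    (ha : a * a = 1) (ha1 : a ≠ 1) (hb : b * b = 1) (hb1 : b ≠ 1) : a = b := by
  classical
  have := Fintype.ofFinite A
  by_contra hne
  have hle := IsCyclic.card_pow_eq_one_le (α := A) (n := 2) (by norm_num)
  have hsub : ({1, a, b} : Finset A) ⊆ Finset.univ.filter fun z => z ^ 2 = 1 := by
    intro z hz
    simp only [Finset.mem_insert, Finset.mem_singleton] at hz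
    rw [Finset.mem_filter, pow_two]
    rcases hz with rfl | rfl | rfl
    · exact ⟨Finset.mem_univ _, one_mul 1⟩
    · exact ⟨Finset.mem_univ _, ha⟩
    · exact ⟨Finset.mem_univ _, hb⟩
  have h3 : ({1, a, b} : Finset A).card = 3 := Finset.card_eq_three.2
    ⟨1, a, b, Ne.symm ha1, Ne.symm hb1, hne, rfl⟩
  have := (Finset.card_le_card hsub).trans hle
  omega

/-- A solvable odd normal part and a 2-group give a solvable group. -/
theorem isSolvable_sup [Finite G] {H T : Subgroup G} (hH : Odd (Nat.card H)) (hT : IsPGroup 2 T)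
    (hTH : T ≤ Subgroup.normalizer (H : Set G)) : Group.IsSolvable (H ⊔ T : Subgroup G) := by
  have : Fact (Nat.Prime 2) := ⟨Nat.prime_two⟩
  set X : Subgroup G := H ⊔ T
  haveI hnorm : (H.subgroupOf X).Normal :=
    Subgroup.normal_subgroupOf_of_le_normalizer (sup_le Subgroup.le_normalizer hTH)
  haveI : Group.IsSolvable (H.subgroupOf X) := by
    refine PF.oddSolvable _ ?_
    rwa [Nat.card_congr (Subgroup.subgroupOfEquivOfLe le_sup_left).toEquiv]
  have htop : H.subgroupOf X ⊔ T.subgroupOf X = ⊤ := by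
    rw [← Subgroup.subgroupOf_sup le_sup_left le_sup_right, Subgroup.subgroupOf_self]
  have hq : IsPGroup 2 (X ⧸ H.subgroupOf X) := by
    have h1 : (T.subgroupOf X).map (QuotientGroup.mk' (H.subgroupOf X)) = ⊤ := by
      rw [← Subgroup.map_top_of_surjective _ (QuotientGroup.mk'_surjective (H.subgroupOf X)), ← htop,
        Subgroup.map_sup, QuotientGroup.map_mk'_self, bot_sup_eq]
    have h2 : IsPGroup 2 (⊤ : Subgroup (X ⧸ H.subgroupOf X)) :=
      h1 ▸ (hT.comap_subtype (K := X)).map _
    exact h2.of_equiv Subgroup.topEquiv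
  haveI := hq.isNilpotent
  exact Group.isSolvable_of_ker_le_range (H.subgroupOf X).subtype
    (QuotientGroup.mk' (H.subgroupOf X)) (by simp)

namespace Setting

variable (h : Setting Ω Z)
include h

/-- An element of the core of the pair stabiliser fixes both points. -/
theorem smul_of_mem_core [Finite G] {x y : Ω} {g : G}
    (hg : g ∈ BenderTrans.coreIn (pairGroup G x y)) : g • x = x ∧ g • y = y := by
  obtain ⟨j, hj⟩ : Odd (orderOf g) := (BenderTrans.odd_coreIn (pairGroup G x y)).of_dvd_nat (by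
    rw [← Subgroup.orderOf_mk _ hg]; exact orderOf_dvd_natCard _)
  rcases mem_pairGroup.1 (BenderTrans.coreIn_le _ hg) with h1 | ⟨hx, hy⟩
  · exact h1
  have hgg : g = (g * g) ^ (j + 1) := by
    rw [← pow_two, ← pow_mul, show 2 * (j + 1) = orderOf g + 1 by omega, pow_succ,
      pow_orderOf_eq_one, one_mul]
  rw [hgg]
  exact ⟨mem_stabilizer_iff.1 (pow_mem (mem_stabilizer_iff.2 (by rw [mul_smul, hx, hy])) _),
    mem_stabilizer_iff.1 (pow_mem (mem_stabilizer_iff.2 (by rw [mul_smul, hy, hx])) _)⟩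

/-- The core of the pair stabiliser is transitive on the members at either point. -/
theorem exists_core_conj [Finite G] [Finite Ω] {x y : Ω} (hxy : x ≠ y) {a a' : G}
    (ha : a ∈ memAt Z x) (ha' : a' ∈ memAt Z x) :
    ∃ g ∈ BenderTrans.coreIn (pairGroup G x y), g * a * g⁻¹ = a' := by
  obtain ⟨b, hb⟩ := h.exists_memAt y
  obtain ⟨s, hs, rfl⟩ := (h.bijOn_conj hxy hb).surjOn ha
  obtain ⟨s', hs', rfl⟩ := (h.bijOn_conj hxy hb).surjOn ha'
  refine ⟨s' * s, h.mul_mem_core hxy hs hs', ?_⟩
  show s' * s * (s * b * s⁻¹) * (s' * s)⁻¹ = s' * b * s'⁻¹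
  rw [show s' * s * (s * b * s⁻¹) * (s' * s)⁻¹ = s' * (s * s) * b * (s * s)⁻¹ * s'⁻¹ by group,
    mul_self_eq_one (h.invol s hs.1), inv_one, mul_one, mul_one]

/-- Members commuting and one with them transitive on the other points: no bad involution. -/
theorem noBad_of_regular [Finite G] [Finite Ω] (hfaith : ∀ g : G, (∀ x : Ω, g • x = x) → g = 1)
    (hab : AllCommute Ω Z) (hgen : Subgroup.closure Z = ⊤) {c₀ : Ω}
    (hbig : 1 < (memAt Z c₀).ncard) (hn : Nat.card Ω = (memAt Z c₀).ncard + 2) :
    ∀ w : G, ¬ IsBad Ω w := by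
  classical
  have : Fact (Nat.Prime 2) := ⟨Nat.prime_two⟩
  intro u hu
  obtain ⟨S, hS⟩ := (isPGroup_zpowers hu.1).exists_le_sylow
  obtain ⟨c, hc⟩ := h.exists_fixed_point S.isPGroup' c₀
  rw [h.ncard_memAt_eq c₀ c] at hbig hn
  obtain ⟨x, hxc⟩ := h.nontriv c
  set E := memGroup Z c
  have hEc : ∀ e ∈ E, e • c = c := fun e he => by
    rcases (h.mem_memGroup_iff hfaith hab).1 he with rfl | he
    · exact one_smul G c
    · exact he.2
  have hEuniq : ∀ {e e' : G}, e ∈ E → e' ∈ E → e • x = e' • x → e = e' := fun he he' hee => by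
    have h1 := h.eq_one_of_memGroup_fix hfaith hab (mul_mem (inv_mem he') he) (x := x)
      (by rw [mul_smul, hee, inv_smul_smul]) hxc
    exact (inv_mul_eq_one.1 h1).symm
  -- one and the members at `c` are transitive on the other points
  have hreach : ∀ y : Ω, y ≠ c → ∃ e ∈ E, e • x = y := by
    have himg : (fun e : G => e • x) '' (E : Set G) = {y | y ≠ c} := by
      refine Set.eq_of_subset_of_ncard_le ?_ ?_ (Set.toFinite _)
      · rintro _ ⟨e, he, rfl⟩ hy
        exact hxc (MulAction.injective e (hy.trans (hEc e he).symm))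
      · have h1 : Set.InjOn (fun e : G => e • x) (E : Set G) := fun e he e' he' hee =>
          hEuniq he he' hee
        rw [h1.ncard_image, ← Nat.card_coe_set_eq (E : Set G), SetLike.coe_sort_coe,
          h.card_memGroup hfaith hab c]
        have h2 := Set.ncard_add_ncard_compl {y : Ω | y ≠ c}
        rw [show ({y : Ω | y ≠ c})ᶜ = {c} from Set.ext fun y => by simp, Set.ncard_singleton, hn] at h2
        omega
    intro y hy
    exact himg.symm.subset hy
  -- no bad involution centralises all members at `c`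
  have hnontriv : ∀ w : G, IsBad Ω w → w • c = c → ¬ ∀ a ∈ memAt Z c, Commute w a := by
    intro w hw hwc hall
    obtain ⟨t, ht⟩ := h.exists_memAt c
    obtain ⟨-, h2⟩ := h.card_of_centralizing hfaith hab hbig hw hwc hall ht
    obtain ⟨-, p, q, hpq, hp, hq⟩ := hw
    have hf : 2 ≤ (fixedBy Ω w).ncard := by
      rw [← Set.ncard_pair hpq]
      exact Set.ncard_le_ncard (by rintro z (rfl | rfl) <;> assumption) (Set.toFinite _)
    rw [hn] at h2
    have h3 : 2 * (memAt Z c).ncard * 1 ≤
        (fixedBy Ω w).ncard * (memAt Z c).ncard * ((fixedBy Ω w).ncard - 1) :=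
      Nat.mul_le_mul (Nat.mul_le_mul_right _ hf) (by omega)
    omega
  set H := BenderTrans.coreIn (pairGroup G c x)
  set T : Subgroup G := (S : Subgroup G) ⊓ stabilizer G x
  have hTN : T ≤ pairGroup G c x := fun g hg =>
    mem_pairGroup.2 (Or.inl ⟨hc g hg.1, mem_stabilizer_iff.1 hg.2⟩)
  haveI := isSolvable_sup (BenderTrans.odd_coreIn (pairGroup G c x))
    (S.isPGroup'.to_inf_left (K := stabilizer G x))
    (hTN.trans (BenderTrans.le_normalizer_coreIn _))
  let X : Subgroup G := H ⊔ T
  haveI : Group.IsSolvable X := this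
  have hXc : ∀ g ∈ X, g • c = c := fun g hg =>
    mem_stabilizer_iff.1 ((sup_le (fun g hg => mem_stabilizer_iff.2 (h.smul_of_mem_core hg).1)
      (fun g hg => mem_stabilizer_iff.2 (hc g hg.1)) : X ≤ stabilizer G c) hg)
  letI : CommGroup E := { (inferInstance : Group E) with
    mul_comm := fun a b => Subtype.ext (h.commute_memGroup hfaith hab a.2 b.2).eq }
  letI : DistribMulAction X (Additive E) :=
    { smul := fun g v => Additive.ofMul (⟨(g : G) * (v.toMul : G) * (g : G)⁻¹,
        h.conj_mem_memGroup (hXc g g.2) v.toMul.2⟩ : E)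
      one_smul := fun v => congrArg Additive.ofMul (Subtype.ext (by
        show ((1 : X) : G) * (v.toMul : G) * ((1 : X) : G)⁻¹ = v.toMul
        simp))
      mul_smul := fun g g' v => congrArg Additive.ofMul (Subtype.ext (by
        show ((g * g' : X) : G) * (v.toMul : G) * ((g * g' : X) : G)⁻¹ =
          (g : G) * ((g' : G) * (v.toMul : G) * (g' : G)⁻¹) * (g : G)⁻¹
        rw [Subgroup.coe_mul]; group))
      smul_zero := fun g => congrArg Additive.ofMul (Subtype.ext (by
        show (g : G) * ((1 : E) : G) * (g : G)⁻¹ = ((1 : E) : G)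
        simp))
      smul_add := fun g v w => congrArg Additive.ofMul (Subtype.ext (by
        show (g : G) * ((v.toMul : G) * (w.toMul : G)) * (g : G)⁻¹ =
          (g : G) * (v.toMul : G) * (g : G)⁻¹ * ((g : G) * (w.toMul : G) * (g : G)⁻¹)
        group)) }
  have hexp : ∀ v : Additive E, v + v = 0 := fun v =>
    congrArg Additive.ofMul (Subtype.ext (h.mul_self_memGroup hfaith hab v.toMul.2) :
      v.toMul * v.toMul = 1)
  haveI : Nontrivial (Additive E) := by
    refine Finite.one_lt_card_iff_nontrivial.1 ?_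
    rw [show Nat.card (Additive E) = Nat.card E from rfl, h.card_memGroup hfaith hab c]
    omega
  have htr : ∀ v w : Additive E, v ≠ 0 → w ≠ 0 → ∃ g : X, g • v = w := by
    intro v w hv hw
    have key : ∀ v : Additive E, v ≠ 0 → (v.toMul : G) ∈ memAt Z c := fun v hv =>
      ((h.mem_memGroup_iff hfaith hab).1 v.toMul.2).resolve_left fun e =>
        hv (congrArg Additive.ofMul (Subtype.ext e : v.toMul = 1))
    obtain ⟨g, hg, hgvw⟩ := h.exists_core_conj hxc.symm (key v hv) (key w hw)
    exact ⟨⟨g, Subgroup.mem_sup_left hg⟩, congrArg Additive.ofMul (Subtype.ext hgvw :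
      (⟨_, h.conj_mem_memGroup (hXc g (Subgroup.mem_sup_left hg)) v.toMul.2⟩ : E) = w.toMul)⟩
  obtain ⟨A, hA, hAfin, hAcyc, π, hπ⟩ := (hasGaloisHom_of_solvable hexp htr).exists_hom
  -- the projection of the Sylow subgroup
  have hES : E ≤ (S : Subgroup G) := by
    have hP : IsPGroup 2 ((S : Subgroup G) ⊔ E : Subgroup G) := by
      refine S.isPGroup'.to_sup_of_normal_right' (h.isPGroup_memGroup hfaith hab c) fun g hg => ?_
      refine Subgroup.mem_normalizer_iff.2 fun e => ⟨fun he => h.conj_mem_memGroup (hc g hg) he,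
        fun he => ?_⟩
      have h1 := h.conj_mem_memGroup (g := g⁻¹) (hc g⁻¹ ((S : Subgroup G).inv_mem hg)) he
      rwa [show g⁻¹ * (g * e * g⁻¹) * g⁻¹⁻¹ = e by group] at h1
    exact (S.is_maximal' hP le_sup_left) ▸ le_sup_right
  have hε : ∀ g : (S : Subgroup G), ∃ e ∈ E, e • x = (g : G) • x := fun g =>
    hreach _ fun e => hxc (MulAction.injective (g : G) (e.trans (hc g g.2).symm))
  choose ε hεE hεx using hε
  have hτ : ∀ g : (S : Subgroup G), (ε g)⁻¹ * (g : G) ∈ T := fun g =>
    ⟨(S : Subgroup G).mul_mem ((S : Subgroup G).inv_mem (hES (hεE g))) g.2,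
      mem_stabilizer_iff.2 (by rw [mul_smul, ← hεx g, inv_smul_smul])⟩
  let τ : (S : Subgroup G) →* X := MonoidHom.mk'
    (fun g => ⟨(ε g)⁻¹ * (g : G), Subgroup.mem_sup_right (hτ g)⟩) fun g g' => Subtype.ext (by
      have h1 : ε (g * g') = (g : G) * ε g' * (g : G)⁻¹ * ε g := by
        refine hEuniq (hεE _) (mul_mem (h.conj_mem_memGroup (hc g g.2) (hεE g')) (hεE g)) ?_
        rw [hεx, Subgroup.coe_mul, mul_smul, mul_smul ((g : G) * ε g' * (g : G)⁻¹), hεx g,
          smul_smul ((g : G) * ε g' * (g : G)⁻¹), inv_mul_cancel_right, mul_smul, hεx g']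
      show (ε (g * g'))⁻¹ * ((g : G) * g') = (ε g)⁻¹ * g * ((ε g')⁻¹ * g')
      rw [h1]
      group)
  let φ : (S : Subgroup G) →* A := π.comp τ
  -- bad involutions map to the involution
  have key : ∀ w : (S : Subgroup G), IsBad Ω (w : G) → φ w ≠ 1 ∧ φ w * φ w = 1 := by
    intro w hw
    have hw2 : w * w = 1 := Subtype.ext (mul_self_eq_one hw.1)
    refine ⟨fun h1 => hnontriv w hw (hc w w.2) fun a ha => ?_, by rw [← map_mul, hw2, map_one]⟩
    have htriv : ∀ v : Additive E, τ w • v = v := (hπ (τ w) 1 (fun v => by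
      rw [pow_one, pow_two, ← map_mul, hw2, map_one, one_smul])).1 h1
    have h2 := congrArg (fun v : Additive E => (v.toMul : G))
      (htriv (Additive.ofMul ⟨a, Subgroup.subset_closure ha⟩))
    have h3 : (ε w)⁻¹ * (w : G) * a * ((ε w)⁻¹ * (w : G))⁻¹ = a := h2
    have hea : Commute (ε w) a :=
      h.commute_memGroup hfaith hab (hεE w) (Subgroup.subset_closure ha)
    have h4 : Commute ((ε w)⁻¹ * (w : G)) a := mul_inv_eq_iff_eq_mul.1 h3
    have h5 := hea.mul_left h4
    rwa [mul_inv_cancel_left] at h5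
  have hu' : u ∈ (S : Subgroup G) := hS (Subgroup.mem_zpowers u)
  obtain ⟨h1, h2⟩ := key ⟨u, hu'⟩ hu
  exact h.false_of_sylow_hom hfaith S φ h1 (fun w hw => eq_of_mul_self_eq_one
    (key w hw).2 (key w hw).1 h2 h1) hu (hgen ▸ Subgroup.mem_top u)

/-- A bad involution not centralising all members at its fixed point, with as many fixed points as it
centralises members plus two, is impossible. -/
theorem false_of_field_linear [Finite G] [Finite Ω]
    (hfaith : ∀ g : G, (∀ x : Ω, g • x = x) → g = 1) (hab : AllCommute Ω Z)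
    (hgen : Subgroup.closure Z = ⊤) {u : G} {c : Ω} (hu : IsBad Ω u) (huc : u • c = c)
    (hne : ¬ ∀ a ∈ memAt Z c, Commute u a)
    (hf : (fixedBy Ω u).ncard = (cenMem Z u c).ncard + 2) : False := by
  obtain ⟨t, ht, hut⟩ := h.exists_memAt_commute hu.1 huc
  obtain ⟨-, h1⟩ := h.card_of_field hfaith hab hu huc hne ht hut
  obtain ⟨hsq, -⟩ := (h.bad_types hfaith hab hu huc).resolve_left fun h2 => hne h2.1
  set k := (cenMem Z u c).ncard
  have hpos : 0 < k := (Set.ncard_pos (Set.toFinite _)).2 (h.cenMem_nonempty hu.1 huc)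
  have hsq' : (k + 1) ^ 2 = k * (k + 1) + k + 1 := by ring
  have hkk : 1 ≤ k * (k + 1) := Nat.mul_pos hpos (by omega)
  have hle : k + 2 ≤ Nat.card Ω := by
    rw [← hf, ← Set.ncard_univ]
    exact Set.ncard_le_ncard (Set.subset_univ _) (Set.toFinite _)
  rw [hf, show k + 2 - 1 = k + 1 by omega] at h1
  have h3 : Nat.card Ω - (k + 2) = k * (k + 1) :=
    Nat.eq_of_mul_eq_mul_right (show 0 < k + 2 by omega) (by rw [h1]; ring)
  exact h.noBad_of_regular hfaith hab hgen (c₀ := c) (by omega) (by omega) u hu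

end Setting

end CfsgLib.StrongCrit
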