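import Cfsg.Agent.Lib.StrongCrit.Transfer

/-!
In the setting of Aschbacher's criterion: if commuting is transitive on the members at a point,
and members at that point centralising one bad involution commute, then all members there commute.
-/

set_option autoImplicit false

namespace CfsgLib.StrongCrit

open CfsgLib.Involutions MulAction

universe u v

variable {G : Type u} [Group G] {Ω : Type v} [MulAction G Ω] {Z : Set G}

namespace Setting

variable (h : Setting Ω Z)
include h

/-- A bad involution is no member. -/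
theorem not_mem_of_isBad {u : G} (hu : IsBad Ω u) : u ∉ Z := fun hm => by
  obtain ⟨-, x, y, hxy, hx, hy⟩ := hu
  exact hxy (h.unique u hm x y hx hy)

/-- An element interchanging up to commutation the block of a member centralises a member of it. -/
theorem exists_block_centralized [Finite G] [Finite Ω]
    (hfaith : ∀ g : G, (∀ x : Ω, g • x = x) → g = 1) {c : Ω} {a x : G} (ha : a ∈ memAt Z c)
    (hx : x * x = 1) (hcomm : Commute a (x * a * x⁻¹)) :
    ∃ p ∈ memAt Z c, Commute x p ∧ Commute a p := by
  by_cases he : x * a * x⁻¹ = a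
  · exact ⟨a, ha, mul_inv_eq_iff_eq_mul.1 he, Commute.refl a⟩
  · set b := x * a * x⁻¹ with hb
    have hbZ : b ∈ Z := h.conj_mem x a ha.1
    have hbc : b • c = c := h.fix_of_commute ha hcomm.symm
    have hxi : x⁻¹ = x := inv_eq_of_mul_eq_one_right hx
    have hxb : x * b * x⁻¹ = a := by
      rw [hb, show x * (x * a * x⁻¹) * x⁻¹ = x * x * a * (x * x)⁻¹ by group, hx]
      group
    refine ⟨a * b, ⟨h.mul_mem_of_commute hfaith ha.1 hbZ hcomm (Ne.symm he), ?_⟩, ?_,
      (Commute.refl a).mul_right hcomm⟩
    · rw [mul_smul, hbc, ha.2]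
    · refine mul_inv_eq_iff_eq_mul.1 ?_
      rw [show x * (a * b) * x⁻¹ = (x * a * x⁻¹) * (x * b * x⁻¹) by group, ← hb, hxb, hcomm.eq]

/-- If commuting is transitive at `c` and members at `c` centralising one bad involution commute,
then any two members at `c` commute. -/
theorem commute_of_trans [Finite G] [Finite Ω]
    (hfaith : ∀ g : G, (∀ x : Ω, g • x = x) → g = 1) {c : Ω} {u : G} (hu : IsBad Ω u)
    (huc : u • c = c)
    (htr : ∀ a ∈ memAt Z c, ∀ b ∈ memAt Z c, ∀ d ∈ memAt Z c,
      Commute a b → Commute b d → Commute a d)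
    (hsec : ∀ w : G, IsBad Ω w → w • c = c → ∀ a ∈ memAt Z c, ∀ b ∈ memAt Z c,
      Commute w a → Commute w b → Commute a b) :
    ∀ a ∈ memAt Z c, ∀ b ∈ memAt Z c, Commute a b := by
  obtain ⟨a₀, ha₀, hua₀⟩ := h.exists_memAt_commute hu.1 huc
  suffices key : ∀ t ∈ memAt Z c, Commute t a₀ by
    exact fun a ha b hb => htr a ha a₀ ha₀ b hb (key a ha) (key b hb).symm
  intro t ht
  by_contra hta
  have ht2 := h.invol t ht.1
  rcases Nat.even_or_odd (orderOf (t * u)) with he | ho
  · obtain ⟨he2, het, heu⟩ := central_involution ht2 hu.1 he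
    set e := (t * u) ^ (orderOf (t * u) / 2)
    have hec : e • c = c := h.fix_of_commute ht het
    rcases h.mem_or_isBad hfaith he2 hec with hm | hb
    · exact hta (htr t ht e ⟨hm, hec⟩ a₀ ha₀ het.symm
        (hsec u hu huc e ⟨hm, hec⟩ a₀ ha₀ heu.symm hua₀))
    · set b := e * a₀ * e⁻¹ with hbdef
      have hbm : b ∈ memAt Z c := by
        have := h.conj_memAt (g := e) ha₀
        rwa [hec] at this
      have hub : Commute u b := by
        rw [hbdef]
        exact ((heu.symm.mul_right hua₀).mul_right heu.symm.inv_right)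
      obtain ⟨p, hp, hep, hap⟩ := h.exists_block_centralized hfaith ha₀ (mul_self_eq_one he2)
        (hsec u hu huc a₀ ha₀ b hbm hua₀ hub)
      exact hta (htr t ht p hp a₀ ha₀ (hsec e hb hec t ht p hp het hep) hap.symm)
  · obtain ⟨g, -, hg⟩ := conj_of_odd_order ht2 hu.1 ho
    exact h.not_mem_of_isBad hu (hg ▸ h.conj_mem g t ht.1)

end Setting

end CfsgLib.StrongCrit
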