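import Cfsg.Agent.Lib.StrongCrit.Main
import Cfsg.Agent.Lib.StrongCrit.W1.Main
import Cfsg.Agent.Lib.StrongCrit.QShape
import Cfsg.Agent.Lib.StrongCrit.OrbitFormula
import Cfsg.Agent.Lib.StrongCrit.Regular

/-!
The case division of Aschbacher's criterion: either members at a point do not all commute, or they
do and then every bad involution centralises all members at its fixed points, with fixed sets of
`q + 1`, `q ^ 2 + 1` or `q ^ 3 + 1` points.
-/

set_option autoImplicit false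

namespace CfsgLib.StrongCrit

open CfsgLib.Involutions CfsgLib.BenderTrans MulAction

universe u

/-- The case in which every bad involution centralises the members at its fixed points; its fixed
sets have `q ^ a + 1` points, `q = 2 ^ e` one more than the members at a point. -/
structure CentralCase {G : Type u} [Group G] (Ω : Type u) [MulAction G Ω] (Z : Set G) (a e : ℕ) :
    Prop where
  crit : Crit Ω Z
  pure : W1.PureBelow Ω Z
  exists_bad : ∃ w : G, IsBad Ω w
  comm : AllCommute Ω Z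
  central : ∀ w : G, IsBad Ω w → ∀ c : Ω, w • c = c → ∀ t ∈ memAt Z c, Commute w t
  two_le : 2 ≤ e
  card_mem : ∀ c : Ω, (memAt Z c).ncard + 1 = 2 ^ e
  card_fix : ∀ w : G, IsBad Ω w → (fixedBy Ω w).ncard = 2 ^ (e * a) + 1
  card_omega : Nat.card Ω = (2 ^ (e * a) + 1) * (1 + (2 ^ e - 1) * 2 ^ (e * a))

/-- There is no bad involution unless the members at a point commute. -/
def NonCommFalse : Prop :=
  ∀ (G : Type u) [Group G] [Finite G] (Ω : Type u) [MulAction G Ω] [Finite Ω] (Z : Set G),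
    Crit Ω Z → W1.PureBelow Ω Z → (∃ w : G, IsBad Ω w) → ¬ AllCommute Ω Z → False

/-- The central case does not occur with fixed sets of `q ^ a + 1` points. -/
def CentralFalse (a : ℕ) : Prop :=
  ∀ (G : Type u) [Group G] [Finite G] (Ω : Type u) [MulAction G Ω] [Finite Ω] (Z : Set G) (e : ℕ),
    CentralCase Ω Z a e → False

variable {G : Type u} [Group G] [Finite G] {Ω : Type u} [MulAction G Ω] [Finite Ω] {Z : Set G}

namespace Crit

variable (hC : Crit Ω Z) (hP : W1.PureBelow Ω Z) (hbad : ∃ w : G, IsBad Ω w)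
include hC hP hbad

/-- There are two members at every point. -/
theorem one_lt_memAt (c : Ω) : 1 < (memAt Z c).ncard := by
  obtain ⟨s, hs, t, ht, hne, -⟩ := hC.four_everywhere hbad c
  exact (Set.one_lt_ncard (Set.toFinite _)).2 ⟨s, hs, t, ht, hne⟩

/-- For a prime dividing the number of members at a point the number of points is two modulo it. -/
theorem card_modEq_two {p : ℕ} (hp : p.Prime) {c : Ω} (hdvd : p ∣ (memAt Z c).ncard) :
    Nat.card Ω ≡ 2 [MOD p] := by
  have : Fact p.Prime := ⟨hp⟩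
  obtain ⟨y, hy⟩ := hC.base.nontriv c
  obtain ⟨W, hW, -⟩ := CfsgLib.OddOrder.exists_sylowOf_ge (p := p) (M := two G c y) (Q := ⊥)
    bot_le IsPGroup.of_bot
  have hfix := (hC.base.fix_pair_of_dvd hC.faith hP (hC.four_everywhere hbad) hp hdvd hy.symm hW).1
  have h1 := hW.2.1.card_modEq_card_fixedPoints Ω
  have h2 : Nat.card (fixedPoints W Ω) = 2 := by
    have h3 : fixedPoints W Ω = ({c, y} : Set Ω) := by
      rw [← hfix]
      ext x
      exact ⟨fun hx g hg => hx ⟨g, hg⟩, fun hx g => hx g g.2⟩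
    rw [h3, Nat.card_coe_set_eq, Set.ncard_pair hy.symm]
  rwa [h2] at h1

/-- If members commute and some bad involution does not centralise the members at a fixed point,
the number of points is two more than the number of members at a point. -/
theorem card_of_not_central (hab : AllCommute Ω Z) {w : G} (hw : IsBad Ω w) {c : Ω}
    (hc : w • c = c) (hne : ¬ ∀ t ∈ memAt Z c, Commute w t) :
    Nat.card Ω = (memAt Z c).ncard + 2 := by
  have hbig := hC.one_lt_memAt hP hbad
  obtain ⟨hsq, -⟩ := (hC.base.bad_types hC.faith hab hw hc).resolve_left fun h => hne h.1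
  obtain ⟨t, ht, hwt⟩ := hC.base.exists_memAt_commute hw.1 hc
  obtain ⟨-, hn⟩ := hC.base.card_of_field hC.faith hab hw hc hne ht hwt
  obtain ⟨Q, -, hF, hshape, -⟩ := hC.exists_qShape (hC.secComm hP) hbig hw hc
  obtain ⟨e, he, hq, -⟩ := hC.exists_q (hC.secComm hP) hbig hw hc
  have hB : bMem Z c w = cenMem Z w c := rfl
  rw [hB] at hshape hq
  set k := (cenMem Z w c).ncard
  set m := (memAt Z c).ncard with hm
  have hf : (fixedBy Ω w).ncard = Nat.card Q + 1 := by
    rw [← hF]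
    exact (Set.ncard_diff_singleton_add_one (s := {x : Ω | w • x = x}) hc (Set.toFinite _)).symm
  rw [hf, Nat.add_sub_cancel] at hn
  have hk2 : 3 ≤ k := by
    have : 2 ^ 2 ≤ 2 ^ e := Nat.pow_le_pow_right two_pos he
    omega
  have hn1 : Nat.card Q + 1 ≤ Nat.card Ω := by
    rw [← hf, ← Set.ncard_univ]
    exact Set.ncard_le_ncard (Set.subset_univ _) (Set.toFinite _)
  obtain ⟨n, hn'⟩ := Nat.le.dest hn1
  have hn2 : n * (k + 2) = (Nat.card Q + 1) * k * Nat.card Q := by
    rw [← hn, ← hn']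
    congr 1
    omega
  have hsq' : k * k + 2 * k = m := by nlinarith [hsq]
  have hkodd : Odd k := by
    obtain ⟨e', rfl⟩ : ∃ e', e = e' + 1 := ⟨e - 1, by omega⟩
    exact ⟨2 ^ e' - 1, by rw [pow_succ] at hq; have := Nat.one_le_two_pow (n := e'); omega⟩
  rcases hshape with ⟨hQ, -⟩ | ⟨-, hQ | hQ⟩
  · rw [hQ] at hn2 hn'
    have hval : n = k * (k + 1) := by
      refine Nat.eq_of_mul_eq_mul_right (show 0 < k + 2 by omega) ?_
      rw [hn2]; ring
    rw [← hn', hval, ← hsq']
    ring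
  · exfalso
    rw [hQ] at hn2
    have hd : k + 2 ∣ ((k + 1) ^ 2 + 1) * k * (k + 1) ^ 2 := ⟨n, by rw [← hn2]; ring⟩
    have h1 : Nat.Coprime (k + 2) (k + 1) :=
      Nat.coprime_self_add_left.2 (Nat.coprime_one_left (k + 1))
    have h2 : Nat.Coprime (k + 2) k := Nat.coprime_self_add_left.2 (Nat.coprime_two_left.2 hkodd)
    have h3 := (h1.pow_right 2).dvd_of_dvd_mul_right hd
    have h4 := h2.dvd_of_dvd_mul_right h3
    have h5 : k + 2 ∣ 2 := by
      have h6 : (k + 1) ^ 2 + 1 = (k + 2) * k + 2 := by ring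
      rw [h6] at h4
      exact (Nat.dvd_add_right (dvd_mul_right _ _)).1 h4
    have := Nat.le_of_dvd two_pos h5
    omega
  · exfalso
    rw [hQ] at hn2 hn'
    obtain ⟨p, hp, hpd⟩ := Nat.exists_prime_and_dvd (show k + 2 ≠ 1 by omega)
    have hpm : p ∣ m := hsq' ▸ hpd.trans ⟨k, by ring⟩
    have hmod := hC.card_modEq_two hP hbad hp hpm
    have : Fact p.Prime := ⟨hp⟩
    have hk' : (k : ZMod p) = -2 := by
      have h1 : ((k + 2 : ℕ) : ZMod p) = 0 := (ZMod.natCast_eq_zero_iff _ p).2 hpd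
      push_cast at h1; linear_combination h1
    have hval : n = (k * k + k + 1) * k * (k + 1) ^ 3 := by
      refine Nat.eq_of_mul_eq_mul_right (show 0 < k + 2 by omega) ?_
      rw [hn2]; ring
    have h2 : (((k + 1) ^ 3 + 1 + n : ℕ) : ZMod p) = ((2 : ℕ) : ZMod p) := by
      rw [hn']; exact (ZMod.natCast_eq_natCast_iff _ _ _).2 hmod
    rw [hval] at h2
    push_cast at h2
    rw [hk'] at h2
    have h4 : ((4 : ℕ) : ZMod p) = 0 := by push_cast; linear_combination h2
    have hp4 : p ∣ 2 ^ 2 := (ZMod.natCast_eq_zero_iff _ p).1 h4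
    have hp2 : p = 2 := (Nat.prime_dvd_prime_iff_eq hp Nat.prime_two).1 (hp.dvd_of_dvd_pow hp4)
    subst hp2
    have h5 : Even (k + 2) := even_iff_two_dvd.2 hpd
    obtain ⟨j, hj⟩ := hkodd
    exact absurd h5 (Nat.not_even_iff_odd.2 ⟨j + 1, by omega⟩)

/-- The central case. -/
theorem exists_centralCase (hab : AllCommute Ω Z) :
    ∃ a e : ℕ, (a = 1 ∨ a = 2 ∨ a = 3) ∧ CentralCase Ω Z a e := by
  have hbig := hC.one_lt_memAt hP hbad
  have hcentral : ∀ w : G, IsBad Ω w → ∀ c : Ω, w • c = c → ∀ t ∈ memAt Z c, Commute w t := by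
    intro w hw c hc
    by_contra hne
    exact hC.base.noBad_of_regular hC.faith hab hC.gen (hbig c)
      (hC.card_of_not_central hP hbad hab hw hc hne) w hw
  have hdata : ∀ w : G, IsBad Ω w → ∀ c : Ω, w • c = c → ∃ a e : ℕ, (a = 1 ∨ a = 2 ∨ a = 3) ∧
      2 ≤ e ∧ (memAt Z c).ncard + 1 = 2 ^ e ∧ (fixedBy Ω w).ncard = 2 ^ (e * a) + 1 ∧
      Nat.card Ω = (2 ^ (e * a) + 1) * (1 + (2 ^ e - 1) * 2 ^ (e * a)) := by
    intro w hw c hc
    obtain ⟨Q, -, hF, hshape, -⟩ := hC.exists_qShape (hC.secComm hP) hbig hw hc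
    obtain ⟨e, he, hq, -⟩ := hC.exists_q (hC.secComm hP) hbig hw hc
    have hB : bMem Z c w = memAt Z c :=
      Set.ext fun a => ⟨And.left, fun ha => ⟨ha, hcentral w hw c hc a ha⟩⟩
    rw [hB] at hshape hq
    rw [hq] at hshape
    obtain ⟨a, ha, hQ⟩ : ∃ a : ℕ, (a = 1 ∨ a = 2 ∨ a = 3) ∧ Nat.card Q = 2 ^ (e * a) := by
      rcases hshape with ⟨hQ, -⟩ | ⟨-, hQ | hQ⟩
      · exact ⟨1, Or.inl rfl, by rw [hQ, mul_one]⟩
      · exact ⟨2, Or.inr (Or.inl rfl), by rw [hQ, ← pow_mul]⟩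
      · exact ⟨3, Or.inr (Or.inr rfl), by rw [hQ, ← pow_mul]⟩
    have hf : (fixedBy Ω w).ncard = Nat.card Q + 1 := by
      rw [← hF]
      exact (Set.ncard_diff_singleton_add_one (s := {x : Ω | w • x = x}) hc (Set.toFinite _)).symm
    rw [hQ] at hf
    obtain ⟨t, ht⟩ := hC.base.exists_memAt c
    obtain ⟨-, hn⟩ := hC.base.card_of_centralizing hC.faith hab (hbig c) hw hc (hcentral w hw c hc) ht
    refine ⟨a, e, ha, he, hq, hf, ?_⟩
    have hle : (fixedBy Ω w).ncard ≤ Nat.card Ω := by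
      rw [← Set.ncard_univ]
      exact Set.ncard_le_ncard (Set.subset_univ _) (Set.toFinite _)
    rw [hf, Nat.add_sub_cancel] at hn
    rw [hf] at hle
    have hm : (memAt Z c).ncard = 2 ^ e - 1 := by omega
    rw [hm] at hn
    rw [← Nat.sub_add_cancel hle, hn]
    ring
  obtain ⟨w, hw⟩ := hbad
  obtain ⟨hw2, x, y, hxy, hx, hy⟩ := id hw
  obtain ⟨a, e, ha, he, hq, hf, hn⟩ := hdata w hw x hx
  refine ⟨a, e, ha, ⟨hC, hP, ⟨w, hw⟩, hab, hcentral, he,
    fun c => hC.base.ncard_memAt_eq c x ▸ hq, fun v hv => ?_, hn⟩⟩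
  obtain ⟨-, p, -, -, hp, -⟩ := id hv
  obtain ⟨a', e', -, -, hq', hf', hn'⟩ := hdata v hv p hp
  have hee : e' = e := Nat.pow_right_injective le_rfl
    (show 2 ^ e' = 2 ^ e by rw [← hq', hC.base.ncard_memAt_eq p x, hq])
  subst hee
  rw [hf']
  have hpos : 0 < 2 ^ e' - 1 := by
    have : 2 ^ 2 ≤ 2 ^ e' := Nat.pow_le_pow_right two_pos he
    omega
  set r := 2 ^ e' - 1
  rw [hn] at hn'
  by_contra hne
  rcases Nat.lt_or_gt_of_ne (fun h => hne (congrArg (· + 1) h) : 2 ^ (e' * a') ≠ 2 ^ (e' * a))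
    with h | h <;> nlinarith [hn', mul_lt_mul_of_pos_left h hpos]

end Crit

/-- The step of the induction from the two cases. -/
theorem critStep_of_cases (hn : NonCommFalse.{u}) (h1 : CentralFalse.{u} 1) (h2 : CentralFalse.{u} 2)
    (h3 : CentralFalse.{u} 3) : CritStep.{u} := by
  intro G _ _ Ω _ _ Z hC hP w hw
  by_cases hab : AllCommute Ω Z
  · obtain ⟨a, e, ha, hcase⟩ := hC.exists_centralCase hP ⟨w, hw⟩ hab
    rcases ha with rfl | rfl | rfl
    · exact h1 G Ω Z e hcase
    · exact h2 G Ω Z e hcase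
    · exact h3 G Ω Z e hcase
  · exact hn G Ω Z hC hP ⟨w, hw⟩ hab

end CfsgLib.StrongCrit
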