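import Mathlib

/-!
The arithmetic of the orbit formula of Aschbacher's criterion.  With `q` the order of the group of
members in a section, `q ^ a + 1` its number of points and `c` the number of members of it
interchanging two moved points, `c = 1` or `a = 1` and `c = q + 1`.
-/

set_option autoImplicit false

namespace CfsgLib.StrongCrit.Arith

/-- A positive number congruent to one modulo `q` is `1 + i * q`. -/
theorem exists_eq_of_mod {q c : ℕ} (hc : c % q = 1) : ∃ i, c = 1 + i * q :=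
  ⟨c / q, by have := Nat.div_add_mod c q; rw [hc] at this; linarith [Nat.mul_comm q (c / q)]⟩

/-- The linear case: `c ∣ q ^ 2 - 1`. -/
theorem linear_cases {q c : ℕ} (hq : 4 ≤ q) (hmod : c % q = 1) (hc : c ∣ (q + 1) * (q - 1)) :
    c = 1 ∨ c = q + 1 := by
  obtain ⟨i, rfl⟩ := exists_eq_of_mod hmod
  rcases Nat.eq_zero_or_pos i with rfl | hi
  · left; simp
  obtain ⟨w, hw⟩ := hc
  obtain ⟨r, rfl⟩ : ∃ r, q = r + 1 := ⟨q - 1, by omega⟩
  rw [Nat.add_sub_cancel] at hw
  have hs : (r + 1) ∣ w + 1 := by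
    have hd1 : (r + 1) ∣ i * w * (r + 1) := Dvd.intro_left _ rfl
    exact (Nat.dvd_add_right hd1).1 ⟨r + 1, by nlinarith [hw]⟩
  obtain ⟨s, hs⟩ := hs
  have key : s + i * s * (r + 1) = (r + 1) + i := by
    apply Nat.eq_of_mul_eq_mul_left (show 0 < r + 1 by omega)
    have h2 := congrArg (fun m => (1 + i * (r + 1)) * m) hs
    simp only [Nat.mul_add] at h2
    linarith
  have hs1 : s = 1 := by
    rcases s with _ | _ | s
    · omega
    · rfl
    · exfalso
      nlinarith [Nat.zero_le (i * s * (r + 1)), Nat.zero_le s]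
  subst hs1
  right
  have : i = 1 := by
    by_contra hne
    nlinarith [show 2 ≤ i by omega]
  subst this
  ring

/-- The Suzuki case: `c ∣ (q ^ 2 + 1) * (q - 1)`. -/
theorem suzuki_cases {q c : ℕ} (hq : 4 ≤ q) (heven : Even q) (hmod : c % q = 1)
    (hc : c ∣ (q ^ 2 + 1) * (q - 1)) : c = 1 ∨ c = q ^ 2 + 1 := by
  obtain ⟨i, rfl⟩ := exists_eq_of_mod hmod
  rcases Nat.eq_zero_or_pos i with rfl | hi
  · left; simp
  obtain ⟨d, hd⟩ := hc
  obtain ⟨r, rfl⟩ : ∃ r, q = r + 1 := ⟨q - 1, by omega⟩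
  rw [Nat.add_sub_cancel] at hd
  have hj : (r + 1) ∣ d + 1 := by
    have hd1 : (r + 1) ∣ i * d * (r + 1) := Dvd.intro_left _ rfl
    exact (Nat.dvd_add_right hd1).1 ⟨(r + 1) * r + 1, by nlinarith [hd]⟩
  obtain ⟨j, hj⟩ := hj
  -- `j + i j q + q = q² + 1 + i`
  have key : j + i * j * (r + 1) + (r + 1) = (r + 1) ^ 2 + 1 + i := by
    apply Nat.eq_of_mul_eq_mul_left (show 0 < r + 1 by omega)
    have h2 := congrArg (fun m => (1 + i * (r + 1)) * m) hj
    simp only [Nat.mul_add] at h2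
    linarith
  have hj0 : 1 ≤ j := by
    rcases j with _ | j
    · omega
    · omega
  rcases lt_trichotomy i (r + 1) with hlt | rfl | hgt
  · exfalso
    rcases lt_trichotomy j (i + 1) with h1 | rfl | h1
    · -- then `j ≡ i + 1` forces `i + 1 ≥ j + q`
      have hdvd : ((r + 1 : ℕ) : ℤ) ∣ ((i : ℤ) + 1 - j) :=
        ⟨(i : ℤ) * j + 1 - (r + 1), by
          have : (j : ℤ) + i * j * (r + 1) + (r + 1) = ((r : ℤ) + 1) ^ 2 + 1 + i := by exact_mod_cast key
          push_cast
          linarith⟩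
      have := Int.le_of_dvd (by omega) hdvd
      omega
    · have h2 : i * (i + 1) + 1 = r + 1 := by
        apply Nat.eq_of_mul_eq_mul_left (show 0 < r + 1 by omega)
        nlinarith [key]
      obtain ⟨e, he⟩ := Nat.even_mul_succ_self i
      obtain ⟨e', he'⟩ := heven
      omega
    · have hdvd : ((r + 1 : ℕ) : ℤ) ∣ ((j : ℤ) - (i + 1)) :=
        ⟨(r + 1) - 1 - (i : ℤ) * j, by
          have : (j : ℤ) + i * j * (r + 1) + (r + 1) = ((r : ℤ) + 1) ^ 2 + 1 + i := by exact_mod_cast key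
          push_cast
          linarith⟩
      have := Int.le_of_dvd (by omega) hdvd
      have hjq : r + 1 + (i + 1) ≤ j := by omega
      nlinarith [Nat.mul_le_mul hi hjq]
  · right; ring
  · exfalso
    nlinarith [Nat.mul_le_mul hgt hj0]

/-- `9` does not divide `q ^ 2 + 1 - q`. -/
theorem not_nine_dvd {q x : ℕ} (hx : x + q = q ^ 2 + 1) : ¬ 9 ∣ x := by
  intro h
  have h1 : ((x : ℕ) : ZMod 9) = 0 := (ZMod.natCast_eq_zero_iff x 9).2 h
  have h2 : ((x : ℕ) : ZMod 9) + (q : ZMod 9) = (q : ZMod 9) ^ 2 + 1 := by exact_mod_cast congrArg (fun m : ℕ => (m : ZMod 9)) hx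
  rw [h1, zero_add] at h2
  generalize (q : ZMod 9) = y at h2
  revert h2
  revert y
  decide

/-- A number dividing `(q ^ 3 + 1) * (q - 1)` all whose prime divisors divide `q ^ 2 - 1` divides
`3 * (q ^ 2 - 1)`. -/
theorem dvd_three_mul {q c : ℕ} (hq : 2 ≤ q) (hc : c ∣ (q ^ 3 + 1) * (q - 1))
    (hpr : ∀ p : ℕ, p.Prime → p ∣ c → p ∣ (q + 1) * (q - 1)) :
    c ∣ 3 * ((q + 1) * (q - 1)) := by
  obtain ⟨x, hx⟩ : ∃ x, x + q = q ^ 2 + 1 := ⟨q ^ 2 + 1 - q, by have : q ≤ q ^ 2 := by nlinarith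
                                                                omega⟩
  have hfac : (q ^ 3 + 1) * (q - 1) = (q + 1) * (q - 1) * x := by
    have h1 : q ^ 3 + 1 = (q + 1) * x := by nlinarith [hx]
    rw [h1]; ring
  rw [hfac] at hc
  have hg : Nat.gcd c x ∣ 3 := by
    have hall : ∀ p : ℕ, p.Prime → p ∣ Nat.gcd c x → p = 3 := by
      intro p hp hpg
      have hpx : p ∣ x := hpg.trans (Nat.gcd_dvd_right c x)
      rcases (Nat.Prime.dvd_mul hp).1 (hpr p hp (hpg.trans (Nat.gcd_dvd_left c x))) with h | h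
      · have h3 : p ∣ 3 := by
          have e : x + 3 * q = (q + 1) * (q + 1) := by nlinarith [hx]
          have e2 : p ∣ x + 3 * q := e ▸ h.mul_right _
          have h3q : p ∣ 3 * q := (Nat.dvd_add_right hpx).1 e2
          rcases (Nat.Prime.dvd_mul hp).1 h3q with h' | h'
          · exact h'
          · have : p ∣ 1 := (Nat.dvd_add_right h').1 h
            exact absurd (Nat.dvd_one.1 this) hp.one_lt.ne'
        exact (Nat.prime_dvd_prime_iff_eq hp Nat.prime_three).1 h3
      · exfalso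
        obtain ⟨r, rfl⟩ : ∃ r, q = r + 1 := ⟨q - 1, by omega⟩
        rw [Nat.add_sub_cancel] at h
        have e : x = r * (r + 1) + 1 := by nlinarith [hx]
        rw [e] at hpx
        have : p ∣ 1 := (Nat.dvd_add_right (h.mul_right _)).1 hpx
        exact hp.one_lt.ne' (Nat.dvd_one.1 this)
    have hg0 : Nat.gcd c x ≠ 0 := by
      intro h0
      have := (Nat.gcd_eq_zero_iff.1 h0).2
      nlinarith [hx]
    have hpow : ∃ k, Nat.gcd c x = 3 ^ k :=
      ⟨_, (Nat.eq_prime_pow_of_unique_prime_dvd hg0 fun hp hd => hall _ hp hd)⟩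
    obtain ⟨k, hk⟩ := hpow
    rw [hk]
    rcases k with _ | _ | k
    · simp
    · simp
    · exfalso
      refine not_nine_dvd hx ((Dvd.intro (3 ^ k) ?_).trans (Nat.gcd_dvd_right c x))
      rw [hk]; ring
  have h2 : c ∣ (q + 1) * (q - 1) * Nat.gcd c x := by
    have h3 : c ∣ Nat.gcd ((q + 1) * (q - 1) * c) ((q + 1) * (q - 1) * x) :=
      Nat.dvd_gcd (Dvd.intro_left _ rfl) hc
    rwa [Nat.gcd_mul_left] at h3
  refine h2.trans ?_
  rw [mul_comm 3]
  exact Nat.mul_dvd_mul_left _ hg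

/-- The unitary case. -/
theorem unitary_cases {q n c : ℕ} (hq : q = 2 ^ n) (hn : 2 ≤ n) (hmod : c % q = 1)
    (hc : c ∣ (q ^ 3 + 1) * (q - 1))
    (hpr : ∀ p : ℕ, p.Prime → p ∣ c → p ∣ (q + 1) * (q - 1)) : c = 1 ∨ c = q + 1 := by
  have hq4 : 4 ≤ q := hq ▸ (Nat.pow_le_pow_right two_pos hn : 2 ^ 2 ≤ 2 ^ n)
  have hev : Even q := hq ▸ (Nat.even_pow.2 ⟨even_two, by omega⟩)
  have h3 := dvd_three_mul (by omega) hc hpr
  obtain ⟨i, hi'⟩ := exists_eq_of_mod hmod
  rcases Nat.eq_zero_or_pos i with rfl | hi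
  · left; simpa using hi'
  obtain ⟨w, hw⟩ := h3
  obtain ⟨r, hr⟩ : ∃ r, q = r + 1 := ⟨q - 1, by omega⟩
  have hqr : q - 1 = r := by omega
  rw [hqr, hi'] at hw
  have hs : q ∣ w + 3 := by
    have hd1 : q ∣ i * w * q := Dvd.intro_left _ rfl
    exact (Nat.dvd_add_right hd1).1 ⟨3 * q, by subst hr; nlinarith [hw]⟩
  obtain ⟨s, hs⟩ := hs
  have key : s + i * s * q = 3 * q + 3 * i := by
    apply Nat.eq_of_mul_eq_mul_left (show 0 < q by omega)
    subst hr
    have h2 := congrArg (fun m => (1 + i * (r + 1)) * m) hs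
    simp only [Nat.mul_add] at h2
    linarith
  have hs3 : s ≤ 3 := by
    by_contra h4
    have h4' : 4 ≤ s := by omega
    nlinarith [Nat.mul_le_mul_right (i * q) h4', Nat.mul_le_mul hi hq4, Nat.mul_le_mul_left 3
      (Nat.mul_le_mul_right q hi)]
  interval_cases s
  · omega
  · exfalso
    have hi4 : 4 ≤ i := by nlinarith
    by_cases h8 : 8 ≤ q
    · have hi5 : i ≤ 4 := by nlinarith
      interval_cases i
      obtain ⟨e, he⟩ := hev
      omega
    · have : n = 2 := by
        by_contra hne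
        have : (2 : ℕ) ^ 3 ≤ 2 ^ n := Nat.pow_le_pow_right two_pos (by omega)
        omega
      subst this
      norm_num at hq
      subst hq
      have : i = 11 := by omega
      subst this
      subst hi'
      norm_num at hc
  · exfalso
    have hi2 : i = 2 := by
      rcases lt_trichotomy i 2 with h | h | h
      · interval_cases i; omega
      · exact h
      · nlinarith
    subst hi2
    have : q = 4 := by omega
    subst this
    subst hi'
    norm_num at hc
  · right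
    have : i = 1 := by
      by_contra hne
      nlinarith [show 2 ≤ i by omega]
    subst this
    omega

/-- The values of `c`: `f = q ^ a + 1` points, `c * d = f * (q - 1)`, every prime divisor of `c` has
`q ^ a * (1 + d) ≡ 1`, and in the unitary case divides `q ^ 2 - 1`. -/
theorem c_cases {q n a c d : ℕ} (hq : q = 2 ^ n) (hn : 2 ≤ n) (ha : a = 1 ∨ a = 2 ∨ a = 3)
    (hmod : c % q = 1) (hcd : c * d = (q ^ a + 1) * (q - 1))
    (hgood : ∀ p : ℕ, p.Prime → p ∣ c → q ^ a * (1 + d) ≡ 1 [MOD p])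
    (hpr : a = 3 → ∀ p : ℕ, p.Prime → p ∣ c → p ∣ (q + 1) * (q - 1)) :
    c = 1 ∨ (a = 1 ∧ c = q + 1) := by
  have hq4 : 4 ≤ q := hq ▸ (Nat.pow_le_pow_right two_pos hn : 2 ^ 2 ≤ 2 ^ n)
  have hev : Even q := hq ▸ (Nat.even_pow.2 ⟨even_two, by omega⟩)
  obtain ⟨r, hr⟩ : ∃ r, q = r + 1 := ⟨q - 1, by omega⟩
  have hqr : q - 1 = r := by omega
  rcases ha with rfl | rfl | rfl
  · rcases linear_cases hq4 hmod ⟨d, by rw [hcd, pow_one]⟩ with h | h
    · exact Or.inl h
    · exact Or.inr ⟨rfl, h⟩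
  · rcases suzuki_cases hq4 hev hmod ⟨d, hcd.symm⟩ with h | h
    · exact Or.inl h
    exfalso
    subst h
    have hd : d = r := by
      have := Nat.eq_of_mul_eq_mul_left (by positivity) hcd
      omega
    have hne : q ^ 2 + 1 ≠ 1 := by nlinarith
    obtain ⟨p, hp, hpd⟩ := Nat.exists_prime_and_dvd hne
    have hg := hgood p hp hpd
    have : Fact p.Prime := ⟨hp⟩
    have h1 : ((q : ZMod p)) ^ 2 + 1 = 0 := by exact_mod_cast (ZMod.natCast_eq_zero_iff _ p).2 hpd
    have h2 : ((q : ZMod p)) ^ 2 * q = 1 := by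
      have := (ZMod.natCast_eq_natCast_iff _ _ _).2 hg
      rw [hd, add_comm 1 r, ← hr] at this
      exact_mod_cast this
    have hqm : (q : ZMod p) = -1 := by linear_combination (q : ZMod p) * h1 - h2
    rw [hqm] at h1
    have h2' : ((2 : ℕ) : ZMod p) = 0 := by push_cast; linear_combination h1
    have hp2 : p = 2 := (Nat.prime_dvd_prime_iff_eq hp Nat.prime_two).1
      ((ZMod.natCast_eq_zero_iff _ p).1 h2')
    subst hp2
    obtain ⟨e, he⟩ := hev
    have : Odd (q ^ 2 + 1) := ⟨2 * e ^ 2, by subst he; ring⟩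
    exact (Nat.not_even_iff_odd.2 this) (even_iff_two_dvd.2 hpd)
  · rcases unitary_cases hq hn hmod ⟨d, hcd.symm⟩ (hpr rfl) with h | h
    · exact Or.inl h
    exfalso
    subst h
    have hd : d + r * q = r * (q ^ 2 + 1) := by
      apply Nat.eq_of_mul_eq_mul_left (show 0 < q + 1 by omega)
      rw [hqr] at hcd
      nlinarith [hcd]
    obtain ⟨p, hp, hpd⟩ := Nat.exists_prime_and_dvd (show q + 1 ≠ 1 by omega)
    have hg := hgood p hp hpd
    have : Fact p.Prime := ⟨hp⟩
    have h1 : (q : ZMod p) = -1 := by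
      have : ((q + 1 : ℕ) : ZMod p) = 0 := (ZMod.natCast_eq_zero_iff _ p).2 hpd
      push_cast at this; linear_combination this
    have hr' : (r : ZMod p) = -2 := by
      have : ((q : ℕ) : ZMod p) = ((r + 1 : ℕ) : ZMod p) := by rw [hr]
      push_cast at this; linear_combination h1 - this
    have hd' : (d : ZMod p) + r * q = r * ((q : ZMod p) ^ 2 + 1) := by exact_mod_cast congrArg (fun m : ℕ => (m : ZMod p)) hd
    have h2 : ((q : ZMod p)) ^ 3 * (1 + d) = 1 := by
      exact_mod_cast (ZMod.natCast_eq_natCast_iff _ _ _).2 hg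
    rw [h1, hr'] at hd'
    rw [h1] at h2
    have h4 : ((4 : ℕ) : ZMod p) = 0 := by push_cast; linear_combination h2 + hd'
    have hp4 : p ∣ 2 ^ 2 := (ZMod.natCast_eq_zero_iff _ p).1 h4
    have hp2 : p = 2 := (Nat.prime_dvd_prime_iff_eq hp Nat.prime_two).1 (hp.dvd_of_dvd_pow hp4)
    subst hp2
    obtain ⟨e, he⟩ := hev
    omega

end CfsgLib.StrongCrit.Arith
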