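import Cfsg.Agent.Lib.StrongCrit.Transfer

/-!
In the setting of Aschbacher's criterion a bad involution is killed by every homomorphism of a point
stabiliser to an abelian group killing the members there; so it induces an even permutation on the
members at a point fixed by it as soon as two of those commute.
-/

set_option autoImplicit false

namespace CfsgLib.StrongCrit

open CfsgLib.Involutions MulAction

universe u v w

variable {G : Type u} [Group G] {Ω : Type v} [MulAction G Ω] {Z : Set G}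

namespace Setting

variable (h : Setting Ω Z)
include h

/-- The centraliser of an involution is transitive on its fixed points. -/
theorem exists_commute_smul [Finite G] {u : G} (hu : orderOf u = 2) {x y : Ω} (hx : u • x = x)
    (hy : u • y = y) : ∃ g : G, Commute u g ∧ g • x = y := by
  rcases eq_or_ne x y with rfl | hxy
  · exact ⟨1, Commute.one_right u, one_smul G x⟩
  obtain ⟨a, ha, hua⟩ := h.exists_memAt_commute hu hx
  obtain ⟨b, hb, hub⟩ := h.exists_memAt_commute hu hy
  obtain ⟨g, hg, -, hgx⟩ := h.exists_conj_of_ne ha hb hxy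
  refine ⟨g, ?_, hgx⟩
  have hle : Subgroup.closure ({a, b} : Set G) ≤ Subgroup.centralizer {u} := by
    rw [Subgroup.closure_le]
    rintro z (rfl | rfl) <;> simp only [SetLike.mem_coe, Subgroup.mem_centralizer_singleton_iff]
    · exact hua.eq.symm
    · exact hub.eq.symm
  exact (Subgroup.mem_centralizer_singleton_iff.1 (hle hg)).symm

/-- The number of points is odd. -/
theorem odd_natCard [Finite G] [Finite Ω] (c : Ω) : Odd (Nat.card Ω) := by
  have : Fact (Nat.Prime 2) := ⟨Nat.prime_two⟩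
  obtain ⟨t, ht⟩ := h.exists_memAt c
  have hm := (isPGroup_zpowers (h.invol t ht.1)).card_modEq_card_fixedPoints Ω
  have hfix : Nat.card (fixedPoints (Subgroup.zpowers t) Ω) = 1 := by
    rw [Nat.card_eq_one_iff_exists]
    refine ⟨⟨c, ?_⟩, ?_⟩
    · rintro ⟨g, k, rfl⟩
      exact zpow_mem (mem_stabilizer_iff.2 ht.2 : t ∈ stabilizer G c) k
    · rintro ⟨d, hd⟩
      exact Subtype.ext (h.unique t ht.1 d c (hd ⟨t, Subgroup.mem_zpowers t⟩) ht.2)
  rw [hfix] at hm
  exact Nat.odd_iff.2 hm

/-- A homomorphism of a point stabiliser to an abelian group killing the members there kills the bad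
involutions there, if the members generate. -/
theorem hom_eq_one_of_isBad [Finite G] [Finite Ω] (hgen : Subgroup.closure Z = ⊤) {c : Ω}
    {A : Type w} [CommGroup A] (φ : stabilizer G c →* A)
    (hφ : ∀ (a : G) (ha : a ∈ memAt Z c), φ ⟨a, ha.2⟩ = 1) {u : G} (hu : orderOf u = 2)
    (huc : u • c = c) : φ ⟨u, huc⟩ = 1 := by
  have : IsPretransitive G Ω := ⟨h.trans⟩
  have hidx : Odd (stabilizer G c).index := by
    rw [index_stabilizer_of_transitive G c]
    exact h.odd_natCard c
  -- conjugates of `u` in the stabiliser are conjugate in it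
  have hclass : ∀ (g : G) (hg : g⁻¹ * u * g ∈ stabilizer G c),
      φ ⟨g⁻¹ * u * g, hg⟩ = φ ⟨u, huc⟩ := by
    intro g hg
    have hgc : u • g • c = g • c := by
      have h1 : g • (g⁻¹ * u * g) • c = g • c := congrArg (g • ·) hg
      simpa [smul_smul, mul_assoc] using h1
    obtain ⟨k, hk, hkc⟩ := h.exists_commute_smul hu hgc huc
    have hkg : k * g ∈ stabilizer G c := by rw [mem_stabilizer_iff, mul_smul, hkc]
    have h2 : (⟨g⁻¹ * u * g, hg⟩ : stabilizer G c) =
        (⟨k * g, hkg⟩ : stabilizer G c)⁻¹ * ⟨u, huc⟩ * ⟨k * g, hkg⟩ := by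
      refine Subtype.ext ?_
      show g⁻¹ * u * g = (k * g)⁻¹ * u * (k * g)
      calc g⁻¹ * u * g = g⁻¹ * (k⁻¹ * (k * u)) * g := by group
        _ = (k * g)⁻¹ * u * (k * g) := by rw [← hk.eq]; group
    rw [h2, map_mul, map_mul, mul_comm (φ _⁻¹), mul_assoc, ← map_mul, inv_mul_cancel, map_one,
      mul_one]
  have hi2 : φ ⟨u, huc⟩ * φ ⟨u, huc⟩ = 1 := by
    rw [← map_mul]
    convert map_one φ
    exact Subtype.ext (mul_self_eq_one hu)
  have hVu := transfer_involution φ hidx (mul_self_eq_one hu) hi2 hclass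
  obtain ⟨t, ht⟩ := h.exists_memAt c
  have hVt : MonoidHom.transfer φ t = 1 := by
    refine transfer_involution φ hidx (mul_self_eq_one (h.invol t ht.1)) (mul_one 1) fun g hg => ?_
    refine hφ _ ⟨?_, hg⟩
    have h1 := h.conj_mem g⁻¹ t ht.1
    rwa [inv_inv] at h1
  have hker : Subgroup.closure Z ≤ (MonoidHom.transfer φ).ker := by
    rw [Subgroup.closure_le]
    intro s hs
    obtain ⟨g, hg⟩ := isConj_iff.1 (h.isConj_mem ht.1 hs)
    rw [SetLike.mem_coe, MonoidHom.mem_ker, ← hg, map_mul, map_mul, hVt, mul_one, ← map_mul,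
      mul_inv_cancel, map_one]
  rw [← hVu]
  exact hker (hgen ▸ Subgroup.mem_top u)

/-- A bad involution moves a number of members at a fixed point divisible by four, if two members
there commute. -/
theorem four_dvd_sub [Finite G] [Finite Ω] (hfaith : ∀ g : G, (∀ x : Ω, g • x = x) → g = 1)
    (hgen : Subgroup.closure Z = ⊤) {c : Ω} {s t : G} (hs : s ∈ memAt Z c) (ht : t ∈ memAt Z c)
    (hst : Commute s t) (hne : s ≠ t) {u : G} (hu : orderOf u = 2) (huc : u • c = c) :
    4 ∣ (memAt Z c).ncard - {a ∈ memAt Z c | Commute u a}.ncard := by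
  classical
  let act : MulAction (stabilizer G c) (memAt Z c) :=
    { smul := fun g a => ⟨(g : G) * a.1 * (g : G)⁻¹, by
        have := h.conj_memAt (g := (g : G)) a.2
        rwa [g.2] at this⟩
      one_smul := fun a => Subtype.ext (by show (1 : G) * a.1 * (1 : G)⁻¹ = a.1; group)
      mul_smul := fun g g' a => Subtype.ext (by
        show (g : G) * g' * a.1 * ((g : G) * g')⁻¹ = g * (g' * a.1 * (g' : G)⁻¹) * (g : G)⁻¹
        group) }
  let := Fintype.ofFinite (memAt Z c)
  let φ : stabilizer G c →* ℤˣ := Equiv.Perm.sign.comp (MulAction.toPermHom _ (memAt Z c))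
  have hconj : ∀ (a b : stabilizer G c) (g : G) (hg : g ∈ stabilizer G c),
      g * a * g⁻¹ = b → φ a = φ b := by
    intro a b g hg he
    have h1 : b = ⟨g, hg⟩ * a * (⟨g, hg⟩ : stabilizer G c)⁻¹ := Subtype.ext he.symm
    rw [h1, map_mul, map_mul, mul_right_comm, ← map_mul, mul_inv_cancel, map_one, one_mul]
  have hmem : ∀ (a : G) (ha : a ∈ memAt Z c), φ ⟨a, ha.2⟩ = 1 := by
    have hst' : s * t ∈ memAt Z c := ⟨h.mul_mem_of_commute hfaith hs.1 ht.1 hst hne, by
      rw [mul_smul, ht.2, hs.2]⟩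
    have hall : ∀ (a : G) (ha : a ∈ memAt Z c), φ ⟨a, ha.2⟩ = φ ⟨s, hs.2⟩ := fun a ha => by
      obtain ⟨g, hg, hga⟩ := h.exists_conj_memAt hs ha
      exact (hconj _ _ g hg hga).symm
    have h1 : φ ⟨s, hs.2⟩ = φ ⟨s, hs.2⟩ * φ ⟨s, hs.2⟩ := by
      calc φ ⟨s, hs.2⟩ = φ ⟨s * t, hst'.2⟩ := (hall _ hst').symm
        _ = φ (⟨s, hs.2⟩ * ⟨t, ht.2⟩) := rfl
        _ = _ := by rw [map_mul, hall t ht]
    intro a ha
    rw [hall a ha]
    exact mul_eq_left.1 h1.symm
  have h1 := h.hom_eq_one_of_isBad hgen φ hmem hu huc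
  set σ := MulAction.toPermHom (stabilizer G c) (memAt Z c) ⟨u, huc⟩
  have hσ : σ ^ 2 = 1 := by
    rw [← map_pow]
    convert map_one (MulAction.toPermHom (stabilizer G c) (memAt Z c))
    exact Subtype.ext (by simpa [pow_two] using mul_self_eq_one hu)
  have hfix : Fintype.card (Function.fixedPoints σ) = {a ∈ memAt Z c | Commute u a}.ncard := by
    rw [← Nat.card_eq_fintype_card, ← Nat.card_coe_set_eq]
    refine Nat.card_congr
      { toFun := fun a => ⟨a.1.1, a.1.2, mul_inv_eq_iff_eq_mul.1 (congrArg Subtype.val a.2)⟩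
        invFun := fun a => ⟨⟨a.1, a.2.1⟩, Subtype.ext (mul_inv_eq_iff_eq_mul.2 a.2.2)⟩
        left_inv := fun _ => rfl
        right_inv := fun _ => rfl }
  have hs1 : Equiv.Perm.sign σ = 1 := h1
  rw [Equiv.Perm.sign_of_pow_two_eq_one hσ, hfix, ← Nat.card_eq_fintype_card,
    Nat.card_coe_set_eq] at hs1
  have heven : Even (((memAt Z c).ncard - {a ∈ memAt Z c | Commute u a}.ncard) / 2) := by
    rcases Nat.even_or_odd (((memAt Z c).ncard - {a ∈ memAt Z c | Commute u a}.ncard) / 2) with
      he | ho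
    · exact he
    · rw [ho.neg_one_pow] at hs1
      exact absurd hs1 (by decide)
  -- both numbers are odd
  have hm : Odd (memAt Z c).ncard := h.odd_ncard_memAt c
  have hk : Odd {a ∈ memAt Z c | Commute u a}.ncard := by
    rw [← hfix]
    have hc2 := σ.card_fixedPoints
    have h2 : 2 ∣ σ.cycleType.sum := by
      refine Multiset.dvd_sum fun x hx => ?_
      have : Fact (Nat.Prime 2) := ⟨Nat.prime_two⟩
      rw [Equiv.Perm.cycleType_of_pow_prime_eq_one hσ] at hx
      rw [Multiset.eq_of_mem_replicate hx]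
    have h3 := σ.sum_cycleType_le
    rw [hc2, ← Nat.card_eq_fintype_card, Nat.card_coe_set_eq] 
    rw [← Nat.card_eq_fintype_card, Nat.card_coe_set_eq] at h3
    obtain ⟨j, hj⟩ := h2
    obtain ⟨i, hi⟩ := hm
    exact ⟨i - j, by omega⟩
  obtain ⟨j, hj⟩ := heven
  obtain ⟨i, hi⟩ := hm
  obtain ⟨l, hl⟩ := hk
  exact ⟨j, by omega⟩

end Setting

end CfsgLib.StrongCrit
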