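import Cfsg.Agent.Lib.StrongCrit.FourD
import Cfsg.Agent.Lib.StrongCrit.Swap
import Cfsg.Agent.Lib.StrongCrit.Sign
import Cfsg.Agent.Lib.StrongCrit.OrbitFormula
import Cfsg.Agent.Lib.StrongCrit.QShape

/-!
A four group of bad involutions fixing two points: each of its involutions centralises all members at
either point, and the members at a point commute, given the dichotomy for the numbers of members
centralised.
-/

set_option autoImplicit false

namespace CfsgLib.StrongCrit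

open CfsgLib.Involutions MulAction

universe u v

/-- An involution normalising an elementary abelian 2-group centralises at least its square root. -/
theorem card_le_sq_centralizer {G : Type u} [Group G] [Finite G] {E : Subgroup G}
    (hsq : ∀ a ∈ E, a * a = 1) {w : G} (hw : w * w = 1) (hn : ∀ a ∈ E, w * a * w⁻¹ ∈ E) :
    Nat.card E ≤ Nat.card (E ⊓ Subgroup.centralizer {w} : Subgroup G) ^ 2 := by
  have hinv : ∀ {a : G}, a ∈ E → a⁻¹ = a := fun ha => inv_eq_of_mul_eq_one_right (hsq _ ha)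
  have hcm : ∀ a b : G, a ∈ E → b ∈ E → Commute a b := fun a b ha hb => by
    show a * b = b * a
    rw [← hinv (mul_mem ha hb), mul_inv_rev, hinv ha, hinv hb]
  let ψ : E →* G := MonoidHom.mk' (fun a => (a : G) * (w * a * w⁻¹)) fun a b => by
    show (a : G) * b * (w * (a * b) * w⁻¹) = a * (w * a * w⁻¹) * (b * (w * b * w⁻¹))
    calc (a : G) * b * (w * (a * b) * w⁻¹) = a * (b * (w * a * w⁻¹)) * (w * b * w⁻¹) := by group
      _ = a * ((w * a * w⁻¹) * b) * (w * b * w⁻¹) := by rw [(hcm _ _ b.2 (hn _ a.2)).eq]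
      _ = _ := by group
  have hwi : w⁻¹ = w := inv_eq_of_mul_eq_one_right hw
  have hker : Nat.card ψ.ker ≤ Nat.card (E ⊓ Subgroup.centralizer {w} : Subgroup G) := by
    refine Nat.card_le_card_of_injective (fun a => ⟨(a : E), ?_⟩) fun a b hab => by
      simp only [Subtype.mk.injEq] at hab
      exact Subtype.ext (Subtype.ext hab)
    refine ⟨(a : E).2, Subgroup.mem_centralizer_singleton_iff.2 ?_⟩
    have h1 : ((a : E) : G) * (w * (a : E) * w⁻¹) = 1 := a.2
    have h2 := inv_eq_of_mul_eq_one_right h1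
    rw [hinv (a : E).2] at h2
    exact (mul_inv_eq_iff_eq_mul.1 h2.symm).symm
  have hrange : Nat.card ψ.range ≤ Nat.card (E ⊓ Subgroup.centralizer {w} : Subgroup G) := by
    refine Subgroup.card_le_of_le ?_
    rintro _ ⟨a, rfl⟩
    refine ⟨mul_mem a.2 (hn _ a.2), Subgroup.mem_centralizer_singleton_iff.2 ?_⟩
    show (a : G) * (w * a * w⁻¹) * w = w * ((a : G) * (w * a * w⁻¹))
    calc (a : G) * (w * a * w⁻¹) * w = a * w * a := by group
      _ = w * w * a * w⁻¹ * a := by rw [hw, one_mul, hwi]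
      _ = w * ((w * a * w⁻¹) * a) := by group
      _ = _ := by rw [(hcm _ _ a.2 (hn _ a.2)).eq]
  rw [Subgroup.card_eq_card_quotient_mul_card_subgroup ψ.ker,
    Nat.card_congr (QuotientGroup.quotientKerEquivRange ψ).toEquiv, pow_two]
  exact Nat.mul_le_mul hrange hker

/-- The centralised numbers of a four group: at most one exceeds the common one, and then it is
everything. -/
theorem four_arith {K k₁ k₂ k₃ m : ℕ} (hK : 0 < K) (h₁ : k₁ = K ∨ k₁ = K * (K + 2))
    (h₂ : k₂ = K ∨ k₂ = K * (K + 2)) (h₃ : k₃ = K ∨ k₃ = K * (K + 2))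
    (hW : m * K ^ 2 = k₁ * k₂ * k₃) (d₁ : k₁ = m ∨ k₁ * (k₁ + 2) = m)
    (d₂ : k₂ = m ∨ k₂ * (k₂ + 2) = m) (d₃ : k₃ = m ∨ k₃ * (k₃ + 2) = m) :
    (k₁ = m ∧ k₂ = m ∧ k₃ = m) ∨
      m = K * (K + 2) ∧ (k₁ = m ∧ k₂ = K ∧ k₃ = K ∨ k₂ = m ∧ k₁ = K ∧ k₃ = K ∨
        k₃ = m ∧ k₁ = K ∧ k₂ = K) := by
  have hR : K + 2 ≠ 0 := by omega
  have key : ∀ {x : ℕ}, m * K ^ 2 = K ^ 3 * x → m = K * x := fun hx =>
    Nat.eq_of_mul_eq_mul_right (pow_pos hK 2) (by rw [hx]; ring)
  rcases h₁ with e₁ | e₁ <;> rcases h₂ with e₂ | e₂ <;> rcases h₃ with e₃ | e₃ <;>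
    rw [e₁, e₂, e₃] at hW <;> rw [e₁] at d₁ <;> rw [e₂] at d₂ <;> rw [e₃] at d₃ <;>
    simp only [e₁, e₂, e₃]
  · have := key (x := 1) (by rw [hW]; ring)
    exact Or.inl ⟨by omega, by omega, by omega⟩
  · exact Or.inr ⟨key (by rw [hW]; ring), Or.inr (Or.inr ⟨(key (by rw [hW]; ring)).symm, trivial, trivial⟩)⟩
  · exact Or.inr ⟨key (by rw [hW]; ring), Or.inr (Or.inl ⟨(key (by rw [hW]; ring)).symm, trivial, trivial⟩)⟩
  · exfalso
    have := key (x := (K + 2) * (K + 2)) (by rw [hW]; ring)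
    subst this
    rcases d₁ with d | d <;> nlinarith
  · exact Or.inr ⟨key (by rw [hW]; ring), Or.inl ⟨(key (by rw [hW]; ring)).symm, trivial, trivial⟩⟩
  · exfalso
    have := key (x := (K + 2) * (K + 2)) (by rw [hW]; ring)
    subst this
    rcases d₂ with d | d <;> nlinarith
  · exfalso
    have := key (x := (K + 2) * (K + 2)) (by rw [hW]; ring)
    subst this
    rcases d₃ with d | d <;> nlinarith
  · exfalso
    have := key (x := (K + 2) * (K + 2) * (K + 2)) (by rw [hW]; ring)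
    subst this
    rcases d₁ with d | d <;> nlinarith

/-- No number of points fits one bad involution centralising all of `p ^ 2 - 1` members and another
centralising `p - 1` of them. -/
theorem four_card_arith {p K N a b : ℕ} (hp : p = K + 1) (heven : ∃ i, p = 2 ^ i) (h4 : 4 ≤ p)
    (ha : a = 1 ∨ a = 2 ∨ a = 3) (hb : b = 1 ∨ b = 2 ∨ b = 3)
    (h₁ : N = (p ^ 2) ^ a * (1 + ((p ^ 2) ^ a + 1) * (K * (K + 2))))
    (h₂ : N * (K + 2) = p ^ b * ((K + 2) + (p ^ b + 1) * K)) : False := by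
  have hp0 : 0 < p := by omega
  have h6 : p ^ 6 ∣ N := by
    rw [h₁]
    rcases ha with rfl | rfl | rfl
    · refine ⟨1, ?_⟩
      subst hp; ring
    · refine ⟨(K + 1) ^ 4 * 0 + (1 + ((p ^ 2) ^ 2 + 1) * (K * (K + 2))) / p ^ 2, ?_⟩
      have h2 : p ^ 2 ∣ 1 + ((p ^ 2) ^ 2 + 1) * (K * (K + 2)) :=
        ⟨1 + p ^ 2 * (K * (K + 2)), by subst hp; ring⟩
      rw [Nat.mul_zero, Nat.zero_add]
      conv_lhs => rw [← Nat.mul_div_cancel' h2]
      ring
    · exact ⟨_, by rw [← pow_mul]⟩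
  have h : p ^ 6 ∣ p ^ b * ((K + 2) + (p ^ b + 1) * K) := h₂ ▸ h6.mul_right _
  obtain ⟨i, hi⟩ := heven
  have h2p : ¬ p ∣ 2 := fun hd => by have := Nat.le_of_dvd two_pos hd; omega
  rcases hb with rfl | rfl | rfl
  · have e : p ^ 1 * ((K + 2) + (p ^ 1 + 1) * K) = p ^ 2 * (p + 1) := by subst hp; ring
    rw [e, show p ^ 6 = p ^ 2 * p ^ 4 by ring] at h
    have h' : p ∣ p + 1 := (dvd_pow_self p (by norm_num)).trans
      (Nat.dvd_of_mul_dvd_mul_left (by positivity) h)
    have := Nat.le_of_dvd one_pos ((Nat.dvd_add_right (dvd_refl p)).1 h')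
    omega
  · have e : p ^ 2 * ((K + 2) + (p ^ 2 + 1) * K) = p ^ 3 * (p * K + 2) := by subst hp; ring
    rw [e, show p ^ 6 = p ^ 3 * p ^ 3 by ring] at h
    have h' : p ∣ p * K + 2 := (dvd_pow_self p (by norm_num)).trans
      (Nat.dvd_of_mul_dvd_mul_left (by positivity) h)
    exact h2p ((Nat.dvd_add_right (Dvd.intro K rfl)).1 h')
  · have e : p ^ 3 * ((K + 2) + (p ^ 3 + 1) * K) = p ^ 4 * (p ^ 2 * K + 2) := by subst hp; ring
    rw [e, show p ^ 6 = p ^ 4 * p ^ 2 by ring] at h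
    have h' : p ∣ p ^ 2 * K + 2 := (dvd_pow_self p (by norm_num)).trans
      (Nat.dvd_of_mul_dvd_mul_left (by positivity) h)
    exact h2p ((Nat.dvd_add_right ((dvd_pow_self p (by norm_num)).mul_right K)).1 h')

variable {G : Type u} [Group G] {Ω : Type u} [MulAction G Ω] {Z : Set G}

/-- Every bad involution centralises all members at a fixed point of it or the square root. -/
def CenDichotomy (Ω : Type u) [MulAction G Ω] (Z : Set G) : Prop :=
  ∀ (g : G) (c : Ω), IsBad Ω g → g • c = c →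
    (cenSet Z g c).ncard = (memAt Z c).ncard ∨
      (cenSet Z g c).ncard * ((cenSet Z g c).ncard + 2) = (memAt Z c).ncard

namespace Crit

variable (hC : Crit Ω Z) [Finite G] [Finite Ω] (hsc : SecComm Ω Z) (hdich : CenDichotomy Ω Z)
include hC hsc hdich

/-- The numbers of members centralised by a four group fixing two points. -/
theorem four_ncard {u w : G} {x y : Ω} (hu : IsBad Ω u) (hw : IsBad Ω w) (hne : u ≠ w)
    (hc : Commute u w) (hxy : x ≠ y) (hux : u • x = x) (huy : u • y = y) (hwx : w • x = x)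
    (hwy : w • y = y) :
    IsBad Ω (u * w) ∧
    (((cenSet Z u x).ncard = (memAt Z x).ncard ∧ (cenSet Z w x).ncard = (memAt Z x).ncard ∧
        (cenSet Z (u * w) x).ncard = (memAt Z x).ncard) ∨
      ∃ K i : ℕ, K + 1 = 2 ^ i ∧ (memAt Z x).ncard = K * (K + 2) ∧
        ((cenSet Z u x).ncard = (memAt Z x).ncard ∧ (cenSet Z w x).ncard = K ∨
          (cenSet Z w x).ncard = (memAt Z x).ncard ∧ (cenSet Z u x).ncard = K ∨
          (cenSet Z (u * w) x).ncard = (memAt Z x).ncard ∧ (cenSet Z u x).ncard = K)) := by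
  have : Fact (Nat.Prime 2) := ⟨Nat.prime_two⟩
  have h := hC.base
  have hu2 := mul_self_eq_one hu.1
  have hw2 := mul_self_eq_one hw.1
  have hvx : (u * w) • x = x := by rw [mul_smul, hwx, hux]
  have hvy : (u * w) • y = y := by rw [mul_smul, hwy, huy]
  have hv : IsBad Ω (u * w) := by
    refine ⟨orderOf_eq_two_iff_mul.2 ⟨fun e => hne ?_, ?_⟩, x, y, hxy, hvx, hvy⟩
    · rw [mul_eq_one_iff_eq_inv, inv_eq_self_of_involution hw.1] at e; exact e
    · rw [mul_assoc, ← mul_assoc w, ← hc.eq, mul_assoc u, hw2, mul_one, hu2]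
  refine ⟨hv, ?_⟩
  have hT : IsPGroup 2 (Subgroup.zpowers u ⊔ Subgroup.zpowers w : Subgroup G) :=
    (isPGroup_zpowers hu.1).to_sup_of_normal_right' (isPGroup_zpowers hw.1)
      (Subgroup.zpowers_le.2 (Subgroup.mem_normalizer_iff.2 fun g => by
        constructor
        · intro hg
          obtain ⟨n, rfl⟩ := Subgroup.mem_zpowers_iff.1 hg
          rw [(hc.zpow_right n).eq, mul_inv_cancel_right]
          exact hg
        · intro hg
          obtain ⟨n, hn⟩ := Subgroup.mem_zpowers_iff.1 hg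
          have : g = u⁻¹ * w ^ n * u := by rw [hn]; group
          rw [this, mul_assoc, ← (hc.zpow_right n).eq, inv_mul_cancel_left]
          exact zpow_mem (Subgroup.mem_zpowers w) n))
  have hmemb : ∀ z : Ω, u • z = z → w • z = z →
      ∃ t ∈ memAt Z z, Commute u t ∧ Commute w t := by
    intro z huz hwz
    obtain ⟨t, ht, htz, htc⟩ := h.central z _ hT (sup_le
      (Subgroup.zpowers_le.2 (mem_stabilizer_iff.2 huz))
      (Subgroup.zpowers_le.2 (mem_stabilizer_iff.2 hwz)))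
    exact ⟨t, ⟨ht, htz⟩, htc u (Subgroup.mem_sup_left (Subgroup.mem_zpowers u)),
      htc w (Subgroup.mem_sup_right (Subgroup.mem_zpowers w))⟩
  obtain ⟨b, hb, hub, hwb⟩ := hmemb y huy hwy
  obtain ⟨a, ha, hua, hwa⟩ := hmemb x hux hwx
  set V := {t ∈ memAt Z x | Commute u t ∧ Commute w t} with hVdef
  set K := V.ncard with hKdef
  have hK : 0 < K := (Set.ncard_pos (Set.toFinite _)).2 ⟨a, ha, hua, hwa⟩
  have hW : (memAt Z x).ncard * K ^ 2 =
      (cenSet Z u x).ncard * (cenSet Z w x).ncard * (cenSet Z (u * w) x).ncard :=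
    h.four_memAt_formula hxy hu2 hw2 hc hux huy hwx hwy hb hub hwb
  -- subgroups
  have hgrp : ∀ {p r : G}, IsBad Ω p → p • x = x → Commute p r → r * r = 1 → r • x = x →
      r • y = y → p • y = y → Commute p b → Commute r b →
      {t ∈ memAt Z x | Commute p t ∧ Commute r t} = V →
      ∃ i, K + 1 = 2 ^ i ∧ ((cenSet Z p x).ncard = K ∨ (cenSet Z p x).ncard = K * (K + 2)) := by
    intro p r hp hpx hpr hr hrx hry hpy hpb hrb hV
    set E := cenGroup Z p x
    have hsq : ∀ g ∈ E, g * g = 1 := fun g hg => h.cenGroup_sq hC.faith hsc hp hpx hg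
    have hE2 : IsPGroup 2 E := fun g => ⟨1, Subtype.ext (by
      rw [pow_one, Subgroup.coe_pow, pow_two, Subgroup.coe_one]; exact hsq g g.2)⟩
    have hn : ∀ g ∈ E, r * g * r⁻¹ ∈ E := by
      intro g hg
      rcases (h.mem_cenGroup hC.faith hsc hp hpx).1 hg with rfl | hg
      · simp
      · have h1 := h.conj_cenSet (g := r) hg
        rw [hrx, ← hpr.eq, mul_inv_cancel_right] at h1
        exact (h.mem_cenGroup hC.faith hsc hp hpx).2 (Or.inr h1)
    have hle := card_le_sq_centralizer hsq hr hn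
    have hcoe : ((E ⊓ Subgroup.centralizer {r} : Subgroup G) : Set G) = insert 1 V := by
      rw [← hV]
      ext g
      rw [Subgroup.coe_inf, Set.mem_inter_iff, SetLike.mem_coe, SetLike.mem_coe,
        h.mem_cenGroup hC.faith hsc hp hpx, Subgroup.mem_centralizer_singleton_iff,
        Set.mem_insert_iff]
      constructor
      · rintro ⟨rfl | hg, hgr⟩
        · exact Or.inl rfl
        · exact Or.inr ⟨hg.1, hg.2, hgr.symm⟩
      · rintro (rfl | ⟨hg, hgp, hgr⟩)
        · exact ⟨Or.inl rfl, by rw [one_mul, mul_one]⟩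
        · exact ⟨Or.inr ⟨hg, hgp⟩, hgr.eq.symm⟩
    have hcV : Nat.card (E ⊓ Subgroup.centralizer {r} : Subgroup G) = K + 1 := by
      rw [← SetLike.coe_sort_coe, Nat.card_coe_set_eq, hcoe, Set.ncard_insert_of_notMem
        (fun h2 => ne_one_of_involution (h.invol 1 h2.1.1) rfl)]
    rw [h.card_cenGroup hC.faith hsc hp hpx, hcV] at hle
    obtain ⟨i, hi⟩ := (hE2.to_inf_left (K := Subgroup.centralizer {r})).exists_card_eq
    rw [hcV] at hi
    obtain ⟨j, hj⟩ := hE2.exists_card_eq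
    rw [h.card_cenGroup hC.faith hsc hp hpx] at hj
    refine ⟨i, hi, ?_⟩
    have hinj := (h.bijOn_conj hxy hb).injOn
    obtain ⟨s, hs, hsp, hsr⟩ : ∃ s ∈ swapMem Z x y, Commute p s ∧ Commute r s := by
      obtain ⟨s, hs, hscm⟩ := h.exists_swap_centralized hT hxy (fun g hg => by
        rw [Subgroup.zpowers_eq_closure, Subgroup.zpowers_eq_closure, ← Subgroup.closure_union] at hg
        exact pair_of_le_closure (by
          rintro z (rfl | rfl) <;> [exact Or.inl ⟨hux, huy⟩; exact Or.inl ⟨hwx, hwy⟩]) hg)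
      obtain ⟨t, ht⟩ : ({t ∈ swapMem Z x y | Commute p t ∧ Commute r t}).Nonempty := by
        obtain ⟨t, ht⟩ : ({t ∈ memAt Z x | Commute p t ∧ Commute r t}).Nonempty := by
          rw [hV]; exact ⟨a, ha, hua, hwa⟩
        obtain ⟨t₁, ht₁, e₁⟩ := (h.ncard_swap_eq_memAt hxy hb hpb hpx hpy).symm.subset ⟨ht.1, ht.2.1⟩
        obtain ⟨t₂, ht₂, e₂⟩ := (h.ncard_swap_eq_memAt hxy hb hrb hrx hry).symm.subset ⟨ht.1, ht.2.2⟩
        exact ⟨t₁, ht₁.1, ht₁.2, hinj ht₂.1 ht₁.1 (e₂.trans e₁.symm) ▸ ht₂.2⟩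
      exact ⟨t, ht.1, ht.2.1, ht.2.2⟩
    have hd := h.ncard_swap_dvd hxy (u := p) (w := r) hr hpr hrx hry hs hsp hsr
    have e1 : {t ∈ swapMem Z x y | Commute p t}.ncard = (cenSet Z p x).ncard := by
      rw [show cenSet Z p x = {t ∈ memAt Z x | Commute p t} from rfl,
        ← h.ncard_swap_eq_memAt hxy hb hpb hpx hpy, (hinj.mono fun t ht => ht.1).ncard_image]
    have e2 : {t ∈ swapMem Z x y | Commute p t ∧ Commute r t}.ncard = K := by
      have he : ∀ X : Set G, {t ∈ X | Commute p t ∧ Commute r t} =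
          {t ∈ X | Commute p t} ∩ {t ∈ X | Commute r t} := fun X => by
        ext t; simp only [Set.mem_inter_iff, Set.mem_ofPred_eq]; tauto
      rw [hKdef, ← hV, he, he, ← h.ncard_swap_eq_memAt hxy hb hpb hpx hpy,
        ← h.ncard_swap_eq_memAt hxy hb hrb hrx hry,
        ← hinj.image_inter (fun t ht => ht.1) (fun t ht => ht.1),
        (hinj.mono fun t ht => ht.1.1).ncard_image]
    rw [e1, e2] at hd
    have hsub : K ≤ (cenSet Z p x).ncard := by
      rw [hKdef, ← hV]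
      exact Set.ncard_le_ncard (fun t ht => ⟨ht.1, ht.2.1⟩) (Set.toFinite _)
    have hi0 : i ≠ 0 := by rintro rfl; omega
    have h1 : 2 ^ i ≤ 2 ^ j := by omega
    have h2 : 2 ^ j ≤ 2 ^ (2 * i) := by rw [mul_comm, pow_mul, ← hi, ← hj]; exact hle
    have hd' : 2 ^ i - 1 ∣ 2 ^ j - 1 := by rwa [← hi, ← hj]
    rcases eq_or_double_of_dvd hi0 ((Nat.pow_le_pow_iff_right (by norm_num)).1 h1)
      ((Nat.pow_le_pow_iff_right (by norm_num)).1 h2) hd' with rfl | rfl
    · exact Or.inl (by omega)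
    · refine Or.inr ?_
      rw [mul_comm 2 i, pow_mul, ← hi] at hj
      nlinarith [hj]
  obtain ⟨i, hi, k₁⟩ := hgrp hu hux hc hw2 hwx hwy huy hub hwb rfl
  obtain ⟨-, -, k₂⟩ := hgrp hw hwx hc.symm hu2 hux huy hwy hwb hub (by
    ext t; simp only [hVdef, Set.mem_ofPred_eq]; tauto)
  obtain ⟨-, -, k₃⟩ := hgrp hv hvx ((Commute.refl u).mul_left hc.symm) hu2 hux huy hvy
    (hub.mul_left hwb) hub (by
    ext t
    simp only [hVdef, Set.mem_ofPred_eq]
    refine and_congr_right fun _ => ⟨fun ⟨h1, h2⟩ => ⟨h2, ?_⟩, fun ⟨h1, h2⟩ => ⟨h1.mul_left h2, h1⟩⟩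
    have h3 : Commute (u * (u * w)) t := h2.mul_left h1
    rwa [← mul_assoc, hu2, one_mul] at h3)
  rcases four_arith hK k₁ k₂ k₃ hW (hdich u x hu hux) (hdich w x hw hwx) (hdich _ x hv hvx) with
    hall | ⟨hm, hcase⟩
  · exact Or.inl hall
  · refine Or.inr ⟨K, i, hi, hm, ?_⟩
    rcases hcase with ⟨e1, e2, -⟩ | ⟨e1, e2, -⟩ | ⟨e1, e2, -⟩
    · exact Or.inl ⟨e1, e2⟩
    · exact Or.inr (Or.inl ⟨e1, e2⟩)
    · exact Or.inr (Or.inr ⟨e1, e2⟩)

omit hdich in
/-- No bad involution centralising all `p ^ 2 - 1` members lives beside one centralising `p - 1`. -/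
theorem false_of_unequal (hbig : ∀ c : Ω, 1 < (memAt Z c).ncard) {p r : G} {x : Ω} {K i : ℕ}
    (hp : IsBad Ω p) (hpx : p • x = x) (hr : IsBad Ω r) (hrx : r • x = x) (hi : K + 1 = 2 ^ i)
    (hm : (memAt Z x).ncard = K * (K + 2)) (hkp : (cenSet Z p x).ncard = (memAt Z x).ncard)
    (hkr : (cenSet Z r x).ncard = K) : False := by
  classical
  have h := hC.base
  have hall : cenSet Z p x = memAt Z x :=
    Set.eq_of_subset_of_ncard_le (fun t ht => ht.1) hkp.ge (Set.toFinite _)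
  have hcomm : ∀ a ∈ memAt Z x, ∀ b ∈ memAt Z x, Commute a b := fun a ha b hb =>
    hsc x p hp hpx a ha b hb (hall.symm.subset ha).2 (hall.symm.subset hb).2
  have hi0 : i ≠ 0 := by
    rintro rfl
    have h1 := hbig x
    rw [hm, show K = 0 by omega, zero_mul] at h1
    omega
  by_cases hi1 : i = 1
  · subst hi1
    obtain rfl : K = 1 := by omega
    obtain ⟨s, hs, t, ht, hst⟩ := (Set.one_lt_ncard (Set.toFinite _)).1 (hbig x)
    have h4 := h.four_dvd_sub hC.faith hC.gen hs ht (hcomm s hs t ht) hst hr.1 hrx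
    rw [show {a ∈ memAt Z x | Commute r a} = cenSet Z r x from rfl, hkr, hm] at h4
    exact absurd h4 (by norm_num)
  have h4K : 4 ≤ K + 1 := by
    rw [hi]
    exact le_trans (by norm_num) (Nat.pow_le_pow_right two_pos (show 2 ≤ i by omega))
  have hshape : ∀ {g : G}, IsBad Ω g → g • x = x → ∃ a, (a = 1 ∨ a = 2 ∨ a = 3) ∧
      (fixedBy Ω g).ncard - 1 = ((cenSet Z g x).ncard + 1) ^ a := by
    intro g hg hgx
    obtain ⟨Q, -, hcard, hQ, -, -⟩ := hC.exists_qShape hsc hbig hg hgx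
    rw [show ({z : Ω | g • z = z} \ {x}) = fixedBy Ω g \ {x} from rfl,
      Set.ncard_sdiff_singleton_of_mem (show x ∈ fixedBy Ω g from hgx)] at hcard
    rcases hQ with ⟨hQ, -⟩ | ⟨-, hQ | hQ⟩
    · exact ⟨1, Or.inl rfl, by rw [hcard, hQ, pow_one]; rfl⟩
    · exact ⟨2, Or.inr (Or.inl rfl), by rw [hcard, hQ]; rfl⟩
    · exact ⟨3, Or.inr (Or.inr rfl), by rw [hcard, hQ]; rfl⟩
  have htwo : ∀ {g : G}, 1 < (cenSet Z g x).ncard →
      ∃ a ∈ cenSet Z g x, ∃ b ∈ cenSet Z g x, a ≠ b := fun hg =>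
    (Set.one_lt_ncard (Set.toFinite _)).1 hg
  obtain ⟨a, ha, hfa⟩ := hshape hp hpx
  obtain ⟨b, hb, hfb⟩ := hshape hr hrx
  obtain ⟨s₁, hs₁, -, e₁⟩ := h.card_sub_one_formula hC.faith hsc hp hpx (htwo (hkp ▸ hbig x))
  obtain ⟨s₂, hs₂, -, e₂⟩ := h.card_sub_one_formula hC.faith hsc hr hrx (htwo (by omega))
  rw [hkp, Nat.mul_eq_left (by have := hbig x; omega)] at hs₁
  rw [hkr, hm] at hs₂
  obtain rfl : s₂ = K + 2 := Nat.eq_of_mul_eq_mul_left (show 0 < K by omega) hs₂
  subst hs₁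
  have hpos : ∀ g : G, g • x = x → 1 ≤ (fixedBy Ω g).ncard := fun g hg =>
    (Set.ncard_pos (Set.toFinite _)).2 ⟨x, hg⟩
  have hp1 := hpos p hpx
  have hr1 := hpos r hrx
  rw [hkr] at hfb e₂
  rw [hkp, hm, show K * (K + 2) + 1 = (K + 1) ^ 2 by ring] at hfa
  rw [hkp, hm, mul_one, show (fixedBy Ω p).ncard = ((K + 1) ^ 2) ^ a + 1 by omega,
    Nat.add_sub_cancel] at e₁
  rw [show (fixedBy Ω r).ncard = (K + 1) ^ b + 1 by omega, Nat.add_sub_cancel] at e₂
  exact four_card_arith rfl ⟨i, hi⟩ h4K ha hb e₁ e₂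

/-- Case F reduces: the members at the points commute and the four group centralises them. -/
theorem four_centralize (hbig : ∀ c : Ω, 1 < (memAt Z c).ncard) {u w : G} {x y : Ω}
    (hu : IsBad Ω u) (hw : IsBad Ω w) (hne : u ≠ w) (hc : Commute u w) (hxy : x ≠ y)
    (hux : u • x = x) (huy : u • y = y) (hwx : w • x = x) (hwy : w • y = y) :
    AllCommute Ω Z ∧ ∀ a ∈ memAt Z x, Commute u a ∧ Commute w a := by
  have hfull : ∀ {g : G}, (cenSet Z g x).ncard = (memAt Z x).ncard →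
      ∀ a ∈ memAt Z x, Commute g a := fun hg a ha =>
    ((Set.eq_of_subset_of_ncard_le (fun t ht => ht.1) hg.ge (Set.toFinite _)).symm.subset ha).2
  obtain ⟨hv, hall | ⟨K, i, hi, hm, hbad⟩⟩ :=
    hC.four_ncard hsc hdich hu hw hne hc hxy hux huy hwx hwy
  · exact ⟨hC.base.allCommute_of_at fun a ha b hb =>
      hsc x u hu hux a ha b hb (hfull hall.1 a ha) (hfull hall.1 b hb),
      fun a ha => ⟨hfull hall.1 a ha, hfull hall.2.1 a ha⟩⟩
  · exfalso
    rcases hbad with ⟨e1, e2⟩ | ⟨e1, e2⟩ | ⟨e1, e2⟩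
    · exact hC.false_of_unequal hsc hbig hu hux hw hwx hi hm e1 e2
    · exact hC.false_of_unequal hsc hbig hw hwx hu hux hi hm e1 e2
    · exact hC.false_of_unequal hsc hbig hv (by rw [mul_smul, hwx, hux]) hu hux hi hm e1 e2

end Crit

end CfsgLib.StrongCrit
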