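import Cfsg.Agent.Lib.StrongCrit.QShape
import Cfsg.Agent.Lib.RankOneRecog.Line
import Cfsg.Agent.Lib.RankOneRecog.Paired

/-!
A section with `q ^ 3 + 1` points: the product of two members of it lies in a subgroup `SL₂(q)` of
its image, so every odd prime dividing its order divides `q ^ 2 - 1`.
-/

set_option autoImplicit false

namespace CfsgLib.StrongCrit

open CfsgLib.Involutions CfsgLib.BenderTrans CfsgLib.BenderQ MulAction

universe u

variable {G : Type u} [Group G] {Ω : Type u} [MulAction G Ω] {Z : Set G}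

/-- In a rank one set-up of unitary size the product of an involution at each of the two points lies
in a subgroup isomorphic to `SL₂(q)`. -/
theorem orderOf_mul_dvd_sl_two [Finite G] [FaithfulSMul G Ω] {a : Ω} {t : G} {Q : Subgroup G}
    (hS : Cfsg.IsRankOneSetup G Ω a t Q)
    (h2 : ∃ x y : G, x ≠ 1 ∧ y ≠ 1 ∧ x ≠ y ∧ x * x = 1 ∧ y * y = 1 ∧ x * y = y * x)
    (hna : ∃ x y : Q, x * y ≠ y * x)
    (hcard : Nat.card Q = Nat.card (RankOneTwo.Zsub G a) ^ 3)
    {x z : G} (hx : x ∈ RankOneTwo.Zsub G a) (hz : t * z * t ∈ RankOneTwo.Zsub G a) :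
    orderOf (x * z) ∣ (Nat.card (RankOneTwo.Zsub G a) + 1) *
      (Nat.card (RankOneTwo.Zsub G a) * (Nat.card (RankOneTwo.Zsub G a) - 1)) := by
  obtain ⟨L, iF, iT, iC, ι, hL, -, hinj, hJ, hZ, -⟩ :=
    RankOneRecog.exists_line hS h2 (RankOneRecog.exists_tst_of_cube hS h2 hna hcard)
  classical
  obtain ⟨c, rfl⟩ := (hZ x).1 hx
  obtain ⟨d, hd⟩ := (hZ _).1 hz
  set J := (RankOneRecog.Unitary.Jm : RankOneRecog.Unitary.SL2 L)
  have htz : z = ι (J * RankOneRecog.Unitary.zc d * J) := by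
    rw [map_mul, map_mul, hJ, hd]
    have ht2 : t * t = 1 := hS.mul_self
    rw [show t * (t * z * t) * t = (t * t) * z * (t * t) by group, ht2, one_mul, mul_one]
  rw [htz, ← map_mul, orderOf_injective ι hinj, ← hL, ← CfsgLib.StrongEmbedding.PSLTwo.card_sl_two]
  exact orderOf_dvd_natCard _

namespace Crit

variable (hC : Crit Ω Z)
include hC

variable [Finite G] [Finite Ω] (hsc : SecComm Ω Z) (hbig : ∀ c : Ω, 1 < (memAt Z c).ncard)
include hsc hbig

/-- In a section with `q ^ 3 + 1` points, an odd prime dividing the order of the product of members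
at two of its points divides `q ^ 2 - 1`. -/
theorem prime_dvd_of_cube {w : G} (hw : IsBad Ω w) {c y : Ω} (hc : w • c = c) (hy : w • y = y)
    (hyc : y ≠ c)
    (hcube : ({x : Ω | w • x = x} \ {c}).ncard = ((bMem Z c w).ncard + 1) ^ 3)
    {a b : G} (ha : a ∈ bMem Z c w) (hb : b ∈ bMem Z y w) {p : ℕ} (hp : p.Prime) (hp2 : p ≠ 2)
    (hpd : p ∣ orderOf (a * b)) :
    p ∣ ((bMem Z c w).ncard + 1 + 1) * (bMem Z c w).ncard := by
  classical
  have hS := hC.sectSetting_bad hsc hbig hw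
  obtain ⟨e, he2, heq, -⟩ := hC.exists_q hsc hbig hw hc
  obtain ⟨Qb, hQb⟩ := hS.exists_kernel ⟨c, hc⟩
  set f := hS.toPerm.rangeRestrict with hf
  obtain ⟨t, ht⟩ := exists_rankOneSetup hS.oneFix hQb
  have : FaithfulSMul hS.toPerm.range ({x : Ω | w • x = x} : Set Ω) := ⟨fun {g₁ g₂} e =>
    inv_mul_eq_one.1 (hS.faith _ fun x => by rw [mul_smul, ← e, inv_smul_smul])⟩
  obtain ⟨s₁, s₂, hs₁, hs₂, hne, hcm⟩ := hS.hasFour
  have h2 : ∃ x y : hS.toPerm.range, x ≠ 1 ∧ y ≠ 1 ∧ x ≠ y ∧ x * x = 1 ∧ y * y = 1 ∧ x * y = y * x :=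
    ⟨s₁, s₂, ne_one_of_involution hs₁, ne_one_of_involution hs₂, hne, mul_self_eq_one hs₁,
      mul_self_eq_one hs₂, hcm.eq⟩
  have haL := bMem_subset_memCent ha
  have hbL := bMem_subset_memCent hb
  -- `Zsub` is the image of the members at `c`
  have hZ : ∀ m : G, ∀ hm : m ∈ bMem Z c w,
      f ⟨m, bMem_subset_memCent hm⟩ ∈ Cfsg.involutionsIn
        (stabilizer hS.toPerm.range (⟨c, hc⟩ : ({x : Ω | w • x = x} : Set Ω)) : Set _) := by
    intro m hm
    have h1 := hS.orderOf_image (g := ⟨m, bMem_subset_memCent hm⟩) (hC.base.invol m hm.1.1)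
    exact ⟨Subtype.ext hm.1.2, ne_one_of_involution h1, mul_self_eq_one h1⟩
  have hq : Nat.card (RankOneTwo.Zsub hS.toPerm.range
      (⟨c, hc⟩ : ({x : Ω | w • x = x} : Set Ω))) = (bMem Z c w).ncard + 1 := by
    let F : Option (bMem Z c w) → RankOneTwo.Zsub hS.toPerm.range
        (⟨c, hc⟩ : ({x : Ω | w • x = x} : Set Ω)) := fun o => o.elim 1 fun m =>
      ⟨f ⟨m.1, bMem_subset_memCent m.2⟩, Subgroup.subset_closure (hZ m.1 m.2)⟩
    have hF : Function.Bijective F := by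
      refine ⟨?_, fun x => ?_⟩
      · rintro (_ | ⟨m, hm⟩) (_ | ⟨m', hm'⟩) e
        · rfl
        · exact absurd (congrArg Subtype.val e).symm (hZ m' hm').2.1
        · exact absurd (congrArg Subtype.val e) (hZ m hm).2.1
        · have h1 := hS.same_of_map_eq (congrArg Subtype.val e)
          obtain rfl := hC.eq_of_same hsc hbig hw hc hm hm' h1
          rfl
      · rcases (RankOneTwo.mem_Zsub_iff ht h2).1 x.2 with hx | ⟨hxc, hx1, hxx⟩
        · exact ⟨none, Subtype.ext hx.symm⟩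
        · obtain ⟨m, hm2, hmx⟩ := hS.exists_lift (orderOf_eq_two_iff_mul.2 ⟨hx1, hxx⟩)
          have hmc : (m : G) • c = c := by
            rw [← hmx] at hxc
            exact congrArg Subtype.val hxc
          have hmZ : (m : G) ∈ Z := by
            have hS' := hS
            rw [memCent_eq, ← fixSet_zpowers] at hS'
            exact hC.base.mem_of_mem_sect (isPGroup_zpowers hw.1) hS' (memCent_eq Z w ▸ m.2) hm2
          exact ⟨some ⟨m, ⟨hmZ, hmc⟩, commute_memCent m.2⟩, Subtype.ext hmx⟩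
    rw [← Nat.card_eq_of_bijective F hF, Finite.card_option, Nat.card_coe_set_eq]
  have hQcard : Nat.card Qb = ((bMem Z c w).ncard + 1) ^ 3 := by
    rw [← hcube]
    have hcne : ∀ g : Qb, ((g : hS.toPerm.range) • (⟨y, hy⟩ : ({x : Ω | w • x = x} : Set Ω))) ≠
        ⟨c, hc⟩ := fun g e => hyc (congrArg Subtype.val
          (MulAction.injective (g : hS.toPerm.range)
            (e.trans (mem_stabilizer_iff.1 (hQb.le g.2)).symm)))
    rw [← Nat.card_coe_set_eq]
    refine Nat.card_eq_of_bijective (fun g => ⟨_, ((g : hS.toPerm.range) • (⟨y, hy⟩ : ({x : Ω | w • x = x} : Set Ω))).2,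
      fun e => hcne g (Subtype.ext e)⟩) ⟨fun g g' e => ?_, ?_⟩
    · refine Subtype.ext (inv_mul_eq_one.1 (hQb.free _ (mul_mem (inv_mem g.2) g'.2) ⟨y, hy⟩
        (fun e => hyc (congrArg Subtype.val e)) (Subtype.ext ?_)))
      rw [mul_smul]
      have h1 := congrArg Subtype.val e
      rw [show (g' : hS.toPerm.range) • (⟨y, hy⟩ : ({x : Ω | w • x = x} : Set Ω)) =
        (g : hS.toPerm.range) • ⟨y, hy⟩ from Subtype.ext h1.symm, inv_smul_smul]
    · rintro ⟨z, hz, hzc⟩
      obtain ⟨g, hg, hgz⟩ := hQb.trans ⟨y, hy⟩ ⟨z, hz⟩ (fun e => hyc (congrArg Subtype.val e))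
        (fun e => hzc (congrArg Subtype.val e))
      exact ⟨⟨g, hg⟩, Subtype.ext (by exact (congrArg Subtype.val hgz :))⟩
  have hbig' : 2 < (bMem Z c w).ncard + 1 := by
    have : 2 ^ 2 ≤ 2 ^ e := Nat.pow_le_pow_right (by norm_num) he2
    omega
  have hna : ∃ x z : Qb, x * z ≠ z * x := by
    by_contra hab
    push Not at hab
    have h1 := RankOneRecog.card_eq_of_comm ht h2
      fun x hx z hz => congrArg Subtype.val (hab ⟨x, hx⟩ ⟨z, hz⟩)
    rw [hQcard, hq] at h1
    have h3 : (bMem Z c w).ncard + 1 < ((bMem Z c w).ncard + 1) ^ 3 :=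
      lt_self_pow₀ (by omega) (by norm_num)
    omega
  -- move the second member to the opposite point of the set-up
  set y' : ({x : Ω | w • x = x} : Set Ω) := ⟨y, hy⟩
  have hy0 : t • (⟨c, hc⟩ : ({x : Ω | w • x = x} : Set Ω)) ≠ ⟨c, hc⟩ := RankOneInvol.ta_ne ht
  obtain ⟨x, hxQ, hxy⟩ := hQb.trans y' _ (fun e => hyc (congrArg Subtype.val e)) hy0
  have hfa := hZ a ha
  have hxa : x * f ⟨a, haL⟩ * x⁻¹ = f ⟨a, haL⟩ := by
    have h1 := commute_invAt_kernel hS.oneFix hQb
      (⟨orderOf_eq_two_iff_mul.2 ⟨hfa.2.1, hfa.2.2⟩, hfa.1⟩) hxQ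
    rw [← h1.eq, mul_inv_cancel_right]
  set z := x * f ⟨b, hbL⟩ * x⁻¹ with hzdef
  have hz2 : orderOf z = 2 :=
    (orderOf_conj_eq _ _).trans (hS.orderOf_image (g := ⟨b, hbL⟩) (hC.base.invol b hb.1.1))
  have htt : t * t = 1 := ht.mul_self
  have hti : t⁻¹ = t := inv_eq_of_mul_eq_one_right htt
  have hzy : z • t • (⟨c, hc⟩ : ({x : Ω | w • x = x} : Set Ω)) = t • ⟨c, hc⟩ := by
    rw [hzdef, ← hxy, mul_smul, mul_smul, inv_smul_smul]
    exact congrArg (fun v => x • v) (Subtype.ext hb.1.2)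
  have htz : t * z * t ∈ RankOneTwo.Zsub hS.toPerm.range
      (⟨c, hc⟩ : ({x : Ω | w • x = x} : Set Ω)) := by
    refine Subgroup.subset_closure ⟨?_, ne_one_of_involution (x := t * z * t) ?_, mul_self_eq_one ?_⟩
    · rw [SetLike.mem_coe, mem_stabilizer_iff, mul_smul, mul_smul, hzy, ← mul_smul, htt, one_smul]
    all_goals
      have h1 := (orderOf_conj_eq t z).trans hz2
      rw [hti] at h1
      exact h1
  have hdvd := orderOf_mul_dvd_sl_two ht h2 hna (by rw [hQcard, hq]) (Subgroup.subset_closure hfa) htz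
  rw [hq] at hdvd
  have hord : orderOf (f ⟨a, haL⟩ * z) = orderOf (f ⟨a * b, mul_mem haL hbL⟩) := by
    rw [show f ⟨a, haL⟩ * z = x * f ⟨a * b, mul_mem haL hbL⟩ * x⁻¹ by
      calc f ⟨a, haL⟩ * z = x * f ⟨a, haL⟩ * x⁻¹ * (x * f ⟨b, hbL⟩ * x⁻¹) := by rw [hxa]
        _ = x * (f ⟨a, haL⟩ * f ⟨b, hbL⟩) * x⁻¹ := by group
        _ = _ := by rw [← map_mul]; rfl]
    exact orderOf_conj_eq _ _
  rw [hord] at hdvd
  -- the kernel is central, so the product keeps its order in the image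
  have hinj : orderOf (f ⟨a * b, mul_mem haL hbL⟩) = orderOf (a * b) := by
    refine Nat.dvd_antisymm ((orderOf_map_dvd f _).trans (by rw [← Subgroup.orderOf_coe])) ?_
    set n := orderOf (f ⟨a * b, mul_mem haL hbL⟩)
    have h1 : f ((⟨a * b, mul_mem haL hbL⟩ : memCent Z w) ^ n) = 1 := by
      rw [map_pow, pow_orderOf_eq_one]
    have hk := hS.toPerm_eq_one.1 (congrArg Subtype.val h1)
    have hkL : (a * b) ^ n ∈ memCent Z w := pow_mem (mul_mem haL hbL) n
    have hka : Commute ((a * b) ^ n) a := hC.commute_kernel hsc hbig hw hkL hk haL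
    have ha2 := hC.base.invol a ha.1.1
    have hb2 := hC.base.invol b hb.1.1
    have hinv : a * (a * b) ^ n * a⁻¹ = ((a * b) ^ n)⁻¹ := by
      rw [← conj_pow, ← inv_pow, mul_inv_rev, inv_eq_self_of_involution ha2,
        inv_eq_self_of_involution hb2, ← mul_assoc a, mul_self_eq_one ha2, one_mul]
    rw [← hka.eq, mul_inv_cancel_right] at hinv
    have h3 := hS.odd_ker _ hkL hk
    have h4 : orderOf ((a * b) ^ n) ∣ 2 := orderOf_dvd_of_pow_eq_one (by
      rw [pow_two]; exact eq_inv_iff_mul_eq_one.1 hinv)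
    rcases (Nat.dvd_prime Nat.prime_two).1 h4 with h5 | h5
    · exact orderOf_dvd_of_pow_eq_one (orderOf_eq_one_iff.1 h5)
    · rw [h5] at h3; exact absurd h3 (by decide)
  rw [hinj] at hdvd
  rcases hp.dvd_mul.1 (hpd.trans hdvd) with h | h
  · exact h.mul_right _
  rcases hp.dvd_mul.1 h with h | h
  · rw [heq] at h
    exact absurd ((Nat.prime_dvd_prime_iff_eq hp Nat.prime_two).1 (hp.dvd_of_dvd_pow h)) hp2
  · rw [Nat.add_sub_cancel] at h
    exact h.mul_left _

end Crit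

end CfsgLib.StrongCrit
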