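import Cfsg.Agent.Lib.StrongCrit.Swap
import Cfsg.Agent.Lib.StrongCrit.LineOrder
import Cfsg.Agent.Lib.StrongCrit.OrbitFormula
import Cfsg.Agent.Lib.StrongCrit.FourReduce

/-!
In a section with `q ^ 3 + 1` points every prime dividing the number of swappers centralised at a
moved point divides `q ^ 2 - 1`; and if members at a point do not all commute, no two bad involutions
commute and share two fixed points, given the dichotomy.
-/

set_option autoImplicit false

namespace CfsgLib.StrongCrit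

open CfsgLib.Involutions CfsgLib.BenderTrans MulAction

universe u

variable {G : Type u} [Group G] {Ω : Type u} [MulAction G Ω] {Z : Set G}

namespace Crit

variable (hC : Crit Ω Z)
include hC

variable [Finite G] [Finite Ω] (hsc : SecComm Ω Z) (hbig : ∀ c : Ω, 1 < (memAt Z c).ncard)
include hsc hbig

/-- If members at a point do not all commute, two point stabilisers contain no two commuting bad
involutions. -/
theorem noFour_of_not_allCommute (hdich : CenDichotomy Ω Z) (hab : ¬ AllCommute Ω Z) :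
    NoFour (G := G) Ω := by
  intro a b ha hb hcab x y hxy hax hay hbx hby
  by_contra hne
  exact hab (hC.four_centralize hsc hdich hbig ha hb hne hcab hxy hax hay hbx hby).1

/-- With `q ^ 3 + 1` fixed points, every prime dividing the number of swappers of a moved point
centralised by `w` divides `(q + 1) (q - 1)`. -/
theorem prime_dvd_swapCen_of_cube {w : G} (hw : IsBad Ω w) {c : Ω} (hc : w • c = c)
    (hcube : (fixedBy Ω w).ncard - 1 = ((bMem Z c w).ncard + 1) ^ 3) {x : Ω} (hx : w • x ≠ x)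
    {p : ℕ} (hp : p.Prime) (hpd : p ∣ (swapCen Z w x).ncard) :
    p ∣ ((bMem Z c w).ncard + 1 + 1) * (bMem Z c w).ncard := by
  have : Fact p.Prime := ⟨hp⟩
  have h := hC.base
  have hw2 := hw.1
  have hxy : x ≠ w • x := Ne.symm hx
  have hww : w • w • x = x := by rw [smul_smul, mul_self_eq_one hw2, one_smul]
  have hwN : w ∈ pairGroup G x (w • x) := mem_pairGroup.2 (Or.inr ⟨rfl, hww⟩)
  have hm := h.ncard_cenSet_mul_swapCen hC.faith hsc hw hc hx
  have hp2 : p ≠ 2 := by
    rintro rfl
    exact Nat.not_even_iff_odd.2 (h.odd_ncard_memAt c)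
      (even_iff_two_dvd.2 (hm ▸ hpd.trans (dvd_mul_left _ _)))
  obtain ⟨t, ht, hcomm⟩ := h.exists_swap_centralized (isPGroup_zpowers hw2) hxy (by
    intro g hg
    rw [Subgroup.zpowers_eq_closure] at hg
    refine pair_of_le_closure ?_ hg
    rintro z rfl
    exact Or.inr ⟨rfl, hww⟩)
  have hwt : Commute w t := hcomm w (Subgroup.mem_zpowers w)
  have ht2 := mul_self_eq_one (h.invol t ht.1)
  set N := pairGroup G x (w • x) with hN
  set K : Subgroup G := BenderTrans.coreIn N ⊓ Subgroup.centralizer {w} with hKdef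
  have hKodd : Odd (Nat.card K) :=
    (BenderTrans.odd_coreIn N).of_dvd_nat (Subgroup.card_dvd_of_le inf_le_left)
  have htK : ∀ z ∈ K, t * z * t ∈ K := by
    intro z hz
    refine ⟨?_, Subgroup.mem_centralizer_singleton_iff.2
      ((hwt.mul_right (Subgroup.mem_centralizer_singleton_iff.1 hz.2 :
        Commute z w).symm).mul_right hwt).eq.symm⟩
    have h1 := Coprime.mem_normalizer_conj
      (BenderTrans.le_normalizer_coreIn N (h.swapMem_le_pairGroup ht)) hz.1
    rwa [inv_eq_of_mul_eq_one_right ht2] at h1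
  have hcount := h.ncard_swapMem_centralized hxy ht {w} (fun g hg => (Set.mem_singleton_iff.1 hg) ▸ hwt)
  simp only [Set.mem_singleton_iff, forall_eq] at hcount
  have hcls : (cls K t).ncard = (swapCen Z w x).ncard := by
    have h1 := ncard_cls_mul K t
    conv_rhs at h1 => rw [LivWag.card_eq_inverted_mul hKodd ht2 htK]
    rw [← hcount] at h1
    exact Nat.eq_of_mul_eq_mul_right Nat.card_pos h1
  have htn : t ∈ Subgroup.normalizer (K : Set G) :=
    Coprime.mem_normalizer_of_forall_conj fun z hz => by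
      rw [inv_eq_of_mul_eq_one_right ht2]; exact htK z hz
  obtain ⟨W, hW, -, hWn⟩ := exists_invariant_sylowOf_ge (q := p) hKodd (h.invol t ht.1) htn
    (U := ⊥) bot_le IsPGroup.of_bot (by
      refine Coprime.mem_normalizer_of_forall_conj fun z hz => ?_
      rw [Subgroup.mem_bot.1 hz, mul_one, mul_inv_cancel]; exact one_mem _)
  have hbigW : 1 < (cls W t).ncard := by
    rw [ncard_cls_sylowOf hKodd (h.invol t ht.1) htn hW hWn, hcls]
    refine Nat.one_lt_pow (fun e => ?_) hp.one_lt
    have hne : (swapCen Z w x).ncard ≠ 0 :=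
      ((Set.ncard_pos (Set.toFinite _)).2 (⟨t, ht, hwt⟩ : (swapCen Z w x).Nonempty)).ne'
    have := (hp.dvd_iff_one_le_factorization hne).1 hpd
    omega
  obtain ⟨t', ⟨g, hg, rfl⟩, hne⟩ := Set.exists_ne_of_one_lt_ncard hbigW t
  have hgK := hW.1 hg
  have hgw : Commute g w := Subgroup.mem_centralizer_singleton_iff.1 hgK.2
  have ht' : g * t * g⁻¹ ∈ swapMem Z x (w • x) :=
    h.conj_swapMem (BenderTrans.coreIn_le N hgK.1) ht
  have hwt' : Commute w (g * t * g⁻¹) :=
    ((hgw.symm.mul_right hwt).mul_right hgw.symm.inv_right)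
  set j := g * t * g⁻¹ * t with hj
  have hjW : j ∈ W := by
    rw [hj, show g * t * g⁻¹ * t = g * (t * g⁻¹ * t) by group]
    have h1 := Coprime.mem_normalizer_conj hWn (W.inv_mem hg)
    rw [inv_eq_of_mul_eq_one_right ht2] at h1
    exact W.mul_mem hg h1
  have hj1 : j ≠ 1 := fun e => hne (by
    rw [hj, mul_eq_one_iff_eq_inv, inv_eq_of_mul_eq_one_right ht2] at e; exact e)
  obtain ⟨i, hi⟩ := hW.2.1 (⟨j, hjW⟩ : W)
  have hji : j ^ p ^ i = 1 := congrArg Subtype.val hi
  obtain ⟨i', -, hord⟩ := (Nat.dvd_prime_pow hp).1 (orderOf_dvd_of_pow_eq_one hji)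
  have hpj : p ∣ orderOf j := by
    rw [hord]
    refine dvd_pow_self p fun e => hj1 ?_
    rw [e, pow_zero] at hord
    exact orderOf_eq_one_iff.1 hord
  obtain ⟨d, hd⟩ := h.exists_fix t ht.1
  obtain ⟨d', hd'⟩ := h.exists_fix _ ht'.1
  have hwd : w • d = d := h.fix_of_commute ⟨ht.1, hd⟩ hwt
  have hwd' : w • d' = d' := h.fix_of_commute ⟨ht'.1, hd'⟩ hwt'
  have hdd : d ≠ d' := by
    rintro rfl
    have hc2 := hsc d w hw hwd (g * t * g⁻¹) ⟨ht'.1, hd'⟩ t ⟨ht.1, hd⟩ hwt' hwt
    have h2 : j ^ 2 = 1 := by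
      rw [hj, hc2.mul_pow, pow_two, pow_two, ht2, mul_one,
        mul_self_eq_one ((orderOf_conj_eq g t).trans (h.invol t ht.1))]
    have h3 : p ∣ 2 := hpj.trans (orderOf_dvd_of_pow_eq_one h2)
    exact hp2 ((Nat.prime_dvd_prime_iff_eq hp Nat.prime_two).1 h3)
  have hk : (bMem Z d' w).ncard = (bMem Z c w).ncard := h.ncard_cenMem_eq hw2 hwd' hc
  rw [← hk]
  refine hC.prime_dvd_of_cube hsc hbig hw hwd' hwd hdd ?_ (a := g * t * g⁻¹) (b := t)
    ⟨⟨ht'.1, hd'⟩, hwt'⟩ ⟨⟨ht.1, hd⟩, hwt⟩ hp hp2 hpj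
  rw [hk, ← hcube]
  exact Set.ncard_sdiff_singleton_of_mem (show d' ∈ fixedBy Ω w from hwd')

end Crit

end CfsgLib.StrongCrit
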