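import Cfsg.Agent.Lib.StrongCrit.LemmaN

/-!
In the setting of Aschbacher's criterion: the orbits of a Sylow 2-subgroup of the stabiliser of `c`
on the other points, and the 2-part of their number.
-/

set_option autoImplicit false

namespace CfsgLib.StrongCrit

open CfsgLib.Involutions MulAction

universe u v

variable {G : Type u} [Group G] {Ω : Type v} [MulAction G Ω] {Z : Set G}

/-- The centraliser of `w` in the stabiliser of `c` is transitive on the other fixed points. -/
def TransFix (Ω : Type v) [MulAction G Ω] (w : G) (c : Ω) : Prop :=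
  ∀ x y : Ω, x ≠ c → y ≠ c → w • x = x → w • y = y → ∃ g : G, g • c = c ∧ Commute g w ∧ g • x = y

/-- An invariant set is divisible by what divides all its orbits. -/
theorem dvd_ncard_of_orbits {H : Type*} [Group H] {X : Type*} [MulAction H X] [Finite X] (T : Set X)
    (hT : ∀ (g : H), ∀ x ∈ T, g • x ∈ T) {d : ℕ} (hd : ∀ x ∈ T, d ∣ (orbit H x).ncard) :
    d ∣ T.ncard := by
  induction hn : T.ncard using Nat.strong_induction_on generalizing T with
  | _ n ih =>
    subst hn
    rcases T.eq_empty_or_nonempty with rfl | ⟨x, hx⟩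
    · simp
    have hsub : orbit H x ⊆ T := by
      rintro _ ⟨g, rfl⟩
      exact hT g x hx
    have hinv : ∀ (g : H), ∀ y ∈ T \ orbit H x, g • y ∈ T \ orbit H x := by
      intro g y hy
      refine ⟨hT g y hy.1, ?_⟩
      rintro ⟨k, hk⟩
      exact hy.2 ⟨g⁻¹ * k, by
        show (g⁻¹ * k) • x = y
        rw [mul_smul, show k • x = g • y from hk, inv_smul_smul]⟩
    rw [← Set.ncard_sdiff_add_ncard_of_subset hsub]
    refine dvd_add (ih _ ?_ _ hinv (fun y hy => hd y hy.1) rfl) (hd x hx)
    have h1 := Set.ncard_sdiff_add_ncard_of_subset hsub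
    have h2 : 0 < (orbit H x).ncard := (Set.ncard_pos (Set.toFinite _)).2 ⟨x, mem_orbit_self x⟩
    omega

/-- A 2-group fixing two points contains a bad involution central in it, unless it is trivial. -/
theorem exists_bad_central {T : Subgroup G} [Finite T] (hT : IsPGroup 2 T) (hne : T ≠ ⊥) {x c : Ω}
    (hxc : x ≠ c) (hTx : T ≤ stabilizer G x) (hTc : T ≤ stabilizer G c) :
    ∃ w ∈ T, IsBad Ω w ∧ w • c = c ∧ w • x = x ∧ ∀ g ∈ T, Commute g w := by
  have : Fact (Nat.Prime 2) := ⟨Nat.prime_two⟩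
  have : Nontrivial T := (Subgroup.nontrivial_iff_ne_bot T).2 hne
  have := hT.center_nontrivial
  obtain ⟨z, hz⟩ : ∃ z : Subgroup.center T, orderOf z = 2 := by
    refine exists_prime_orderOf_dvd_card' 2 ?_
    obtain ⟨k, hk⟩ := (hT.to_subgroup (Subgroup.center T)).exists_card_eq
    have h1 : 1 < Nat.card (Subgroup.center T) := Finite.one_lt_card
    rw [hk] at h1 ⊢
    exact dvd_pow_self 2 fun e => by rw [e, pow_zero] at h1; omega
  refine ⟨((z : T) : G), (z : T).2, ⟨by rw [Subgroup.orderOf_coe, Subgroup.orderOf_coe, hz],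
    x, c, hxc, hTx (z : T).2, hTc (z : T).2⟩, hTc (z : T).2, hTx (z : T).2, fun g hg => ?_⟩
  exact congrArg Subtype.val (Subgroup.mem_center_iff.1 z.2 ⟨g, hg⟩)

namespace Setting

variable (h : Setting Ω Z)
include h

/-- Conjugate involutions fixing `c` are conjugate in its stabiliser. -/
theorem exists_conj_stab [Finite G] [Finite Ω] {u g : G} {c : Ω} (hu : orderOf u = 2)
    (huc : u • c = c) (hgc : (g * u * g⁻¹) • c = c) :
    ∃ m : G, m • c = c ∧ m * u * m⁻¹ = g * u * g⁻¹ := by
  have h1 : u • g⁻¹ • c = g⁻¹ • c := by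
    calc u • g⁻¹ • c = g⁻¹ • (g * u * g⁻¹) • c := by simp only [smul_smul]; congr 1; group
      _ = g⁻¹ • c := by rw [hgc]
  rcases eq_or_ne c (g⁻¹ • c) with he | hne
  · exact ⟨g, by rw [eq_comm, inv_smul_eq_iff] at he; exact he.symm, rfl⟩
  obtain ⟨s, hs, hsu⟩ := h.exists_swap_centralized (isPGroup_zpowers hu) hne fun z hz => by
    obtain ⟨n, rfl⟩ := Subgroup.mem_zpowers_iff.1 hz
    exact Or.inl ⟨mem_stabilizer_iff.1 (zpow_mem (mem_stabilizer_iff.2 huc) n),
      mem_stabilizer_iff.1 (zpow_mem (mem_stabilizer_iff.2 h1) n)⟩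
  refine ⟨g * s, by rw [mul_smul, hs.2, smul_inv_smul], ?_⟩
  rw [show g * s * u * (g * s)⁻¹ = g * (s * u * s⁻¹) * g⁻¹ by group,
    (hsu u (Subgroup.mem_zpowers u)).symm.eq, mul_inv_cancel_right]

/-- `(f - 1) (k + 1)` times the order of the centraliser of `w` fixing `c` and `x` divides the order
of the stabiliser of `c`. -/
theorem card_dvd_two [Finite G] [Finite Ω] (hfaith : ∀ g : G, (∀ x : Ω, g • x = x) → g = 1)
    (hsec : SecComm Ω Z) {w : G} {c x : Ω} (hw : IsBad Ω w) (hwc : w • c = c)
    (hwx : w • x = x) (hxc : x ≠ c)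
    (htwo : ∃ a ∈ cenSet Z w c, ∃ b ∈ cenSet Z w c, a ≠ b) (htr : TransFix Ω w c) :
    ((MulAction.fixedBy Ω w).ncard - 1) * ((cenSet Z w c).ncard + 1) *
      Nat.card (stabilizer G c ⊓ stabilizer G x ⊓ Subgroup.centralizer {w} : Subgroup G) ∣
      Nat.card (stabilizer G c) := by
  classical
  refine dvd_trans (Eq.dvd ?_) (h.card_dvd_stabilizer hfaith hsec hw hwc htwo)
  set C : Subgroup G := stabilizer G c ⊓ Subgroup.centralizer {w} with hC
  have horb : orbit C x = MulAction.fixedBy Ω w \ {c} := by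
    ext y
    simp only [Set.mem_sdiff, MulAction.mem_fixedBy, Set.mem_singleton_iff]
    constructor
    · rintro ⟨⟨g, hgc, hgw⟩, rfl⟩
      show w • g • x = g • x ∧ ¬ g • x = c
      refine ⟨?_, fun e => hxc ?_⟩
      · rw [smul_smul, ← Subgroup.mem_centralizer_singleton_iff.1 hgw, mul_smul, hwx]
      · exact MulAction.injective g (e.trans (mem_stabilizer_iff.1 hgc).symm)
    · rintro ⟨hy, hyc⟩
      obtain ⟨g, hgc, hgw, hgx⟩ := htr x y hxc hyc hwx hy
      exact ⟨⟨g, hgc, Subgroup.mem_centralizer_singleton_iff.2 hgw.eq⟩, hgx⟩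
  have hn : (orbit C x).ncard = (MulAction.fixedBy Ω w).ncard - 1 := by
    rw [horb]
    exact Set.ncard_sdiff_singleton_of_mem hwc
  have hstab : Nat.card (stabilizer C x) =
      Nat.card (stabilizer G c ⊓ stabilizer G x ⊓ Subgroup.centralizer {w} : Subgroup G) :=
    Nat.card_congr
      { toFun := fun g => ⟨(g.1 : G), ⟨g.1.2.1, g.2⟩, g.1.2.2⟩
        invFun := fun g => ⟨⟨g.1, g.2.1.1, g.2.2⟩, g.2.1.2⟩
        left_inv := fun g => rfl
        right_inv := fun g => rfl }
  rw [← hn, ← hstab, ← Subgroup.card_mul_index (stabilizer C x), index_stabilizer]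
  ring

/-- A power of two dividing `(f - 1) (k + 1)` for every bad involution at `c`, and the order of a
Sylow 2-subgroup of the stabiliser, divides each of its orbits on the other points. -/
theorem orbit_dvd [Finite G] [Finite Ω] (hfaith : ∀ g : G, (∀ x : Ω, g • x = x) → g = 1)
    (hsec : SecComm Ω Z) {c : Ω} {S : Subgroup G} {m e : ℕ} (hSc : S ≤ stabilizer G c)
    (hS : Nat.card S = 2 ^ m) (hmax : ¬ 2 ^ (m + 1) ∣ Nat.card (stabilizer G c)) (hem : e ≤ m)
    (hall : ∀ w : G, IsBad Ω w → w • c = c →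
      (∃ a ∈ cenSet Z w c, ∃ b ∈ cenSet Z w c, a ≠ b) ∧ TransFix Ω w c ∧
        2 ^ e ∣ ((MulAction.fixedBy Ω w).ncard - 1) * ((cenSet Z w c).ncard + 1))
    {x : Ω} (hxc : x ≠ c) : 2 ^ e ∣ (orbit S x).ncard := by
  classical
  have hcard : Nat.card (stabilizer S x) * (orbit S x).ncard = 2 ^ m := by
    rw [← hS, ← Subgroup.card_mul_index (stabilizer S x), index_stabilizer]
  obtain ⟨i, hi, hstab⟩ := (Nat.dvd_prime_pow Nat.prime_two).1 (Dvd.intro _ hcard)
  obtain ⟨j, hj, horb⟩ := (Nat.dvd_prime_pow Nat.prime_two).1 (Dvd.intro_left _ hcard)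
  rw [hstab, horb, ← pow_add] at hcard
  have hij : i + j = m := Nat.pow_right_injective le_rfl hcard
  rw [horb]
  refine pow_dvd_pow 2 ?_
  rcases Nat.eq_zero_or_pos i with hi0 | hipos
  · omega
  set T : Subgroup G := S ⊓ stabilizer G x with hT
  have hTcard : Nat.card T = 2 ^ i := by
    rw [← hstab]
    exact Nat.card_congr
      { toFun := fun g => ⟨⟨g.1, g.2.1⟩, g.2.2⟩
        invFun := fun g => ⟨(g.1 : G), g.1.2, g.2⟩
        left_inv := fun g => rfl
        right_inv := fun g => rfl }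
  have hne : T ≠ ⊥ := fun e0 => by
    rw [e0, Subgroup.card_bot] at hTcard
    have := Nat.one_lt_two_pow (n := i) (by omega)
    omega
  obtain ⟨w, -, hw, hwc, hwx, hwT⟩ := exists_bad_central (IsPGroup.of_card hTcard) hne hxc
    inf_le_right (inf_le_left.trans hSc)
  obtain ⟨htwo, htr, hdiv⟩ := hall w hw hwc
  have h1 : 2 ^ i ∣
      Nat.card (stabilizer G c ⊓ stabilizer G x ⊓ Subgroup.centralizer {w} : Subgroup G) := by
    rw [← hTcard]
    exact Subgroup.card_dvd_of_le fun g hg => ⟨⟨hSc hg.1, hg.2⟩,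
      Subgroup.mem_centralizer_singleton_iff.2 (hwT g hg).eq⟩
  have h2 := (mul_dvd_mul hdiv h1).trans (h.card_dvd_two hfaith hsec hw hwc hwx hxc htwo htr)
  rw [← pow_add] at h2
  by_contra hlt
  exact hmax ((pow_dvd_pow 2 (by omega)).trans h2)

/-- The number of the other points is divisible by the same power of two. -/
theorem dvd_card_sub_one [Finite G] [Finite Ω] (hfaith : ∀ g : G, (∀ x : Ω, g • x = x) → g = 1)
    (hsec : SecComm Ω Z) {c : Ω} {S : Subgroup G} {m e : ℕ} (hSc : S ≤ stabilizer G c)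
    (hS : Nat.card S = 2 ^ m) (hmax : ¬ 2 ^ (m + 1) ∣ Nat.card (stabilizer G c)) (hem : e ≤ m)
    (hall : ∀ w : G, IsBad Ω w → w • c = c →
      (∃ a ∈ cenSet Z w c, ∃ b ∈ cenSet Z w c, a ≠ b) ∧ TransFix Ω w c ∧
        2 ^ e ∣ ((MulAction.fixedBy Ω w).ncard - 1) * ((cenSet Z w c).ncard + 1)) :
    2 ^ e ∣ Nat.card Ω - 1 := by
  have hT : ({c}ᶜ : Set Ω).ncard = Nat.card Ω - 1 := by
    rw [Set.ncard_compl, Set.ncard_singleton]
  rw [← hT]
  refine dvd_ncard_of_orbits (H := S) ({c}ᶜ : Set Ω) ?_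
    fun x hx => h.orbit_dvd hfaith hsec hSc hS hmax hem hall hx
  intro g x hx hgx
  exact hx (MulAction.injective g ((hgx : g • x = c).trans (hSc g.2).symm))

end Setting

/-- If all bad involutions at `c` are conjugate in the stabiliser and its centraliser is transitive
on the other fixed points, the 2-parts of `n - 1` and of the two point stabiliser multiply to that
of the stabiliser. -/
theorem factorization_card_sub_one [Finite G] [Finite Ω] {u : G} {c x : Ω} (hu : IsBad Ω u)
    (huc : u • c = c) (hux : u • x = x) (hxc : x ≠ c) (htr : TransFix Ω u c)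
    (hone : ∀ w : G, IsBad Ω w → w • c = c → ∃ m : G, m • c = c ∧ m * u * m⁻¹ = w) :
    (Nat.card Ω - 1).factorization 2 +
      (Nat.card (stabilizer G c ⊓ stabilizer G x : Subgroup G)).factorization 2 =
      (Nat.card (stabilizer G c)).factorization 2 := by
  classical
  have : Fact (Nat.Prime 2) := ⟨Nat.prime_two⟩
  set M := stabilizer G c
  set O := orbit M x with hO
  obtain ⟨S⟩ : Nonempty (Sylow 2 M) := inferInstance
  set m := (Nat.card M).factorization 2 with hm
  have hcardS : Nat.card (S : Subgroup M) = 2 ^ m := S.card_eq_multiplicity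
  -- the points outside the orbit of `x` have trivial stabilisers in `S`
  have hrest : 2 ^ m ∣ (({c} : Set Ω) ∪ O)ᶜ.ncard := by
    refine dvd_ncard_of_orbits (H := (S : Subgroup M)) (({c} : Set Ω) ∪ O)ᶜ ?_ fun y hy => ?_
    · intro g y hy hgy
      apply hy
      rcases hgy with hgy | hgy
      · exact Or.inl (MulAction.injective g ((hgy : g • y = c).trans (g.1.2 : (g.1 : G) • c = c).symm))
      · right
        have h2 : orbit M ((g : M) • y) = orbit M y := orbit_smul _ _
        have h3 : orbit M ((g : M) • y) = O := orbit_eq_iff.2 hgy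
        rw [hO, ← orbit_eq_iff, ← h2, h3]
    · have hstab : stabilizer (S : Subgroup M) y = ⊥ := by
        by_contra hne
        set T : Subgroup G := (stabilizer (S : Subgroup M) y).map
          (M.subtype.comp (S : Subgroup M).subtype) with hT
        have hinj : Function.Injective (M.subtype.comp (S : Subgroup M).subtype) :=
          M.subtype_injective.comp (S : Subgroup M).subtype_injective
        obtain ⟨w, -, hw, hwc, hwy, -⟩ := exists_bad_central (T := T)
          ((S.isPGroup'.to_subgroup _).map _)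
          (fun e0 => hne (Subgroup.map_eq_bot_iff_of_injective _ hinj |>.1 e0))
          (x := y) (c := c) (fun e0 => hy (Or.inl e0))
          (by rintro _ ⟨g, hg, rfl⟩; exact hg) (by rintro _ ⟨g, -, rfl⟩; exact g.1.2)
        obtain ⟨k, hkc, hk⟩ := hone w hw hwc
        have h1 : u • k⁻¹ • y = k⁻¹ • y := by
          calc u • k⁻¹ • y = k⁻¹ • (k * u * k⁻¹) • y := by simp only [smul_smul]; congr 1; group
            _ = k⁻¹ • y := by rw [hk, hwy]
        have h2 : k⁻¹ • y ≠ c := fun e0 => hy (Or.inl (by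
          rw [inv_smul_eq_iff, hkc] at e0; exact e0))
        obtain ⟨g, hgc, -, hgx⟩ := htr x _ hxc h2 hux h1
        refine hy (Or.inr ⟨⟨k * g, ?_⟩, ?_⟩)
        · show (k * g) • c = c
          rw [mul_smul, hgc, hkc]
        · show (k * g) • x = y
          rw [mul_smul, hgx, smul_inv_smul]
      rw [← index_stabilizer, hstab, Subgroup.index_bot, hcardS]
  have hcO : c ∉ O := by
    rintro ⟨g, hg⟩
    exact hxc (MulAction.injective (g : G) ((hg : (g : G) • x = c).trans g.2.symm))
  have hsplit : Nat.card Ω - 1 = O.ncard + (({c} : Set Ω) ∪ O)ᶜ.ncard := by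
    have h1 := Set.ncard_add_ncard_compl (({c} : Set Ω) ∪ O)
    rw [Set.ncard_union_eq (by simpa using hcO), Set.ncard_singleton] at h1
    omega
  -- the orbit of `x`
  set D : Subgroup G := stabilizer G c ⊓ stabilizer G x with hD
  have hDcard : Nat.card (stabilizer M x) = Nat.card D :=
    Nat.card_congr
      { toFun := fun g => ⟨(g.1 : G), g.1.2, g.2⟩
        invFun := fun g => ⟨⟨g.1, g.2.1⟩, g.2.2⟩
        left_inv := fun g => rfl
        right_inv := fun g => rfl }
  have hmul : O.ncard * Nat.card D = Nat.card M := by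
    rw [← hDcard, ← Subgroup.card_mul_index (stabilizer M x), index_stabilizer, mul_comm]
  have hD2 : 1 ≤ (Nat.card D).factorization 2 := by
    refine (Nat.prime_two.dvd_iff_one_le_factorization Nat.card_pos.ne').1 ?_
    rw [← hu.1]
    exact Subgroup.orderOf_dvd_natCard _ ⟨huc, hux⟩
  have hOne : O.ncard ≠ 0 := fun e0 => by
    rw [e0, zero_mul] at hmul
    exact Nat.card_pos.ne' hmul.symm
  have hfac : O.ncard.factorization 2 + (Nat.card D).factorization 2 = m := by
    rw [hm, ← hmul, Nat.factorization_mul hOne Nat.card_pos.ne', Finsupp.add_apply]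
  suffices heq : (Nat.card Ω - 1).factorization 2 = O.ncard.factorization 2 by rw [heq, hfac]
  obtain ⟨j, hj⟩ := hrest
  set a := O.ncard.factorization 2 with ha
  have hne : Nat.card Ω - 1 ≠ 0 := by omega
  apply le_antisymm
  · by_contra hlt
    have h1 : 2 ^ (a + 1) ∣ Nat.card Ω - 1 :=
      (Nat.prime_two.pow_dvd_iff_le_factorization hne).2 (by omega)
    have h2 : 2 ^ (a + 1) ∣ 2 ^ m * j := (pow_dvd_pow 2 (by omega)).trans (dvd_mul_right _ _)
    rw [hsplit, hj] at h1
    have h3 := (Nat.prime_two.pow_dvd_iff_le_factorization hOne).1 ((Nat.dvd_add_left h2).1 h1)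
    omega
  · refine (Nat.prime_two.pow_dvd_iff_le_factorization hne).1 ?_
    rw [hsplit, hj]
    exact dvd_add (Nat.ordProj_dvd _ _) ((pow_dvd_pow 2 (by omega)).trans (dvd_mul_right _ _))

end CfsgLib.StrongCrit
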