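import Cfsg.Agent.Lib.StrongCrit.SectionCore
import Cfsg.Agent.Lib.StrongCrit.Transfer

/-!
In the setting of Aschbacher's criterion: the section of a 2-subgroup `X` with two fixed points,
generated by the members centralising `X`, acting on the fixed points of `X`.
-/

set_option autoImplicit false

namespace CfsgLib.StrongCrit

open CfsgLib.Involutions MulAction

universe u

variable {G : Type u} [Group G] {Ω : Type u} [MulAction G Ω] {Z : Set G}

/-- The group generated by the members centralising `X`. -/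
def sectGroup (Z : Set G) (X : Subgroup G) : Subgroup G :=
  Subgroup.closure {t | t ∈ Z ∧ ∀ g ∈ X, Commute g t}

/-- The points fixed by `X`. -/
def fixSet (Ω : Type u) [MulAction G Ω] (X : Subgroup G) : Set Ω := {x | ∀ g ∈ X, g • x = x}

/-- The elements of the section of `X` fixing two of its points have odd order. -/
def OddSect (Ω : Type u) [MulAction G Ω] (Z : Set G) (X : Subgroup G) : Prop :=
  ∀ g ∈ sectGroup Z X, ∀ x ∈ fixSet Ω X, ∀ y ∈ fixSet Ω X, x ≠ y → g • x = x → g • y = y →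
    Odd (orderOf g)

theorem mem_sectGroup {X : Subgroup G} {t : G} (ht : t ∈ Z) (hXt : ∀ g ∈ X, Commute g t) :
    t ∈ sectGroup Z X :=
  Subgroup.subset_closure ⟨ht, hXt⟩

theorem commute_of_mem_sectGroup {X : Subgroup G} {g p : G} (hg : g ∈ sectGroup Z X) (hp : p ∈ X) :
    Commute p g := by
  have hle : sectGroup Z X ≤ Subgroup.centralizer (X : Set G) := by
    rw [sectGroup, Subgroup.closure_le]
    exact fun t ht => Subgroup.mem_centralizer_iff.2 fun p hp => (ht.2 p hp).eq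
  exact Subgroup.mem_centralizer_iff.1 (hle hg) p hp

theorem smul_mem_fixSet {X : Subgroup G} {g : G} (hg : ∀ p ∈ X, Commute p g) {x : Ω}
    (hx : x ∈ fixSet Ω X) : g • x ∈ fixSet Ω X := fun p hp => by
  rw [smul_smul, (hg p hp).eq, mul_smul, hx p hp]

theorem sectGroup_anti {X Y : Subgroup G} (h : X ≤ Y) : sectGroup Z Y ≤ sectGroup Z X :=
  Subgroup.closure_mono fun _ ht => ⟨ht.1, fun g hg => ht.2 g (h hg)⟩

/-- The section of a bigger group on the same points inherits the odd two point stabilisers. -/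
theorem oddSect_mono {X Y : Subgroup G} (h : X ≤ Y) (hF : fixSet Ω Y = fixSet Ω X)
    (hX : OddSect Ω Z X) : OddSect Ω Z Y := fun g hg x hx y hy =>
  hX g (sectGroup_anti h hg) x (hF ▸ hx) y (hF ▸ hy)

theorem mem_fixSet_zpowers {u : G} {x : Ω} : x ∈ fixSet Ω (Subgroup.zpowers u) ↔ u • x = x :=
  ⟨fun h => h u (Subgroup.mem_zpowers u), fun h _ hg =>
    mem_stabilizer_iff.1 ((Subgroup.zpowers_le.2 (mem_stabilizer_iff.2 h) : _ ≤ stabilizer G x) hg)⟩

/-- The group generated by a bad involution has two fixed points. -/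
theorem exists_pair_fixSet {u : G} (hu : IsBad Ω u) :
    ∃ x ∈ fixSet Ω (Subgroup.zpowers u), ∃ y ∈ fixSet Ω (Subgroup.zpowers u), x ≠ y := by
  obtain ⟨-, x, y, hxy, hx, hy⟩ := hu
  exact ⟨x, mem_fixSet_zpowers.2 hx, y, mem_fixSet_zpowers.2 hy, hxy⟩

namespace Setting

variable (h : Setting Ω Z)
include h

variable [Finite G] [Finite Ω] {X : Subgroup G}

omit [Finite G] [Finite Ω] in
theorem exists_mem_sect_at (hX : IsPGroup 2 X) {x : Ω} (hx : x ∈ fixSet Ω X) :
    ∃ t ∈ memAt Z x, t ∈ sectGroup Z X := by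
  obtain ⟨t, ht, htx, hc⟩ := h.central x X hX fun g hg => mem_stabilizer_iff.2 (hx g hg)
  exact ⟨t, ⟨ht, htx⟩, mem_sectGroup ht hc⟩

theorem exists_swap_sect (hX : IsPGroup 2 X) {x y : Ω} (hx : x ∈ fixSet Ω X)
    (hy : y ∈ fixSet Ω X) (hxy : x ≠ y) : ∃ s ∈ swapMem Z x y, s ∈ sectGroup Z X := by
  obtain ⟨s, hs, hc⟩ := h.exists_swap_centralized hX hxy fun g hg => Or.inl ⟨hx g hg, hy g hg⟩
  exact ⟨s, hs, mem_sectGroup hs.1 hc⟩

/-- Every involution of the section fixes one of the points of the section. -/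
theorem exists_fix_sect (hX : IsPGroup 2 X) {x : Ω} (hx : x ∈ fixSet Ω X) {t : G}
    (ht : t ∈ sectGroup Z X) (ht2 : orderOf t = 2) : ∃ c ∈ fixSet Ω X, t • c = c := by
  by_cases htx : t • x = x
  · exact ⟨x, hx, htx⟩
  have htc : ∀ p ∈ X, Commute p t := fun p hp => commute_of_mem_sectGroup ht hp
  have hT : IsPGroup 2 (X ⊔ Subgroup.zpowers t : Subgroup G) :=
    hX.to_sup_of_normal_right' (isPGroup_zpowers ht2) fun p hp => Subgroup.mem_normalizer_iff.2
      fun g => by
        constructor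
        · intro hg
          obtain ⟨n, rfl⟩ := Subgroup.mem_zpowers_iff.1 hg
          rw [((htc p hp).zpow_right n).eq, mul_inv_cancel_right]
          exact hg
        · intro hg
          obtain ⟨n, hn⟩ := Subgroup.mem_zpowers_iff.1 hg
          have : g = p⁻¹ * t ^ n * p := by rw [hn]; group
          rw [this, mul_assoc, ← ((htc p hp).zpow_right n).eq, inv_mul_cancel_left]
          exact zpow_mem (Subgroup.mem_zpowers t) n
  obtain ⟨s, hs, hc⟩ := h.exists_swap_centralized hT (Ne.symm htx) fun g hg => by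
    rw [← Subgroup.closure_eq X, Subgroup.zpowers_eq_closure, ← Subgroup.closure_union] at hg
    refine pair_of_le_closure ?_ hg
    rintro z (hz | rfl)
    · exact Or.inl ⟨hx z hz, smul_mem_fixSet htc hx z hz⟩
    · exact Or.inr ⟨rfl, by rw [smul_smul, mul_self_eq_one ht2, one_smul]⟩
  obtain ⟨c, hcs⟩ := h.exists_fix s hs.1
  exact ⟨c, fun p hp => h.fix_of_commute ⟨hs.1, hcs⟩ (hc p (Subgroup.mem_sup_left hp)),
    h.fix_of_commute ⟨hs.1, hcs⟩ (hc t (Subgroup.mem_sup_right (Subgroup.mem_zpowers t)))⟩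

/-- The section acts on the fixed points of `X` as in Bender's theorem. -/
theorem sectSetting (hX : IsPGroup 2 X) {x y : Ω} (hx : x ∈ fixSet Ω X) (hy : y ∈ fixSet Ω X)
    (hxy : x ≠ y) (hodd : OddSect Ω Z X)
    (hfour : ∃ a ∈ Z, ∃ b ∈ Z, a ∈ sectGroup Z X ∧ b ∈ sectGroup Z X ∧ a ≠ b ∧ Commute a b) :
    SectSetting (sectGroup Z X) (fixSet Ω X) where
  stable g hg z hz := smul_mem_fixSet (fun _ hp => commute_of_mem_sectGroup hg hp) hz
  trans z hz w hw := by
    rcases eq_or_ne z w with rfl | hzw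
    · exact ⟨1, one_mem _, one_smul G z⟩
    · obtain ⟨s, hs, hsL⟩ := h.exists_swap_sect hX hz hw hzw
      exact ⟨s, hsL, hs.2⟩
  two z _ := by
    rcases eq_or_ne x z with rfl | hxz
    · exact ⟨y, hy, hxy.symm⟩
    · exact ⟨x, hx, hxz⟩
  fix t ht ht2 := h.exists_fix_sect hX hx ht ht2
  unique t ht ht2 z hz w hw hz' hw' := by
    by_contra hzw
    have h1 := hodd t ht z hz w hw hzw hz' hw'
    rw [ht2] at h1
    exact absurd h1 (by decide)
  odd_ker k hk hfix := hodd k hk x hx y hy hxy (hfix x hx) (hfix y hy)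
  four := by
    obtain ⟨a, haZ, b, hbZ, ha, hb, hne, hc⟩ := hfour
    exact ⟨a, ha, b, hb, h.invol a haZ, h.invol b hbZ, hne, hc⟩

/-- Every involution of the section is a member. -/
theorem mem_of_mem_sect (hX : IsPGroup 2 X) (hS : SectSetting (sectGroup Z X) (fixSet Ω X)) {t : G}
    (ht : t ∈ sectGroup Z X) (ht2 : orderOf t = 2) : t ∈ Z := by
  obtain ⟨x, hx, htx⟩ := hS.fix t ht ht2
  obtain ⟨y, hy, hyx⟩ := hS.two x hx
  obtain ⟨s, hs, hsL⟩ := h.exists_mem_sect_at hX hx
  obtain ⟨d, -, -, -, hd⟩ := hS.exists_conj hx hy hyx hsL ht (h.invol s hs.1) ht2 hs.2 htx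
  exact hd ▸ h.conj_mem d s hs.1

/-- A 2-group centralising `X` and the action of a member on the fixed points centralises a member
with the same action. -/
theorem exists_lift_centralized (hX : IsPGroup 2 X) (hS : SectSetting (sectGroup Z X) (fixSet Ω X))
    {T : Subgroup G} (hT : IsPGroup 2 T) (hTX : ∀ p ∈ T, ∀ g ∈ X, Commute g p) {t : G}
    (ht : t ∈ sectGroup Z X) (ht2 : orderOf t = 2)
    (hTt : ∀ p ∈ T, ∀ z ∈ fixSet Ω X, p • t • z = t • p • z) :
    ∃ s ∈ Z, s ∈ sectGroup Z X ∧ (∀ z ∈ fixSet Ω X, s • z = t • z) ∧ ∀ p ∈ T, Commute p s := by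
  have hnorm : ∀ p ∈ T, ∀ g ∈ sectGroup Z X, p * g * p⁻¹ ∈ sectGroup Z X := by
    intro p hp g hg
    have hle : (sectGroup Z X).map (MulAut.conj p).toMonoidHom ≤ sectGroup Z X := by
      rw [sectGroup, MonoidHom.map_closure, Subgroup.closure_le]
      rintro _ ⟨s, hs, rfl⟩
      refine mem_sectGroup (h.conj_mem p s hs.1) fun q hq => ?_
      show Commute q (p * s * p⁻¹)
      exact ((hTX p hp q hq).mul_right (hs.2 q hq)).mul_right (hTX p hp q hq).inv_right
    exact hle ⟨g, hg, rfl⟩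
  obtain ⟨s, hs, hs2, hst, hsc⟩ := hS.exists_same_centralized hT hnorm
    (fun p hp z hz => smul_mem_fixSet (hTX p hp) hz) ht ht2 hTt
  exact ⟨s, h.mem_of_mem_sect hX hS hs hs2, hs, hst, hsc⟩

/-- A 2-group `T` centralising `X` and fixing all its fixed points leaves the section's action
unchanged: the members centralised by `T` induce all of it. -/
theorem exists_cover_sect (hX : IsPGroup 2 X) (hS : SectSetting (sectGroup Z X) (fixSet Ω X))
    {T : Subgroup G} (hT : IsPGroup 2 T) (hTX : ∀ p ∈ T, ∀ g ∈ X, Commute g p)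
    (hTF : ∀ p ∈ T, ∀ z ∈ fixSet Ω X, p • z = z) {g : G} (hg : g ∈ sectGroup Z X) :
    ∃ g' ∈ sectGroup Z (X ⊔ T), ∀ z ∈ fixSet Ω X, g' • z = g • z := by
  rw [sectGroup] at hg
  induction hg using Subgroup.closure_induction with
  | mem t ht =>
    have htL : t ∈ sectGroup Z X := mem_sectGroup ht.1 ht.2
    obtain ⟨s, hsZ, hsL, hst, hsT⟩ := h.exists_lift_centralized hX hS hT hTX htL (h.invol t ht.1)
      fun p hp z hz => by rw [hTF p hp _ (hS.stable t htL z hz), hTF p hp z hz]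
    refine ⟨s, mem_sectGroup hsZ fun q hq => ?_, hst⟩
    have hle : X ⊔ T ≤ Subgroup.centralizer {s} := by
      refine sup_le (fun q hq => ?_) fun q hq => ?_ <;>
        rw [Subgroup.mem_centralizer_singleton_iff]
      · exact (commute_of_mem_sectGroup hsL hq).eq
      · exact (hsT q hq).eq
    exact Subgroup.mem_centralizer_singleton_iff.1 (hle hq)
  | one => exact ⟨1, one_mem _, fun _ _ => rfl⟩
  | mul a b _ hb iha ihb =>
    obtain ⟨a', ha', hA⟩ := iha
    obtain ⟨b', hb', hB⟩ := ihb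
    exact ⟨a' * b', mul_mem ha' hb', fun z hz => by
      rw [mul_smul, mul_smul, hB z hz, hA _ (hS.stable b hb z hz)]⟩
  | inv a ha iha =>
    obtain ⟨a', ha', hA⟩ := iha
    exact ⟨a'⁻¹, inv_mem ha', fun z hz => by
      rw [inv_smul_eq_iff, hA _ (hS.stable a⁻¹ (inv_mem ha) z hz), smul_inv_smul]⟩

/-- A 2-group fixing all the fixed points of `X` leaves two commuting members in the section. -/
theorem exists_four_sup (hX : IsPGroup 2 X) (hS : SectSetting (sectGroup Z X) (fixSet Ω X))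
    {T : Subgroup G} (hT : IsPGroup 2 T) (hTX : ∀ p ∈ T, ∀ g ∈ X, Commute g p)
    (hTF : ∀ p ∈ T, ∀ z ∈ fixSet Ω X, p • z = z) :
    ∃ a ∈ Z, ∃ b ∈ Z, a ∈ sectGroup Z (X ⊔ T) ∧ b ∈ sectGroup Z (X ⊔ T) ∧ a ≠ b ∧ Commute a b := by
  obtain ⟨a, ha, b, hb, ha2, hb2, hne, hab⟩ := hS.four
  have hmem : ∀ s ∈ Z, s ∈ sectGroup Z X → (∀ p ∈ T, Commute p s) → s ∈ sectGroup Z (X ⊔ T) := by
    intro s hsZ hsL hsT
    refine mem_sectGroup hsZ fun q hq => ?_
    have hle : X ⊔ T ≤ Subgroup.centralizer {s} := by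
      refine sup_le (fun q hq => ?_) fun q hq => ?_ <;>
        rw [Subgroup.mem_centralizer_singleton_iff]
      · exact (commute_of_mem_sectGroup hsL hq).eq
      · exact (hsT q hq).eq
    exact Subgroup.mem_centralizer_singleton_iff.1 (hle hq)
  obtain ⟨s, hsZ, hsL, hsa, hsT⟩ := h.exists_lift_centralized hX hS hT hTX ha ha2
    fun p hp z hz => by rw [hTF p hp _ (hS.stable a ha z hz), hTF p hp z hz]
  have hs2 := h.invol s hsZ
  have hT' : IsPGroup 2 (T ⊔ Subgroup.zpowers s : Subgroup G) :=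
    hT.to_sup_of_normal_right' (isPGroup_zpowers hs2) fun p hp => Subgroup.mem_normalizer_iff.2
      fun g => by
        have hc := fun n : ℤ => (hsT p hp).zpow_right n
        constructor
        · intro hg
          obtain ⟨n, rfl⟩ := Subgroup.mem_zpowers_iff.1 hg
          rw [(hc n).eq, mul_inv_cancel_right]
          exact hg
        · intro hg
          obtain ⟨n, hn⟩ := Subgroup.mem_zpowers_iff.1 hg
          have : g = p⁻¹ * s ^ n * p := by rw [hn]; group
          rw [this, mul_assoc, ← (hc n).eq, inv_mul_cancel_left]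
          exact zpow_mem (Subgroup.mem_zpowers s) n
  have hTX' : ∀ p ∈ T ⊔ Subgroup.zpowers s, ∀ g ∈ X, Commute g p := by
    have hle : T ⊔ Subgroup.zpowers s ≤ Subgroup.centralizer (X : Set G) := by
      refine sup_le (fun p hp => ?_) (Subgroup.zpowers_le.2 ?_) <;>
        rw [Subgroup.mem_centralizer_iff]
      · exact fun g hg => (hTX p hp g hg).eq
      · exact fun g hg => (commute_of_mem_sectGroup hsL hg).eq
    exact fun p hp g hg => Subgroup.mem_centralizer_iff.1 (hle hp) g hg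
  obtain ⟨s', hs'Z, hs'L, hs'b, hs'T⟩ := h.exists_lift_centralized hX hS hT' hTX' hb hb2
    fun p hp z hz => by
      rw [← Subgroup.closure_eq T, Subgroup.zpowers_eq_closure, ← Subgroup.closure_union] at hp
      induction hp using Subgroup.closure_induction generalizing z with
      | mem q hq =>
        rcases hq with hq | rfl
        · rw [hTF q hq _ (hS.stable b hb z hz), hTF q hq z hz]
        · rw [hsa _ (hS.stable b hb z hz), hsa z hz, smul_smul, smul_smul, hab.eq]
      | one => simp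
      | mul q r _ hr ihq ihr =>
        have hr' : r • z ∈ fixSet Ω X := by
          refine smul_mem_fixSet (fun g hg => hTX' r ?_ g hg) hz
          rwa [← Subgroup.closure_eq T, Subgroup.zpowers_eq_closure, ← Subgroup.closure_union]
        rw [mul_smul, mul_smul, ihr z hz, ihq _ hr']
      | inv q hq ihq =>
        have hq' : q⁻¹ • z ∈ fixSet Ω X := by
          refine smul_mem_fixSet (fun g hg => hTX' q⁻¹ (inv_mem ?_) g hg) hz
          rwa [← Subgroup.closure_eq T, Subgroup.zpowers_eq_closure, ← Subgroup.closure_union]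
        rw [inv_smul_eq_iff, ihq _ hq', smul_inv_smul]
  refine ⟨s, hsZ, s', hs'Z, hmem s hsZ hsL hsT,
    hmem s' hs'Z hs'L fun p hp => hs'T p (Subgroup.mem_sup_left hp), ?_,
    hs'T s (Subgroup.mem_sup_right (Subgroup.mem_zpowers s))⟩
  intro e
  have hfix : ∀ z ∈ fixSet Ω X, (a * b) • z = z := fun z hz => by
    rw [mul_smul, ← hs'b z hz, ← e, hsa z hz, ← hsa _ (hS.stable a ha z hz)]
    rw [hsa _ (hS.stable a ha z hz), smul_smul, mul_self_eq_one ha2, one_smul]
  have h1 := hS.odd_ker (a * b) (mul_mem ha hb) hfix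
  have h2 : orderOf (a * b) = 2 := orderOf_eq_two_iff_mul.2
    ⟨fun e1 => hne ((eq_inv_of_mul_eq_one_left e1).trans (inv_eq_self_of_involution hb2)), by
      rw [mul_assoc, ← mul_assoc b, ← hab.eq, mul_assoc a, mul_self_eq_one hb2, mul_one,
        mul_self_eq_one ha2]⟩
  rw [h2] at h1
  exact absurd h1 (by decide)

/-- The members of a Sylow 2-subgroup of the stabiliser in the section commute with it, form an
elementary abelian group with 1 and are permuted transitively by its normaliser. -/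
theorem exists_twoGroup_sect (hX : IsPGroup 2 X) (hS : SectSetting (sectGroup Z X) (fixSet Ω X))
    {x : Ω} (hx : x ∈ fixSet Ω X) :
    ∃ T : Subgroup G, T ≤ sectGroup Z X ∧ IsPGroup 2 T ∧ (∀ g ∈ T, g • x = x) ∧
      (∀ y ∈ fixSet Ω X, ∀ z ∈ fixSet Ω X, y ≠ x → z ≠ x → ∃ g ∈ T, g • y = z) ∧
      (∀ g ∈ T, ∀ y ∈ fixSet Ω X, y ≠ x → g • y = y → g = 1) ∧
      (∀ a ∈ T, a * a = 1 → a = 1 ∨ a ∈ memAt Z x) ∧
      (∀ a ∈ T, a ∈ Z → ∀ g ∈ T, Commute a g) ∧
      (∀ t ∈ memAt Z x, t ∈ sectGroup Z X → ∃ k ∈ sectGroup Z X,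
        (∀ y ∈ fixSet Ω X, k • y = y) ∧ k * t * k⁻¹ ∈ T) ∧
      (∀ a ∈ T, ∀ b ∈ T, a ∈ Z → b ∈ Z → ∃ d ∈ sectGroup Z X, d • x = x ∧
        (∀ g ∈ T, d * g * d⁻¹ ∈ T) ∧ d * a * d⁻¹ = b) := by
  obtain ⟨T, hTL, hT2, hTx, htr, hfree, hc, hmeet, hconj⟩ := hS.exists_twoGroup hx
  refine ⟨T, hTL, hT2, hTx, htr, hfree, fun a ha haa => ?_,
    fun a ha haZ g hg => hc a ha g hg (h.invol a haZ),
    fun t ht htL => hmeet t htL (h.invol t ht.1) ht.2,
    fun a ha b hb haZ hbZ => hconj a ha b hb (h.invol a haZ) (h.invol b hbZ)⟩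
  rcases eq_or_ne a 1 with rfl | ha1
  · exact Or.inl rfl
  · exact Or.inr ⟨h.mem_of_mem_sect hX hS (hTL ha) (orderOf_eq_two_iff_mul.2 ⟨ha1, haa⟩), hTx a ha⟩

/-- A 2-group centralising `X` and fixing all its fixed points centralises a covering section. -/
theorem sectSetting_sup (hX : IsPGroup 2 X) (hS : SectSetting (sectGroup Z X) (fixSet Ω X))
    {T : Subgroup G} (hT : IsPGroup 2 T) (hTX : ∀ p ∈ T, ∀ g ∈ X, Commute g p)
    (hTF : ∀ p ∈ T, ∀ z ∈ fixSet Ω X, p • z = z) :
    SectSetting (sectGroup Z (X ⊔ T)) (fixSet Ω X) := by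
  have hle : sectGroup Z (X ⊔ T) ≤ sectGroup Z X := sectGroup_anti le_sup_left
  refine ⟨fun g hg => hS.stable g (hle hg), fun z hz w hw => ?_, hS.two,
    fun t ht => hS.fix t (hle ht), fun t ht => hS.unique t (hle ht),
    fun k hk => hS.odd_ker k (hle hk), ?_⟩
  · obtain ⟨g, hg, hgz⟩ := hS.trans z hz w hw
    obtain ⟨g', hg', hg'z⟩ := h.exists_cover_sect hX hS hT hTX hTF hg
    exact ⟨g', hg', (hg'z z hz).trans hgz⟩
  · obtain ⟨a, haZ, b, hbZ, ha, hb, hne, hc⟩ := h.exists_four_sup hX hS hT hTX hTF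
    exact ⟨a, ha, b, hb, h.invol a haZ, h.invol b hbZ, hne, hc⟩

end Setting

end CfsgLib.StrongCrit
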