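import Cfsg.Agent.Lib.StrongCrit.Orbit
import Cfsg.Agent.Lib.StrongCrit.Sections

/-!
In the setting of Aschbacher's criterion: the section of a bad involution gives transitivity of its
centraliser on its other fixed points, whose number is a power of two.
-/

set_option autoImplicit false

namespace CfsgLib.StrongCrit

open CfsgLib.Involutions MulAction

universe u

variable {G : Type u} [Group G] {Ω : Type u} [MulAction G Ω] {Z : Set G}

namespace Setting

variable (h : Setting Ω Z)
include h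

/-- The section of `w` makes its centraliser transitive on the other fixed points. -/
theorem transFix_of_sectSetting [Finite G] [Finite Ω] {w : G} {c : Ω} (hw : orderOf w = 2)
    (hwc : w • c = c)
    (hS : SectSetting (sectGroup Z (Subgroup.zpowers w)) (fixSet Ω (Subgroup.zpowers w))) :
    TransFix Ω w c := by
  obtain ⟨T, hTL, -, hTx, htr, -⟩ :=
    h.exists_twoGroup_sect (isPGroup_zpowers hw) hS (mem_fixSet_zpowers.2 hwc)
  intro x y hxc hyc hwx hwy
  obtain ⟨g, hg, hgx⟩ :=
    htr x (mem_fixSet_zpowers.2 hwx) y (mem_fixSet_zpowers.2 hwy) hxc hyc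
  exact ⟨g, hTx g hg,
    (commute_of_mem_sectGroup (hTL hg) (Subgroup.mem_zpowers w)).symm, hgx⟩

/-- One less than the number of its fixed points is the order of a 2-group, so a power of two. -/
theorem exists_pow_fixedBy_sub_one [Finite G] [Finite Ω] {w : G} {c : Ω} (hw : orderOf w = 2)
    (hwc : w • c = c)
    (hS : SectSetting (sectGroup Z (Subgroup.zpowers w)) (fixSet Ω (Subgroup.zpowers w))) :
    ∃ a : ℕ, 1 ≤ a ∧ (MulAction.fixedBy Ω w).ncard - 1 = 2 ^ a := by
  have : Fact (Nat.Prime 2) := ⟨Nat.prime_two⟩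
  obtain ⟨T, hTL, hT2, hTx, htr, hfree, -, -, hmeet, -⟩ :=
    h.exists_twoGroup_sect (isPGroup_zpowers hw) hS (mem_fixSet_zpowers.2 hwc)
  obtain ⟨a, ha⟩ := hT2.exists_card_eq
  have hF : fixSet Ω (Subgroup.zpowers w) = MulAction.fixedBy Ω w :=
    Set.ext fun y => mem_fixSet_zpowers
  obtain ⟨y, hy, hyc⟩ := hS.two c (mem_fixSet_zpowers.2 hwc)
  have hcard : Nat.card T = (MulAction.fixedBy Ω w).ncard - 1 := by
    rw [← Set.ncard_sdiff_singleton_of_mem (show c ∈ MulAction.fixedBy Ω w from hwc),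
      ← Nat.card_coe_set_eq]
    refine Nat.card_congr (Equiv.ofBijective
      (fun g : T => ⟨(g : G) • y, ?_⟩) ⟨fun g g' hgg' => ?_, fun z => ?_⟩)
    · refine ⟨hF ▸ hS.stable _ (hTL g.2) y hy, fun e => hyc ?_⟩
      exact MulAction.injective (g : G) ((e : (g : G) • y = c).trans (hTx g g.2).symm)
    · have h1 : (g : G) • y = (g' : G) • y := congrArg Subtype.val hgg'
      have h2 := hfree ((g' : G)⁻¹ * g) (mul_mem (inv_mem g'.2) g.2) y hy hyc
        (by rw [mul_smul, h1, inv_smul_smul])
      exact Subtype.ext (inv_mul_eq_one.1 h2).symm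
    · obtain ⟨g, hg, hgy⟩ := htr y hy z (mem_fixSet_zpowers.2 z.2.1) hyc z.2.2
      exact ⟨⟨g, hg⟩, Subtype.ext hgy⟩
  refine ⟨a, ?_, by rw [← hcard, ha]⟩
  obtain ⟨t, ht, htL⟩ := h.exists_mem_sect_at (isPGroup_zpowers hw) (mem_fixSet_zpowers.2 hwc)
  obtain ⟨k, -, -, hk⟩ := hmeet t ht htL
  by_contra h0
  rw [show a = 0 by omega, pow_zero, Subgroup.card_eq_one] at ha
  rw [ha, Subgroup.mem_bot] at hk
  exact ne_one_of_involution (h.invol t ht.1) (by simpa using hk)

end Setting

end CfsgLib.StrongCrit
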