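import Cfsg.Agent.Lib.StrongCrit.CritSections
import Cfsg.Agent.Lib.BenderQ.Classify
import Cfsg.Agent.Lib.RankOneRecog.Main

/-!
The shape of the kernel at a point in the section of a bad involution: exponent dividing four and
order `q`, `q ^ 2` or `q ^ 3` for `q - 1` involutions.
-/

set_option autoImplicit false
set_option linter.style.haveILetI false

namespace CfsgLib.StrongCrit

open CfsgLib.BenderTrans CfsgLib.Involutions CfsgLib.BenderQ MulAction

universe u

variable {G : Type u} [Group G] {Ω : Type u} [MulAction G Ω]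

/-- The kernel at a point of an action with one fixed point per involution and a four group has
exponent dividing four, and its order is `q`, `q ^ 2` or `q ^ 3`, `q - 1` the number of involutions
at the point. -/
theorem kernel_type [Finite G] [Finite Ω] (h : OneFix G Ω)
    (hfaith : ∀ g : G, (∀ x : Ω, g • x = x) → g = 1) (hf : HasFour G) {c : Ω} {Q : Subgroup G}
    (hQ : IsKernelAt c Q) :
    (∀ x ∈ Q, x * x * (x * x) = 1) ∧
      ∃ i : ℕ, 1 ≤ i ∧ i ≤ 3 ∧ Nat.card Q = ((invAt G c).ncard + 1) ^ i := by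
  obtain ⟨t, hS⟩ := exists_rankOneSetup h hQ
  have : FaithfulSMul G Ω := ⟨fun {g₁ g₂} e => by
    have := hfaith (g₁⁻¹ * g₂) fun x => by rw [mul_smul, ← e, inv_smul_smul]
    exact inv_mul_eq_one.1 this⟩
  obtain ⟨s, u, hs, hu, hne, hc⟩ := hf
  have h2 : ∃ x y : G, x ≠ 1 ∧ y ≠ 1 ∧ x ≠ y ∧ x * x = 1 ∧ y * y = 1 ∧ x * y = y * x :=
    ⟨s, u, ne_one_of_involution hs, ne_one_of_involution hu, hne, mul_self_eq_one hs,
      mul_self_eq_one hu, hc.eq⟩
  have hcard : Nat.card (RankOneTwo.Zsub G c) = (invAt G c).ncard + 1 := by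
    have h1 : (RankOneTwo.Zsub G c : Set G) = insert 1 (invAt G c) := by
      ext x
      rw [SetLike.mem_coe, RankOneTwo.mem_Zsub_iff hS h2, Set.mem_insert_iff,
        RankOneInvol.mem_invols]
      refine or_congr Iff.rfl ⟨fun hx => ⟨orderOf_eq_two_iff_mul.2 ⟨hx.2.1, hx.2.2⟩, hx.1⟩,
        fun hx => ⟨hx.2, ne_one_of_involution hx.1, mul_self_eq_one hx.1⟩⟩
    rw [show Nat.card (RankOneTwo.Zsub G c) = (RankOneTwo.Zsub G c : Set G).ncard from
      Nat.card_coe_set_eq _, h1, Set.ncard_insert_of_notMem]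
    exact fun h0 => ne_one_of_involution h0.1 rfl
  by_cases hna : ∃ x y : Q, x * y ≠ y * x
  · refine ⟨fun x hx => RankOneTwo.Zsub_sq hS h2 (RankOneRecog.sq_mem_Zsub hS h2 hna hx), ?_⟩
    rcases RankOneRecog.card_Q_cases hS h2 hna with h3 | h3
    · exact ⟨2, by norm_num, by norm_num, by rw [h3, hcard]⟩
    · exact ⟨3, by norm_num, le_rfl, by rw [h3, hcard]⟩
  · push Not at hna
    have hc' := RankOneRecog.card_eq_of_comm hS h2 fun x hx y hy =>
      congrArg Subtype.val (hna ⟨x, hx⟩ ⟨y, hy⟩)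
    have hZ : RankOneTwo.Zsub G c = Q :=
      Subgroup.eq_of_le_of_card_ge (RankOneTwo.Zsub_le hS h2) hc'.le
    refine ⟨fun x hx => ?_, 1, le_rfl, by norm_num, by rw [hc', hcard, pow_one]⟩
    rw [RankOneTwo.Zsub_sq hS h2 (z := x) (hZ.symm ▸ hx), one_mul]

variable {Z : Set G}

namespace Crit

variable (hC : Crit Ω Z)
include hC

variable [Finite G] [Finite Ω] (hsc : SecComm Ω Z) (hbig : ∀ c : Ω, 1 < (memAt Z c).ncard)
include hsc hbig

/-- In the section of a bad involution the elements of 2-power order at a fixed point satisfy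
`g ^ 4 = 1`, and the other fixed points are `q`, `q ^ 2` or `q ^ 3` in number, `q - 1` the number of
members there commuting with it. -/
theorem sectKernel_type {w : G} (hw : IsBad Ω w) {c : Ω} (hc : w • c = c) :
    (∀ g : G, g ∈ memCent Z w → g • c = c → (∃ j : ℕ, g ^ 2 ^ j = 1) →
        g * g * (g * g) = 1) ∧
      ∃ i : ℕ, 1 ≤ i ∧ i ≤ 3 ∧
        ({x : Ω | w • x = x} \ {c}).ncard = ((bMem Z c w).ncard + 1) ^ i := by
  have hS := hC.sectSetting_bad hsc hbig hw
  let c' : ({x : Ω | w • x = x} : Set Ω) := ⟨c, hc⟩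
  obtain ⟨Qb, hQb⟩ := hS.exists_kernel c'
  obtain ⟨hexp, i, hi1, hi3, hcard⟩ := kernel_type hS.oneFix hS.faith hS.hasFour hQb
  set f := hS.toPerm.rangeRestrict with hf
  refine ⟨fun g hg hgc ⟨j, hj⟩ => ?_, i, hi1, hi3, ?_⟩
  · have hgQ : f ⟨g, hg⟩ ∈ Qb := mem_kernel_of_two hS.oneFix hQb (Subtype.ext hgc) (j := j) (by
      rw [← map_pow, show (⟨g, hg⟩ : memCent Z w) ^ 2 ^ j = 1 from Subtype.ext hj, map_one])
    have h1 : f (⟨g, hg⟩ * ⟨g, hg⟩ * (⟨g, hg⟩ * ⟨g, hg⟩)) = 1 := by
      rw [map_mul, map_mul]; exact hexp _ hgQ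
    have hmem : g * g * (g * g) ∈ Subgroup.zpowers g :=
      mul_mem (mul_mem (Subgroup.mem_zpowers g) (Subgroup.mem_zpowers g))
        (mul_mem (Subgroup.mem_zpowers g) (Subgroup.mem_zpowers g))
    refine hS.eq_one_of_fix (T := Subgroup.zpowers g) ?_ hmem
      (mul_mem (mul_mem hg hg) (mul_mem hg hg)) (hS.toPerm_eq_one.1 (congrArg Subtype.val h1))
    refine IsPGroup.of_card (n := Nat.log 2 (orderOf g)) ?_
    rw [Nat.card_zpowers]
    obtain ⟨k, -, hk⟩ := (Nat.dvd_prime_pow Nat.prime_two).1 (orderOf_dvd_of_pow_eq_one hj)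
    rw [hk, Nat.log_pow one_lt_two]
  · have hQcard : Nat.card Qb = ({x : Ω | w • x = x} \ {c}).ncard := by
      obtain ⟨y, hy⟩ := hS.oneFix.nontriv c'
      have hfix : ∀ g : Qb, (g : hS.toPerm.range) • c' = c' := fun g =>
        mem_stabilizer_iff.1 (hQb.le g.2)
      have hval : ∀ g : Qb, (((g : hS.toPerm.range) • y :) : Ω) ∈ {x : Ω | w • x = x} \ {c} :=
        fun g => ⟨((g : hS.toPerm.range) • y).2, fun e => hy (MulAction.injective (g : hS.toPerm.range)
          ((Subtype.ext e : (g : hS.toPerm.range) • y = c').trans (hfix g).symm))⟩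
      rw [← Nat.card_coe_set_eq]
      refine Nat.card_congr (Equiv.ofBijective (fun g : Qb => ⟨_, hval g⟩) ⟨fun g g' e => ?_, ?_⟩)
      · have e1 : (g : hS.toPerm.range) • y = (g' : hS.toPerm.range) • y := by
          simp only [Subtype.mk.injEq] at e
          exact Subtype.ext e
        have h2 := hQb.free _ (mul_mem (inv_mem g'.2) g.2) y hy
          (by rw [mul_smul, e1, inv_smul_smul])
        exact Subtype.ext (inv_mul_eq_one.1 h2).symm
      · rintro ⟨z, hz, hzc⟩
        obtain ⟨g, hg, hgy⟩ := hQb.trans y ⟨z, hz⟩ hy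
          (fun e => hzc (congrArg Subtype.val e))
        exact ⟨⟨g, hg⟩, Subtype.ext (Subtype.ext_iff.1 hgy :)⟩
    have hinv : (invAt hS.toPerm.range c').ncard = (bMem Z c w).ncard := by
      symm
      refine Set.ncard_congr (fun t ht => f ⟨t, bMem_subset_memCent ht⟩) (fun t ht => ?_)
        (fun a b ha hb hab => ?_) fun e he => ?_
      · exact ⟨hS.orderOf_image (g := ⟨t, bMem_subset_memCent ht⟩) (hC.base.invol t ht.1.1),
          Subtype.ext ht.1.2⟩
      · exact hC.eq_of_same hsc hbig hw hc ha hb (hS.same_of_map_eq hab)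
      · obtain ⟨t, ht2, hte⟩ := hS.exists_lift he.1
        have htc : (t : G) • c = c := by
          have h1 := congrArg Subtype.val he.2
          rw [← hte] at h1
          exact h1
        have htw : Commute w (t : G) := commute_memCent t.2
        refine ⟨(t : G), ⟨⟨?_, htc⟩, htw⟩, hte⟩
        have hS' := hS
        rw [memCent_eq, ← fixSet_zpowers] at hS'
        exact hC.base.mem_of_mem_sect (isPGroup_zpowers hw.1) hS'
          (memCent_eq Z w ▸ t.2) ht2
    rw [← hQcard, hcard, hinv]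

end Crit

end CfsgLib.StrongCrit
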