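import Cfsg.Agent.Lib.StrongCrit.NonComm
import Cfsg.Agent.Lib.StrongCrit.Orbit
import Cfsg.Agent.Lib.StrongCrit.OrbitSect
import Cfsg.Agent.Lib.StrongCrit.CubePrime
import Cfsg.Agent.Lib.StrongCrit.Arith
import Cfsg.Agent.Lib.StrongCrit.SectionType

/-!
The count in the case that members at a point do not all commute: for a bad involution `w` at `c`
with `(f - 1) (k + 1)` least the number of swappers centralised is congruent to one, so equal to
`k + 2`; then the same holds for every bad involution at `c`.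
-/

set_option autoImplicit false

namespace CfsgLib.StrongCrit

open CfsgLib.Involutions MulAction

universe u

/-- The exponents of another bad involution at a point where one has `q + 1` swappers. -/
theorem exponents_of_tight {e e₀ a j : ℕ} (ha : 1 ≤ a) (he : 1 ≤ e) (hj : e * a + j = 2 * e₀)
    (hje : j ≤ e)
    (heq : ((2 : ℤ) ^ (2 * e₀) - 1) * (2 ^ j - 1) = (2 ^ (e * a) + 1) * (2 ^ e - 1) ^ 2) :
    a = 1 ∧ e = e₀ := by
  have hea : e ≤ e * a := Nat.le_mul_of_pos_right e ha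
  rcases Nat.lt_or_ge j (e * a) with hlt | hge
  · exfalso
    have hd : ∀ x : ℕ, j + 1 ≤ x → ∃ A : ℤ, (2 : ℤ) ^ x = 2 ^ (j + 1) * A := fun x hx =>
      pow_dvd_pow (2 : ℤ) hx
    obtain ⟨A, hA⟩ := hd (2 * e₀) (by omega)
    obtain ⟨B, hB⟩ := hd (e * a) hlt
    obtain ⟨C, hC⟩ := hd (e + 1) (by omega)
    obtain ⟨D, hD⟩ := hd (e + e) (by omega)
    have hsq : ((2 : ℤ) ^ e - 1) ^ 2 = 2 ^ (e + e) - 2 ^ (e + 1) + 1 := by ring
    rw [hsq, hA, hB, hC, hD] at heq
    rw [pow_succ] at heq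
    have h2 : (2 : ℤ) ^ j * (2 * (A * (2 ^ j - 1) - B * (2 ^ j * 2 * (D - C) + 1) - D + C)) =
        2 ^ j * 1 := by linear_combination heq
    have h3 := mul_left_cancel₀ (pow_ne_zero j (two_ne_zero : (2 : ℤ) ≠ 0)) h2
    omega
  · have h1 : e * a = e := le_antisymm (hge.trans hje) hea
    refine ⟨?_, by omega⟩
    exact Nat.eq_of_mul_eq_mul_left he (h1.trans (mul_one e).symm)

variable {G : Type u} [Group G] [Finite G] {Ω : Type u} [MulAction G Ω] [Finite Ω] {Z : Set G}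

namespace Crit

variable (hC : Crit Ω Z) (hsc : SecComm Ω Z) (hbig : ∀ c : Ω, 1 < (memAt Z c).ncard)
include hC hsc hbig

/-- The numbers of a bad involution at one of its fixed points. -/
theorem count_data {w : G} (hw : IsBad Ω w) {c : Ω} (hc : w • c = c) :
    ∃ e a s d : ℕ, 2 ≤ e ∧ (a = 1 ∨ a = 2 ∨ a = 3) ∧ (cenSet Z w c).ncard + 1 = 2 ^ e ∧
      (fixedBy Ω w).ncard = 2 ^ (e * a) + 1 ∧ (cenSet Z w c).ncard * s = (memAt Z c).ncard ∧
      s * d = ((2 ^ e) ^ a + 1) * (2 ^ e - 1) ∧ Nat.card Ω - 1 = 2 ^ (e * a) * (1 + d) ∧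
      (∀ x : Ω, w • x ≠ x → (swapCen Z w x).ncard = s) ∧
      (a = 3 → ∀ p : ℕ, p.Prime → p ∣ s → p ∣ (2 ^ e + 1) * (2 ^ e - 1)) := by
  obtain ⟨e, he, hq, -⟩ := hC.exists_q hsc hbig hw hc
  obtain ⟨-, a, ha1, ha3, hF⟩ := hC.sectKernel_type hsc hbig hw hc
  have hk : bMem Z c w = cenSet Z w c := rfl
  rw [hq] at hF
  rw [hk] at hq
  have hf : (fixedBy Ω w).ncard = 2 ^ (e * a) + 1 := by
    rw [pow_mul, ← hF]
    exact (Set.ncard_diff_singleton_add_one (s := {x : Ω | w • x = x}) hc (Set.toFinite _)).symm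
  have hq4 : 4 ≤ 2 ^ e := (Nat.pow_le_pow_right two_pos he : 2 ^ 2 ≤ 2 ^ e)
  have htwo : ∃ x ∈ cenSet Z w c, ∃ y ∈ cenSet Z w c, x ≠ y :=
    (Set.one_lt_ncard (Set.toFinite _)).1 (by omega)
  obtain ⟨s, hks, hswap, hform⟩ := hC.base.card_sub_one_formula hC.faith hsc hw hc htwo
  rw [hf, Nat.add_sub_cancel] at hform
  obtain ⟨x, hx⟩ : ∃ x : Ω, w • x ≠ x := by
    by_contra hall
    push Not at hall
    exact ne_one_of_involution hw.1 (hC.faith w hall)
  have hsodd : Odd s := (Nat.odd_mul.1 (hks ▸ hC.base.odd_ncard_memAt c)).2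
  have hdvd : s ∣ 2 ^ (e * a) * ((2 ^ (e * a) + 1) * (cenSet Z w c).ncard) := by
    have h1 : s ∣ 2 ^ (e * a) * s + 2 ^ (e * a) * ((2 ^ (e * a) + 1) * (cenSet Z w c).ncard) :=
      ⟨Nat.card Ω - 1, by rw [← mul_add, ← hform, mul_comm]⟩
    exact (Nat.dvd_add_right (dvd_mul_left s _)).1 h1
  have hcop : Nat.Coprime s (2 ^ (e * a)) :=
    Nat.Coprime.pow_right _ (Nat.coprime_two_right.2 hsodd)
  obtain ⟨d, hd⟩ := hcop.dvd_of_dvd_mul_left hdvd
  have hd' : s * d = ((2 ^ e) ^ a + 1) * (2 ^ e - 1) := by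
    rw [← hd, ← pow_mul, show 2 ^ e - 1 = (cenSet Z w c).ncard by omega]
  have hn : Nat.card Ω - 1 = 2 ^ (e * a) * (1 + d) := by
    refine Nat.eq_of_mul_eq_mul_right hsodd.pos ?_
    rw [hform, hd]; ring
  refine ⟨e, a, s, d, he, by omega, hq, hf, hks, hd', hn, hswap, ?_⟩
  rintro rfl p hp hps
  have h1 := hC.prime_dvd_swapCen_of_cube hsc hbig hw hc (by
    rw [hf, hk, hq, Nat.add_sub_cancel, ← pow_mul]) hx hp (hswap x hx ▸ hps)
  rwa [hk, hq, show (cenSet Z w c).ncard = 2 ^ e - 1 by omega] at h1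

/-- If members at a point do not all commute, every bad involution is in the tight case. -/
theorem tightCount (hP : W1.PureBelow Ω Z) (hab : ¬ AllCommute Ω Z) : TightCount Ω Z := by
  classical
  intro w c hw hc
  have hex : ∃ E : ℕ, ∃ (v : G) (e a : ℕ), IsBad Ω v ∧ v • c = c ∧
      (cenSet Z v c).ncard + 1 = 2 ^ e ∧ (fixedBy Ω v).ncard = 2 ^ (e * a) + 1 ∧
      E = e * a + e := by
    obtain ⟨e, a, -, -, -, -, hq, hf, -⟩ := hC.count_data hsc hbig hw hc
    exact ⟨_, w, e, a, hw, hc, hq, hf, rfl⟩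
  obtain ⟨v, e₀, a₀, hv, hvc, hq₀, hf₀, hE⟩ := Nat.find_spec hex
  obtain ⟨e', a', s₀, d₀, he₀, ha₀, hq', hf', hks₀, hsd₀, hn₀, -, hpr₀⟩ :=
    hC.count_data hsc hbig hv hvc
  obtain rfl : e' = e₀ := Nat.pow_right_injective le_rfl (hq'.symm.trans hq₀)
  obtain rfl : a' = a₀ := by
    have h1 : 2 ^ (e' * a') = 2 ^ (e' * a₀) := by omega
    exact Nat.eq_of_mul_eq_mul_left (by omega) (Nat.pow_right_injective le_rfl h1)
  set E := Nat.find hex
  -- `2 ^ E` divides the number of the other points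
  have hall : ∀ g : G, IsBad Ω g → g • c = c →
      (∃ x ∈ cenSet Z g c, ∃ y ∈ cenSet Z g c, x ≠ y) ∧ TransFix Ω g c ∧
        2 ^ E ∣ ((fixedBy Ω g).ncard - 1) * ((cenSet Z g c).ncard + 1) := by
    intro g hg hgc
    obtain ⟨e, a, -, -, he, -, hq, hf, -⟩ := hC.count_data hsc hbig hg hgc
    have h4 : 4 ≤ 2 ^ e := (Nat.pow_le_pow_right two_pos he : 2 ^ 2 ≤ 2 ^ e)
    refine ⟨(Set.one_lt_ncard (Set.toFinite _)).1 (by omega), ?_, ?_⟩
    · refine hC.base.transFix_of_sectSetting hg.1 hgc ?_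
      rw [← memCent_eq, fixSet_zpowers]
      exact hC.sectSetting_bad hsc hbig hg
    · rw [hf, hq, Nat.add_sub_cancel, ← pow_add]
      exact pow_dvd_pow 2 (Nat.find_min' hex ⟨g, e, a, hg, hgc, hq, hf, rfl⟩)
  obtain ⟨S⟩ : Nonempty (Sylow 2 (stabilizer G c)) := inferInstance
  have : Fact (Nat.Prime 2) := ⟨Nat.prime_two⟩
  have hM0 : Nat.card (stabilizer G c) ≠ 0 := Nat.card_pos.ne'
  have hdvdE : 2 ^ E ∣ Nat.card Ω - 1 := by
    refine hC.base.dvd_card_sub_one hC.faith hsc (S := (S : Subgroup _).map (Subgroup.subtype _))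
      (m := (Nat.card (stabilizer G c)).factorization 2) (Subgroup.map_subtype_le _) ?_
      (Nat.pow_succ_factorization_not_dvd hM0 Nat.prime_two) ?_ hall
    · rw [Subgroup.card_map_of_injective (Subgroup.subtype_injective _)]
      exact S.card_eq_multiplicity
    · obtain ⟨-, x, y, hxy, hx, hy⟩ := id hv
      obtain ⟨z, hz, hzc⟩ : ∃ z : Ω, v • z = z ∧ z ≠ c := by
        rcases eq_or_ne x c with rfl | hne
        · exact ⟨y, hy, hxy.symm⟩
        · exact ⟨x, hx, hne⟩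
      obtain ⟨htwo, htr, hdiv⟩ := hall v hv hvc
      exact (Nat.prime_two.pow_dvd_iff_le_factorization hM0).1
        (hdiv.trans (dvd_trans (dvd_mul_right _ _)
          (hC.base.card_dvd_two hC.faith hsc hv hvc hz hzc htwo htr)))
  -- so the number of swappers centralised by `v` is one more than `q`
  set q := 2 ^ e' with hq_def
  have hq4 : 4 ≤ q := (Nat.pow_le_pow_right two_pos he₀ : 2 ^ 2 ≤ 2 ^ e')
  have h1d : q ∣ 1 + d₀ := by
    rw [hn₀, hE, pow_add] at hdvdE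
    exact Nat.dvd_of_mul_dvd_mul_left (by positivity) hdvdE
  have hmod : s₀ % q = 1 := by
    have h1 : q ∣ s₀ * (1 + d₀) := h1d.mul_left _
    have h2 : q ∣ s₀ * d₀ + 1 := by
      rw [hsd₀]
      refine ⟨q ^ (a' - 1) * (q - 1) + 1, ?_⟩
      have h3 : q ^ a' = q * q ^ (a' - 1) := by
        rw [← pow_succ']; congr 1; omega
      rw [h3, add_mul, one_mul, mul_add, mul_one, mul_assoc, add_assoc, Nat.sub_add_cancel (by omega)]
    have h4 : s₀ ≡ 1 [MOD q] := by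
      refine Nat.ModEq.add_left_cancel' (s₀ * d₀) ?_
      exact (Nat.modEq_zero_iff_dvd.2 (by rwa [mul_add, mul_one, add_comm] at h1)).trans
        (Nat.modEq_zero_iff_dvd.2 h2).symm
    rw [h4]
    exact Nat.mod_eq_of_lt (by omega)
  have hs1 : s₀ ≠ 1 := by
    rintro rfl
    rw [mul_one] at hks₀
    have hsub : cenSet Z v c ⊆ memAt Z c := fun t ht => ht.1
    have heq := Set.eq_of_subset_of_ncard_le hsub hks₀.ge (Set.toFinite _)
    exact hab (hC.base.allCommute_of_at fun a ha b hb =>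
      hsc c v hv hvc a ha b hb (heq.symm ▸ ha : a ∈ cenSet Z v c).2
        (heq.symm ▸ hb : b ∈ cenSet Z v c).2)
  obtain ⟨rfl, rfl⟩ : a' = 1 ∧ s₀ = q + 1 := by
    refine (Arith.c_cases hq_def he₀ ha₀ hmod hsd₀ ?_ hpr₀).resolve_left hs1
    intro p hp hps
    have hbad : ∃ g : G, IsBad Ω g := ⟨v, hv⟩
    have h5 := hC.card_modEq_two hP hbad hp (c := c) (hks₀ ▸ hps.mul_left _)
    have hpos : 1 ≤ Nat.card Ω := Nat.card_pos_iff.2 ⟨⟨c⟩, inferInstance⟩
    rw [← pow_mul, ← hn₀]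
    refine Nat.ModEq.add_right_cancel' 1 ?_
    rwa [Nat.sub_add_cancel hpos]
  have hd₀ : d₀ = q - 1 := by
    rw [pow_one] at hsd₀
    exact Nat.eq_of_mul_eq_mul_left (by omega) hsd₀
  have hN : Nat.card Ω - 1 = 2 ^ (2 * e') := by
    rw [hn₀, hd₀, mul_one, show 1 + (q - 1) = q by omega, ← pow_add, two_mul]
  -- every bad involution at `c` has the same numbers
  obtain ⟨e, a, s, d, he, ha, hq, hf, hks, hsd, hn, -, -⟩ := hC.count_data hsc hbig hw hc
  have hmin : E ≤ e * a + e := Nat.find_min' hex ⟨w, e, a, hw, hc, hq, hf, rfl⟩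
  rw [hN] at hn
  have hd1 : 1 ≤ d := by
    rcases Nat.eq_zero_or_pos d with rfl | hd
    · exfalso
      rw [mul_zero] at hsd
      have h4 : 4 ≤ 2 ^ e := (Nat.pow_le_pow_right two_pos he : 2 ^ 2 ≤ 2 ^ e)
      rcases Nat.mul_eq_zero.1 hsd.symm with h | h <;> omega
    · exact hd
  obtain ⟨j, -, hj⟩ := (Nat.dvd_prime_pow Nat.prime_two).1
    (⟨2 ^ (e * a), by rw [hn, mul_comm]⟩ : 1 + d ∣ 2 ^ (2 * e'))
  rw [hj, ← pow_add] at hn
  have hje : 2 * e' = e * a + j := Nat.pow_right_injective le_rfl hn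
  have hm : (cenSet Z v c).ncard * (q + 1) = (memAt Z c).ncard := hks₀
  have key : ((2 : ℤ) ^ (2 * e') - 1) * (2 ^ j - 1) = (2 ^ (e * a) + 1) * (2 ^ e - 1) ^ 2 := by
    have c1 : ((cenSet Z w c).ncard : ℤ) + 1 = 2 ^ e := by exact_mod_cast hq
    have c2 : ((cenSet Z v c).ncard : ℤ) + 1 = 2 ^ e' := by exact_mod_cast hq₀
    have c3 : ((cenSet Z v c).ncard : ℤ) * (2 ^ e' + 1) = (cenSet Z w c).ncard * s := by
      exact_mod_cast hm.trans hks.symm
    have c4 : (s : ℤ) * d = (2 ^ (e * a) + 1) * (cenSet Z w c).ncard := by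
      rw [← pow_mul, show 2 ^ e - 1 = (cenSet Z w c).ncard by omega] at hsd
      exact_mod_cast hsd
    have c5 : (1 : ℤ) + d = 2 ^ j := by exact_mod_cast hj
    rw [← c1, ← c5, show (2 : ℤ) ^ (2 * e') = 2 ^ e' * 2 ^ e' by rw [two_mul, pow_add]]
    linear_combination (d : ℤ) * c3 + ((cenSet Z w c).ncard : ℤ) * c4 -
      (d : ℤ) * (2 ^ e' + 1) * c2
  obtain ⟨rfl, rfl⟩ := exponents_of_tight (by omega) (by omega) hje.symm (by
    rw [mul_one] at hE
    omega) key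
  rw [mul_one] at hf
  refine ⟨by omega, ?_⟩
  rw [show (cenSet Z w c).ncard = (cenSet Z v c).ncard by omega,
    show (cenSet Z v c).ncard + 2 = q + 1 by omega, hm]

end Crit

/-- Members at a point all commute. -/
theorem nonCommFalse : NonCommFalse.{u} :=
  nonCommFalse_of_count fun _ _ _ _ _ _ _ hC hP hbad hab =>
    hC.tightCount (hC.secComm hP) (hC.one_lt_memAt hP hbad) hP hab

end CfsgLib.StrongCrit
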