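import Cfsg.Agent.Lib.StrongCrit.Main
import Cfsg.Agent.Lib.StrongCrit.Endgame
import Cfsg.Agent.Lib.StrongCrit.TightCount
import Cfsg.Agent.Lib.StrongCrit.CentralOne.Final
import Cfsg.Agent.Lib.StrongCrit.CentralTwo.Main
import Cfsg.Agent.Lib.StrongCrit.CentralThree.Main

/-!
The main theorem of Aschbacher's criterion: in the critical configuration no involution fixes two
points.
-/

set_option autoImplicit false

namespace CfsgLib.StrongCrit

universe u

/-- The main theorem. -/
theorem criterionMain : CriterionMain.{u} :=
  criterionMain_of_step (critStep_of_cases nonCommFalse centralFalse_one CentralTwo.centralFalse_two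
    CentralThree.centralFalse_three)

end CfsgLib.StrongCrit
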