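import Cfsg.Agent.Lib.StrongCrit.Criterion
import Cfsg.Agent.Lib.Coprime.HyperplaneGeneration
import Cfsg.Prelude.Def_TwoFusion

/-!
A strongly closed 2-subgroup whose involutions have their centralizers in a proper subgroup gives
the setting of the criterion for strong embedding.
-/

set_option autoImplicit false

namespace CfsgLib.StrongCrit

open CfsgLib.Involutions MulAction Subgroup

universe u

/-- In a faithful setting no bad involution lies in the group generated by the members. -/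
def BadOutside : Prop :=
  ∀ (G : Type u) [Group G] [Finite G] (Ω : Type u) [MulAction G Ω] [Finite Ω] (Z : Set G),
    Setting Ω Z → (∀ g : G, (∀ x : Ω, g • x = x) → g = 1) →
      ∀ w : G, IsBad Ω w → w ∉ Subgroup.closure Z

namespace StronglyClosed

variable {G : Type u} [Group G]

/-- `T` strongly closed in `S`, the centralizers of its involutions and the normalizer of `S` in
`M`. -/
structure Data (S : Sylow 2 G) (T M : Subgroup G) : Prop where
  closed : Cfsg.IsStronglyClosed T (S : Subgroup G)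
  ne : T ≠ ⊥
  cent : ∀ t ∈ T, orderOf t = 2 → centralizer ({t} : Set G) ≤ M
  norm : normalizer ((S : Subgroup G) : Set G) ≤ M

/-- The conjugates of the involutions of `T`. -/
def mem (T : Subgroup G) : Set G := {x | ∃ g : G, ∃ t ∈ T, orderOf t = 2 ∧ g * t * g⁻¹ = x}

variable {S : Sylow 2 G} {T M : Subgroup G}

theorem normalizer_le_normalizer [Finite G] (hT : Cfsg.IsStronglyClosed T (S : Subgroup G)) :
    normalizer ((S : Subgroup G) : Set G) ≤ normalizer (T : Set G) := fun g hg =>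
  CfsgLib.Coprime.mem_normalizer_of_forall_conj fun t ht =>
    hT.2 t ht g ((mem_normalizer_iff.1 hg t).1 (hT.1 ht))

theorem smul_eq_iff (g a : G) :
    g • (a : G ⧸ M) = (a : G ⧸ M) ↔ a⁻¹ * g * a ∈ M := by
  rw [MulAction.Quotient.smul_coe, smul_eq_mul, QuotientGroup.eq,
    show (g * a)⁻¹ * a = (a⁻¹ * g * a)⁻¹ by group, inv_mem_iff]

namespace Data

variable (h : Data S T M)
include h

theorem sylow_le : (S : Subgroup G) ≤ M := le_normalizer.trans h.norm

theorem le : T ≤ M := h.closed.1.trans h.sylow_le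

variable [Finite G]

theorem exists_central : ∃ z ∈ T, orderOf z = 2 ∧ ∀ s ∈ (S : Subgroup G), Commute s z := by
  have : Fact (Nat.Prime 2) := ⟨Nat.prime_two⟩
  have := S.2.isNilpotent
  have hn : (T.subgroupOf (S : Subgroup G)).Normal := normal_subgroupOf_of_le_normalizer
    (le_normalizer.trans (normalizer_le_normalizer h.closed))
  have hne : T.subgroupOf (S : Subgroup G) ≠ ⊥ := fun e => h.ne (le_bot_iff.1 fun t ht => by
    have h1 : (⟨t, h.closed.1 ht⟩ : (S : Subgroup G)) ∈ T.subgroupOf (S : Subgroup G) := ht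
    rw [e, Subgroup.mem_bot] at h1
    exact Subgroup.mem_bot.2 (congrArg Subtype.val h1))
  obtain ⟨w, hwT, hwc, hw1⟩ := CfsgLib.Coprime39.exists_central_mem _ hne
  obtain ⟨k, hk⟩ := IsPGroup.iff_orderOf.1 S.2 w
  have hk0 : k ≠ 0 := fun e => hw1 (orderOf_eq_one_iff.1 (by rw [hk, e, pow_zero]))
  have hev : Even (orderOf w) := hk ▸ (Nat.even_pow.2 ⟨even_two, hk0⟩)
  refine ⟨((w ^ (orderOf w / 2) : (S : Subgroup G)) : G), pow_mem hwT _, ?_, fun s hs => ?_⟩
  · rw [Subgroup.orderOf_coe]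
    exact orderOf_pow_half hev
  · exact congrArg Subtype.val (mem_center_iff.1 (pow_mem hwc _) ⟨s, hs⟩)

/-- A 2-subgroup of `M` is conjugate in `M` into `S`. -/
theorem exists_conj {D : Subgroup G} (hD : IsPGroup 2 D) (hDM : D ≤ M) :
    ∃ m ∈ M, ∀ d ∈ D, m * d * m⁻¹ ∈ (S : Subgroup G) := by
  have : Fact (Nat.Prime 2) := ⟨Nat.prime_two⟩
  obtain ⟨P, hP⟩ := (hD.comap_subtype (K := M)).exists_le_sylow
  obtain ⟨m, hm⟩ := MulAction.exists_smul_eq M P (S.subtype h.sylow_le)
  refine ⟨m, m.2, fun d hd => ?_⟩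
  have h1 : m * ⟨d, hDM hd⟩ * m⁻¹ ∈ ((S.subtype h.sylow_le : Sylow 2 M) : Subgroup M) := by
    rw [← hm, Sylow.coe_subgroup_smul]
    exact smul_mem_pointwise_smul _ _ _ (hP (show (⟨d, hDM hd⟩ : M) ∈ D.comap M.subtype from hd))
  simpa [Sylow.coe_subtype, mem_subgroupOf] using h1

/-- `M` controls the fusion of the involutions of `T`, and contains the conjugating elements. -/
theorem mem_of_conj_mem {t g : G} (ht : t ∈ T) (ht2 : orderOf t = 2) (hg : g * t * g⁻¹ ∈ M) :
    g ∈ M := by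
  have hx2 : orderOf (g * t * g⁻¹) = 2 := (orderOf_conj_eq g t).trans ht2
  obtain ⟨m, hm, hmS⟩ := h.exists_conj (isPGroup_zpowers hx2) (zpowers_le.2 hg)
  set y := m * g with hy
  have hyt : y * t * y⁻¹ ∈ T := h.closed.2 t ht y (by
    convert hmS _ (mem_zpowers _) using 1
    rw [hy]; group)
  suffices hyM : y ∈ M by
    have := mul_mem (inv_mem hm) hyM
    rwa [hy, inv_mul_cancel_left] at this
  -- a central involution reduces this to centralizers
  obtain ⟨z, hzT, hz2, hzc⟩ := h.exists_central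
  have hzy : y * z * y⁻¹ ∈ M := by
    refine h.cent _ hyt ((orderOf_conj_eq y t).trans ht2) (mem_centralizer_singleton_iff.2 ?_)
    have e : t * z = z * t := hzc t (h.closed.1 ht)
    calc y * z * y⁻¹ * (y * t * y⁻¹) = y * (z * t) * y⁻¹ := by group
      _ = y * (t * z) * y⁻¹ := by rw [e]
      _ = y * t * y⁻¹ * (y * z * y⁻¹) := by group
  obtain ⟨n, hn, hnS⟩ := h.exists_conj (isPGroup_zpowers ((orderOf_conj_eq y z).trans hz2))
    (zpowers_le.2 hzy)
  set w := n * y with hw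
  have hwz : w * z * w⁻¹ ∈ T := h.closed.2 z hzT w (by
    convert hnS _ (mem_zpowers _) using 1
    rw [hw]; group)
  suffices hwM : w ∈ M by
    have := mul_mem (inv_mem hn) hwM
    rwa [hw, inv_mul_cancel_left] at this
  -- the conjugate of `S` lies in `M`
  have hSw : (S : Subgroup G).map (MulAut.conj w).toMonoidHom ≤ M := by
    rintro _ ⟨s, hs, rfl⟩
    refine h.cent _ hwz ((orderOf_conj_eq w z).trans hz2) (mem_centralizer_singleton_iff.2 ?_)
    show w * s * w⁻¹ * (w * z * w⁻¹) = w * z * w⁻¹ * (w * s * w⁻¹)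
    calc w * s * w⁻¹ * (w * z * w⁻¹) = w * (s * z) * w⁻¹ := by group
      _ = w * (z * s) * w⁻¹ := by rw [(hzc s hs).eq]
      _ = w * z * w⁻¹ * (w * s * w⁻¹) := by group
  obtain ⟨m', hm', hm'S⟩ := h.exists_conj (S.2.map _) hSw
  have hN : m' * w ∈ normalizer ((S : Subgroup G) : Set G) :=
    CfsgLib.Coprime.mem_normalizer_of_forall_conj fun s hs => by
      have := hm'S _ ⟨s, hs, rfl⟩
      rw [MulEquiv.coe_toMonoidHom, MulAut.conj_apply] at this
      convert this using 1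
      group
  have := mul_mem (inv_mem hm') (h.norm hN)
  rwa [inv_mul_cancel_left] at this

omit h [Finite G] in
theorem mem_orderOf {x : G} (hx : x ∈ mem T) : orderOf x = 2 := by
  obtain ⟨g, t, -, ht2, rfl⟩ := hx
  exact (orderOf_conj_eq g t).trans ht2

omit h [Finite G] in
theorem mem_conj {x : G} (k : G) (hx : x ∈ mem T) : k * x * k⁻¹ ∈ mem T := by
  obtain ⟨g, t, ht, ht2, rfl⟩ := hx
  exact ⟨k * g, t, ht, ht2, by group⟩

/-- A member of `M` is conjugate by an element of `M` into `T`. -/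
theorem exists_mem_eq {x : G} (hx : x ∈ mem T) (hxM : x ∈ M) :
    ∃ g ∈ M, ∃ t ∈ T, orderOf t = 2 ∧ g * t * g⁻¹ = x := by
  obtain ⟨g, t, ht, ht2, rfl⟩ := hx
  exact ⟨g, h.mem_of_conj_mem ht ht2 hxM, t, ht, ht2, rfl⟩

/-- Two distinct commuting members multiply to a member. -/
theorem mul_mem_mem {s t : G} (hs : s ∈ mem T) (ht : t ∈ mem T) (hst : Commute s t)
    (hne : s ≠ t) : s * t ∈ mem T := by
  obtain ⟨g, s₀, hs₀, hs₀2, rfl⟩ := hs
  set t₀ := g⁻¹ * t * g with ht₀
  have ht₀m : t₀ ∈ mem T := by simpa [ht₀] using mem_conj g⁻¹ ht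
  have hc : Commute s₀ t₀ := by
    show s₀ * t₀ = t₀ * s₀
    calc s₀ * t₀ = g⁻¹ * (g * s₀ * g⁻¹ * t) * g := by rw [ht₀]; group
      _ = g⁻¹ * (t * (g * s₀ * g⁻¹)) * g := by rw [hst.eq]
      _ = t₀ * s₀ := by rw [ht₀]; group
  have hne₀ : s₀ ≠ t₀ := fun e => hne (by rw [e, ht₀]; group)
  have ht₀2 : orderOf t₀ = 2 := mem_orderOf ht₀m
  have ht₀M : t₀ ∈ M := h.cent s₀ hs₀ hs₀2 (mem_centralizer_singleton_iff.2 hc.eq.symm)
  have hprod : orderOf (s₀ * t₀) = 2 := orderOf_eq_two_iff_mul.2 ⟨fun e => hne₀ (by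
    rw [mul_eq_one_iff_eq_inv, inv_eq_self_of_involution ht₀2] at e
    exact e), by
    calc s₀ * t₀ * (s₀ * t₀) = s₀ * (t₀ * s₀) * t₀ := by group
      _ = (s₀ * s₀) * (t₀ * t₀) := by rw [← hc.eq]; group
      _ = 1 := by rw [mul_self_eq_one hs₀2, mul_self_eq_one ht₀2, one_mul]⟩
  obtain ⟨m, -, hmS⟩ := h.exists_conj
    (isPGroup_two_closure_pair hs₀2 ht₀2 (k := 1) (by rw [hprod, pow_one]))
    ((closure_le M).2 (Set.insert_subset (h.le hs₀) (Set.singleton_subset_iff.2 ht₀M)))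
  have hsT : m * s₀ * m⁻¹ ∈ T :=
    h.closed.2 s₀ hs₀ m (hmS _ (subset_closure (Set.mem_insert _ _)))
  have htT : m * t₀ * m⁻¹ ∈ T := by
    have hS' := hmS _ (subset_closure (Set.mem_insert_of_mem _ (Set.mem_singleton t₀)))
    obtain ⟨k, t₁, ht₁, -, e⟩ := mem_conj m ht₀m
    rw [← e] at hS' ⊢
    exact h.closed.2 t₁ ht₁ k hS'
  refine ⟨g * m⁻¹, m * (s₀ * t₀) * m⁻¹, ?_, (orderOf_conj_eq m _).trans hprod, ?_⟩
  · rw [show m * (s₀ * t₀) * m⁻¹ = (m * s₀ * m⁻¹) * (m * t₀ * m⁻¹) by group]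
    exact mul_mem hsT htT
  · rw [ht₀]; group

/-- The setting on the cosets of `M`. -/
theorem setting (hM : M ≠ ⊤) : Setting (G ⧸ M) (mem T) := by
  have : Fact (Nat.Prime 2) := ⟨Nat.prime_two⟩
  have huniq : ∀ t ∈ mem T, ∀ x y : G ⧸ M, t • x = x → t • y = y → x = y := by
    intro t ht
    obtain ⟨g, t₀, ht₀, ht₀2, rfl⟩ := ht
    suffices hx : ∀ a : G, (g * t₀ * g⁻¹) • (a : G ⧸ M) = (a : G ⧸ M) →
        (a : G ⧸ M) = (g : G ⧸ M) by
      intro x y
      induction x using QuotientGroup.induction_on with | H a => ?_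
      induction y using QuotientGroup.induction_on with | H b => ?_
      intro ha hb
      rw [hx a ha, hx b hb]
    intro a ha
    rw [smul_eq_iff] at ha
    have h1 : a⁻¹ * g ∈ M := h.mem_of_conj_mem ht₀ ht₀2 (by
      convert ha using 1
      group)
    exact QuotientGroup.eq.2 h1
  refine ⟨fun t ht => mem_orderOf ht, fun k t ht => mem_conj k ht,
    fun x y => exists_smul_eq G x y, fun x => ?_, fun t ht => ?_, huniq, ?_, ?_⟩
  · obtain ⟨g, hg⟩ : ∃ g, g ∉ M := by
      by_contra hc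
      exact hM (eq_top_iff.2 fun g _ => by_contra fun hg => hc ⟨g, hg⟩)
    by_contra hc
    push Not at hc
    refine hg ?_
    have h1 := (hc ((g : G) : G ⧸ M)).trans (hc ((1 : G) : G ⧸ M)).symm
    rw [QuotientGroup.eq, mul_one, inv_mem_iff] at h1
    exact h1
  · obtain ⟨g, t₀, ht₀, -, rfl⟩ := ht
    refine ⟨(g : G ⧸ M), (smul_eq_iff _ g).2 ?_⟩
    convert h.le ht₀ using 1
    group
  · intro s hs t ht hst hne x y hx hy
    exact huniq _ (h.mul_mem_mem hs ht hst hne) x y hx hy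
  · intro x D hD hDx
    induction x using QuotientGroup.induction_on with | H a => ?_
    obtain ⟨m, hm, hmS⟩ := h.exists_conj (hD.map (MulAut.conj a⁻¹).toMonoidHom) (by
      rintro _ ⟨d, hd, rfl⟩
      have := (smul_eq_iff d a).1 (hDx hd)
      simpa [MulAut.conj_apply] using this)
    obtain ⟨z, hzT, hz2, hzc⟩ := h.exists_central
    refine ⟨a * m⁻¹ * z * (a * m⁻¹)⁻¹, ⟨a * m⁻¹, z, hzT, hz2, rfl⟩, (smul_eq_iff _ a).2 ?_,
      fun d hd => ?_⟩
    · rw [show a⁻¹ * (a * m⁻¹ * z * (a * m⁻¹)⁻¹) * a = m⁻¹ * z * m by group]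
      exact mul_mem (mul_mem (inv_mem hm) (h.le hzT)) hm
    · have h1 : m * (a⁻¹ * d * a) * m⁻¹ ∈ (S : Subgroup G) := by
        have := hmS _ ⟨d, hd, rfl⟩
        simpa [MulAut.conj_apply] using this
      show d * (a * m⁻¹ * z * (a * m⁻¹)⁻¹) = a * m⁻¹ * z * (a * m⁻¹)⁻¹ * d
      calc d * (a * m⁻¹ * z * (a * m⁻¹)⁻¹)
          = a * m⁻¹ * (m * (a⁻¹ * d * a) * m⁻¹ * z) * (a * m⁻¹)⁻¹ := by group
        _ = a * m⁻¹ * (z * (m * (a⁻¹ * d * a) * m⁻¹)) * (a * m⁻¹)⁻¹ := by rw [(hzc _ h1).eq]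
        _ = a * m⁻¹ * z * (a * m⁻¹)⁻¹ * d := by group

theorem mem_nonempty : ∃ z, z ∈ mem T := by
  obtain ⟨z, hzT, hz2, -⟩ := h.exists_central
  exact ⟨z, 1, z, hzT, hz2, by group⟩

/-- If no involution of `G` is bad, `M` is strongly embedded. -/
theorem isStronglyEmbedded_of_noBad (hM : M ≠ ⊤) (hbad : ∀ w : G, ¬ IsBad (G ⧸ M) w) :
    Cfsg.IsStronglyEmbedded M := by
  have : Fact (Nat.Prime 2) := ⟨Nat.prime_two⟩
  obtain ⟨z, hzT, hz2, -⟩ := h.exists_central
  refine ⟨hM, even_iff_two_dvd.2 ?_, fun g hg => ?_⟩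
  · have := Subgroup.orderOf_dvd_natCard M (x := z) (h.le hzT)
    rwa [hz2] at this
  rw [← Nat.not_even_iff_odd]
  intro hev
  obtain ⟨⟨x, hxM, y, hy, hyx⟩, hx2⟩ := exists_prime_orderOf_dvd_card' 2 (even_iff_two_dvd.1 hev)
  rw [← Subgroup.orderOf_coe] at hx2
  refine hbad x ⟨hx2, ((1 : G) : G ⧸ M), (g : G ⧸ M), fun e => hg ?_, ?_, ?_⟩
  · have h1 := QuotientGroup.eq.1 e
    simpa using h1
  · refine (smul_eq_iff x 1).2 ?_
    simpa using hxM
  · refine (smul_eq_iff x g).2 ?_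
    rw [MulEquiv.coe_toMonoidHom, MulAut.conj_apply] at hyx
    rw [← hyx, show g⁻¹ * (g * y * g⁻¹) * g = y by group]
    exact hy

end Data

theorem map_centJoin (g : G) :
    (⨆ t : {t : G // t ∈ T ∧ orderOf t = 2}, centralizer ({(t : G)} : Set G)).map
        (MulAut.conj g).toMonoidHom =
      ⨆ t : {t : G // t ∈ T ∧ orderOf t = 2},
        centralizer ({g * (t : G) * g⁻¹} : Set G) := by
  rw [Subgroup.map_iSup]
  refine iSup_congr fun t => ?_
  ext x
  simp only [mem_map_equiv, MulAut.conj_symm_apply, mem_centralizer_singleton_iff]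
  constructor
  · intro e
    calc x * (g * t * g⁻¹) = g * (g⁻¹ * x * g * t) * g⁻¹ := by group
      _ = g * (t * (g⁻¹ * x * g)) * g⁻¹ := by rw [e]
      _ = g * t * g⁻¹ * x := by group
  · intro e
    calc g⁻¹ * x * g * t = g⁻¹ * (x * (g * t * g⁻¹)) * g := by group
      _ = g⁻¹ * (g * t * g⁻¹ * x) * g := by rw [e]
      _ = t * (g⁻¹ * x * g) := by group

theorem normalizer_le_normalizer_centJoin [Finite G] :
    normalizer (T : Set G) ≤ normalizer ((⨆ t : {t : G // t ∈ T ∧ orderOf t = 2},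
      centralizer ({(t : G)} : Set G) : Subgroup G) : Set G) := by
  intro g hg
  refine CfsgLib.Coprime.mem_normalizer_of_forall_conj fun y hy => ?_
  have hle : (⨆ t : {t : G // t ∈ T ∧ orderOf t = 2}, centralizer ({(t : G)} : Set G)).map
      (MulAut.conj g).toMonoidHom ≤
      ⨆ t : {t : G // t ∈ T ∧ orderOf t = 2}, centralizer ({(t : G)} : Set G) := by
    rw [map_centJoin]
    exact iSup_le fun t => le_iSup
      (fun t : {t : G // t ∈ T ∧ orderOf t = 2} => centralizer ({(t : G)} : Set G))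
      ⟨g * t * g⁻¹, (mem_normalizer_iff.1 hg t).1 t.2.1, (orderOf_conj_eq g t).trans t.2.2⟩
  exact hle (mem_map_of_mem _ hy)

/-- The statement on strongly closed subgroups in simple groups, from `BadOutside`. -/
theorem exists_stronglyEmbedded [Finite G] [IsSimpleGroup G] (bad : BadOutside.{u})
    (hT1 : T ≠ ⊥) (hT : Cfsg.IsStronglyClosed T (S : Subgroup G))
    (hprop : (⨆ t : {t : G // t ∈ T ∧ orderOf t = 2}, centralizer ({(t : G)} : Set G)) ≠ ⊤) :
    ∃ H : Subgroup G, Cfsg.IsStronglyEmbedded H := by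
  set M₀ := ⨆ t : {t : G // t ∈ T ∧ orderOf t = 2}, centralizer ({(t : G)} : Set G) with hM₀
  set M := normalizer (M₀ : Set G)
  have hcent : ∀ t ∈ T, orderOf t = 2 → centralizer ({t} : Set G) ≤ M₀ := fun t ht ht2 =>
    le_iSup (fun t : {t : G // t ∈ T ∧ orderOf t = 2} => centralizer ({(t : G)} : Set G))
      ⟨t, ht, ht2⟩
  have hd : Data S T M := ⟨hT, hT1, fun t ht ht2 => (hcent t ht ht2).trans le_normalizer,
    (normalizer_le_normalizer hT).trans normalizer_le_normalizer_centJoin⟩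
  obtain ⟨z, hzT, hz2, -⟩ := hd.exists_central
  have hzM₀ : z ∈ M₀ := hcent z hzT hz2 (mem_centralizer_singleton_iff.2 rfl)
  have hMtop : M ≠ ⊤ := fun e => by
    rcases Subgroup.Normal.eq_bot_or_eq_top (Subgroup.normalizer_eq_top_iff.1 e) with h | h
    · rw [h, Subgroup.mem_bot] at hzM₀
      exact ne_one_of_involution hz2 hzM₀
    · exact hprop h
  have hfaith : ∀ g : G, (∀ x : G ⧸ M, g • x = x) → g = 1 := fun g hg => by
    have h1 : g ∈ M.normalCore := fun b => by
      have := (smul_eq_iff g b⁻¹).1 (hg _)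
      simpa using this
    rcases Subgroup.Normal.eq_bot_or_eq_top (Subgroup.normalCore_normal M) with h | h
    · rwa [h, Subgroup.mem_bot] at h1
    · exact absurd (top_le_iff.1 (h ▸ Subgroup.normalCore_le M)) hMtop
  have hgen : Subgroup.closure (mem T) = ⊤ := by
    have hn : (Subgroup.closure (mem T)).Normal := ⟨fun x hx g => by
      have hle : (Subgroup.closure (mem T)).map (MulAut.conj g).toMonoidHom ≤
          Subgroup.closure (mem T) := by
        rw [MonoidHom.map_closure, Subgroup.closure_le]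
        rintro _ ⟨y, hy, rfl⟩
        exact subset_closure (Data.mem_conj g hy)
      exact hle (mem_map_of_mem _ hx)⟩
    refine hn.eq_bot_or_eq_top.resolve_left fun h => ?_
    obtain ⟨x, hx⟩ := hd.mem_nonempty
    have h1 : x ∈ Subgroup.closure (mem T) := subset_closure hx
    rw [h, Subgroup.mem_bot] at h1
    exact ne_one_of_involution (Data.mem_orderOf hx) h1
  exact ⟨M, hd.isStronglyEmbedded_of_noBad hMtop fun w hw =>
    bad G (G ⧸ M) (mem T) (hd.setting hMtop) hfaith w hw (hgen ▸ Subgroup.mem_top w)⟩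

end StronglyClosed

end CfsgLib.StrongCrit
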