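import Cfsg.Agent.Lib.StrongCrit.Setting

/-!
Elementary consequences of the setting of Aschbacher's criterion: members with different centres
have odd product, every two points are interchanged by as many members as fix one point, and a
good involution commuting with a bad one is a member.
-/

set_option autoImplicit false

namespace CfsgLib.StrongCrit

open CfsgLib.Involutions MulAction

universe u v

variable {G : Type u} [Group G] {Ω : Type v} [MulAction G Ω] {Z : Set G}

theorem isBad_conj {u : G} (hu : IsBad Ω u) (g : G) : IsBad Ω (g * u * g⁻¹) := by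
  obtain ⟨h2, x, y, hxy, hx, hy⟩ := hu
  refine ⟨(orderOf_conj_eq g u).trans h2, g • x, g • y, fun e => hxy (MulAction.injective g e), ?_, ?_⟩
  · rw [smul_smul, inv_mul_cancel_right, mul_smul, hx]
  · rw [smul_smul, inv_mul_cancel_right, mul_smul, hy]

/-- An element conjugating `d` to itself or its inverse, for both generators, does so throughout. -/
theorem conj_eq_or_inv {a s d g : G} (ha : a * d * a⁻¹ = d) (hs : s * d * s⁻¹ = d⁻¹)
    (hg : g ∈ Subgroup.closure ({a, s} : Set G)) : g * d * g⁻¹ = d ∨ g * d * g⁻¹ = d⁻¹ := by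
  induction hg using Subgroup.closure_induction with
  | mem x hx =>
    rcases hx with rfl | rfl
    · exact Or.inl ha
    · exact Or.inr hs
  | one => left; group
  | mul x y _ _ hx hy =>
    rw [show x * y * d * (x * y)⁻¹ = x * (y * d * y⁻¹) * x⁻¹ by group]
    rcases hy with hy | hy <;> rw [hy]
    · exact hx
    · rw [show x * d⁻¹ * x⁻¹ = (x * d * x⁻¹)⁻¹ by group]
      rcases hx with hx | hx <;> rw [hx]
      · exact Or.inr rfl
      · exact Or.inl (inv_inv d)
  | inv x _ hx =>
    rcases hx with hx | hx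
    · left
      calc x⁻¹ * d * x⁻¹⁻¹ = x⁻¹ * (x * d * x⁻¹) * x := by rw [hx, inv_inv]
        _ = d := by group
    · right
      calc x⁻¹ * d * x⁻¹⁻¹ = (x⁻¹ * (x * d * x⁻¹) * x)⁻¹ := by rw [hx]; group
        _ = d⁻¹ := by group

/-- The subgroup generated by one involution is a 2-group. -/
theorem isPGroup_zpowers {u : G} (hu : orderOf u = 2) : IsPGroup 2 (Subgroup.zpowers u) :=
  IsPGroup.of_card (n := 1) (by rw [Nat.card_zpowers, hu, pow_one])

/-- A group generated by elements preserving a pair of points preserves it. -/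
theorem pair_of_le_closure {S : Set G} {x y : Ω}
    (hS : ∀ g ∈ S, (g • x = x ∧ g • y = y) ∨ (g • x = y ∧ g • y = x)) {g : G}
    (hg : g ∈ Subgroup.closure S) : (g • x = x ∧ g • y = y) ∨ (g • x = y ∧ g • y = x) := by
  induction hg using Subgroup.closure_induction with
  | mem z hz => exact hS z hz
  | one => exact Or.inl ⟨one_smul G x, one_smul G y⟩
  | mul a b _ _ ha hb =>
    rcases hb with ⟨h1, h2⟩ | ⟨h1, h2⟩ <;> rcases ha with ⟨h3, h4⟩ | ⟨h3, h4⟩ <;>
      simp [mul_smul, h1, h2, h3, h4]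
  | inv a _ ha =>
    rcases ha with ⟨h1, h2⟩ | ⟨h1, h2⟩
    · exact Or.inl ⟨inv_smul_eq_iff.2 h1.symm, inv_smul_eq_iff.2 h2.symm⟩
    · exact Or.inr ⟨inv_smul_eq_iff.2 h2.symm, inv_smul_eq_iff.2 h1.symm⟩

namespace Setting

variable (h : Setting Ω Z)
include h

theorem conj_memAt {t g : G} {c : Ω} (ht : t ∈ memAt Z c) : g * t * g⁻¹ ∈ memAt Z (g • c) :=
  ⟨h.conj_mem g t ht.1, by rw [smul_smul, inv_mul_cancel_right, mul_smul, ht.2]⟩

/-- Whatever commutes with a member fixes its centre. -/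
theorem fix_of_commute {t g : G} {c : Ω} (ht : t ∈ memAt Z c) (hg : Commute g t) : g • c = c :=
  h.unique t ht.1 _ _ (by rw [smul_smul, ← hg.eq, mul_smul, ht.2]) ht.2

theorem swap_symm {x y : Ω} {r : G} (hr : r ∈ swapMem Z x y) : r • y = x := by
  rw [← hr.2, smul_smul, mul_self_eq_one (h.invol r hr.1), one_smul]

theorem exists_memAt (c : Ω) : (memAt Z c).Nonempty := by
  obtain ⟨t, ht, hc, -⟩ := h.central c ⊥ IsPGroup.of_bot bot_le
  exact ⟨t, ht, hc⟩

theorem exists_memAt_commute {u : G} (hu : orderOf u = 2) {c : Ω} (hc : u • c = c) :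
    ∃ t ∈ memAt Z c, Commute u t := by
  obtain ⟨t, ht, htc, hcomm⟩ := h.central c _ (isPGroup_zpowers hu)
    (Subgroup.zpowers_le.2 hc)
  exact ⟨t, ⟨ht, htc⟩, hcomm u (Subgroup.mem_zpowers u)⟩

/-- The central involution of two members with even product fixes one point only. -/
theorem mid_unique [Finite G] {s t : G} (hs : s ∈ Z) (ht : t ∈ Z) (he : Even (orderOf (s * t)))
    {p q : Ω} (hp : (s * t) ^ (orderOf (s * t) / 2) • p = p)
    (hq : (s * t) ^ (orderOf (s * t) / 2) • q = q) : p = q := by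
  have hs2 := h.invol s hs
  have ht2 := h.invol t ht
  obtain ⟨he2, hes, -⟩ := central_involution hs2 ht2 he
  set k := orderOf (s * t) / 2
  set e := (s * t) ^ k with hedef
  have hes' : e * s ∈ Z := by
    rcases Nat.even_or_odd k with ⟨j, hj⟩ | ⟨j, hj⟩
    · have h1 := conj_by_zpow hs2 ht2 (j : ℤ) 0
      rw [zpow_zero, one_mul, add_zero] at h1
      have h2 : (s * t) ^ (2 * (j : ℤ)) = e := by
        rw [hedef, ← zpow_natCast, hj]; congr 1; push_cast; ring
      rw [h2] at h1
      exact h1 ▸ h.conj_mem _ s hs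
    · have h1 := conj_by_zpow hs2 ht2 ((j : ℤ) + 1) (-1)
      have h3 : (s * t) ^ (-1 : ℤ) * s = t := by
        rw [zpow_neg_one, mul_inv_rev, inv_eq_self_of_involution hs2, inv_eq_self_of_involution ht2,
          mul_assoc, mul_self_eq_one hs2, mul_one]
      have h2 : (s * t) ^ (2 * ((j : ℤ) + 1) + -1) = e := by
        rw [hedef, ← zpow_natCast, hj]; congr 1; push_cast; ring
      rw [h2, h3] at h1
      exact h1 ▸ h.conj_mem _ t ht
  have hne : e * s ≠ s := by
    intro hh
    exact ne_one_of_involution he2 (mul_eq_right.1 hh)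
  have hcomm : Commute (e * s) s := hes.mul_left (Commute.refl s)
  have heq : e * s * s = e := by rw [mul_assoc, mul_self_eq_one hs2, mul_one]
  exact h.pair _ hes' s hs hcomm hne p q (by rw [heq]; exact hp) (by rw [heq]; exact hq)

/-- Members with different centres have a product of odd order. -/
theorem odd_order_mul [Finite G] {s t : G} {x y : Ω} (hs : s ∈ memAt Z x) (ht : t ∈ memAt Z y)
    (hxy : x ≠ y) : Odd (orderOf (s * t)) := by
  by_contra ho
  rw [Nat.not_odd_iff_even] at ho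
  obtain ⟨-, hes, het⟩ := central_involution (h.invol s hs.1) (h.invol t ht.1) ho
  exact hxy (h.mid_unique hs.1 ht.1 ho (h.fix_of_commute hs hes) (h.fix_of_commute ht het))

/-- Two members interchanging the same points have a product of odd order. -/
theorem odd_order_mul_swap [Finite G] {x y : Ω} (hxy : x ≠ y) {s s' : G} (hs : s ∈ swapMem Z x y)
    (hs' : s' ∈ swapMem Z x y) : Odd (orderOf (s * s')) := by
  by_contra ho
  rw [Nat.not_odd_iff_even] at ho
  have hx : s * s' ∈ stabilizer G x := by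
    rw [mem_stabilizer_iff, mul_smul, hs'.2, h.swap_symm hs]
  have hy : s * s' ∈ stabilizer G y := by
    rw [mem_stabilizer_iff, mul_smul, h.swap_symm hs', hs.2]
  exact hxy (h.mid_unique hs.1 hs'.1 ho (pow_mem hx _) (pow_mem hy _))

/-- Members with different centres are conjugate within the group they generate. -/
theorem exists_conj_of_ne [Finite G] {s t : G} {x y : Ω} (hs : s ∈ memAt Z x) (ht : t ∈ memAt Z y)
    (hxy : x ≠ y) :
    ∃ g ∈ Subgroup.closure ({s, t} : Set G), g * s * g⁻¹ = t ∧ g • x = y := by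
  obtain ⟨g, hg, hgs⟩ := conj_of_odd_order (h.invol s hs.1) (h.invol t ht.1)
    (h.odd_order_mul hs ht hxy)
  refine ⟨g, hg, hgs, h.unique t ht.1 _ _ ?_ ht.2⟩
  have h1 := (h.conj_memAt (g := g) hs).2
  rwa [hgs] at h1

/-- A stabiliser is transitive on the members with that centre. -/
theorem exists_conj_memAt [Finite G] {c : Ω} {s t : G} (hs : s ∈ memAt Z c) (ht : t ∈ memAt Z c) :
    ∃ g ∈ stabilizer G c, g * s * g⁻¹ = t := by
  obtain ⟨y, hy⟩ := h.nontriv c
  obtain ⟨w, hw⟩ := h.exists_memAt y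
  obtain ⟨a, -, ha, hac⟩ := h.exists_conj_of_ne hs hw hy.symm
  obtain ⟨b, -, hb, hby⟩ := h.exists_conj_of_ne hw ht hy
  refine ⟨b * a, by rw [mem_stabilizer_iff, mul_smul, hac, hby], ?_⟩
  rw [show b * a * s * (b * a)⁻¹ = b * (a * s * a⁻¹) * b⁻¹ by group, ha, hb]

theorem ncard_memAt_eq (x y : Ω) : (memAt Z x).ncard = (memAt Z y).ncard := by
  obtain ⟨g, rfl⟩ := h.trans x y
  refine Set.ncard_congr (fun t _ => g * t * g⁻¹) (fun t ht => h.conj_memAt ht)
    (fun a b _ _ hab => by simpa using hab) fun b hb => ⟨g⁻¹ * b * g, ?_, by group⟩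
  have h1 := h.conj_memAt (g := g⁻¹) hb
  rwa [inv_inv, inv_smul_smul] at h1

/-- An element inverted by a member and centralised by a member with another centre squares to 1. -/
theorem mul_self_eq_one_of_inv [Finite G] {a s d : G} {x c : Ω} (ha : a ∈ memAt Z x)
    (hs : s ∈ memAt Z c) (hxc : x ≠ c) (had : Commute a d) (hsd : s * d * s⁻¹ = d⁻¹) :
    d * d = 1 := by
  have had' : a * d * a⁻¹ = d := by rw [had.eq]; group
  obtain ⟨g, hg, hgs, -⟩ := h.exists_conj_of_ne ha hs hxc
  have hga : s * (g * d * g⁻¹) * s⁻¹ = g * d * g⁻¹ := by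
    rw [← hgs, show g * a * g⁻¹ * (g * d * g⁻¹) * (g * a * g⁻¹)⁻¹ = g * (a * d * a⁻¹) * g⁻¹ by
      group, had']
  rcases conj_eq_or_inv had' hsd hg with he | he <;> rw [he] at hga
  · rw [hsd, inv_eq_iff_mul_eq_one] at hga; exact hga
  · rw [show s * d⁻¹ * s⁻¹ = (s * d * s⁻¹)⁻¹ by group, hsd, inv_inv, eq_inv_iff_mul_eq_one] at hga
    exact hga

/-- Conjugation of a member at `y` separates the members interchanging `x` and `y`. -/
theorem injOn_conj [Finite G] {x y : Ω} (hxy : x ≠ y) {b : G} (hb : b ∈ memAt Z y) :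
    Set.InjOn (fun s => s * b * s⁻¹) (swapMem Z x y) := by
  intro s hs s' hs' he
  simp only at he
  have h2 : s * s = 1 := mul_self_eq_one (h.invol s hs.1)
  have h2' : s' * s' = 1 := mul_self_eq_one (h.invol s' hs'.1)
  have his : s⁻¹ = s := inv_eq_self_of_involution (h.invol s hs.1)
  have his' : s'⁻¹ = s' := inv_eq_self_of_involution (h.invol s' hs'.1)
  obtain ⟨c, hc⟩ := h.exists_fix s hs.1
  have hcy : y ≠ c := by
    rintro rfl
    exact hxy ((h.swap_symm hs).symm.trans hc)
  have hd : Commute b (s' * s) := by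
    have h4 : b * (s' * s) = s' * s * b := by
      calc b * (s' * s) = s' * (s' * b * s'⁻¹) * s := by
            rw [his']; simp only [← mul_assoc, h2', one_mul]
        _ = s' * (s * b * s⁻¹) * s := by rw [he]
        _ = s' * s * b := by rw [his]; simp only [mul_assoc, h2, mul_one]
    exact h4
  have hsd : s * (s' * s) * s⁻¹ = (s' * s)⁻¹ := by
    rw [mul_inv_rev, his, his', mul_assoc, mul_assoc, h2, mul_one]
  have hsq := h.mul_self_eq_one_of_inv hb ⟨hs.1, hc⟩ hcy hd hsd
  have hodd := h.odd_order_mul_swap hxy hs' hs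
  have h1 : orderOf (s' * s) ∣ 2 := orderOf_dvd_of_pow_eq_one (by rw [pow_two, hsq])
  rcases (Nat.dvd_prime Nat.prime_two).1 h1 with h1 | h1
  · rw [orderOf_eq_one_iff, mul_eq_one_iff_eq_inv, his] at h1
    exact h1.symm
  · rw [h1] at hodd; exact absurd hodd (by decide)

/-- Every two points are interchanged by as many members as fix one point. -/
theorem ncard_swapMem [Finite G] [Finite Ω] {x y : Ω} (hxy : x ≠ y) :
    (swapMem Z x y).ncard = (memAt Z x).ncard := by
  classical
  have := Fintype.ofFinite Ω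
  have hle : ∀ z ∈ (Finset.univ : Finset Ω), (swapMem Z x z).ncard ≤ (memAt Z x).ncard := by
    intro z _
    rcases eq_or_ne x z with rfl | hz
    · exact le_rfl
    · obtain ⟨b, hb⟩ := h.exists_memAt z
      refine Set.ncard_le_ncard_of_injOn (fun s => s * b * s⁻¹) (fun s hs => ?_)
        (h.injOn_conj hz hb) (Set.toFinite _)
      have := h.conj_memAt (g := s) hb
      rwa [h.swap_symm hs] at this
  let e1 : (Σ z : Ω, swapMem Z x z) ≃ Z :=
    Equiv.ofBijective (fun p => ⟨p.2.1, p.2.2.1⟩) ⟨by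
      rintro ⟨z, t, ht⟩ ⟨z', t', ht'⟩ hh
      obtain rfl : t = t' := congrArg Subtype.val hh
      obtain rfl : z = z' := ht.2.symm.trans ht'.2
      rfl, fun ⟨t, ht⟩ => ⟨⟨t • x, t, ht, rfl⟩, rfl⟩⟩
  let e2 : (Σ z : Ω, memAt Z z) ≃ Z :=
    Equiv.ofBijective (fun p => ⟨p.2.1, p.2.2.1⟩) ⟨by
      rintro ⟨z, t, ht⟩ ⟨z', t', ht'⟩ hh
      obtain rfl : t = t' := congrArg Subtype.val hh
      obtain rfl := h.unique t ht.1 _ _ ht.2 ht'.2
      rfl, fun ⟨t, ht⟩ => by
      obtain ⟨c, hc⟩ := h.exists_fix t ht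
      exact ⟨⟨c, t, ht, hc⟩, rfl⟩⟩
  have hsum : ∑ z : Ω, (swapMem Z x z).ncard = ∑ z : Ω, (memAt Z x).ncard := by
    have h1 := Nat.card_congr (e1.trans e2.symm)
    rw [Nat.card_sigma, Nat.card_sigma] at h1
    simp_rw [Nat.card_coe_set_eq] at h1
    rw [h1]
    exact Finset.sum_congr rfl fun z _ => h.ncard_memAt_eq z x
  exact (Finset.sum_eq_sum_iff_of_le hle).1 hsum y (Finset.mem_univ _)

/-- Conjugating a fixed member at `y` maps the swappers of `x, y` bijectively onto the members at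
`x`. -/
theorem bijOn_conj [Finite G] [Finite Ω] {x y : Ω} (hxy : x ≠ y) {b : G} (hb : b ∈ memAt Z y) :
    Set.BijOn (fun s => s * b * s⁻¹) (swapMem Z x y) (memAt Z x) := by
  have hmaps : Set.MapsTo (fun s => s * b * s⁻¹) (swapMem Z x y) (memAt Z x) := by
    intro s hs
    have := h.conj_memAt (g := s) hb
    rwa [h.swap_symm hs] at this
  refine ⟨hmaps, h.injOn_conj hxy hb, ?_⟩
  have heq : (fun s => s * b * s⁻¹) '' swapMem Z x y = memAt Z x := by
    refine Set.eq_of_subset_of_ncard_le hmaps.image_subset ?_ (Set.toFinite _)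
    rw [(h.injOn_conj hxy hb).ncard_image, h.ncard_swapMem hxy]
  exact heq.symm.subset

/-- The number of members at a point is odd. -/
theorem odd_ncard_memAt [Finite G] (c : Ω) : Odd (memAt Z c).ncard := by
  classical
  have : Fact (Nat.Prime 2) := ⟨Nat.prime_two⟩
  obtain ⟨P⟩ : Nonempty (Sylow 2 (stabilizer G c)) := Sylow.nonempty
  obtain ⟨t, ht, htc, hcomm⟩ := h.central c _ (P.isPGroup'.map (stabilizer G c).subtype)
    (Subgroup.map_subtype_le _)
  let act : MulAction (stabilizer G c) (memAt Z c) :=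
    { smul := fun g s => ⟨(g : G) * s.1 * (g : G)⁻¹, by
        have := h.conj_memAt (g := (g : G)) s.2
        rwa [g.2] at this⟩
      one_smul := fun s => Subtype.ext (by show (1 : G) * s.1 * (1 : G)⁻¹ = s.1; group)
      mul_smul := fun g g' s => Subtype.ext (by
        show (g : G) * g' * s.1 * ((g : G) * g')⁻¹ = g * (g' * s.1 * (g' : G)⁻¹) * (g : G)⁻¹
        group) }
  have htr : IsPretransitive (stabilizer G c) (memAt Z c) := ⟨fun a b => by
    obtain ⟨g, hg, hga⟩ := h.exists_conj_memAt a.2 b.2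
    exact ⟨⟨g, hg⟩, Subtype.ext hga⟩⟩
  let t0 : memAt Z c := ⟨t, ht, htc⟩
  have hle : (P : Subgroup (stabilizer G c)) ≤ stabilizer (stabilizer G c) t0 := by
    intro g hg
    refine Subtype.ext ?_
    show (g : G) * t * (g : G)⁻¹ = t
    have hgt : Commute (g : G) t := hcomm (g : G) ⟨g, hg, rfl⟩
    rw [hgt.eq, mul_inv_cancel_right]
  rw [← Nat.card_coe_set_eq, ← index_stabilizer_of_transitive (stabilizer G c) t0,
    ← Nat.not_even_iff_odd]
  intro hev
  exact P.not_dvd_index (hev.two_dvd.trans (Subgroup.index_dvd_of_le hle))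

/-- A 2-group permuting an odd set of elements by conjugation centralises one of them. -/
theorem exists_fixed_conj [Finite G] {T : Subgroup G} (hT : IsPGroup 2 T) {X : Set G}
    (hX : Odd X.ncard) (hinv : ∀ g ∈ T, ∀ s ∈ X, g * s * g⁻¹ ∈ X) :
    ∃ s ∈ X, ∀ g ∈ T, Commute g s := by
  have : Fact (Nat.Prime 2) := ⟨Nat.prime_two⟩
  let act : MulAction T X :=
    { smul := fun g s => ⟨(g : G) * s.1 * (g : G)⁻¹, hinv _ g.2 _ s.2⟩
      one_smul := fun s => Subtype.ext (by show (1 : G) * s.1 * (1 : G)⁻¹ = s.1; group)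
      mul_smul := fun g g' s => Subtype.ext (by
        show (g : G) * g' * s.1 * ((g : G) * g')⁻¹ = g * (g' * s.1 * (g' : G)⁻¹) * (g : G)⁻¹
        group) }
  obtain ⟨s, hs⟩ := hT.nonempty_fixed_point_of_prime_not_dvd_card X (by
    rw [Nat.card_coe_set_eq]
    exact fun hd => (Nat.not_even_iff_odd.2 hX) (even_iff_two_dvd.2 hd))
  refine ⟨s.1, s.2, fun g hg => ?_⟩
  have h1 : g * s.1 * g⁻¹ = s.1 := congrArg Subtype.val (hs ⟨g, hg⟩)
  exact mul_inv_eq_iff_eq_mul.1 h1

/-- A 2-group fixing or interchanging two points centralises a member interchanging them. -/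
theorem exists_swap_centralized [Finite G] [Finite Ω] {T : Subgroup G} (hT : IsPGroup 2 T)
    {x y : Ω} (hxy : x ≠ y)
    (hfix : ∀ g ∈ T, (g • x = x ∧ g • y = y) ∨ (g • x = y ∧ g • y = x)) :
    ∃ s ∈ swapMem Z x y, ∀ g ∈ T, Commute g s := by
  refine h.exists_fixed_conj hT (by rw [h.ncard_swapMem hxy]; exact h.odd_ncard_memAt x) ?_
  intro g hg s hs
  refine ⟨h.conj_mem g s hs.1, ?_⟩
  rcases hfix g⁻¹ (inv_mem hg) with ⟨hx, hy⟩ | ⟨hx, hy⟩
  · rw [mul_smul, mul_smul, hx, hs.2]
    exact (eq_inv_smul_iff.1 hy.symm)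
  · rw [mul_smul, mul_smul, hx, h.swap_symm hs]
    exact (eq_inv_smul_iff.1 hy.symm)

/-- The product of a bad involution and a member commuting with it is bad. -/
theorem isBad_mul [Finite G] [Finite Ω] (hfaith : ∀ g : G, (∀ x : Ω, g • x = x) → g = 1) {u t : G}
    (hu : IsBad Ω u) (ht : t ∈ Z) (hut : Commute u t) : IsBad Ω (u * t) := by
  obtain ⟨hu2, x, y, hxy, hx, hy⟩ := hu
  obtain ⟨q, hq⟩ : ∃ q : Ω, u • q ≠ q := by
    by_contra hc
    push Not at hc
    exact ne_one_of_involution hu2 (hfaith u hc)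
  have huu : ∀ z : Ω, u • u • z = z := fun z => by
    rw [smul_smul, mul_self_eq_one hu2, one_smul]
  obtain ⟨s, hs, hsc⟩ := h.exists_swap_centralized (isPGroup_zpowers hu2) (x := q) (y := u • q)
    (Ne.symm hq) (by
      intro g hg
      rw [Subgroup.zpowers_eq_closure] at hg
      refine pair_of_le_closure ?_ hg
      rintro z rfl
      exact Or.inr ⟨rfl, huu q⟩)
  have hus : Commute u s := hsc u (Subgroup.mem_zpowers u)
  obtain ⟨c, hc⟩ := h.exists_fix s hs.1
  have hcq : c ≠ q := by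
    rintro rfl
    exact hq (hs.2.symm.trans hc)
  have hbad : ∀ {s : G} {c : Ω}, s • q = u • q → s • c = c → s ∈ Z → Commute u s → c ≠ q →
      IsBad Ω (u * s) := by
    intro s c hsq hsc hsZ hus hcq
    refine ⟨orderOf_eq_two_iff_mul.2 ⟨?_, ?_⟩, c, q, hcq, ?_, ?_⟩
    · intro he
      obtain rfl : u = s := by
        rw [mul_eq_one_iff_eq_inv] at he
        rw [he, inv_eq_self_of_involution (h.invol s hsZ)]
      exact hxy (h.unique _ hsZ _ _ hx hy)
    · rw [mul_assoc, ← mul_assoc s, ← hus.eq, mul_assoc u, mul_self_eq_one (h.invol s hsZ),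
        mul_one, mul_self_eq_one hu2]
    · rw [mul_smul, hsc, h.fix_of_commute ⟨hsZ, hsc⟩ hus]
    · rw [mul_smul, hsq, huu]
  have hus' := hbad hs.2 hc hs.1 hus hcq
  -- all members commuting with `u` are conjugate by elements commuting with `u`
  have hconj : ∀ {a b : G} {p r : Ω}, a ∈ memAt Z p → b ∈ memAt Z r → Commute u a → Commute u b →
      p ≠ r → ∃ g, Commute u g ∧ g * a * g⁻¹ = b := by
    intro a b p r ha hb hua hub hpr
    obtain ⟨g, hg, hgab, -⟩ := h.exists_conj_of_ne ha hb hpr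
    have hle : Subgroup.closure ({a, b} : Set G) ≤ Subgroup.centralizer {u} := by
      rw [Subgroup.closure_le]
      rintro z (rfl | rfl) <;>
        simp only [SetLike.mem_coe, Subgroup.mem_centralizer_singleton_iff]
      · exact hua.eq.symm
      · exact hub.eq.symm
    exact ⟨g, (Subgroup.mem_centralizer_singleton_iff.1 (hle hg)).symm, hgab⟩
  have hmove : ∀ {a b g : G}, Commute u g → g * a * g⁻¹ = b → IsBad Ω (u * a) → IsBad Ω (u * b) := by
    intro a b g hug hgab ha
    have := isBad_conj ha g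
    rwa [show g * (u * a) * g⁻¹ = g * u * g⁻¹ * (g * a * g⁻¹) by group, hug.symm.eq,
      mul_inv_cancel_right, hgab] at this
  obtain ⟨p, hp⟩ := h.exists_fix t ht
  have huc : u • c = c := h.fix_of_commute ⟨hs.1, hc⟩ hus
  rcases eq_or_ne c p with rfl | hcp
  · obtain ⟨r, hr, hrc⟩ : ∃ r, u • r = r ∧ r ≠ c := by
      rcases eq_or_ne x c with rfl | hxc
      · exact ⟨y, hy, hxy.symm⟩
      · exact ⟨x, hx, hxc⟩
    obtain ⟨w, hw, huw⟩ := h.exists_memAt_commute hu2 hr
    obtain ⟨g, hg, hgw⟩ := hconj ⟨hs.1, hc⟩ hw hus huw hrc.symm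
    obtain ⟨g', hg', hgt⟩ := hconj hw ⟨ht, hp⟩ huw hut hrc
    exact hmove hg' hgt (hmove hg hgw hus')
  · obtain ⟨g, hg, hgt⟩ := hconj ⟨hs.1, hc⟩ ⟨ht, hp⟩ hus hut hcp
    exact hmove hg hgt hus'

/-- A good involution commuting with a bad one is a member. -/
theorem mem_of_commute_bad [Finite G] [Finite Ω] (hfaith : ∀ g : G, (∀ x : Ω, g • x = x) → g = 1)
    {a u : G} {c : Ω} (ha : orderOf a = 2) (hac : a • c = c) (huniq : ∀ x : Ω, a • x = x → x = c)
    (hu : IsBad Ω u) (hau : Commute a u) : a ∈ Z := by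
  obtain ⟨hu2, x, y, hxy, hx, hy⟩ := hu
  obtain ⟨q, hq, hqc⟩ : ∃ q, u • q = q ∧ q ≠ c := by
    rcases eq_or_ne x c with rfl | hxc
    · exact ⟨y, hy, hxy.symm⟩
    · exact ⟨x, hx, hxc⟩
  have haq : a • q ≠ q := fun e => hqc (huniq q e)
  have haa : ∀ z : Ω, a • a • z = z := fun z => by
    rw [smul_smul, mul_self_eq_one ha, one_smul]
  have huaq : u • a • q = a • q := by rw [smul_smul, ← hau.eq, mul_smul, hq]
  have hau1 : orderOf (a * u) = 2 ^ 1 := by
    rw [pow_one]
    refine orderOf_eq_two_iff_mul.2 ⟨?_, ?_⟩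
    · intro he
      rw [mul_eq_one_iff_eq_inv, inv_eq_self_of_involution hu2] at he
      exact haq (he ▸ hq)
    · rw [mul_assoc, ← mul_assoc u, ← hau.eq, mul_assoc a, mul_self_eq_one hu2, mul_one,
        mul_self_eq_one ha]
  obtain ⟨s, hs, hsc⟩ := h.exists_swap_centralized (isPGroup_two_closure_pair ha hu2 hau1)
    (x := q) (y := a • q) haq.symm (by
      intro g hg
      refine pair_of_le_closure ?_ hg
      rintro z (rfl | rfl)
      · exact Or.inr ⟨rfl, haa q⟩
      · exact Or.inl ⟨hq, huaq⟩)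
  have has : Commute a s := hsc a (Subgroup.subset_closure (Set.mem_insert _ _))
  obtain ⟨p, hp⟩ := h.exists_fix s hs.1
  obtain rfl : p = c := huniq p (h.fix_of_commute ⟨hs.1, hp⟩ has)
  by_contra haZ
  have hne : a * s ≠ 1 := by
    intro he
    rw [mul_eq_one_iff_eq_inv, inv_eq_self_of_involution (h.invol s hs.1)] at he
    exact haZ (he ▸ hs.1)
  have hbad : IsBad Ω (a * s) := by
    refine ⟨orderOf_eq_two_iff_mul.2 ⟨hne, ?_⟩, p, q, hqc.symm, ?_, ?_⟩
    · rw [mul_assoc, ← mul_assoc s, ← has.eq, mul_assoc a, mul_self_eq_one (h.invol s hs.1),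
        mul_one, mul_self_eq_one ha]
    · rw [mul_smul, hp, hac]
    · rw [mul_smul, hs.2, haa]
  obtain ⟨-, p', q', hpq, hp', hq'⟩ :=
    h.isBad_mul hfaith hbad hs.1 (has.mul_left (Commute.refl s))
  rw [mul_assoc, mul_self_eq_one (h.invol s hs.1), mul_one] at hp' hq'
  exact hpq ((huniq p' hp').trans (huniq q' hq').symm)

/-- Every involution fixing exactly one point is a member. -/
theorem mem_of_unique [Finite G] [Finite Ω] (hfaith : ∀ g : G, (∀ x : Ω, g • x = x) → g = 1)
    {a : G} {c : Ω} (ha : orderOf a = 2) (hac : a • c = c) (huniq : ∀ x : Ω, a • x = x → x = c) :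
    a ∈ Z := by
  obtain ⟨q, hqc⟩ := h.nontriv c
  have haq : a • q ≠ q := fun e => hqc (huniq q e)
  have haa : ∀ z : Ω, a • a • z = z := fun z => by
    rw [smul_smul, mul_self_eq_one ha, one_smul]
  obtain ⟨s, hs, hsc⟩ := h.exists_swap_centralized (isPGroup_zpowers ha) (x := q) (y := a • q)
    haq.symm (by
      intro g hg
      rw [Subgroup.zpowers_eq_closure] at hg
      refine pair_of_le_closure ?_ hg
      rintro z rfl
      exact Or.inr ⟨rfl, haa q⟩)
  have has : Commute a s := hsc a (Subgroup.mem_zpowers a)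
  obtain ⟨p, hp⟩ := h.exists_fix s hs.1
  obtain rfl : p = c := huniq p (h.fix_of_commute ⟨hs.1, hp⟩ has)
  by_contra haZ
  have hne : a * s ≠ 1 := by
    intro he
    rw [mul_eq_one_iff_eq_inv, inv_eq_self_of_involution (h.invol s hs.1)] at he
    exact haZ (he ▸ hs.1)
  have hbad : IsBad Ω (a * s) := by
    refine ⟨orderOf_eq_two_iff_mul.2 ⟨hne, ?_⟩, p, q, hqc.symm, ?_, ?_⟩
    · rw [mul_assoc, ← mul_assoc s, ← has.eq, mul_assoc a, mul_self_eq_one (h.invol s hs.1),
        mul_one, mul_self_eq_one ha]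
    · rw [mul_smul, hp, hac]
    · rw [mul_smul, hs.2, haa]
  obtain ⟨-, p', q', hpq, hp', hq'⟩ :=
    h.isBad_mul hfaith hbad hs.1 (has.mul_left (Commute.refl s))
  rw [mul_assoc, mul_self_eq_one (h.invol s hs.1), mul_one] at hp' hq'
  exact hpq ((huniq p' hp').trans (huniq q' hq').symm)

end Setting

end CfsgLib.StrongCrit
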