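import Cfsg.Agent.Lib.StrongCrit.Faithful

/-!
Aschbacher's criterion for strong embedding, deduced from the main theorem on `Crit`: the setting on
`G ⧸ H` and the strong embedding in the normal closure of `z`.
-/

set_option autoImplicit false

namespace CfsgLib.StrongCrit

open CfsgLib.Involutions MulAction

universe u

variable {G : Type u} [Group G] {z : G} {H : Subgroup G}

/-- The conjugate `g z g⁻¹` fixes exactly the coset `gH`. -/
theorem conj_smul_coset_iff (hi : ∀ g : G, z ∈ H.map (MulAut.conj g).toMonoidHom ↔ g ∈ H) (g : G)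
    (a : G) : (g * z * g⁻¹) • (a : G ⧸ H) = (a : G ⧸ H) ↔ (a : G ⧸ H) = (g : G ⧸ H) := by
  have h1 : z ∈ H.map (MulAut.conj (g⁻¹ * a)).toMonoidHom ↔ a⁻¹ * g * z * g⁻¹ * a ∈ H := by
    constructor
    · rintro ⟨b, hb, hbz⟩
      rw [MulEquiv.coe_toMonoidHom, MulAut.conj_apply] at hbz
      rwa [← hbz, show a⁻¹ * g * (g⁻¹ * a * b * (g⁻¹ * a)⁻¹) * g⁻¹ * a = b by group]
    · intro hb
      exact ⟨_, hb, by rw [MulEquiv.coe_toMonoidHom, MulAut.conj_apply]; group⟩
  rw [MulAction.Quotient.smul_coe, smul_eq_mul, QuotientGroup.eq, QuotientGroup.eq]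
  have hw : (g * z * g⁻¹ * a)⁻¹ * a = (a⁻¹ * g * z * g⁻¹ * a)⁻¹ := by group
  rw [hw, inv_mem_iff, ← h1, hi, show g⁻¹ * a = (a⁻¹ * g)⁻¹ by group, inv_mem_iff]

theorem base_smul_eq_iff (g : G) : g • ((1 : G) : G ⧸ H) = ((1 : G) : G ⧸ H) ↔ g ∈ H := by
  rw [MulAction.Quotient.smul_coe, smul_eq_mul, mul_one, QuotientGroup.eq, mul_one, inv_mem_iff]

/-- The hypotheses of the criterion give the setting on the cosets of `H`, and the local condition. -/
theorem setting_of_local [Finite G] (P : Sylow 2 G) (hz2 : orderOf z = 2)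
    (hzP : z ∈ (Subgroup.center ↥(P : Subgroup G)).map (P : Subgroup G).subtype)
    (hH : H ≠ ⊤) (hi : ∀ g : G, z ∈ H.map (MulAut.conj g).toMonoidHom ↔ g ∈ H)
    (hii : ∀ u : G, orderOf u = 2 → u * z = z * u → ¬ Subgroup.centralizer ({u} : Set G) ≤ H →
      Cfsg.IsStronglyEmbedded
        (H.subgroupOf (Subgroup.closure {x : G | IsConj z x ∧ x * u = u * x}))) :
    Setting (G ⧸ H) {x : G | IsConj z x} ∧ LocalOdd (G ⧸ H) {x : G | IsConj z x} := by
  classical
  have : Fact (Nat.Prime 2) := ⟨Nat.prime_two⟩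
  set Z := {x : G | IsConj z x} with hZ
  have hZz : z ∈ Z := IsConj.refl z
  have hzfix : z • ((1 : G) : G ⧸ H) = ((1 : G) : G ⧸ H) := by
    have := (conj_smul_coset_iff hi 1 1).2 rfl
    rwa [one_mul, inv_one, mul_one] at this
  have hcentH : ∀ c : G, Commute c z → c ∈ H := fun c hc =>
    (hi c).1 ⟨z, (base_smul_eq_iff z).1 hzfix, by
      rw [MulEquiv.coe_toMonoidHom, MulAut.conj_apply, hc.eq, mul_inv_cancel_right]⟩
  have huniq : ∀ t ∈ Z, ∀ x y : G ⧸ H, t • x = x → t • y = y → x = y := by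
    intro t ht x y
    obtain ⟨g, rfl⟩ := isConj_iff.1 ht
    induction x using QuotientGroup.induction_on with | H a => ?_
    induction y using QuotientGroup.induction_on with | H b => ?_
    intro hx hy
    rw [(conj_smul_coset_iff hi g a).1 hx, (conj_smul_coset_iff hi g b).1 hy]
  have hconj : ∀ g : G, ∀ t ∈ Z, g * t * g⁻¹ ∈ Z := fun g t ht =>
    IsConj.trans ht (isConj_iff.2 ⟨g, rfl⟩)
  have hinv : ∀ t ∈ Z, orderOf t = 2 := fun t ht => (orderOf_eq_of_isConj ht).trans hz2
  have hPz : ∀ p ∈ (P : Subgroup G), Commute p z := by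
    obtain ⟨⟨c, hc⟩, hc', rfl⟩ := hzP
    intro p hp
    exact congrArg Subtype.val (Subgroup.mem_center_iff.1 hc' ⟨p, hp⟩)
  have hPH : (P : Subgroup G) ≤ H := fun p hp => hcentH p (hPz p hp)
  have hcentral : ∀ x : G ⧸ H, ∀ T : Subgroup G, IsPGroup 2 T → T ≤ stabilizer G x →
      ∃ t ∈ Z, t • x = x ∧ ∀ g ∈ T, Commute g t := by
    intro x T hT hTx
    induction x using QuotientGroup.induction_on with | H a => ?_
    let T' : Subgroup H := (T.map (MulAut.conj a⁻¹).toMonoidHom).subgroupOf H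
    obtain ⟨S, hS⟩ := ((hT.map (MulAut.conj a⁻¹).toMonoidHom).comap_of_injective H.subtype
      H.subtype_injective).exists_le_sylow
    obtain ⟨g, hg⟩ := exists_smul_eq H (P.subtype hPH) S
    refine ⟨a * (g : G) * z * (a * g)⁻¹, hconj _ z hZz, ?_, fun t ht => ?_⟩
    · refine (conj_smul_coset_iff hi _ a).2 (QuotientGroup.eq.2 ?_)
      rw [← mul_assoc, inv_mul_cancel, one_mul]; exact g.2
    · have htH : a⁻¹ * t * a ∈ H := by
        have h1 := hTx ht
        rw [mem_stabilizer_iff, MulAction.Quotient.smul_coe, smul_eq_mul, QuotientGroup.eq] at h1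
        rw [← inv_mem_iff]
        convert h1 using 1
        group
      have h2 : (⟨a⁻¹ * t * a, htH⟩ : H) ∈ (S : Subgroup H) := hS ⟨t, ht, by
        simp [MulAut.conj_apply]⟩
      rw [← hg, Sylow.coe_subgroup_smul, Subgroup.mem_pointwise_smul_iff_inv_smul_mem] at h2
      have h3 : ((g : G)⁻¹ * (a⁻¹ * t * a) * (g : G)) ∈ (P : Subgroup G) := by
        have := h2
        simpa [Subgroup.mem_subgroupOf, MulAut.conj_apply] using this
      have h4 := hPz _ h3
      show t * (a * (g : G) * z * (a * g)⁻¹) = a * (g : G) * z * (a * g)⁻¹ * t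
      calc t * (a * (g : G) * z * (a * g)⁻¹)
          = a * g * ((g : G)⁻¹ * (a⁻¹ * t * a) * g * z) * (a * g)⁻¹ := by group
        _ = a * g * (z * ((g : G)⁻¹ * (a⁻¹ * t * a) * g)) * (a * g)⁻¹ := by rw [h4.eq]
        _ = a * (g : G) * z * (a * g)⁻¹ * t := by group
  have hfix : ∀ t ∈ Z, ∃ x : G ⧸ H, t • x = x := by
    intro t ht
    obtain ⟨g, rfl⟩ := isConj_iff.1 ht
    exact ⟨g, (conj_smul_coset_iff hi g g).2 rfl⟩
  have hnt : ∀ x : G ⧸ H, ∃ y, y ≠ x := by
    obtain ⟨g, hg⟩ : ∃ g, g ∉ H := by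
      by_contra hc
      exact hH (eq_top_iff.2 fun g _ => by_contra fun hg => hc ⟨g, hg⟩)
    intro x
    by_contra hc
    push Not at hc
    refine hg ?_
    have h1 := (hc ((g : G) : G ⧸ H)).trans (hc ((1 : G) : G ⧸ H)).symm
    rw [QuotientGroup.eq, mul_one, inv_mem_iff] at h1
    exact h1
  -- the local condition at the base point
  have hbase : ∀ u : G, IsBad (G ⧸ H) u → u • ((1 : G) : G ⧸ H) = ((1 : G) : G ⧸ H) →
      Commute u z → Cfsg.IsStronglyEmbedded (H.subgroupOf (memCent Z u)) := by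
    intro u hu hu1 huz
    obtain ⟨hu2, x, y, hxy, hx, hy⟩ := hu
    have hset : {t | t ∈ Z ∧ Commute u t} = {x : G | IsConj z x ∧ x * u = u * x} := by
      ext t
      exact and_congr_right fun _ => eq_comm
    rw [memCent, hset]
    refine hii u hu2 huz.eq fun hle => ?_
    obtain ⟨d, hd, hd1⟩ : ∃ d, u • d = d ∧ d ≠ ((1 : G) : G ⧸ H) := by
      rcases eq_or_ne x ((1 : G) : G ⧸ H) with rfl | hne
      · exact ⟨y, hy, hxy.symm⟩
      · exact ⟨x, hx, hne⟩
    obtain ⟨t, htZ, htd, htc⟩ := hcentral d _ (isPGroup_zpowers hu2) (Subgroup.zpowers_le.2 hd)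
    have htH : t ∈ H := hle (Subgroup.mem_centralizer_singleton_iff.2
      (htc u (Subgroup.mem_zpowers u)).eq.symm)
    exact hd1 (huniq t htZ _ _ htd ((base_smul_eq_iff t).2 htH))
  have hpair : ∀ s ∈ Z, ∀ t ∈ Z, Commute s t → s ≠ t → ∀ x y : G ⧸ H,
      (s * t) • x = x → (s * t) • y = y → x = y := by
    intro s hs t ht hst hne x y hx hy
    by_contra hxy
    obtain ⟨a, rfl⟩ := isConj_iff.1 hs
    set t' := a⁻¹ * t * a with ht'
    have ht'Z : t' ∈ Z := by simpa [ht'] using hconj a⁻¹ t ht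
    have hzt : Commute z t' := by
      show z * t' = t' * z
      calc z * t' = a⁻¹ * (a * z * a⁻¹ * t) * a := by rw [ht']; group
        _ = a⁻¹ * (t * (a * z * a⁻¹)) * a := by rw [hst.eq]
        _ = t' * z := by rw [ht']; group
    have hact : ∀ w : G ⧸ H, (a * z * a⁻¹ * t) • w = w → (z * t') • a⁻¹ • w = a⁻¹ • w := by
      intro w hw
      rw [smul_smul, show z * t' * a⁻¹ = a⁻¹ * (a * z * a⁻¹ * t) by rw [ht']; group, mul_smul, hw]
    have hbad : IsBad (G ⧸ H) (z * t') := by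
      refine ⟨orderOf_eq_two_iff_mul.2 ⟨fun e => hne ?_, ?_⟩, a⁻¹ • x, a⁻¹ • y,
        fun e => hxy (MulAction.injective _ e), hact x hx, hact y hy⟩
      · rw [mul_eq_one_iff_eq_inv, inv_eq_self_of_involution (hinv t' ht'Z)] at e
        rw [e, ht']; group
      · calc z * t' * (z * t') = z * (t' * z) * t' := by group
          _ = z * z * (t' * t') := by rw [← hzt.eq]; group
          _ = 1 := by rw [mul_self_eq_one hz2, mul_self_eq_one (hinv t' ht'Z), one_mul]
    have ht1 : t' • ((1 : G) : G ⧸ H) = ((1 : G) : G ⧸ H) :=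
      (base_smul_eq_iff t').2 (hcentH t' hzt.symm)
    have hv1 : (z * t') • ((1 : G) : G ⧸ H) = ((1 : G) : G ⧸ H) := by rw [mul_smul, ht1, hzfix]
    have hvz : Commute (z * t') z := (Commute.refl z).mul_left hzt.symm
    obtain ⟨hne_top, -, hodd⟩ := hbase _ hbad hv1 hvz
    obtain ⟨g, hgH⟩ : ∃ g : memCent Z (z * t'), g ∉ H.subgroupOf (memCent Z (z * t')) := by
      by_contra hc
      exact hne_top (eq_top_iff.2 fun g _ => by_contra fun hg => hc ⟨g, hg⟩)
    have hvL : z * t' ∈ memCent Z (z * t') :=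
      mul_mem (Subgroup.subset_closure ⟨hZz, hvz⟩)
        (Subgroup.subset_closure ⟨ht'Z, hzt.mul_left (Commute.refl t')⟩)
    have hcomm : ∀ l ∈ memCent Z (z * t'), Commute (z * t') l := by
      intro l hl
      induction hl using Subgroup.closure_induction with
      | mem b hb => exact hb.2
      | one => exact Commute.one_right _
      | mul b c _ _ hb hc => exact hb.mul_right hc
      | inv b _ hb => exact hb.inv_right
    have hvH : z * t' ∈ H := (base_smul_eq_iff _).1 hv1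
    have hmem : (⟨z * t', hvL⟩ : memCent Z (z * t')) ∈ H.subgroupOf (memCent Z (z * t')) ⊓
        (H.subgroupOf (memCent Z (z * t'))).map (MulAut.conj g).toMonoidHom := by
      refine ⟨hvH, ⟨z * t', hvL⟩, hvH, Subtype.ext ?_⟩
      show (g : G) * (z * t') * (g : G)⁻¹ = z * t'
      rw [← (hcomm g g.2).eq, mul_inv_cancel_right]
    have h2 := Subgroup.orderOf_dvd_natCard _ hmem
    rw [← Subgroup.orderOf_coe, hbad.1] at h2
    exact (hodd g hgH).not_two_dvd_nat h2
  have hset : Setting (G ⧸ H) Z :=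
    ⟨hinv, hconj, fun x y => exists_smul_eq G x y, hnt, hfix, huniq, hpair, hcentral⟩
  refine ⟨hset, ?_⟩
  intro w hw c hwc g hg hgc x hx hx2 hxc hxg
  induction c using QuotientGroup.induction_on with | H a => ?_
  -- move to the base point and make `w` commute with `z`
  have hw1 : (a⁻¹ * w * a) • ((1 : G) : G ⧸ H) = ((1 : G) : G ⧸ H) := by
    rw [MulAction.Quotient.smul_coe, smul_eq_mul, mul_one, QuotientGroup.eq, mul_one]
    rw [MulAction.Quotient.smul_coe, smul_eq_mul, QuotientGroup.eq] at hwc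
    convert hwc using 1
    group
  obtain ⟨t, ⟨ht, ht1⟩, htc⟩ := hset.exists_memAt_commute
    (c := ((1 : G) : G ⧸ H)) (u := a⁻¹ * w * a)
    (by have := orderOf_conj_eq a⁻¹ w; rw [inv_inv] at this; exact this.trans hw.1) hw1
  obtain ⟨b, rfl⟩ := isConj_iff.1 ht
  have hb : b ∈ H := by
    have := (conj_smul_coset_iff hi b 1).1 ht1
    rw [QuotientGroup.eq, inv_one, one_mul] at this
    exact this
  set e := (a * b)⁻¹ with he
  have he1 : e • (a : G ⧸ H) = ((1 : G) : G ⧸ H) := by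
    rw [he, MulAction.Quotient.smul_coe, smul_eq_mul, QuotientGroup.eq,
      show ((a * b)⁻¹ * a)⁻¹ * 1 = b by group]
    exact hb
  have hez : Commute (e * w * e⁻¹) z := by
    show e * w * e⁻¹ * z = z * (e * w * e⁻¹)
    calc e * w * e⁻¹ * z = b⁻¹ * (a⁻¹ * w * a * (b * z * b⁻¹)) * b := by rw [he]; group
      _ = b⁻¹ * (b * z * b⁻¹ * (a⁻¹ * w * a)) * b := by rw [htc.eq]
      _ = z * (e * w * e⁻¹) := by rw [he]; group
  have hmove : ∀ l ∈ memCent Z w, e * l * e⁻¹ ∈ memCent Z (e * w * e⁻¹) := by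
    intro l hl
    induction hl using Subgroup.closure_induction with
    | mem s hs => exact Subgroup.subset_closure ⟨hconj e s hs.1, Commute.conj_iff e |>.2 hs.2⟩
    | one => simp
    | mul s r _ _ hs hr =>
      convert mul_mem hs hr using 1
      group
    | inv s _ hs =>
      convert inv_mem hs using 1
      group
  have hu1 : (e * w * e⁻¹) • ((1 : G) : G ⧸ H) = ((1 : G) : G ⧸ H) := by
    rw [← he1, mul_smul, mul_smul, inv_smul_smul, hwc]
  obtain ⟨-, -, hodd⟩ := hbase _ (isBad_conj hw e) hu1 hez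
  have hconjfix : ∀ {l : G} {p : G ⧸ H}, l • p = p → (e * l * e⁻¹) • e • p = e • p := by
    intro l p hl
    rw [mul_smul, mul_smul, inv_smul_smul, hl]
  set g' : memCent Z (e * w * e⁻¹) := ⟨e * g * e⁻¹, hmove g hg⟩ with hg'
  have hgH : g' ∉ H.subgroupOf (memCent Z (e * w * e⁻¹)) := by
    intro hmem
    have h1 := (base_smul_eq_iff _).2 (show e * g * e⁻¹ ∈ H from hmem)
    rw [← he1, mul_smul, mul_smul, inv_smul_smul] at h1
    exact hgc (MulAction.injective e h1)
  set x' : memCent Z (e * w * e⁻¹) := ⟨e * x * e⁻¹, hmove x hx⟩ with hx'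
  have hxH : e * x * e⁻¹ ∈ H := by
    refine (base_smul_eq_iff _).1 ?_
    rw [← he1]
    exact hconjfix hxc
  have hxgH : (g'⁻¹ * x' * g' : memCent Z (e * w * e⁻¹)) ∈
      H.subgroupOf (memCent Z (e * w * e⁻¹)) := by
    show (e * g * e⁻¹)⁻¹ * (e * x * e⁻¹) * (e * g * e⁻¹) ∈ H
    refine (base_smul_eq_iff _).1 ?_
    show ((e * g * e⁻¹)⁻¹ * (e * x * e⁻¹) * (e * g * e⁻¹)) • ((1 : G) : G ⧸ H) = _
    rw [← he1, show (e * g * e⁻¹)⁻¹ * (e * x * e⁻¹) * (e * g * e⁻¹) =
      e * (g⁻¹ * x * g) * e⁻¹ by group]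
    refine hconjfix ?_
    rw [mul_smul, mul_smul, hxg, inv_smul_smul]
  have hmem : x' ∈ H.subgroupOf (memCent Z (e * w * e⁻¹)) ⊓
      (H.subgroupOf (memCent Z (e * w * e⁻¹))).map (MulAut.conj g').toMonoidHom :=
    ⟨hxH, _, hxgH, by rw [MulEquiv.coe_toMonoidHom, MulAut.conj_apply]; group⟩
  have h2 := Subgroup.orderOf_dvd_natCard _ hmem
  rw [← Subgroup.orderOf_coe, hx', orderOf_conj_eq, hx2] at h2
  exact (hodd g' hgH).not_two_dvd_nat h2

/-- **Aschbacher's criterion** from the main theorem: `H` meets the normal closure of `z` in a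
strongly embedded subgroup. -/
theorem isStronglyEmbedded_normalClosure [Finite G] (main : CriterionMain.{u}) (P : Sylow 2 G)
    (hz2 : orderOf z = 2)
    (hzP : z ∈ (Subgroup.center ↥(P : Subgroup G)).map (P : Subgroup G).subtype)
    (hH : H ≠ ⊤) (hi : ∀ g : G, z ∈ H.map (MulAut.conj g).toMonoidHom ↔ g ∈ H)
    (hii : ∀ u : G, orderOf u = 2 → u * z = z * u → ¬ Subgroup.centralizer ({u} : Set G) ≤ H →
      Cfsg.IsStronglyEmbedded
        (H.subgroupOf (Subgroup.closure {x : G | IsConj z x ∧ x * u = u * x}))) :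
    Cfsg.IsStronglyEmbedded (H.subgroupOf (Subgroup.normalClosure ({z} : Set G))) := by
  classical
  obtain ⟨hset, hloc⟩ := setting_of_local P hz2 hzP hH hi hii
  set Z := {x : G | IsConj z x} with hZ
  have hK : Subgroup.normalClosure ({z} : Set G) = Subgroup.closure Z := by
    refine congrArg Subgroup.closure (Set.ext fun x => ?_)
    simp [hZ, Group.mem_conjugatesOfSet_iff]
  have hzH : z ∈ H := by
    have := (conj_smul_coset_iff hi 1 1).2 rfl
    rw [one_mul, inv_one, mul_one] at this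
    exact (base_smul_eq_iff z).1 this
  have hzK : z ∈ Subgroup.normalClosure ({z} : Set G) := Subgroup.subset_normalClosure rfl
  refine ⟨?_, ?_, ?_⟩
  · intro htop
    obtain ⟨y, hy⟩ := hset.nontriv ((1 : G) : G ⧸ H)
    obtain ⟨t, ht, hty⟩ := hset.exists_memAt y
    have htK : t ∈ Subgroup.normalClosure ({z} : Set G) := hK ▸ Subgroup.subset_closure ht
    have htH : t ∈ H := by
      have : (⟨t, htK⟩ : Subgroup.normalClosure ({z} : Set G)) ∈
          H.subgroupOf (Subgroup.normalClosure ({z} : Set G)) := htop ▸ Subgroup.mem_top _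
      exact this
    exact hy (hset.unique t ht _ _ hty ((base_smul_eq_iff t).2 htH))
  · refine even_iff_two_dvd.2 ?_
    have h := Subgroup.orderOf_dvd_natCard
      (H.subgroupOf (Subgroup.normalClosure ({z} : Set G))) (x := ⟨z, hzK⟩) hzH
    rwa [← Subgroup.orderOf_coe, hz2] at h
  · intro g hg
    rw [← Nat.not_even_iff_odd]
    intro hev
    have : Fact (Nat.Prime 2) := ⟨Nat.prime_two⟩
    obtain ⟨⟨x, hxH, y, hy, hyx⟩, hx2⟩ := exists_prime_orderOf_dvd_card' 2 (even_iff_two_dvd.1 hev)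
    rw [← Subgroup.orderOf_coe, ← Subgroup.orderOf_coe] at hx2
    refine hset.noBad_closure main hloc (w := (x : G))
      ⟨hx2, ((1 : G) : G ⧸ H), (g : G) • ((1 : G) : G ⧸ H),
        fun e => hg (show (g : G) ∈ H from (base_smul_eq_iff (g : G)).1 e.symm),
        (base_smul_eq_iff (x : G)).2 hxH, ?_⟩ ?_
    · show (x : G) • _ = _
      rw [← hyx, MulEquiv.coe_toMonoidHom, MulAut.conj_apply, Subgroup.coe_mul, Subgroup.coe_mul,
        Subgroup.coe_inv, mul_smul, mul_smul, inv_smul_smul, (base_smul_eq_iff (y : G)).2 hy]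
    · rw [← hK]; exact x.2

end CfsgLib.StrongCrit
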