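import Cfsg.Agent.Lib.StrongCrit.SecOdd
import Cfsg.Agent.Lib.StrongCrit.Criterion

/-!
A proper subgroup `M` of a simple group containing `z` with `M` controlling the fusion of `z` and
containing the centralisers of `z` times commuting conjugates is strongly embedded, given the main
theorem on `Crit`.
-/

set_option autoImplicit false

namespace CfsgLib.StrongCrit

open CfsgLib.Involutions MulAction

universe u

variable {G : Type u} [Group G] [Finite G] {z : G} {M : Subgroup G}

/-- The setting on the cosets of `M`. -/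
theorem setting_of_fusion (S : Sylow 2 G) (hz : orderOf z = 2) (hzM : z ∈ M) (hM : M ≠ ⊤)
    (hzS : ∀ s ∈ (S : Subgroup G), Commute s z) (h2 : ∀ g : G, g * z * g⁻¹ ∈ M → g ∈ M)
    (h3 : ∀ g : G, Commute z (g * z * g⁻¹) → g * z * g⁻¹ ≠ z →
      Subgroup.centralizer ({z * (g * z * g⁻¹)} : Set G) ≤ M) :
    Setting (G ⧸ M) {x : G | IsConj z x} := by
  classical
  have : Fact (Nat.Prime 2) := ⟨Nat.prime_two⟩
  have hsm : ∀ g a : G, g • (a : G ⧸ M) = (a : G ⧸ M) ↔ a⁻¹ * g * a ∈ M := by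
    intro g a
    rw [MulAction.Quotient.smul_coe, smul_eq_mul, QuotientGroup.eq,
      show (g * a)⁻¹ * a = (a⁻¹ * g * a)⁻¹ by group, inv_mem_iff]
  have hfix : ∀ g a : G, (g * z * g⁻¹) • (a : G ⧸ M) = (a : G ⧸ M) ↔ (a : G ⧸ M) = g := by
    intro g a
    rw [hsm, QuotientGroup.eq]
    refine ⟨fun h => h2 (a⁻¹ * g) (by convert h using 1; group), fun h => ?_⟩
    have := mul_mem (mul_mem h hzM) (inv_mem h)
    convert this using 1
    group
  have huniq : ∀ t, IsConj z t → ∀ x y : G ⧸ M, t • x = x → t • y = y → x = y := by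
    intro t ht x y
    obtain ⟨g, rfl⟩ := isConj_iff.1 ht
    induction x using QuotientGroup.induction_on with | H a => ?_
    induction y using QuotientGroup.induction_on with | H b => ?_
    intro hx hy
    rw [(hfix g a).1 hx, (hfix g b).1 hy]
  have hconj : ∀ g t : G, IsConj z t → IsConj z (g * t * g⁻¹) := fun g t ht =>
    IsConj.trans ht (isConj_iff.2 ⟨g, rfl⟩)
  have hSM : (S : Subgroup G) ≤ M := fun s hs => h2 s (by
    rw [(hzS s hs).eq, mul_inv_cancel_right]; exact hzM)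
  have hcentral : ∀ x : G ⧸ M, ∀ T : Subgroup G, IsPGroup 2 T → T ≤ stabilizer G x →
      ∃ t, IsConj z t ∧ t • x = x ∧ ∀ g ∈ T, Commute g t := by
    intro x T hT hTx
    induction x using QuotientGroup.induction_on with | H a => ?_
    have hT'M : T.map (MulAut.conj a⁻¹).toMonoidHom ≤ M := by
      rintro _ ⟨t, ht, rfl⟩
      have h1 := (hsm t a).1 (hTx ht)
      simpa [MulAut.conj_apply] using h1
    obtain ⟨R, hR, hTR⟩ := OddOrder.exists_sylowOf_ge (p := 2) hT'M (hT.map _)
    have hS : OddOrder.SylowOf 2 (S : Subgroup G) M := ⟨hSM, S.isPGroup', fun Q _ hQ hle =>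
      S.is_maximal' hQ hle⟩
    obtain ⟨d, hd, rfl⟩ := BenderTrans.exists_conj_sylowOf hS hR
    refine ⟨a * d * z * (a * d)⁻¹, isConj_iff.2 ⟨a * d, rfl⟩, (hfix _ a).2 ?_, fun g hg => ?_⟩
    · rw [QuotientGroup.eq, inv_mul_cancel_left]; exact hd
    · obtain ⟨s, hs, hsg⟩ := hTR ⟨g, hg, rfl⟩
      have e : g = a * d * s * (a * d)⁻¹ := by
        rw [MulEquiv.coe_toMonoidHom, MulAut.conj_apply, MulEquiv.coe_toMonoidHom,
          MulAut.conj_apply] at hsg
        calc g = a * (a⁻¹ * g * a⁻¹⁻¹) * a⁻¹ := by group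
          _ = a * (d * s * d⁻¹) * a⁻¹ := by rw [← hsg]
          _ = _ := by group
      rw [e]
      exact (hzS s hs).map (MulAut.conj (a * d)).toMonoidHom
  refine ⟨fun t ht => (orderOf_eq_of_isConj ht).trans hz, hconj, fun x y => exists_smul_eq G x y,
    fun x => ?_, fun t ht => ?_, huniq, fun s hs t ht hst hne x y hx hy => ?_, hcentral⟩
  · by_contra hc
    push Not at hc
    refine hM (eq_top_iff.2 fun g _ => ?_)
    have h1 := (hc ((g : G) : G ⧸ M)).trans (hc ((1 : G) : G ⧸ M)).symm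
    rw [QuotientGroup.eq, mul_one, inv_mem_iff] at h1
    exact h1
  · obtain ⟨g, rfl⟩ := isConj_iff.1 ht
    exact ⟨g, (hfix g g).2 rfl⟩
  · -- move `s` to `z`
    obtain ⟨a, rfl⟩ := isConj_iff.1 hs
    obtain ⟨b, rfl⟩ := isConj_iff.1 ht
    set t' := a⁻¹ * b * z * (a⁻¹ * b)⁻¹ with ht'
    have hte : b * z * b⁻¹ = a * t' * a⁻¹ := by rw [ht']; group
    rw [hte] at hst hne hx hy
    have hzt : Commute z t' :=
      Commute.of_map (f := (MulAut.conj a).toMonoidHom) (MulEquiv.injective _) hst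
    have hne' : t' ≠ z := fun e => hne (by rw [e])
    have hC := h3 (a⁻¹ * b) hzt hne'
    have key : ∀ w : G ⧸ M, (a * z * a⁻¹ * (a * t' * a⁻¹)) • w = w → a⁻¹ • w = ((1 : G) : G ⧸ M) := by
      intro w hw
      have hv : (z * t') • a⁻¹ • w = a⁻¹ • w := by
        rw [smul_smul, show z * t' * a⁻¹ = a⁻¹ * (a * z * a⁻¹ * (a * t' * a⁻¹)) by group,
          mul_smul, hw]
      have hz1 := mul_self_eq_one hz
      have ht2 : orderOf t' = 2 := (orderOf_eq_of_isConj (isConj_iff.2 ⟨_, rfl⟩)).trans hz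
      have hv2 : orderOf (z * t') = 2 := orderOf_eq_two_iff_mul.2 ⟨fun e => hne' (by
          rw [← inv_eq_of_mul_eq_one_right e, inv_eq_self_of_involution hz]), by
        rw [mul_assoc, ← mul_assoc t', ← hzt.eq, mul_assoc z, mul_self_eq_one ht2, mul_one, hz1]⟩
      obtain ⟨r, hr, hrw, hrc⟩ := hcentral (a⁻¹ • w) _ (isPGroup_zpowers hv2)
        (Subgroup.zpowers_le.2 hv)
      refine huniq r hr _ _ hrw ((hsm r 1).2 ?_)
      simpa using hC (Subgroup.mem_centralizer_singleton_iff.2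
        (hrc _ (Subgroup.mem_zpowers _)).eq.symm)
    exact MulAction.injective a⁻¹ ((key x hx).trans (key y hy).symm)

/-- **Aschbacher's criterion** in a simple group, from the main theorem. -/
theorem exists_stronglyEmbedded_of_fusion [IsSimpleGroup G] (main : CriterionMain.{u})
    (S : Sylow 2 G) (hz : orderOf z = 2) (hzM : z ∈ M) (hM : M ≠ ⊤)
    (hzS : ∀ s ∈ (S : Subgroup G), Commute s z) (h2 : ∀ g : G, g * z * g⁻¹ ∈ M → g ∈ M)
    (h3 : ∀ g : G, Commute z (g * z * g⁻¹) → g * z * g⁻¹ ≠ z →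
      Subgroup.centralizer ({z * (g * z * g⁻¹)} : Set G) ≤ M) :
    ∃ H : Subgroup G, Cfsg.IsStronglyEmbedded H := by
  classical
  have h := setting_of_fusion S hz hzM hM hzS h2 h3
  have hsm : ∀ g a : G, g • (a : G ⧸ M) = (a : G ⧸ M) ↔ a⁻¹ * g * a ∈ M := by
    intro g a
    rw [MulAction.Quotient.smul_coe, smul_eq_mul, QuotientGroup.eq,
      show (g * a)⁻¹ * a = (a⁻¹ * g * a)⁻¹ by group, inv_mem_iff]
  have hfaith : ∀ g : G, (∀ x : G ⧸ M, g • x = x) → g = 1 := fun g hg => by
    have h1 : g ∈ M.normalCore := fun b => by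
      have := (hsm g b⁻¹).1 (hg _)
      simpa using this
    rcases Subgroup.Normal.eq_bot_or_eq_top (Subgroup.normalCore_normal M) with e | e
    · rwa [e, Subgroup.mem_bot] at h1
    · exact absurd (top_le_iff.1 (e ▸ Subgroup.normalCore_le M)) hM
  have hgen : Subgroup.closure {x : G | IsConj z x} = ⊤ := by
    have hn : (Subgroup.closure {x : G | IsConj z x}).Normal := ⟨fun x hx g => by
      have hle : (Subgroup.closure {x : G | IsConj z x}).map (MulAut.conj g).toMonoidHom ≤
          Subgroup.closure {x : G | IsConj z x} := by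
        rw [MonoidHom.map_closure, Subgroup.closure_le]
        rintro _ ⟨y, hy, rfl⟩
        exact Subgroup.subset_closure (h.conj_mem g y hy)
      exact hle (Subgroup.mem_map_of_mem _ hx)⟩
    refine hn.eq_bot_or_eq_top.resolve_left fun e => ?_
    have h1 : z ∈ Subgroup.closure {x : G | IsConj z x} := Subgroup.subset_closure (IsConj.refl z)
    rw [e, Subgroup.mem_bot] at h1
    exact ne_one_of_involution hz h1
  have : Fact (Nat.Prime 2) := ⟨Nat.prime_two⟩
  refine ⟨M, hM, even_iff_two_dvd.2 (hz ▸ Subgroup.orderOf_dvd_natCard M hzM), fun g hg => ?_⟩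
  rw [← Nat.not_even_iff_odd]
  intro hev
  obtain ⟨⟨x, hxM, y, hy, hyx⟩, hx2⟩ := exists_prime_orderOf_dvd_card' 2 (even_iff_two_dvd.1 hev)
  rw [← Subgroup.orderOf_coe] at hx2
  refine h.notMem_closure_of_bad main hfaith (w := x)
    ⟨hx2, ((1 : G) : G ⧸ M), (g : G ⧸ M), fun e => hg (by simpa using QuotientGroup.eq.1 e), ?_, ?_⟩
    (hgen ▸ Subgroup.mem_top x)
  · exact (hsm x 1).2 (by simpa using hxM)
  · refine (hsm x g).2 ?_
    rw [MulEquiv.coe_toMonoidHom, MulAut.conj_apply] at hyx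
    rw [← hyx, show g⁻¹ * (g * y * g⁻¹) * g = y by group]
    exact hy

end CfsgLib.StrongCrit
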