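import Cfsg.Agent.Lib.StrongCrit.Sign

/-!
Burnside's transfer for the setting of Aschbacher's criterion: modulo a normal subgroup containing
the members at a point, an abelian Sylow 2-subgroup of the point stabiliser has no hyperplane
invariant under its normaliser avoiding a bad involution.
-/

set_option autoImplicit false

namespace CfsgLib.StrongCrit

open CfsgLib.Involutions MulAction

universe u v

theorem ofAdd_one_mul_self :
    Multiplicative.ofAdd (1 : ZMod 2) * Multiplicative.ofAdd 1 = 1 := rfl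

theorem ofAdd_one_ne_one : Multiplicative.ofAdd (1 : ZMod 2) ≠ 1 := by decide

/-- Burnside: an abelian Sylow 2-subgroup with an invariant subgroup of index two gives a
homomorphism of order two separating it. -/
theorem exists_hom_of_abelian_sylow {K : Type u} [Group K] [Finite K] (P : Sylow 2 K)
    (hab : ∀ x ∈ (P : Subgroup K), ∀ y ∈ (P : Subgroup K), Commute x y) (V : Subgroup K)
    (hnorm : ∀ g ∈ Subgroup.normalizer ((P : Subgroup K) : Set K), ∀ v ∈ V, g * v * g⁻¹ ∈ V)
    (hidx : V.relIndex (P : Subgroup K) = 2) {u : K} (hu : u ∈ (P : Subgroup K)) (huV : u ∉ V)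
    (hu2 : u * u = 1) : ∃ φ : K →* Multiplicative (ZMod 2), φ u ≠ 1 := by
  classical
  have : Fact (Nat.Prime 2) := ⟨Nat.prime_two⟩
  set W := V.subgroupOf (P : Subgroup K)
  let φ₀ : (P : Subgroup K) →* Multiplicative (ZMod 2) := MonoidHom.mk'
    (fun x => if x ∈ W then 1 else Multiplicative.ofAdd 1) fun x y => by
      have h := Subgroup.mul_mem_iff_of_index_two (H := W) hidx (a := x) (b := y)
      by_cases hx : x ∈ W <;> by_cases hy : y ∈ W <;> simp [hx, hy, h, ofAdd_one_mul_self]
  have hval : ∀ (x : K) (hx : x ∈ (P : Subgroup K)), x ∉ V → φ₀ ⟨x, hx⟩ = Multiplicative.ofAdd 1 :=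
    fun x hx hxV => if_neg fun h => hxV h
  have hPodd : Odd (P : Subgroup K).index := Nat.not_even_iff_odd.1 fun he =>
    P.not_dvd_index (even_iff_two_dvd.1 he)
  have hcent : ∀ x ∈ (P : Subgroup K), x ∈ Subgroup.centralizer ((P : Subgroup K) : Set K) :=
    fun x hx y hy => (hab y hy x hx).eq
  have hclass : ∀ (c : K) (hc : c⁻¹ * u * c ∈ (P : Subgroup K)),
      φ₀ ⟨c⁻¹ * u * c, hc⟩ = φ₀ ⟨u, hu⟩ := by
    intro c hc
    obtain ⟨n, hn, heq⟩ :=
      Sylow.conj_eq_normalizer_conj_of_mem_centralizer P u c (hcent u hu) (hcent _ hc)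
    rw [hval u hu huV, hval _ hc fun hV => huV ?_]
    rw [heq] at hV
    have h1 := hnorm n hn _ hV
    rwa [show n * (n⁻¹ * u * n) * n⁻¹ = u by group] at h1
  refine ⟨MonoidHom.transfer φ₀, ?_⟩
  rw [transfer_involution φ₀ hPodd hu2 (by rw [← map_mul]; convert map_one φ₀; exact Subtype.ext hu2)
    hclass, hval u hu huV]
  exact ofAdd_one_ne_one

variable {G : Type u} [Group G] {Ω : Type v} [MulAction G Ω] {Z : Set G}

namespace Setting

variable (h : Setting Ω Z)
include h

/-- No invariant hyperplane of an abelian Sylow 2-subgroup of a point stabiliser modulo the members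
avoids a bad involution. -/
theorem false_of_burnside [Finite G] [Finite Ω] (hgen : Subgroup.closure Z = ⊤) {c : Ω}
    {N : Subgroup (stabilizer G c)} [N.Normal]
    (hN : ∀ (a : G) (ha : a ∈ memAt Z c), (⟨a, ha.2⟩ : stabilizer G c) ∈ N)
    (P : Sylow 2 (stabilizer G c ⧸ N))
    (hab : ∀ x ∈ (P : Subgroup (stabilizer G c ⧸ N)), ∀ y ∈ (P : Subgroup (stabilizer G c ⧸ N)),
      Commute x y)
    (V : Subgroup (stabilizer G c ⧸ N))
    (hnorm : ∀ g ∈ Subgroup.normalizer ((P : Subgroup (stabilizer G c ⧸ N)) :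
      Set (stabilizer G c ⧸ N)), ∀ v ∈ V, g * v * g⁻¹ ∈ V)
    (hidx : V.relIndex (P : Subgroup (stabilizer G c ⧸ N)) = 2) {u : G} (hu : orderOf u = 2)
    (huc : u • c = c)
    (huP : QuotientGroup.mk' N ⟨u, huc⟩ ∈ (P : Subgroup (stabilizer G c ⧸ N)))
    (huV : QuotientGroup.mk' N ⟨u, huc⟩ ∉ V) : False := by
  obtain ⟨φ, hφ⟩ := exists_hom_of_abelian_sylow P hab V hnorm hidx huP huV (by
    rw [← map_mul]
    exact (congrArg _ (Subtype.ext (mul_self_eq_one hu) :
      (⟨u, huc⟩ : stabilizer G c) * ⟨u, huc⟩ = 1)).trans (map_one _))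
  refine hφ (h.hom_eq_one_of_isBad hgen (φ.comp (QuotientGroup.mk' N)) (fun a ha => ?_) hu huc)
  rw [MonoidHom.comp_apply, QuotientGroup.mk'_apply, (QuotientGroup.eq_one_iff _).2 (hN a ha), map_one]

end Setting

end CfsgLib.StrongCrit
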