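import Cfsg.Agent.Lib.StrongCrit.Crit
import Cfsg.Agent.Lib.Involutions.BrauerSuzuki
import Cfsg.Agent.Lib.PCore.Basic

/-!
Passing to the faithful action of the group generated by the members: the permutation group induced
by `closure Z` satisfies the standing hypotheses `Crit`, and the kernel has odd order (by the
`Z*`-theorem), so that its bad involutions come from bad involutions.
-/

set_option autoImplicit false

namespace CfsgLib.StrongCrit

open CfsgLib.Involutions MulAction

universe u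

/-- The local hypothesis at bad involutions: in the group generated by the members commuting with
`w`, no involution fixes a fixed point `c` of `w` and another point of its orbit. -/
def LocalOdd {G : Type u} [Group G] (Ω : Type u) [MulAction G Ω] (Z : Set G) : Prop :=
  ∀ w : G, IsBad Ω w → ∀ c : Ω, w • c = c → ∀ g ∈ memCent Z w, g • c ≠ c →
    ∀ x ∈ memCent Z w, orderOf x = 2 → x • c = c → x • g • c ≠ g • c

/-- The main theorem on `Crit`, as a proposition. -/
def CriterionMain : Prop :=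
  ∀ (G : Type u) [Group G] [Finite G] (Ω : Type u) [MulAction G Ω] [Finite Ω] (Z : Set G),
    Crit Ω Z → NoBad (G := G) Ω

variable {G : Type u} [Group G] {Ω : Type u} [MulAction G Ω] {Z : Set G}

/-- A power of an element whose image is an involution is an involution. -/
theorem exists_involution_pow {H : Type*} [Group H] [Finite G] (f : G →* H) {x : G}
    (hx : orderOf (f x) = 2) : ∃ k : ℕ, orderOf (x ^ k) = 2 := by
  have h2 : 2 ∣ orderOf x := hx ▸ orderOf_map_dvd f x
  exact ⟨orderOf x / 2, orderOf_pow_half (even_iff_two_dvd.2 h2)⟩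

/-- An element of even order with two fixed points has a power which is a bad involution. -/
theorem exists_isBad_pow [Finite G] {x : G} {p q : Ω} (hpq : p ≠ q) (hp : x • p = p) (hq : x • q = q)
    (hev : Even (orderOf x)) : IsBad Ω (x ^ (orderOf x / 2)) := by
  have h1 : ∀ {y : Ω}, x • y = y → (x ^ (orderOf x / 2)) • y = y := fun {y} hy =>
    pow_mem (show x ∈ stabilizer G y from hy) _
  exact ⟨orderOf_pow_half hev, p, q, hpq, h1 hp, h1 hq⟩

namespace Setting

variable (h : Setting Ω Z)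
include h

/-- Two commuting members acting alike are equal. -/
theorem eq_of_act_eq {s t : G} (hs : s ∈ Z) (ht : t ∈ Z) (hst : ∀ x : Ω, s • x = t • x)
    (hc : Commute s t) : s = t := by
  by_contra hne
  obtain ⟨c, -⟩ := h.exists_fix s hs
  obtain ⟨y, hy⟩ := h.nontriv c
  have hfix : ∀ x : Ω, (s * t) • x = x := fun x => by
    rw [mul_smul, ← hst x, smul_smul, mul_self_eq_one (h.invol s hs), one_smul]
  exact hy (h.pair s hs t ht hc hne c y (hfix c) (hfix y)).symm

/-- Two members acting alike have a product of odd order. -/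
theorem odd_order_of_act_eq [Finite G] {s t : G} (hs : s ∈ Z) (ht : t ∈ Z)
    (hst : ∀ x : Ω, s • x = t • x) : Odd (orderOf (s * t)) := by
  rw [← Nat.not_even_iff_odd]
  intro he
  obtain ⟨c, -⟩ := h.exists_fix s hs
  obtain ⟨y, hy⟩ := h.nontriv c
  have hfix : ∀ x : Ω, s * t ∈ stabilizer G x := fun x => by
    rw [mem_stabilizer_iff, mul_smul, ← hst x, smul_smul, mul_self_eq_one (h.invol s hs), one_smul]
  exact hy (h.mid_unique hs ht he (pow_mem (hfix c) _) (pow_mem (hfix y) _)).symm

/-- Members acting alike are conjugate by an element acting trivially. -/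
theorem exists_conj_of_act_eq [Finite G] {s t : G} (hs : s ∈ Z) (ht : t ∈ Z)
    (hst : ∀ x : Ω, s • x = t • x) :
    ∃ n ∈ Subgroup.zpowers (s * t), n * s * n⁻¹ = t := by
  have hs2 := h.invol s hs
  have ht2 := h.invol t ht
  obtain ⟨g, hg, hgs⟩ := conj_of_odd_order hs2 ht2 (h.odd_order_of_act_eq hs ht hst)
  obtain ⟨k, hk⟩ := (mem_closure_pair_iff hs2 ht2).1 hg
  refine ⟨(s * t) ^ k, ⟨k, rfl⟩, ?_⟩
  rcases hk with hk | hk <;> rw [hk] at hgs
  · exact hgs
  · refine Eq.trans ?_ hgs
    rw [mul_inv_rev, inv_eq_self_of_involution hs2]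
    simp only [mul_assoc]
    rw [← mul_assoc s s (s * _), mul_self_eq_one hs2, one_mul]

/-- An odd number of members act like a given one. -/
theorem odd_fibre [Finite G] {t : G} (ht : t ∈ Z) :
    Odd {s | s ∈ Z ∧ ∀ x : Ω, s • x = t • x}.ncard := by
  set X := {s | s ∈ Z ∧ ∀ x : Ω, s • x = t • x} with hX
  have : Fact (Nat.Prime 2) := ⟨Nat.prime_two⟩
  have ht2 := h.invol t ht
  have hinv : ∀ g ∈ Subgroup.zpowers t, ∀ s ∈ X, g * s * g⁻¹ ∈ X := by
    intro g hg s hs
    refine ⟨h.conj_mem g s hs.1, fun x => ?_⟩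
    rw [mul_smul, mul_smul, hs.2, smul_smul, smul_smul]
    obtain ⟨k, rfl⟩ := hg
    show (t ^ k * t * (t ^ k)⁻¹) • x = t • x
    congr 1; group
  let act : MulAction (Subgroup.zpowers t) X :=
    { smul := fun g s => ⟨(g : G) * s.1 * (g : G)⁻¹, hinv _ g.2 _ s.2⟩
      one_smul := fun s => Subtype.ext (by show (1 : G) * s.1 * (1 : G)⁻¹ = s.1; group)
      mul_smul := fun g g' s => Subtype.ext (by
        show (g : G) * g' * s.1 * ((g : G) * g')⁻¹ = g * (g' * s.1 * (g' : G)⁻¹) * (g : G)⁻¹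
        group) }
  have hfp : Nat.card (fixedPoints (Subgroup.zpowers t) X) = 1 := by
    have h0 : ∀ g ∈ Subgroup.zpowers t, g * t * g⁻¹ = t := by
      rintro g ⟨k, rfl⟩
      show t ^ k * t * (t ^ k)⁻¹ = t
      group
    refine Nat.card_eq_one_iff_unique.2 ⟨⟨fun a b => ?_⟩,
      ⟨⟨⟨t, ht, fun _ => rfl⟩, fun g => Subtype.ext (h0 _ g.2)⟩⟩⟩
    refine Subtype.ext (Subtype.ext ?_)
    have key : ∀ a : fixedPoints (Subgroup.zpowers t) X, a.1.1 = t := by
      intro a
      refine h.eq_of_act_eq a.1.2.1 ht a.1.2.2 ?_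
      have h1 : t * a.1.1 * t⁻¹ = a.1.1 :=
        congrArg Subtype.val (a.2 ⟨t, Subgroup.mem_zpowers t⟩)
      exact (show Commute t a.1.1 from mul_inv_eq_iff_eq_mul.1 h1).symm
    rw [key a, key b]
  have h1 := (isPGroup_zpowers ht2).card_modEq_card_fixedPoints X
  rw [hfp, Nat.card_coe_set_eq] at h1
  exact Nat.odd_iff.2 h1

/-- A 2-group commuting in action with a member centralises a member acting like it. -/
theorem exists_fibre_commute [Finite G] {T : Subgroup G} (hT : IsPGroup 2 T) {t : G} (ht : t ∈ Z)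
    (hact : ∀ g ∈ T, ∀ x : Ω, g • t • x = t • g • x) :
    ∃ s ∈ Z, (∀ x : Ω, s • x = t • x) ∧ ∀ g ∈ T, Commute g s := by
  obtain ⟨s, hs, hc⟩ := h.exists_fixed_conj hT (h.odd_fibre ht) (fun g hg s hs =>
    ⟨h.conj_mem g s hs.1, fun x => by
      rw [mul_smul, mul_smul, hs.2, hact g hg, smul_inv_smul]⟩)
  exact ⟨s, hs.1, hs.2, hc⟩

/-- The members commuting with a bad involution move each of its fixed points. -/
theorem exists_move [Finite G] {w : G} (hw : IsBad Ω w) {c : Ω} (hc : w • c = c) :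
    ∃ t ∈ memCent Z w, t • c ≠ c := by
  obtain ⟨hw2, x, y, hxy, hx, hy⟩ := hw
  obtain ⟨d, hd, hdc⟩ : ∃ d, w • d = d ∧ d ≠ c := by
    rcases eq_or_ne x c with rfl | hne
    · exact ⟨y, hy, hxy.symm⟩
    · exact ⟨x, hx, hne⟩
  obtain ⟨t, ht, htw⟩ := h.exists_memAt_commute hw2 hd
  exact ⟨t, Subgroup.subset_closure ⟨ht.1, htw⟩, fun e => hdc (h.unique t ht.1 _ _ ht.2 e)⟩

/-- The elements of the group generated by the members which act trivially have odd order
(`Z*`-theorem). -/
theorem odd_order_trivial [Finite G] (hloc : LocalOdd Ω Z) {n : G}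
    (hn : n ∈ Subgroup.closure Z) (hn1 : ∀ x : Ω, n • x = x) : Odd (orderOf n) := by
  classical
  have : Fact (Nat.Prime 2) := ⟨Nat.prime_two⟩
  rw [← Nat.not_even_iff_odd]
  intro hev
  set u := n ^ (orderOf n / 2) with hudef
  have hu2 : orderOf u = 2 := orderOf_pow_half hev
  set N : Subgroup G := Subgroup.closure Z ⊓ (toPermHom G Ω).ker with hN
  have hmemN : ∀ {g : G}, g ∈ N ↔ g ∈ Subgroup.closure Z ∧ ∀ x : Ω, g • x = x := by
    intro g
    rw [hN, Subgroup.mem_inf, MonoidHom.mem_ker]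
    exact and_congr_right fun _ =>
      ⟨fun e x => by simpa using Equiv.ext_iff.1 e x, fun e => Equiv.ext fun x => e x⟩
  have hclN : (Subgroup.closure Z).Normal := by
    have : Z = Group.conjugatesOfSet Z := by
      refine subset_antisymm Group.subset_conjugatesOfSet fun a ha => ?_
      obtain ⟨b, hb, hab⟩ := Group.mem_conjugatesOfSet_iff.1 ha
      obtain ⟨g, rfl⟩ := isConj_iff.1 hab
      exact h.conj_mem g b hb
    rw [this]
    exact Subgroup.normalClosure_normal
  have hNn : N.Normal := inferInstance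
  have hun : u ∈ N := pow_mem (hmemN.2 ⟨hn, hn1⟩) _
  -- the odd core of `N` as a normal subgroup of `G`
  let O : Subgroup G := (Cfsg.pPrimeCore 2 N).map N.subtype
  have hOchar : (Cfsg.pPrimeCore 2 N).Characteristic :=
    Subgroup.characteristic_iff_map_eq.2 fun e => PCore.map_pPrimeCore_equiv e
  have hOn : O.Normal := inferInstanceAs ((Cfsg.pPrimeCore 2 N).map N.subtype).Normal
  have hOodd : Odd (Nat.card O) := by
    rw [Subgroup.card_map_of_injective N.subtype_injective]
    exact Nat.coprime_two_right.1 PCore.pPrimeCore_coprime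
  have hON : O ≤ N := Subgroup.map_subtype_le _
  -- each member centralises `N` modulo `O`
  have hcomm : ∀ t ∈ Z, ∀ m ∈ N, m * t * m⁻¹ * t⁻¹ ∈ O := by
    intro t ht m hm
    let J : Subgroup G := N ⊔ Subgroup.zpowers t
    let tJ : J := ⟨t, Subgroup.mem_sup_right (Subgroup.mem_zpowers t)⟩
    have hJ : ∀ g ∈ J, ∀ x : Ω, (g * t * g⁻¹) • x = t • x := by
      intro g hg
      obtain ⟨a, ha, b, ⟨k, rfl⟩, rfl⟩ := Subgroup.mem_sup_of_normal_left.1 hg
      intro x
      have : a * (fun i : ℤ => t ^ i) k * t * (a * (fun i : ℤ => t ^ i) k)⁻¹ = a * t * a⁻¹ := by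
        group
      rw [this, mul_smul, mul_smul, (hmemN.1 ha).2, (hmemN.1 (inv_mem ha)).2]
    have hiso : Cfsg.IsIsolatedInvolution tJ := by
      refine ⟨by rw [← Subgroup.orderOf_coe]; exact h.invol t ht, fun g hg => Subtype.ext ?_⟩
      exact h.eq_of_act_eq (h.conj_mem _ t ht) ht (hJ g g.2)
        (congrArg Subtype.val hg).symm
    have hz := zstar J tJ hiso ⟨m, Subgroup.mem_sup_left hm⟩
    -- the odd core of `J` meets `N` in the odd core of `N`
    have hle : N ≤ J := le_sup_left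
    let D : Subgroup N := (Cfsg.pPrimeCore 2 J).comap (Subgroup.inclusion hle)
    have hD : D ≤ Cfsg.pPrimeCore 2 N := by
      refine PCore.le_pPrimeCore (Subgroup.Normal.comap inferInstance _) ?_
      refine Nat.Coprime.coprime_dvd_left ?_ (PCore.pPrimeCore_coprime (G := J) (p := 2))
      rw [Nat.card_congr (D.equivMapOfInjective _ (Subgroup.inclusion_injective hle)).toEquiv]
      exact Subgroup.card_dvd_of_le (Subgroup.map_comap_le _ _)
    have hmem : m * t * m⁻¹ * t⁻¹ ∈ N := by
      have h1 : t * m⁻¹ * t⁻¹ ∈ N := hNn.conj_mem _ (inv_mem hm) t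
      convert mul_mem hm h1 using 1
      group
    exact ⟨⟨_, hmem⟩, hD (show Subgroup.inclusion hle ⟨_, hmem⟩ ∈ Cfsg.pPrimeCore 2 J from hz), rfl⟩
  -- every member is congruent modulo `O` to a member commuting with `u`
  have hbadu : IsBad Ω u := by
    obtain ⟨t, ht⟩ : Z.Nonempty := by
      by_contra hc
      rw [Set.not_nonempty_iff_eq_empty] at hc
      rw [hc, Subgroup.closure_empty, Subgroup.mem_bot] at hn
      subst hn
      simp [hudef] at hu2
    obtain ⟨c, -⟩ := h.exists_fix t ht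
    obtain ⟨y, hy⟩ := h.nontriv c
    exact ⟨hu2, c, y, hy.symm, (hmemN.1 hun).2 c, (hmemN.1 hun).2 y⟩
  let q := QuotientGroup.mk' O
  have hmap : ∀ g ∈ Subgroup.closure Z, q g ∈ (memCent Z u).map q := by
    intro g hg
    induction hg using Subgroup.closure_induction with
    | one => rw [map_one]; exact one_mem _
    | mul a b _ _ ha hb => rw [map_mul]; exact mul_mem ha hb
    | inv a _ ha => rw [map_inv]; exact inv_mem ha
    | mem t ht =>
      obtain ⟨s, hs, hst, hcs⟩ := h.exists_fibre_commute (isPGroup_zpowers hu2) ht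
        (fun g hg x => by
          have hgN : g ∈ N := Subgroup.zpowers_le.2 hun hg
          rw [(hmemN.1 hgN).2, (hmemN.1 hgN).2])
      refine ⟨s, Subgroup.subset_closure ⟨hs, hcs u (Subgroup.mem_zpowers u)⟩, ?_⟩
      obtain ⟨m, hm, hms⟩ := h.exists_conj_of_act_eq hs ht hst
      have hmN : m ∈ N := by
        refine Subgroup.zpowers_le.2 (hmemN.2 ⟨mul_mem (Subgroup.subset_closure hs)
          (Subgroup.subset_closure ht), fun x => ?_⟩) hm
        rw [mul_smul, ← hst x, smul_smul, mul_self_eq_one (h.invol s hs), one_smul]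
      refine (QuotientGroup.eq_iff_div_mem.2 ?_).symm
      rw [div_eq_mul_inv, ← hms]
      exact hcomm s hs m hmN
  obtain ⟨l, hl, hlu⟩ := hmap u (hmemN.1 hun).1
  have hlO : l * u⁻¹ ∈ O := by
    have := QuotientGroup.eq_iff_div_mem.1 hlu
    rwa [div_eq_mul_inv] at this
  have hlN : l ∈ N := by
    have := mul_mem (hON hlO) hun
    rwa [inv_mul_cancel_right] at this
  have hlodd : Odd (orderOf l) := by
    rw [← Nat.not_even_iff_odd]
    intro hlev
    obtain ⟨_, c, _, _, hc, -⟩ := id hbadu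
    obtain ⟨g, hg, hgc⟩ := h.exists_move hbadu hc
    refine hloc u hbadu c hc g hg hgc (l ^ (orderOf l / 2)) (pow_mem hl _) (orderOf_pow_half hlev)
      ?_ ?_ <;> exact pow_mem (show l ∈ stabilizer G _ from (hmemN.1 hlN).2 _) _
  have h1 : orderOf (q u) ∣ 2 := hu2 ▸ orderOf_map_dvd q u
  have h2 : orderOf (q u) ∣ orderOf l := hlu ▸ orderOf_map_dvd q l
  have h3 : q u = 1 := by
    rcases (Nat.dvd_prime Nat.prime_two).1 h1 with h3 | h3
    · exact orderOf_eq_one_iff.1 h3
    · exact absurd (h3 ▸ h2) hlodd.not_two_dvd_nat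
  have huO : u ∈ O := (QuotientGroup.eq_one_iff u).1 h3
  exact hOodd.not_two_dvd_nat (hu2 ▸ Subgroup.orderOf_dvd_natCard O huO)

/-- The permutation group induced by the group generated by the members satisfies the standing
hypotheses. -/
theorem crit_range [Finite G] [Finite Ω] (hloc : LocalOdd Ω Z) :
    Crit Ω {q : ((toPermHom G Ω).comp (Subgroup.closure Z).subtype).range |
      ∃ t ∈ Z, toPermHom G Ω t = q.1} := by
  classical
  have : Fact (Nat.Prime 2) := ⟨Nat.prime_two⟩
  set π := toPermHom G Ω with hπ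
  set K := Subgroup.closure Z with hK
  set f := π.comp K.subtype with hf
  set Z' : Set f.range := {q | ∃ t ∈ Z, π t = q.1} with hZ'
  have hsm : ∀ (q : f.range) (x : Ω), q • x = q.1 x := fun _ _ => rfl
  have hmk : ∀ {g : G}, g ∈ K → π g ∈ f.range := fun {g} hg => ⟨⟨g, hg⟩, rfl⟩
  have hZK : ∀ {t : G}, t ∈ Z → t ∈ K := fun ht => Subgroup.subset_closure ht
  have hlift : ∀ q : f.range, ∃ g ∈ K, π g = q.1 := by
    rintro ⟨-, g, rfl⟩
    exact ⟨g, g.2, rfl⟩
  have hpi : ∀ (g : G) (x : Ω), π g x = g • x := fun _ _ => rfl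
  have hcact : ∀ {a b : G}, Commute (π a) (π b) →
      ∀ g ∈ Subgroup.zpowers b, ∀ x : Ω, g • a • x = a • g • x := by
    rintro a b hc g ⟨k, rfl⟩ x
    show (π (b ^ k) * π a) x = (π a * π (b ^ k)) x
    rw [map_zpow, (hc.zpow_right k).eq]
  -- involution lifts
  have hlift2 : ∀ q : f.range, orderOf q = 2 → ∃ w ∈ K, orderOf w = 2 ∧ π w = q.1 := by
    intro q hq
    obtain ⟨g, hg, hgq⟩ := hlift q
    have hgo : orderOf (π g) = 2 := by rw [hgq, Subgroup.orderOf_coe, hq]
    obtain ⟨a, b, hb, hab⟩ : ∃ a b : ℕ, Odd b ∧ orderOf g = 2 ^ a * b :=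
      Nat.exists_eq_two_pow_mul_odd (orderOf_pos g).ne'
    refine ⟨g ^ b, pow_mem hg _, ?_, ?_⟩
    · have hsq : Odd (orderOf (g ^ (2 * b))) := by
        refine h.odd_order_trivial hloc (pow_mem hg _) fun x => ?_
        rw [← hpi, map_pow, pow_mul, ← hgo, pow_orderOf_eq_one, one_pow]; rfl
      have hd : orderOf (g ^ (2 * b)) ∣ 2 ^ a := orderOf_dvd_of_pow_eq_one (by
        rw [← pow_mul, mul_comm 2 b, mul_assoc, mul_comm 2, ← mul_assoc, mul_comm b, pow_mul, ← hab,
          pow_orderOf_eq_one, one_pow])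
      have h1 : orderOf (g ^ (2 * b)) = 1 := by
        obtain ⟨i, -, hi⟩ := (Nat.dvd_prime_pow Nat.prime_two).1 hd
        rw [hi] at hsq ⊢
        rcases i with _ | i
        · rfl
        · exact absurd hsq (by rw [Nat.not_odd_iff_even]; exact ⟨2 ^ i, by ring⟩)
      refine orderOf_eq_two_iff_mul.2 ⟨fun e => ?_, ?_⟩
      · have h2 := congrArg π e
        rw [map_pow, map_one, ← orderOf_dvd_iff_pow_eq_one, hgo] at h2
        exact hb.not_two_dvd_nat h2
      · rw [← pow_add, ← two_mul, orderOf_eq_one_iff.1 h1]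
    · obtain ⟨j, rfl⟩ := hb
      rw [map_pow, pow_succ, pow_mul, ← hgo, pow_orderOf_eq_one, one_pow, one_mul, hgq]
  have hbadlift : ∀ q : f.range, IsBad Ω q → ∃ w ∈ K, π w = q.1 ∧ IsBad Ω w := by
    rintro q ⟨hq, x, y, hxy, hx, hy⟩
    obtain ⟨w, hw, hw2, hwq⟩ := hlift2 q hq
    exact ⟨w, hw, hwq, hw2, x, y, hxy, by rw [← hpi, hwq]; exact hx, by rw [← hpi, hwq]; exact hy⟩
  refine ⟨⟨?_, ?_, ?_, h.nontriv, ?_, ?_, ?_, ?_⟩, ?_, ?_, ?_⟩
  · rintro q ⟨t, ht, htq⟩
    refine orderOf_eq_two_iff_mul.2 ⟨?_, Subtype.ext ?_⟩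
    · rintro rfl
      obtain ⟨c, -⟩ := h.exists_fix t ht
      obtain ⟨y, hy⟩ := h.nontriv c
      have hfix : ∀ x : Ω, t • x = x := fun x => by rw [← hpi, htq]; rfl
      exact hy (h.unique t ht c y (hfix c) (hfix y)).symm
    · rw [Subgroup.coe_mul, ← htq, ← map_mul, mul_self_eq_one (h.invol t ht), map_one]; rfl
  · rintro q r ⟨t, ht, htr⟩
    obtain ⟨g, -, hgq⟩ := hlift q
    exact ⟨g * t * g⁻¹, h.conj_mem g t ht, by simp [hgq, htr]⟩
  · intro x y
    rcases eq_or_ne x y with rfl | hxy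
    · exact ⟨1, one_smul _ x⟩
    obtain ⟨a, ha⟩ := h.exists_memAt x
    obtain ⟨b, hb⟩ := h.exists_memAt y
    obtain ⟨g, hg, -, hgy⟩ := h.exists_conj_of_ne ha hb hxy
    have hgK : g ∈ K := (Subgroup.closure_le K).2
      (Set.insert_subset (hZK ha.1) (Set.singleton_subset_iff.2 (hZK hb.1))) hg
    exact ⟨⟨π g, hmk hgK⟩, hgy⟩
  · rintro q ⟨t, ht, htq⟩
    obtain ⟨x, hx⟩ := h.exists_fix t ht
    exact ⟨x, by rw [hsm, ← htq]; exact hx⟩
  · rintro q ⟨t, ht, htq⟩ x y hx hy
    exact h.unique t ht x y (by rw [← hpi, htq]; exact hx) (by rw [← hpi, htq]; exact hy)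
  · rintro p ⟨s, hs, hsp⟩ q ⟨t, ht, htq⟩ hpq hne x y hx hy
    obtain ⟨s', hs', hss, hcs⟩ := h.exists_fibre_commute (isPGroup_zpowers (h.invol t ht)) hs
      (hcact (by rw [hsp, htq]; exact congrArg Subtype.val hpq))
    have hfix : ∀ z : Ω, (p * q) • z = z → (s' * t) • z = z := fun z hz => by
      rw [mul_smul s' t z, hss (t • z)]
      show π s (π t z) = z
      rw [hsp, htq]; exact hz
    refine h.pair s' hs' t ht (hcs t (Subgroup.mem_zpowers t)).symm ?_ x y (hfix x hx) (hfix y hy)
    rintro rfl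
    refine hne (Subtype.ext ?_)
    rw [← hsp, ← htq]
    exact Equiv.ext fun z => (hss z).symm
  · intro x T hT hTx
    let T0 : Subgroup K := T.comap f.rangeRestrict
    obtain ⟨S⟩ : Nonempty (Sylow 2 T0) := Sylow.nonempty
    let φ : T0 →* T := f.rangeRestrict.subgroupComap T
    have hφ : Function.Surjective φ :=
      MonoidHom.subgroupComap_surjective_of_surjective _ _ f.rangeRestrict_surjective
    let T1 : Subgroup G := (S : Subgroup T0).map (K.subtype.comp T0.subtype)
    have hT1x : T1 ≤ stabilizer G x := by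
      rintro g ⟨k, -, rfl⟩
      exact hTx k.2
    obtain ⟨t, ht, htx, hct⟩ := h.central x T1 (S.isPGroup'.map _) hT1x
    refine ⟨⟨π t, hmk (hZK ht)⟩, ⟨t, ht, rfl⟩, htx, fun g hg => ?_⟩
    have htop : ((S.mapSurjective hφ : Sylow 2 T) : Subgroup T) = ⊤ :=
      ((S.mapSurjective hφ).is_maximal' (IsPGroup.to_subgroup hT ⊤) le_top).symm
    obtain ⟨k, hk, hkg⟩ : (⟨g, hg⟩ : T) ∈ (S : Subgroup T0).map φ := by
      rw [← Sylow.coe_mapSurjective hφ S, htop]; trivial
    have hc := hct _ ⟨k, hk, rfl⟩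
    have hg' : g = f.rangeRestrict k := congrArg Subtype.val hkg.symm
    refine Subtype.ext ?_
    rw [hg']
    exact (hc.map π).eq
  · intro q hq
    exact Subtype.ext (Equiv.ext hq)
  · rw [eq_top_iff]
    rintro ⟨-, g, rfl⟩ -
    obtain ⟨g, hg⟩ := g
    induction hg using Subgroup.closure_induction with
    | mem t ht => exact Subgroup.subset_closure ⟨t, ht, rfl⟩
    | one =>
      convert one_mem (Subgroup.closure Z') using 1
      exact Subtype.ext (map_one π)
    | mul a b ha hb iha ihb =>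
      convert mul_mem iha ihb using 1
      exact Subtype.ext (map_mul π a b)
    | inv a ha iha =>
      convert inv_mem iha using 1
      exact Subtype.ext (map_inv π a)
  · intro q hq c hqc
    obtain ⟨w, hwK, hwq, hwbad⟩ := hbadlift q hq
    have hwc : w • c = c := by rw [← hpi, hwq]; exact hqc
    have hw2 := hwbad.1
    have hcover : ∀ r ∈ memCent Z' q, ∃ l ∈ memCent Z w, π l = r.1 := by
      intro r hr
      induction hr using Subgroup.closure_induction with
      | one => exact ⟨1, one_mem _, map_one π⟩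
      | mul a b _ _ ha hb =>
        obtain ⟨l, hl, hla⟩ := ha
        obtain ⟨m, hm, hmb⟩ := hb
        exact ⟨l * m, mul_mem hl hm, by rw [map_mul, hla, hmb]; rfl⟩
      | inv a _ ha =>
        obtain ⟨l, hl, hla⟩ := ha
        exact ⟨l⁻¹, inv_mem hl, by rw [map_inv, hla]; rfl⟩
      | mem r hr =>
        obtain ⟨⟨t, ht, htr⟩, hqr⟩ := hr
        obtain ⟨s, hs, hst, hsc⟩ := h.exists_fibre_commute (isPGroup_zpowers hw2) ht
          (hcact (by rw [htr, hwq]; exact (congrArg Subtype.val hqr).symm))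
        exact ⟨s, Subgroup.subset_closure ⟨hs, hsc w (Subgroup.mem_zpowers w)⟩,
          (Equiv.ext hst).trans htr⟩
    have hZ'mem : ∀ {t : G}, (ht : t ∈ Z) → Commute w t →
        (⟨π t, hmk (hZK ht)⟩ : f.range) ∈ memCent Z' q := fun {t} ht hc =>
      Subgroup.subset_closure ⟨⟨t, ht, rfl⟩, Subtype.ext (by
        show q.1 * π t = π t * q.1
        rw [← hwq]; exact (hc.map π).eq)⟩
    refine ⟨?_, ?_, ?_⟩
    · obtain ⟨-, x, y, hxy, hx, hy⟩ := id hwbad
      obtain ⟨d, hd, hdc⟩ : ∃ d, w • d = d ∧ d ≠ c := by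
        rcases eq_or_ne x c with rfl | hne
        · exact ⟨y, hy, hxy.symm⟩
        · exact ⟨x, hx, hne⟩
      obtain ⟨t, ⟨ht, htd⟩, hct⟩ := h.exists_memAt_commute hw2 hd
      intro htop
      have hmem : (⟨⟨π t, hmk (hZK ht)⟩, hZ'mem ht hct⟩ : memCent Z' q) ∈
          (stabilizer f.range c).subgroupOf (memCent Z' q) := htop ▸ Subgroup.mem_top _
      exact hdc (h.unique t ht _ _ htd hmem)
    · obtain ⟨t, ⟨ht, htc⟩, hct⟩ := h.exists_memAt_commute hw2 hwc
      refine even_iff_two_dvd.2 ?_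
      have hto : orderOf (⟨π t, hmk (hZK ht)⟩ : f.range) = 2 := by
        refine orderOf_eq_two_iff_mul.2 ⟨fun e => ?_, Subtype.ext ?_⟩
        · obtain ⟨y, hy⟩ := h.nontriv c
          have h1 : π t = 1 := congrArg Subtype.val e
          refine hy (h.unique t ht y c ?_ htc)
          rw [← hpi, h1]; rfl
        · show π t * π t = 1
          rw [← map_mul, mul_self_eq_one (h.invol t ht), map_one]
      have hm := Subgroup.orderOf_dvd_natCard ((stabilizer f.range c).subgroupOf (memCent Z' q))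
        (x := ⟨⟨π t, hmk (hZK ht)⟩, hZ'mem ht hct⟩) htc
      rwa [← Subgroup.orderOf_coe, hto] at hm
    · intro g hg
      rw [← Nat.not_even_iff_odd]
      intro hev
      obtain ⟨⟨x, hx⟩, hx2⟩ := exists_prime_orderOf_dvd_card' 2 (even_iff_two_dvd.1 hev)
      obtain ⟨hxc, y, hy, hyx⟩ := hx
      obtain ⟨l, hl, hlx⟩ := hcover x.1 x.2
      obtain ⟨m, hm, hmg⟩ := hcover g.1 g.2
      have hlo : orderOf (π l) = 2 := by
        rw [hlx, Subgroup.orderOf_coe, Subgroup.orderOf_coe]
        rw [← Subgroup.orderOf_coe] at hx2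
        exact hx2
      obtain ⟨k, hk⟩ := exists_involution_pow π hlo
      have hlc : l • c = c := by rw [← hpi, hlx]; exact hxc
      have hlg : l • m • c = m • c := by
        have hy' : (x : f.range) • (g : f.range) • c = (g : f.range) • c := by
          rw [← hyx, MulEquiv.coe_toMonoidHom, MulAut.conj_apply, Subgroup.coe_mul, Subgroup.coe_mul,
            Subgroup.coe_inv, mul_smul, mul_smul, inv_smul_smul]
          rw [show (y : f.range) • c = c from hy]
        rw [← hpi m, hmg, ← hpi l, hlx]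
        exact hy'
      refine hloc w hwbad c hwc m hm (fun e => hg ?_) (l ^ k) (pow_mem hl k) hk ?_ ?_
      · show (g : f.range) • c = c
        rw [hsm, ← hmg]; exact e
      · exact pow_mem (show l ∈ stabilizer G c from hlc) k
      · exact pow_mem (show l ∈ stabilizer G (m • c) from hlg) k

/-- The main theorem for groups not bigger than `G` suffices. -/
theorem noBad_closure_of_le [Finite G] [Finite Ω]
    (main : ∀ (H : Type u) [Group H] [Finite H] (X : Type u) [MulAction H X] [Finite X] (W : Set H),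
      Nat.card H ≤ Nat.card (Subgroup.closure Z) → Crit X W → NoBad (G := H) X)
    (hloc : LocalOdd Ω Z) {w : G} (hw : IsBad Ω w) : w ∉ Subgroup.closure Z := by
  intro hwK
  obtain ⟨hw2, x, y, hxy, hx, hy⟩ := hw
  have hC := h.crit_range hloc
  refine main _ Ω _ (Nat.card_le_card_of_surjective _
    (MonoidHom.rangeRestrict_surjective _)) hC ⟨toPermHom G Ω w, ⟨w, hwK⟩, rfl⟩
    ⟨?_, x, y, hxy, hx, hy⟩
  refine orderOf_eq_two_iff_mul.2 ⟨fun e => ?_, Subtype.ext ?_⟩
  · have h1 : toPermHom G Ω w = 1 := congrArg Subtype.val e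
    have := h.odd_order_trivial hloc hwK fun z => Equiv.ext_iff.1 h1 z
    rw [hw2] at this
    exact absurd this (by decide)
  · show toPermHom G Ω w * toPermHom G Ω w = 1
    rw [← map_mul, mul_self_eq_one hw2, map_one]

/-- From the main theorem: no involution of the group generated by the members fixes two points. -/
theorem noBad_closure [Finite G] [Finite Ω] (main : CriterionMain.{u}) (hloc : LocalOdd Ω Z)
    {w : G} (hw : IsBad Ω w) : w ∉ Subgroup.closure Z :=
  h.noBad_closure_of_le (fun H _ _ X _ _ W _ hC => main H X W hC) hloc hw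

end Setting

end CfsgLib.StrongCrit
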