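import Cfsg.Agent.Lib.BenderQ.Bender
import Cfsg.Agent.Lib.BenderQ.Bridge

/-!
A subgroup `L` acting on an invariant set `F` of points so that each of its involutions fixes exactly
one point of `F` and the elements fixing all of `F` have odd order: the consequences of Bender's
theorem for the image, lifted to `L`.
-/

set_option autoImplicit false
set_option linter.style.haveILetI false

namespace CfsgLib.StrongCrit

open CfsgLib.BenderTrans CfsgLib.Involutions CfsgLib.BenderQ MulAction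
open scoped commutatorElement

universe u

variable {G : Type u} [Group G] {Ω : Type u} [MulAction G Ω]

/-- The involutions at a point are central in the kernel there. -/
theorem commute_invAt_kernel [Finite G] [Finite Ω] (h : OneFix G Ω) {c : Ω} {Q : Subgroup G}
    (hQ : IsKernelAt c Q) {a g : G} (ha : a ∈ invAt G c) (hg : g ∈ Q) : Commute a g := by
  haveI : Fact (Nat.Prime 2) := ⟨Nat.prime_two⟩
  have haQ := hQ.invol_mem h ha
  haveI : Nontrivial Q := ⟨⟨⟨a, haQ⟩, 1, fun e => ne_one_of_involution ha.1 (congrArg Subtype.val e)⟩⟩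
  obtain ⟨z, hz⟩ : ∃ z : Subgroup.center Q, orderOf z = 2 := by
    refine exists_prime_orderOf_dvd_card' 2 ?_
    obtain ⟨k, hk⟩ := (hQ.isTwo.to_subgroup (Subgroup.center Q)).exists_card_eq
    haveI := hQ.isTwo.center_nontrivial
    have h1 : 1 < Nat.card (Subgroup.center Q) := Finite.one_lt_card
    rw [hk] at h1 ⊢
    exact dvd_pow_self 2 fun e => by rw [e, pow_zero] at h1; omega
  have hz2 : ((z : Q) : G) ∈ invAt G c :=
    ⟨by rw [Subgroup.orderOf_coe, Subgroup.orderOf_coe, hz],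
      mem_stabilizer_iff.1 (hQ.le (z : Q).2)⟩
  obtain ⟨y, hy⟩ := h.nontriv c
  obtain ⟨d, hd, hda⟩ := h.exists_conj_invAt hy.symm hz2 ha
  have hdc : d⁻¹ ∈ stabilizer G c := inv_mem (inf_le_left (b := stabilizer G y) hd)
  have hg' : d⁻¹ * g * d ∈ Q := by simpa using hQ.conj _ hdc g hg
  have h1 : Commute ((z : Q) : G) (d⁻¹ * g * d) :=
    congrArg Subtype.val ((Subgroup.mem_center_iff.1 z.2 ⟨_, hg'⟩).symm)
  have h2 := h1.map (MulAut.conj d).toMonoidHom
  simp only [MulEquiv.coe_toMonoidHom, MulAut.conj_apply] at h2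
  rwa [hda, show d * (d⁻¹ * g * d) * d⁻¹ = g by group] at h2

/-- The elements of 2-power order fixing a point lie in the kernel there. -/
theorem mem_kernel_of_two [Finite G] (h : OneFix G Ω) {c : Ω} {Q : Subgroup G} (hQ : IsKernelAt c Q)
    {g : G} (hgc : g • c = c) {j : ℕ} (hj : g ^ 2 ^ j = 1) : g ∈ Q := by
  obtain ⟨y, hy⟩ := h.nontriv c
  obtain ⟨x, hx, d, hd, hgd⟩ := hQ.sup_two hy (mem_stabilizer_iff.2 hgc)
  have hpow : ∀ m : ℕ, ∃ x' ∈ Q, g ^ m = x' * d ^ m := by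
    intro m
    induction m with
    | zero => exact ⟨1, one_mem Q, by simp⟩
    | succ m ih =>
      obtain ⟨x', hx', hm⟩ := ih
      refine ⟨x' * (d ^ m * x * (d ^ m)⁻¹), mul_mem hx' (hQ.conj _ ?_ x hx), ?_⟩
      · exact pow_mem (inf_le_left (b := stabilizer G y) hd) m
      · rw [pow_succ, hm, hgd, pow_succ]; group
  obtain ⟨x', hx', hm⟩ := hpow (orderOf d)
  rw [pow_orderOf_eq_one, mul_one] at hm
  have hodd : Odd (orderOf d) :=
    (odd_card_two h hy.symm).of_dvd_nat (Subgroup.orderOf_dvd_natCard _ hd)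
  obtain ⟨b, hb⟩ := exists_pow_eq_self_of_coprime (x := g) (n := orderOf d)
    ((Nat.Coprime.pow_right j (Nat.coprime_two_right.2 hodd)).coprime_dvd_right
      (orderOf_dvd_of_pow_eq_one hj))
  rw [← hb, hm]
  exact pow_mem hx' b

/-- Each involution of `L` fixes exactly one point of the invariant set `F`, on which `L` is
transitive, and the elements of `L` fixing all of `F` have odd order. -/
structure SectSetting (L : Subgroup G) (F : Set Ω) : Prop where
  stable : ∀ g ∈ L, ∀ x ∈ F, g • x ∈ F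
  trans : ∀ x ∈ F, ∀ y ∈ F, ∃ g ∈ L, g • x = y
  two : ∀ x ∈ F, ∃ y ∈ F, y ≠ x
  fix : ∀ t ∈ L, orderOf t = 2 → ∃ x ∈ F, t • x = x
  unique : ∀ t ∈ L, orderOf t = 2 → ∀ x ∈ F, ∀ y ∈ F, t • x = x → t • y = y → x = y
  odd_ker : ∀ k ∈ L, (∀ x ∈ F, k • x = x) → Odd (orderOf k)
  four : ∃ a ∈ L, ∃ b ∈ L, orderOf a = 2 ∧ orderOf b = 2 ∧ a ≠ b ∧ Commute a b

variable {L : Subgroup G} {F : Set Ω}

namespace SectSetting

variable (hS : SectSetting L F)
include hS

/-- The action of `L` on `F`. -/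
@[reducible] def action : MulAction L F where
  smul g x := ⟨(g : G) • (x : Ω), hS.stable g g.2 x x.2⟩
  one_smul x := Subtype.ext (one_smul G (x : Ω))
  mul_smul g h x := Subtype.ext (mul_smul (g : G) (h : G) (x : Ω))

/-- The permutations of `F` induced by `L`. -/
def toPerm : L →* Equiv.Perm F :=
  letI := hS.action
  MulAction.toPermHom L F

theorem toPerm_apply (g : L) (x : F) : ((hS.toPerm g x : F) : Ω) = (g : G) • (x : Ω) := rfl

theorem toPerm_eq_one {g : L} : hS.toPerm g = 1 ↔ ∀ x ∈ F, (g : G) • x = x := by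
  constructor
  · intro h x hx
    have := congrArg (fun e : Equiv.Perm F => ((e ⟨x, hx⟩ : F) : Ω)) h
    simpa [toPerm_apply] using this
  · exact fun h => Equiv.ext fun x => Subtype.ext ((hS.toPerm_apply g x).trans (h x x.2))

theorem toPerm_fix {g : L} {x : F} : hS.toPerm g x = x ↔ (g : G) • (x : Ω) = x := by
  rw [Subtype.ext_iff, toPerm_apply]

variable [Finite G]

omit [Finite G] in
theorem odd_orderOf {g : L} (hg : hS.toPerm g = 1) : Odd (orderOf g) := by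
  rw [← Subgroup.orderOf_coe]
  exact hS.odd_ker g g.2 (hS.toPerm_eq_one.1 hg)

theorem orderOf_image {g : L} (hg : orderOf (g : G) = 2) :
    orderOf (hS.toPerm.rangeRestrict g) = 2 := by
  refine orderOf_eq_two_iff_mul.2 ⟨fun e => ?_, ?_⟩
  · have h1 := hS.odd_orderOf (g := g) (congrArg Subtype.val e)
    rw [← Subgroup.orderOf_coe, hg] at h1
    exact absurd h1 (by decide)
  · rw [← map_mul, show g * g = 1 from Subtype.ext (mul_self_eq_one hg), map_one]

theorem exists_lift {e : hS.toPerm.range} (he : orderOf e = 2) :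
    ∃ t : L, orderOf (t : G) = 2 ∧ hS.toPerm.rangeRestrict t = e := by
  obtain ⟨g, hg⟩ := hS.toPerm.rangeRestrict_surjective e
  have hee : e * e = 1 := mul_self_eq_one he
  have h1 : hS.toPerm.rangeRestrict (g * g) = 1 := by rw [map_mul, hg, hee]
  set k := orderOf (g * g) with hk
  have hodd : Odd k := hS.odd_orderOf (congrArg Subtype.val h1)
  refine ⟨g ^ k, ?_, ?_⟩
  · have h3 : g ^ k * g ^ k = 1 := by
      rw [← (Commute.refl g).mul_pow, hk, pow_orderOf_eq_one]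
    have h4 : hS.toPerm.rangeRestrict (g ^ k) = e := by
      obtain ⟨j, hj⟩ := hodd
      rw [map_pow, hg, hj, pow_succ, pow_mul, sq, hee, one_pow, one_mul]
    rw [Subgroup.orderOf_coe]
    refine orderOf_eq_two_iff_mul.2 ⟨fun e1 => ne_one_of_involution he ?_, h3⟩
    rw [← h4, e1, map_one]
  · obtain ⟨j, hj⟩ := hodd
    rw [map_pow, hg, hj, pow_succ, pow_mul, sq, hee, one_pow, one_mul]

theorem oneFix : OneFix hS.toPerm.range F where
  trans x y := by
    obtain ⟨g, hg, hgx⟩ := hS.trans x x.2 y y.2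
    exact ⟨hS.toPerm.rangeRestrict ⟨g, hg⟩, Subtype.ext hgx⟩
  nontriv x := by
    obtain ⟨y, hy, hne⟩ := hS.two x x.2
    exact ⟨⟨y, hy⟩, fun e => hne (congrArg Subtype.val e)⟩
  exists_inv := by
    obtain ⟨a, ha, b, -, ha2, -, -, -⟩ := hS.four
    exact ⟨_, hS.orderOf_image (g := ⟨a, ha⟩) ha2⟩
  exists_fix e he := by
    obtain ⟨t, ht, rfl⟩ := hS.exists_lift he
    obtain ⟨x, hx, htx⟩ := hS.fix t t.2 ht
    exact ⟨⟨x, hx⟩, Subtype.ext htx⟩
  unique e he x y hx hy := by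
    obtain ⟨t, ht, rfl⟩ := hS.exists_lift he
    exact Subtype.ext (hS.unique t t.2 ht x x.2 y y.2 (congrArg Subtype.val hx)
      (congrArg Subtype.val hy))

omit [Finite G] in
theorem faith (g : hS.toPerm.range) (hg : ∀ x : F, g • x = x) : g = 1 :=
  Subtype.ext (Equiv.ext hg)

theorem hasFour : HasFour hS.toPerm.range := by
  obtain ⟨a, ha, b, hb, ha2, hb2, hne, hc⟩ := hS.four
  refine ⟨_, _, hS.orderOf_image (g := ⟨a, ha⟩) ha2, hS.orderOf_image (g := ⟨b, hb⟩) hb2,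
    fun e => hne ?_, ?_⟩
  · have h1 : hS.toPerm (⟨a, ha⟩ * ⟨b, hb⟩ : L) = 1 := by
      have h2 := congrArg Subtype.val (mul_self_eq_one (hS.orderOf_image (g := ⟨b, hb⟩) hb2))
      rw [map_mul, show hS.toPerm ⟨a, ha⟩ = hS.toPerm ⟨b, hb⟩ from congrArg Subtype.val e]
      exact h2
    have h3 := hS.odd_orderOf h1
    rw [← Subgroup.orderOf_coe] at h3
    have h4 : orderOf (a * b) ∣ 2 := orderOf_dvd_of_pow_eq_one (by
      rw [hc.mul_pow, sq, sq, mul_self_eq_one ha2, mul_self_eq_one hb2, one_mul])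
    rcases (Nat.dvd_prime Nat.prime_two).1 h4 with h5 | h5
    · exact (eq_inv_of_mul_eq_one_left (orderOf_eq_one_iff.1 h5)).trans
        (inv_eq_self_of_involution hb2)
    · rw [show ((⟨a, ha⟩ * ⟨b, hb⟩ : L) : G) = a * b from rfl, h5] at h3
      exact absurd h3 (by decide)
  · exact (show Commute (⟨a, ha⟩ : L) ⟨b, hb⟩ from Subtype.ext hc).map hS.toPerm.rangeRestrict

theorem exists_kernel [Finite Ω] (P : F) :
    ∃ Q : Subgroup hS.toPerm.range, IsKernelAt P Q :=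
  isKernelAt_of_hasKernelAt (benderKernel hS.toPerm.range F hS.oneFix hS.faith hS.hasFour P)

omit [Finite G] in
theorem map_eq_of_same {g g' : L} (h : ∀ y ∈ F, (g : G) • y = (g' : G) • y) :
    hS.toPerm.rangeRestrict g = hS.toPerm.rangeRestrict g' :=
  Subtype.ext (Equiv.ext fun y => Subtype.ext (h y y.2))

omit [Finite G] in
theorem same_of_map_eq {g g' : L} (h : hS.toPerm.rangeRestrict g = hS.toPerm.rangeRestrict g') :
    ∀ y ∈ F, (g : G) • y = (g' : G) • y := fun y hy =>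
  congrArg (fun e : hS.toPerm.range => (((e : Equiv.Perm F) ⟨y, hy⟩ : F) : Ω)) h

omit [Finite G] in
/-- An element of a 2-subgroup of `L` acting trivially on `F` is trivial. -/
theorem eq_one_of_fix {T : Subgroup G} (hT : IsPGroup 2 T) {g : G} (hgT : g ∈ T) (hgL : g ∈ L)
    (hg : ∀ y ∈ F, g • y = y) : g = 1 := by
  obtain ⟨j, hj⟩ := hT ⟨g, hgT⟩
  have h2 : orderOf g ∣ 2 ^ j := orderOf_dvd_of_pow_eq_one (congrArg Subtype.val hj)
  exact orderOf_eq_one_iff.1 (Nat.eq_one_of_dvd_coprimes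
    (Nat.Coprime.pow_left _ (Nat.coprime_two_left.2 (hS.odd_ker g hgL hg))) h2 dvd_rfl)

/-- Involutions of `L` with the same action on `F` are conjugate by an element fixing `F` that
commutes with whatever commutes with both. -/
theorem conj_of_same {s t : G} (hs : s ∈ L) (ht : t ∈ L) (hs2 : orderOf s = 2) (ht2 : orderOf t = 2)
    (hst : ∀ y ∈ F, s • y = t • y) :
    ∃ k ∈ L, (∀ y ∈ F, k • y = y) ∧ (∀ g : G, Commute g s → Commute g t → Commute g k) ∧
      k * s * k⁻¹ = t := by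
  set d := s * t with hd
  have hdL : d ∈ L := mul_mem hs ht
  have hdfix : ∀ y ∈ F, d • y = y := fun y hy => by
    rw [mul_smul, ← hst y hy, smul_smul, mul_self_eq_one hs2, one_smul]
  obtain ⟨j, hj⟩ := hS.odd_ker d hdL hdfix
  have hinv : s * d * s⁻¹ = d⁻¹ := by
    rw [hd, mul_inv_rev, inv_eq_self_of_involution hs2, inv_eq_self_of_involution ht2, ← mul_assoc,
      mul_self_eq_one hs2, one_mul]
  refine ⟨d ^ j, pow_mem hdL j,
    fun y hy => mem_stabilizer_iff.1 ((stabilizer G y).pow_mem (mem_stabilizer_iff.2 (hdfix y hy)) j),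
    fun g h1 h2 => (h1.mul_right h2).pow_right j, ?_⟩
  have h2 : s * (d ^ j)⁻¹ * s⁻¹ = d ^ j := by
    rw [← inv_pow, ← conj_pow]
    congr 1
    calc s * d⁻¹ * s⁻¹ = (s * d * s⁻¹)⁻¹ := by group
      _ = d := by rw [hinv, inv_inv]
  calc d ^ j * s * (d ^ j)⁻¹ = d ^ j * (s * (d ^ j)⁻¹ * s⁻¹) * s := by group
    _ = d ^ (2 * j + 1) * (d⁻¹ * s) := by rw [h2]; group
    _ = t := by
      rw [← hj, pow_orderOf_eq_one, one_mul, hd, mul_inv_rev, mul_assoc,
        inv_eq_self_of_involution hs2, inv_eq_self_of_involution ht2, mul_self_eq_one hs2, mul_one]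

/-- A 2-group normalising `L` and centralising the action of an involution `t` on `F` centralises
an involution of `L` acting on `F` as `t` does. -/
theorem exists_same_centralized {T : Subgroup G} (hT : IsPGroup 2 T)
    (hnorm : ∀ p ∈ T, ∀ g ∈ L, p * g * p⁻¹ ∈ L) (hstab : ∀ p ∈ T, ∀ y ∈ F, p • y ∈ F)
    {t : G} (ht : t ∈ L) (ht2 : orderOf t = 2) (hTt : ∀ p ∈ T, ∀ y ∈ F, p • t • y = t • p • y) :
    ∃ s ∈ L, orderOf s = 2 ∧ (∀ y ∈ F, s • y = t • y) ∧ ∀ p ∈ T, Commute p s := by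
  haveI : Fact (Nat.Prime 2) := ⟨Nat.prime_two⟩
  let X : Set G := {s | s ∈ L ∧ orderOf s = 2 ∧ ∀ y ∈ F, s • y = t • y}
  let mk : ∀ (H : Subgroup G), (∀ p ∈ H, ∀ s ∈ X, p * s * p⁻¹ ∈ X) → MulAction H X := fun H hH =>
    { smul := fun g s => ⟨(g : G) * s.1 * (g : G)⁻¹, hH _ g.2 _ s.2⟩
      one_smul := fun s => Subtype.ext (by show (1 : G) * s.1 * (1 : G)⁻¹ = s.1; group)
      mul_smul := fun g g' s => Subtype.ext (by
        show (g : G) * g' * s.1 * ((g : G) * g')⁻¹ = g * (g' * s.1 * (g' : G)⁻¹) * (g : G)⁻¹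
        group) }
  have hinv : ∀ H : Subgroup G, (∀ p ∈ H, ∀ g ∈ L, p * g * p⁻¹ ∈ L) → (∀ p ∈ H, ∀ y ∈ F, p • y ∈ F) →
      (∀ p ∈ H, ∀ y ∈ F, p • t • y = t • p • y) → ∀ p ∈ H, ∀ s ∈ X, p * s * p⁻¹ ∈ X := by
    intro H h1 h2 h3 p hp s hs
    refine ⟨h1 p hp s hs.1, (orderOf_conj_eq _ _).trans hs.2.1, fun y hy => ?_⟩
    rw [mul_smul, mul_smul, hs.2.2 _ (h2 _ (inv_mem hp) y hy), h3 p hp _ (h2 _ (inv_mem hp) y hy),
      smul_inv_smul]
  -- the fibre has odd size: `t` centralises no other member of it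
  have hX : Odd (Nat.card X) := by
    have hle : Subgroup.zpowers t ≤ L := Subgroup.zpowers_le.2 ht
    let act := mk _ (hinv (Subgroup.zpowers t)
      (fun p hp g hg => mul_mem (mul_mem (hle hp) hg) (inv_mem (hle hp)))
      (fun p hp => hS.stable p (hle hp)) (fun p hp y _ => by
        obtain ⟨n, rfl⟩ := Subgroup.mem_zpowers_iff.1 hp
        rw [smul_smul, smul_smul, ((Commute.refl t).zpow_left n).eq]))
    have hfix : MulAction.fixedPoints (Subgroup.zpowers t) X = {⟨t, ht, ht2, fun _ _ => rfl⟩} := by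
      ext s
      constructor
      · intro hs
        have h1 : t * s.1 * t⁻¹ = s.1 := congrArg Subtype.val (hs ⟨t, Subgroup.mem_zpowers t⟩)
        have hc : Commute t s.1 := mul_inv_eq_iff_eq_mul.1 h1
        obtain ⟨k, -, -, hk, hks⟩ := hS.conj_of_same s.2.1 ht s.2.2.1 ht2 s.2.2.2
        have h2 : Commute s.1 k := hk _ (Commute.refl _) hc.symm
        rw [← h2.eq, mul_inv_cancel_right] at hks
        exact Subtype.ext hks
      · rintro rfl ⟨g, hg⟩
        refine Subtype.ext ?_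
        obtain ⟨n, rfl⟩ := Subgroup.mem_zpowers_iff.1 hg
        show t ^ n * t * (t ^ n)⁻¹ = t
        group
    have h1 := (IsPGroup.of_card (n := 1) (by
      rw [Nat.card_zpowers, ht2, pow_one]) : IsPGroup 2 (Subgroup.zpowers t)).card_modEq_card_fixedPoints X
    rw [hfix, Nat.card_coe_set_eq {(⟨t, ht, ht2, fun _ _ => rfl⟩ : X)}, Set.ncard_singleton] at h1
    exact Nat.odd_iff.2 h1
  let act := mk T (hinv T hnorm hstab hTt)
  obtain ⟨s, hs⟩ := hT.nonempty_fixed_point_of_prime_not_dvd_card X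
    (fun hd => (Nat.not_even_iff_odd.2 hX) (even_iff_two_dvd.2 hd))
  exact ⟨s.1, s.2.1, s.2.2.1, s.2.2.2, fun p hp =>
    mul_inv_eq_iff_eq_mul.1 (congrArg Subtype.val (hs ⟨p, hp⟩) : p * s.1 * p⁻¹ = s.1)⟩

/-- The involutions of a 2-subgroup of `L` fixing a point of `F` are central in it. -/
theorem commute_of_isPGroup [Finite Ω] {T : Subgroup G} (hTL : T ≤ L) (hT : IsPGroup 2 T) {x : Ω}
    (hx : x ∈ F) (hTx : ∀ g ∈ T, g • x = x) {a b : G} (ha : a ∈ T) (hb : b ∈ T)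
    (ha2 : orderOf a = 2) : Commute a b := by
  obtain ⟨Qb, hQb⟩ := hS.exists_kernel ⟨x, hx⟩
  set f := hS.toPerm.rangeRestrict
  obtain ⟨j, hj⟩ := hT ⟨b, hb⟩
  have hbQ : f ⟨b, hTL hb⟩ ∈ Qb := mem_kernel_of_two hS.oneFix hQb (Subtype.ext (hTx b hb)) (j := j)
    (by rw [← map_pow, show (⟨b, hTL hb⟩ : L) ^ 2 ^ j = 1 from
      Subtype.ext (by simpa using congrArg (fun z : T => (z : G)) hj), map_one])
  have hc : Commute (f ⟨a, hTL ha⟩) (f ⟨b, hTL hb⟩) := commute_invAt_kernel hS.oneFix hQb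
    ⟨hS.orderOf_image (g := ⟨a, hTL ha⟩) ha2, Subtype.ext (hTx a ha)⟩ hbQ
  have hmem : a * b * a⁻¹ * b⁻¹ ∈ T := mul_mem (mul_mem (mul_mem ha hb) (inv_mem ha)) (inv_mem hb)
  refine commutatorElement_eq_one_iff_commute.1 (hS.eq_one_of_fix hT hmem (hTL hmem) ?_)
  have h1 : f (⟨a, hTL ha⟩ * ⟨b, hTL hb⟩ * ⟨a, hTL ha⟩⁻¹ * ⟨b, hTL hb⟩⁻¹) = 1 := by
    rw [map_mul, map_mul, map_mul, map_inv, map_inv, hc.eq]
    group
  exact hS.toPerm_eq_one.1 (congrArg Subtype.val h1)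

/-- The stabiliser in `L` of two points of `F` is transitive on its involutions at the first. -/
theorem exists_conj [Finite Ω] {x y : Ω} (hx : x ∈ F) (hy : y ∈ F) (hyx : y ≠ x) {a b : G}
    (ha : a ∈ L) (hb : b ∈ L) (ha2 : orderOf a = 2) (hb2 : orderOf b = 2) (hax : a • x = x)
    (hbx : b • x = x) : ∃ d ∈ L, d • x = x ∧ d • y = y ∧ d * a * d⁻¹ = b := by
  set f := hS.toPerm.rangeRestrict with hf
  have hne : (⟨x, hx⟩ : F) ≠ ⟨y, hy⟩ := fun e => hyx (congrArg Subtype.val e).symm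
  obtain ⟨e, he, hea⟩ := hS.oneFix.exists_conj_invAt hne
    (s := f ⟨a, ha⟩) ⟨hS.orderOf_image (g := ⟨a, ha⟩) ha2, Subtype.ext hax⟩
    (s' := f ⟨b, hb⟩) ⟨hS.orderOf_image (g := ⟨b, hb⟩) hb2, Subtype.ext hbx⟩
  obtain ⟨d, rfl⟩ := hS.toPerm.rangeRestrict_surjective e
  obtain ⟨k, hkL, hk, -, hkb⟩ := hS.conj_of_same
    (s := (d : G) * a * (d : G)⁻¹) (mul_mem (mul_mem d.2 ha) (inv_mem d.2)) hb
    ((orderOf_conj_eq _ _).trans ha2) hb2
    (hS.same_of_map_eq (g := d * ⟨a, ha⟩ * d⁻¹) (g' := ⟨b, hb⟩)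
      (by rw [map_mul, map_mul, map_inv]; exact hea))
  refine ⟨k * d, mul_mem hkL d.2, ?_, ?_, ?_⟩
  · rw [mul_smul, show (d : G) • x = x from congrArg Subtype.val (mem_two_iff.1 he).1, hk x hx]
  · rw [mul_smul, show (d : G) • y = y from congrArg Subtype.val (mem_two_iff.1 he).2, hk y hy]
  · rw [← hkb]; group

/-- A Sylow 2-subgroup `T` of the stabiliser in `L` of a point of `F` is regular on the other points,
contains every involution there up to conjugacy, and its normaliser is transitive on its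
involutions. -/
theorem exists_twoGroup [Finite Ω] {x : Ω} (hx : x ∈ F) :
    ∃ T : Subgroup G, T ≤ L ∧ IsPGroup 2 T ∧ (∀ g ∈ T, g • x = x) ∧
      (∀ y ∈ F, ∀ z ∈ F, y ≠ x → z ≠ x → ∃ g ∈ T, g • y = z) ∧
      (∀ g ∈ T, ∀ y ∈ F, y ≠ x → g • y = y → g = 1) ∧
      (∀ a ∈ T, ∀ g ∈ T, orderOf a = 2 → Commute a g) ∧
      (∀ t ∈ L, orderOf t = 2 → t • x = x →
        ∃ k ∈ L, (∀ y ∈ F, k • y = y) ∧ k * t * k⁻¹ ∈ T) ∧
      (∀ a ∈ T, ∀ b ∈ T, orderOf a = 2 → orderOf b = 2 →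
        ∃ d ∈ L, d • x = x ∧ (∀ g ∈ T, d * g * d⁻¹ ∈ T) ∧ d * a * d⁻¹ = b) := by
  haveI : Fact (Nat.Prime 2) := ⟨Nat.prime_two⟩
  obtain ⟨Qb, hQb⟩ := hS.exists_kernel ⟨x, hx⟩
  have hone := hS.oneFix
  set f := hS.toPerm.rangeRestrict with hf
  set H := L ⊓ stabilizer G x with hH
  obtain ⟨S⟩ : Nonempty (Sylow 2 H) := inferInstance
  set T := (S : Subgroup H).map H.subtype with hT
  have hTL : T ≤ L := (Subgroup.map_subtype_le _).trans inf_le_left
  have hTx : ∀ g ∈ T, g • x = x := fun g hg =>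
    mem_stabilizer_iff.1 ((Subgroup.map_subtype_le _ hg : g ∈ H).2)
  have hT2 : IsPGroup 2 T := S.isPGroup'.map _
  let f' : H →* hS.toPerm.range := f.comp (Subgroup.inclusion inf_le_left)
  have himg : ∀ e ∈ Qb, ∃ g ∈ T, ∃ hg : g ∈ L, f ⟨g, hg⟩ = e := by
    intro e he
    let K : Subgroup H := Qb.comap f'
    have hSK : (S : Subgroup H) ≤ K := by
      intro g hg
      obtain ⟨j, hj⟩ := S.isPGroup' ⟨g, hg⟩
      exact mem_kernel_of_two hone hQb (Subtype.ext g.2.2) (j := j) (by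
        rw [← map_pow, show g ^ 2 ^ j = 1 from congrArg Subtype.val hj, map_one])
    let f'' : K →* Qb := (f'.comp K.subtype).codRestrict Qb fun p => p.2
    have hf'' : Function.Surjective f'' := fun e' => by
      obtain ⟨g, hg⟩ := hS.toPerm.rangeRestrict_surjective e'.1
      have hgx : (g : G) • x = x := by
        have h1 := congrArg Subtype.val (mem_stabilizer_iff.1 (hQb.le e'.2))
        rw [← hg] at h1
        exact h1
      exact ⟨⟨⟨g, g.2, hgx⟩, show f g ∈ Qb by rw [hf, hg]; exact e'.2⟩, Subtype.ext hg⟩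
    have htop : ((S.subtype hSK : Sylow 2 K) : Subgroup K).map f'' = ⊤ := by
      rw [← Sylow.coe_mapSurjective hf'']
      exact (Sylow.is_maximal' _ (hQb.isTwo.to_subgroup ⊤) le_top).symm
    obtain ⟨p, hp, hpe⟩ : (⟨e, he⟩ : Qb) ∈
        ((S.subtype hSK : Sylow 2 K) : Subgroup K).map f'' := by
      rw [htop]; trivial
    exact ⟨_, ⟨(p : H), hp, rfl⟩, (p : H).2.1, congrArg Subtype.val hpe⟩
  have hmem : ∀ g ∈ T, ∀ hg : g ∈ L, f ⟨g, hg⟩ ∈ Qb := by
    intro g hgT hg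
    obtain ⟨j, hj⟩ := hT2 ⟨g, hgT⟩
    exact mem_kernel_of_two hone hQb (Subtype.ext (hTx g hgT)) (j := j) (by
      rw [← map_pow, show (⟨g, hg⟩ : L) ^ 2 ^ j = 1 from
        Subtype.ext (by simpa using congrArg (fun z : T => (z : G)) hj),
        map_one])
  refine ⟨T, hTL, hT2, hTx, ?_, ?_, fun a ha g hg ha2 =>
    hS.commute_of_isPGroup hTL hT2 hx hTx ha hg ha2, ?_, ?_⟩
  · intro y hy z hz hyx hzx
    obtain ⟨e, he, hey⟩ := hQb.trans ⟨y, hy⟩ ⟨z, hz⟩ (fun h => hyx (congrArg Subtype.val h))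
      (fun h => hzx (congrArg Subtype.val h))
    obtain ⟨g, hg, hgL, rfl⟩ := himg e he
    exact ⟨g, hg, congrArg Subtype.val hey⟩
  · intro g hg y hy hyx hgy
    exact hS.eq_one_of_fix hT2 hg (hTL hg) (hS.toPerm_eq_one.1 (congrArg Subtype.val
      (hQb.free _ (hmem g hg (hTL hg)) ⟨y, hy⟩ (fun h => hyx (congrArg Subtype.val h))
        (Subtype.ext hgy))))
  · intro t htL ht2 htx
    obtain ⟨g, hg, hgL, hge⟩ := himg _ (hQb.invol_mem hone (t := f ⟨t, htL⟩)
      ⟨hS.orderOf_image (g := ⟨t, htL⟩) ht2, Subtype.ext htx⟩)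
    have hgt : ∀ y ∈ F, g • y = t • y := hS.same_of_map_eq (g := ⟨g, hgL⟩) (g' := ⟨t, htL⟩) hge
    have hg2 : orderOf g = 2 := by
      refine orderOf_eq_two_iff_mul.2 ⟨fun e => ?_, hS.eq_one_of_fix hT2 (mul_mem hg hg)
        (mul_mem hgL hgL) fun y hy => ?_⟩
      · have h1 := hS.odd_ker t htL fun y hy => by rw [← hgt y hy, e, one_smul]
        rw [ht2] at h1
        exact absurd h1 (by decide)
      · rw [mul_smul, hgt y hy, hgt _ (hS.stable t htL y hy), smul_smul, mul_self_eq_one ht2,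
          one_smul]
    obtain ⟨k, hkL, hk, -, hkt⟩ := hS.conj_of_same htL hgL ht2 hg2 fun y hy => (hgt y hy).symm
    exact ⟨k, hkL, hk, hkt.symm ▸ hg⟩
  · intro a ha b hb ha2 hb2
    obtain ⟨y, hy, hyx⟩ := hS.two x hx
    obtain ⟨d, hdL, hdx, -, hdab⟩ :=
      hS.exists_conj hx hy hyx (hTL ha) (hTL hb) ha2 hb2 (hTx a ha) (hTx b hb)
    have hcent : ∀ c ∈ T, orderOf c = 2 → ∀ hc : c ∈ H,
        (⟨c, hc⟩ : H) ∈ Subgroup.centralizer (S : Set H) := by
      intro c hc hc2 hcH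
      rw [Subgroup.mem_centralizer_iff]
      intro g hg
      exact Subtype.ext (hS.commute_of_isPGroup hTL hT2 hx hTx hc ⟨g, hg, rfl⟩ hc2).eq.symm
    set dH : H := ⟨d, hdL, hdx⟩ with hdH
    have haH : a ∈ H := Subgroup.map_subtype_le _ ha
    have hbH : b ∈ H := Subgroup.map_subtype_le _ hb
    have hab : dH * ⟨a, haH⟩ * dH⁻¹ = ⟨b, hbH⟩ := Subtype.ext hdab
    obtain ⟨n, hn, hnab⟩ := S.conj_eq_normalizer_conj_of_mem_centralizer ⟨a, haH⟩ dH⁻¹
      (hcent a ha ha2 haH) (by rw [inv_inv, hab]; exact hcent b hb hb2 hbH)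
    refine ⟨((n⁻¹ : H) : G), (n⁻¹ : H).2.1, (n⁻¹ : H).2.2, ?_, ?_⟩
    · rintro _ ⟨g, hg, rfl⟩
      exact ⟨n⁻¹ * g * n⁻¹⁻¹, (Subgroup.mem_normalizer_iff.1 (inv_mem hn) g).1 hg, rfl⟩
    · rw [inv_inv, hab] at hnab
      have h1 := congrArg Subtype.val hnab
      simpa using h1.symm

end SectSetting

end CfsgLib.StrongCrit
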