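import Cfsg.Agent.Lib.StrongCrit.FormZero
import Cfsg.Agent.Lib.StrongCrit.Faithful
import Cfsg.Agent.Lib.StrongCrit.SectionCore
import Cfsg.Agent.Lib.StrongCrit.Transfer
import Cfsg.Agent.Lib.StrongCrit.Cover
import Cfsg.Agent.Lib.BenderQ.Classify
import Cfsg.Agent.Lib.RankOneRecog.Main

/-!
If products of commuting members are members, no central involution fixing every point lies in the
group generated by the members, provided that modulo it there is no bad involution.
-/

set_option autoImplicit false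

namespace CfsgLib.StrongCrit

open CfsgLib.Involutions CfsgLib.BenderTrans CfsgLib.BenderQ CfsgLib.RankOneTwo MulAction
open scoped commutatorElement Pointwise

universe u

variable {G : Type u} [Group G] {Ω : Type u} [MulAction G Ω] {Z : Set G}

/-- Products of two distinct commuting members are members. -/
def MulClosed (Z : Set G) : Prop := ∀ s ∈ Z, ∀ t ∈ Z, Commute s t → s ≠ t → s * t ∈ Z

variable [Finite G] [Finite Ω]

/-- The transfer argument: the situation of a central involution over a rank one image. -/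
theorem false_of_central_cover (h : Setting Ω Z) (hmul : MulClosed Z)
    (hgen : Subgroup.closure Z = ⊤) {w : G} (hw2 : orderOf w = 2) (hcen : ∀ g, Commute w g)
    (hwfix : ∀ x : Ω, w • x = x) {H : Type u} [Group H] [Finite H] [MulAction H Ω]
    [FaithfulSMul H Ω] (f : G →* H) (hsurj : Function.Surjective f)
    (hact : ∀ (g : G) (x : Ω), f g • x = g • x)
    (hker : ∀ g : G, f g = 1 → (∃ k : ℕ, g ^ 2 ^ k = 1) → g = 1 ∨ g = w)
    (hone : OneFix H Ω) (hfour : HasFour H)
    (hmem : ∀ q : H, orderOf q = 2 → ∃ t ∈ Z, f t = q) : False := by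
  classical
  have : Fact (Nat.Prime 2) := ⟨Nat.prime_two⟩
  have hww := mul_self_eq_one hw2
  obtain ⟨S⟩ : Nonempty (Sylow 2 G) := Sylow.nonempty
  obtain ⟨s₀, hs₀⟩ := hone.exists_inv
  obtain ⟨c₀, -⟩ := hone.exists_fix s₀ hs₀
  obtain ⟨c, hc⟩ := h.exists_fixed_point S.isPGroup' c₀
  have hwZ : w ∉ Z := fun hwZ => by
    obtain ⟨y, hy⟩ := h.nontriv c
    exact hy (h.unique w hwZ y c (hwfix y) (hwfix c))
  -- the central involution lies in the Sylow group
  have hadd : ∀ z : G, orderOf z = 2 → (∀ g ∈ (S : Subgroup G), Commute g z) → z ∈ (S : Subgroup G) := by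
    intro z hz hcomm
    have hn : (Subgroup.zpowers z) ≤ Subgroup.normalizer ((S : Subgroup G) : Set G) := by
      rw [Subgroup.zpowers_le]
      refine Coprime.mem_normalizer_of_forall_conj fun g hg => ?_
      rw [← (hcomm g hg).eq, mul_inv_cancel_right]
      exact hg
    have hp := S.isPGroup'.to_sup_of_normal_left' (isPGroup_zpowers hz) hn
    exact (S.is_maximal' hp le_sup_left).le (Subgroup.mem_sup_right (Subgroup.mem_zpowers z))
  have hwS : w ∈ (S : Subgroup G) := hadd w hw2 fun g _ => (hcen g).symm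
  have hpow : ∀ g ∈ (S : Subgroup G), ∃ k : ℕ, g ^ 2 ^ k = 1 := fun g hg => by
    obtain ⟨k, hk⟩ := S.isPGroup' ⟨g, hg⟩
    exact ⟨k, congrArg Subtype.val hk⟩
  have hkerS : ∀ g ∈ (S : Subgroup G), f g = 1 → g = 1 ∨ g = w := fun g hg h1 =>
    hker g h1 (hpow g hg)
  have hfw : f w = 1 :=
    (FaithfulSMul.eq_of_smul_eq_smul (α := Ω) fun x => by rw [hact, hwfix, one_smul])
  -- the kernel of the rank one image
  have hfaith : ∀ q : H, (∀ x : Ω, q • x = x) → q = 1 := fun q hq =>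
    FaithfulSMul.eq_of_smul_eq_smul (α := Ω) fun x => by rw [hq, one_smul]
  obtain ⟨Q, hQ⟩ := isKernelAt_of_hasKernelAt (benderKernel H Ω hone hfaith hfour c)
  obtain ⟨r, hr⟩ := exists_rankOneSetup hone hQ
  have hfour0 := hfour
  obtain ⟨s₁, u₁, hs₁, hu₁, hne₁, hc₁⟩ := hfour0
  have h2 : ∃ x y : H, x ≠ 1 ∧ y ≠ 1 ∧ x ≠ y ∧ x * x = 1 ∧ y * y = 1 ∧ x * y = y * x :=
    ⟨s₁, u₁, ne_one_of_involution hs₁, ne_one_of_involution hu₁, hne₁, mul_self_eq_one hs₁,
      mul_self_eq_one hu₁, hc₁.eq⟩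
  have hfQ : ∀ g ∈ (S : Subgroup G), f g ∈ Q := fun g hg => by
    obtain ⟨k, hk⟩ := hpow g hg
    exact mem_kernel_of_two hone hQ (by rw [hact]; exact hc g hg) (j := k)
      (by rw [← map_pow, hk, map_one])
  have himage : (S : Subgroup G).map f = Q := by
    have h1 : ((S.mapSurjective hsurj : Sylow 2 H) : Subgroup H) = (S : Subgroup G).map f :=
      Sylow.coe_mapSurjective hsurj S
    rw [← h1]
    refine ((S.mapSurjective hsurj).is_maximal' hQ.isTwo ?_).symm
    rw [h1]
    rintro _ ⟨g, hg, rfl⟩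
    exact hfQ g hg
  have hlift : ∀ q ∈ Q, ∃ g ∈ (S : Subgroup G), f g = q := fun q hq => by
    rw [← himage] at hq; exact hq
  -- lifts of the involutions of `Q`
  have hb : ∀ q ∈ Q, orderOf q = 2 →
      ∃ b ∈ (S : Subgroup G), b ∈ Z ∧ f b = q ∧ ∀ g ∈ (S : Subgroup G), Commute g b := by
    intro q hqQ hq
    obtain ⟨t, ht, rfl⟩ := hmem q hq
    have hqZ : f t ∈ Zsub H c := Subgroup.subset_closure (RankOneInvol.mem_invols.2
      ⟨mem_stabilizer_iff.1 (hQ.le hqQ), ne_one_of_involution hq, mul_self_eq_one hq⟩)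
    obtain ⟨b, hbZ, hbact, hbc⟩ := h.exists_fibre_commute (T := (S : Subgroup G)) S.isPGroup' ht
      (fun g hg x => by
        rw [← hact, ← hact t, ← hact g x, ← hact t (f g • x), smul_smul, smul_smul,
          Zsub_comm hr h2 hqZ (hfQ g hg)])
    refine ⟨b, hadd b (h.invol b hbZ) hbc, hbZ, ?_, hbc⟩
    exact FaithfulSMul.eq_of_smul_eq_smul (α := Ω) fun x => by rw [hact, hact]; exact hbact x
  have hmemS : ∀ b ∈ (S : Subgroup G), b ∈ Z → ∀ g ∈ (S : Subgroup G), Commute g b := by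
    intro b hbS hbZ
    have hb2 := h.invol b hbZ
    have hfb : orderOf (f b) = 2 := by
      refine orderOf_eq_two_iff_mul.2 ⟨fun e => ?_, by rw [← map_mul, mul_self_eq_one hb2, map_one]⟩
      rcases hkerS b hbS e with h1 | h1
      · exact ne_one_of_involution hb2 h1
      · exact hwZ (h1 ▸ hbZ)
    obtain ⟨b', hb'S, hb'Z, hfb', hb'c⟩ := hb (f b) (hfQ b hbS) hfb
    rcases hkerS (b'⁻¹ * b) (mul_mem (inv_mem hb'S) hbS) (by rw [map_mul, map_inv, hfb', inv_mul_cancel])
      with h1 | h1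
    · rw [← inv_mul_eq_one.1 h1]; exact hb'c
    · exfalso
      rw [inv_eq_self_of_involution (h.invol b' hb'Z)] at h1
      exact hwZ (h1 ▸ hmul b' hb'Z b hbZ (hb'c b hbS).symm
        fun e => ne_one_of_involution hw2 (by rw [← h1, e, mul_self_eq_one hb2]))
  -- the subgroup of the members
  let B : Subgroup G :=
    { carrier := {b | b = 1 ∨ b ∈ (S : Subgroup G) ∧ b ∈ Z}
      one_mem' := Or.inl rfl
      mul_mem' := by
        rintro a b (rfl | ⟨haS, haZ⟩) (rfl | ⟨hbS, hbZ⟩)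
        · exact Or.inl (mul_one 1)
        · exact Or.inr ⟨by rw [one_mul]; exact hbS, by rw [one_mul]; exact hbZ⟩
        · exact Or.inr ⟨by rw [mul_one]; exact haS, by rw [mul_one]; exact haZ⟩
        · rcases eq_or_ne a b with rfl | hne
          · exact Or.inl (mul_self_eq_one (h.invol a haZ))
          · exact Or.inr ⟨mul_mem haS hbS, hmul a haZ b hbZ (hmemS b hbS hbZ a haS) hne⟩
      inv_mem' := by
        rintro b (rfl | ⟨hbS, hbZ⟩)
        · exact Or.inl inv_one
        · exact Or.inr (by rw [inv_eq_self_of_involution (h.invol b hbZ)]; exact ⟨hbS, hbZ⟩) }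
  have hmemB : ∀ b, b ∈ B ↔ b = 1 ∨ b ∈ (S : Subgroup G) ∧ b ∈ Z := fun _ => Iff.rfl
  have hwB : w ∉ B := fun hw => ((hmemB w).1 hw).elim (ne_one_of_involution hw2) fun e => hwZ e.2
  have hBcomm : ∀ b ∈ B, ∀ g ∈ (S : Subgroup G), Commute g b := by
    rintro b (rfl | ⟨hbS, hbZ⟩) g hg
    · exact Commute.one_right g
    · exact hmemS b hbS hbZ g hg
  have hBS : ∀ b ∈ B, b ∈ (S : Subgroup G) := by
    rintro b (rfl | ⟨hbS, -⟩)
    · exact one_mem _
    · exact hbS
  have hZsub : ∀ z ∈ Zsub H c, ∃ b ∈ B, f b = z := by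
    intro z hz
    rcases eq_or_ne z 1 with rfl | hz1
    · exact ⟨1, one_mem _, map_one f⟩
    · obtain ⟨b, hbS, hbZ, hfb, -⟩ := hb z (Zsub_le hr h2 hz)
        (orderOf_eq_two_iff_mul.2 ⟨hz1, Zsub_sq hr h2 hz⟩)
      exact ⟨b, Or.inr ⟨hbS, hbZ⟩, hfb⟩
  -- commutators of lifts
  have hcomm_mem : ∀ g ∈ (S : Subgroup G), ∀ k ∈ (S : Subgroup G), ⁅g, k⁆ ∈ B ∨ ⁅g, k⁆ * w ∈ B := by
    intro g hg k hk
    have hz : f ⁅g, k⁆ ∈ Zsub H c := by
      rw [map_commutatorElement]
      by_cases hna : ∃ x y : Q, x * y ≠ y * x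
      · exact RankOneRecog.comm_mem_Zsub hr h2 hna (hfQ g hg) (hfQ k hk)
      · push Not at hna
        rw [commutatorElement_eq_one_iff_mul_comm.2
          (congrArg Subtype.val (hna ⟨_, hfQ g hg⟩ ⟨_, hfQ k hk⟩))]
        exact one_mem _
    obtain ⟨b, hbB, hfb⟩ := hZsub _ hz
    have hgk : ⁅g, k⁆ ∈ (S : Subgroup G) :=
      mul_mem (mul_mem (mul_mem hg hk) (inv_mem hg)) (inv_mem hk)
    rcases hkerS (b⁻¹ * ⁅g, k⁆) (mul_mem (inv_mem (hBS b hbB)) hgk)
      (by rw [map_mul, map_inv, hfb, inv_mul_cancel]) with h1 | h1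
    · exact Or.inl ((inv_mul_eq_one.1 h1) ▸ hbB)
    · refine Or.inr ?_
      rw [inv_mul_eq_iff_eq_mul] at h1
      rw [h1, mul_assoc, hww, mul_one]
      exact hbB
  have hindep : ∀ {g g' k k' : G}, g ∈ (S : Subgroup G) → g' ∈ (S : Subgroup G) →
      k ∈ (S : Subgroup G) → k' ∈ (S : Subgroup G) → f g = f g' → f k = f k' →
        ⁅g, k⁆ = ⁅g', k'⁆ := by
    intro g g' k k' hg hg' hk hk' he he'
    have key : ∀ {a a' : G}, a ∈ (S : Subgroup G) → a' ∈ (S : Subgroup G) → f a = f a' →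
        a' = a ∨ a' = a * w := fun {a a'} ha ha' e => by
      rcases hkerS (a⁻¹ * a') (mul_mem (inv_mem ha) ha') (by rw [map_mul, map_inv, e, inv_mul_cancel])
        with h1 | h1
      · exact Or.inl (inv_mul_eq_one.1 h1).symm
      · exact Or.inr (inv_mul_eq_iff_eq_mul.1 h1)
    have hl : ∀ a b : G, ⁅a * w, b⁆ = ⁅a, b⁆ := fun a b => by
      rw [commutatorElement_def, commutatorElement_def, mul_inv_rev, mul_assoc a w b, (hcen b).eq]
      group
    have hr' : ∀ a b : G, ⁅a, b * w⁆ = ⁅a, b⁆ := fun a b => by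
      rw [← commutatorElement_inv, hl, commutatorElement_inv]
    rcases key hg hg' he with rfl | rfl <;> rcases key hk hk' he' with rfl | rfl <;>
      simp [hl, hr']
  choose! σ hσS hσ using hlift
  let ind : G → ZMod 2 := fun z => if z ∈ B then 0 else 1
  have hind : ∀ {y z : G}, y ∈ B ∨ y * w ∈ B → z ∈ B ∨ z * w ∈ B → ind (y * z) = ind y + ind z := by
    intro y z hy hz
    have hnot : ∀ {a : G}, a * w ∈ B → a ∉ B := fun {a} haw ha =>
      hwB (by simpa using mul_mem (inv_mem ha) haw)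
    simp only [ind]
    rcases hy with hy | hy <;> rcases hz with hz | hz
    · simp [hy, hz, mul_mem hy hz]
    · have : (y * z) * w ∈ B := by rw [mul_assoc]; exact mul_mem hy hz
      simp [hy, hnot hz, hnot this]
    · have : (y * z) * w ∈ B := by
        rw [mul_assoc, ← (hcen z).eq, ← mul_assoc]; exact mul_mem hy hz
      simp [hnot hy, hz, hnot this]
    · have : y * z ∈ B := by
        have h1 : y * w * (z * w) = y * z := by
          rw [show y * w * (z * w) = y * (w * z) * w by group, (hcen z).eq,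
            show y * (z * w) * w = y * z * (w * w) by group, hww, mul_one]
        rw [← h1]; exact mul_mem hy hz
      simp [hnot hy, hnot hz, this]
      exact (CharTwo.add_self_eq_zero (1 : ZMod 2)).symm
  let F : H → H → ZMod 2 := fun x y => ind ⁅σ x, σ y⁆
  have hF : ∀ g ∈ (S : Subgroup G), ∀ k ∈ (S : Subgroup G), F (f g) (f k) = ind ⁅g, k⁆ :=
    fun g hg k hk => congrArg ind (hindep (hσS _ (hfQ g hg)) hg (hσS _ (hfQ k hk)) hk
      (hσ _ (hfQ g hg)) (hσ _ (hfQ k hk)))
  have hcent : ∀ {z g : G}, z ∈ B ∨ z * w ∈ B → g ∈ (S : Subgroup G) → Commute g z := by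
    intro z g hz hg
    rcases hz with hz | hz
    · exact hBcomm z hz g hg
    · have h1 := (hBcomm _ hz g hg).mul_right (hcen g).symm
      rwa [mul_assoc, hww, mul_one] at h1
  have hindB : ∀ z ∈ B, ind z = 0 := fun z hz => by simp [ind, hz]
  have hform : FormZero.IsInvForm c r Q F := by
    refine ⟨fun x hx y hy z hz => ?_, fun x hx y hy z hz => ?_, fun x hx y hy => ?_,
      fun x hx y hy => ?_, fun d hd x hx y hy => ?_⟩
    · obtain ⟨g, hg, rfl⟩ : ∃ g ∈ (S : Subgroup G), f g = x := ⟨σ x, hσS x hx, hσ x hx⟩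
      obtain ⟨k, hk, rfl⟩ : ∃ g ∈ (S : Subgroup G), f g = y := ⟨σ y, hσS y hy, hσ y hy⟩
      obtain ⟨l, hl, rfl⟩ : ∃ g ∈ (S : Subgroup G), f g = z := ⟨σ z, hσS z hz, hσ z hz⟩
      rw [← map_mul, hF _ (mul_mem hg hk) _ hl, hF _ hg _ hl, hF _ hk _ hl,
        show ⁅g * k, l⁆ = g * ⁅k, l⁆ * g⁻¹ * ⁅g, l⁆ by simp [commutatorElement_def, mul_assoc],
        (hcent (hcomm_mem k hk l hl) hg).eq, mul_inv_cancel_right,
        hind (hcomm_mem k hk l hl) (hcomm_mem g hg l hl), add_comm]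
    · obtain ⟨g, hg, rfl⟩ : ∃ g ∈ (S : Subgroup G), f g = x := ⟨σ x, hσS x hx, hσ x hx⟩
      obtain ⟨k, hk, rfl⟩ : ∃ g ∈ (S : Subgroup G), f g = y := ⟨σ y, hσS y hy, hσ y hy⟩
      obtain ⟨l, hl, rfl⟩ : ∃ g ∈ (S : Subgroup G), f g = z := ⟨σ z, hσS z hz, hσ z hz⟩
      rw [← map_mul, hF _ hg _ (mul_mem hk hl), hF _ hg _ hk, hF _ hg _ hl,
        show ⁅g, k * l⁆ = ⁅g, k⁆ * (k * ⁅g, l⁆ * k⁻¹) by simp [commutatorElement_def, mul_assoc],
        (hcent (hcomm_mem g hg l hl) hk).eq, mul_inv_cancel_right,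
        hind (hcomm_mem g hg k hk) (hcomm_mem g hg l hl)]
    · obtain ⟨b, hbB, rfl⟩ := hZsub x hx
      obtain ⟨k, hk, rfl⟩ : ∃ g ∈ (S : Subgroup G), f g = y := ⟨σ y, hσS y hy, hσ y hy⟩
      rw [hF _ (hBS b hbB) _ hk, commutatorElement_eq_one_iff_mul_comm.2 (hBcomm b hbB k hk).symm.eq]
      exact hindB 1 (one_mem _)
    · obtain ⟨b, hbB, rfl⟩ := hZsub y hy
      obtain ⟨g, hg, rfl⟩ : ∃ g ∈ (S : Subgroup G), f g = x := ⟨σ x, hσS x hx, hσ x hx⟩
      rw [hF _ hg _ (hBS b hbB), commutatorElement_eq_one_iff_mul_comm.2 (hBcomm b hbB g hg).eq]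
      exact hindB 1 (one_mem _)
    · -- a lift of `d` normalising `S`
      obtain ⟨d₀, rfl⟩ := hsurj d
      have hdQ : ∀ q ∈ Q, f d₀ * q * (f d₀)⁻¹ ∈ Q := hQ.conj _ (RankOneInvol.mem_twoPt.1 hd).1
      have hle : (S : Subgroup G) ≤ Q.comap f := fun g hg => hfQ g hg
      have hS'le : ((MulAut.conj d₀ • S : Sylow 2 G) : Subgroup G) ≤ Q.comap f := by
        intro g hg
        replace hg : g ∈ MulAut.conj d₀ • (S : Subgroup G) := hg
        rw [Subgroup.mem_pointwise_smul_iff_inv_smul_mem] at hg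
        have h1 := hdQ _ (hfQ _ hg)
        simpa [MulAut.smul_def, mul_assoc] using h1
      obtain ⟨e, he⟩ := exists_smul_eq (Q.comap f)
        ((MulAut.conj d₀ • S : Sylow 2 G).subtype hS'le) (S.subtype hle)
      obtain ⟨s, hs, hse⟩ : ∃ s ∈ (S : Subgroup G), f s = f e := ⟨σ _, hσS _ e.2, hσ _ e.2⟩
      set d' := s⁻¹ * e * d₀ with hd'
      have hfd : f d' = f d₀ := by
        rw [hd', map_mul, map_mul, map_inv, hse, inv_mul_cancel, one_mul]
      have hconj : ∀ g ∈ (S : Subgroup G), d' * g * d'⁻¹ ∈ (S : Subgroup G) := by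
        intro g hg
        have h1 : (e : G) * (d₀ * g * d₀⁻¹) * (e : G)⁻¹ ∈ (S : Subgroup G) := by
          have hg' : d₀ * g * d₀⁻¹ ∈ ((MulAut.conj d₀ • S : Sylow 2 G) : Subgroup G) := by
            show d₀ * g * d₀⁻¹ ∈ MulAut.conj d₀ • (S : Subgroup G)
            rw [Subgroup.mem_pointwise_smul_iff_inv_smul_mem]
            simpa [MulAut.smul_def, mul_assoc] using hg
          have h2 : e * (⟨d₀ * g * d₀⁻¹, hS'le hg'⟩ : Q.comap f) * e⁻¹ ∈
              ((S.subtype hle : Sylow 2 (Q.comap f)) : Subgroup (Q.comap f)) := by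
            rw [← he, Sylow.coe_subgroup_smul, Subgroup.mem_pointwise_smul_iff_inv_smul_mem]
            simp only [MulAut.smul_def, MulAut.inv_def, MulAut.conj_symm_apply, Sylow.coe_subtype,
              Subgroup.mem_subgroupOf]
            convert hg' using 1
            push_cast
            group
          exact h2
        have h3 : d' * g * d'⁻¹ = s⁻¹ * ((e : G) * (d₀ * g * d₀⁻¹) * (e : G)⁻¹) * s := by
          rw [hd']; group
        rw [h3]
        exact mul_mem (mul_mem (inv_mem hs) h1) hs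
      have hBconj : ∀ b, b ∈ B → d' * b * d'⁻¹ ∈ B := by
        rintro b (rfl | ⟨hbS, hbZ⟩)
        · rw [mul_one, mul_inv_cancel]; exact one_mem _
        · exact Or.inr ⟨hconj b hbS, h.conj_mem d' b hbZ⟩
      have hindd : ∀ z, z ∈ B ∨ z * w ∈ B → ind (d' * z * d'⁻¹) = ind z := by
        intro z hz
        rcases hz with hz | hz
        · rw [hindB z hz, hindB _ (hBconj z hz)]
        · have h1 : d' * z * d'⁻¹ * w ∈ B := by
            have := hBconj _ hz
            rwa [show d' * (z * w) * d'⁻¹ = d' * z * (w * d'⁻¹) by group, (hcen d'⁻¹).eq,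
              ← mul_assoc] at this
          have hnot : ∀ {a : G}, a * w ∈ B → a ∉ B := fun {a} haw ha =>
            hwB (by simpa using mul_mem (inv_mem ha) haw)
          simp [ind, hnot hz, hnot h1]
      obtain ⟨g, hg, rfl⟩ : ∃ g ∈ (S : Subgroup G), f g = x := ⟨σ x, hσS x hx, hσ x hx⟩
      obtain ⟨k, hk, rfl⟩ : ∃ g ∈ (S : Subgroup G), f g = y := ⟨σ y, hσS y hy, hσ y hy⟩
      rw [← hfd, ← map_inv, ← map_mul, ← map_mul, ← map_mul, ← map_mul, hF _ (hconj g hg) _ (hconj k hk),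
        hF _ hg _ hk, show ⁅d' * g * d'⁻¹, d' * k * d'⁻¹⁆ = d' * ⁅g, k⁆ * d'⁻¹ by
          simp [commutatorElement_def, mul_assoc], hindd _ (hcomm_mem g hg k hk)]
  have hzero := FormZero.eq_zero hr h2 hform
  -- the members give an abelian quotient of the Sylow group
  set BS : Subgroup (S : Subgroup G) := B.subgroupOf S with hBSdef
  have hBn : BS.Normal := ⟨fun b hb g => by
    show (g : G) * b * (g : G)⁻¹ ∈ B
    rw [(hBcomm (b : G) hb g g.2).eq, mul_inv_cancel_right]
    exact hb⟩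
  letI : CommGroup ((S : Subgroup G) ⧸ BS) :=
    { (inferInstance : Group ((S : Subgroup G) ⧸ BS)) with
      mul_comm := fun a b => QuotientGroup.induction_on a fun g => QuotientGroup.induction_on b fun k => by
        refine commutatorElement_eq_one_iff_mul_comm.1 ?_
        show ⁅QuotientGroup.mk' BS g, QuotientGroup.mk' BS k⁆ = 1
        rw [← map_commutatorElement]
        refine (QuotientGroup.eq_one_iff _).2 ?_
        show ⁅(g : G), (k : G)⁆ ∈ B
        by_contra hno
        have h1 := hzero _ (hfQ g g.2) _ (hfQ k k.2)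
        rw [hF _ g.2 _ k.2] at h1
        simp only [ind, if_neg hno] at h1
        exact one_ne_zero h1 }
  let φ : (S : Subgroup G) →* (S : Subgroup G) ⧸ BS := QuotientGroup.mk' BS
  have hidx : Odd (S : Subgroup G).index :=
    Nat.not_even_iff_odd.1 fun he => S.not_dvd_index (even_iff_two_dvd.1 he)
  have hVw : MonoidHom.transfer φ w = φ ⟨w, hwS⟩ := by
    refine transfer_involution φ hidx hww (by rw [← map_mul, ← map_one φ]; congr 1; exact Subtype.ext hww) ?_
    intro g hg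
    congr 1
    refine Subtype.ext ?_
    show g⁻¹ * w * g = w
    rw [mul_assoc, (hcen g).eq, inv_mul_cancel_left]
  have hVZ : ∀ t ∈ Z, MonoidHom.transfer φ t = 1 := fun t ht => by
    refine transfer_involution φ hidx (mul_self_eq_one (h.invol t ht)) (mul_one 1) fun g hg => ?_
    refine (QuotientGroup.eq_one_iff _).2 (Or.inr ⟨hg, ?_⟩)
    have := h.conj_mem g⁻¹ t ht
    rwa [inv_inv] at this
  have hker' : Subgroup.closure Z ≤ (MonoidHom.transfer φ).ker := (Subgroup.closure_le _).2 hVZ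
  have h1 : φ ⟨w, hwS⟩ = 1 := hVw ▸ hker' (hgen ▸ Subgroup.mem_top w)
  exact hwB ((QuotientGroup.eq_one_iff (N := BS) ⟨w, hwS⟩).1 h1)

/-- No central bad involution lies in the group generated by the members, if modulo it no bad
involution does. -/
theorem false_of_central (main : CriterionMain.{u}) (h : Setting Ω Z) (hmul : MulClosed Z)
    (hgen : Subgroup.closure Z = ⊤) {w : G} (hw : IsBad Ω w) (hcen : ∀ g, Commute w g)
    (IH : ∀ (H : Type u) [Group H] [Finite H] [MulAction H Ω] (Y : Set H), Nat.card H < Nat.card G →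
      Setting Ω Y → MulClosed Y → ∀ v : H, IsBad Ω v → v ∉ Subgroup.closure Y) : False := by
  classical
  have : Fact (Nat.Prime 2) := ⟨Nat.prime_two⟩
  obtain ⟨hw2, x₀, y₀, hxy₀, hx₀, -⟩ := id hw
  have hww := mul_self_eq_one hw2
  have hwfix : ∀ x : Ω, w • x = x := fun x => by
    obtain ⟨g, rfl⟩ := h.trans x₀ x
    rw [smul_smul, (hcen g).eq, mul_smul, hx₀]
  set N := Subgroup.zpowers w with hN
  have hNn : N.Normal := ⟨fun n hn g => by
    obtain ⟨k, rfl⟩ := hn
    rw [(((hcen g).zpow_left k)).symm.eq, mul_inv_cancel_right]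
    exact ⟨k, rfl⟩⟩
  have hmemN : ∀ {g : G}, g ∈ N → g = 1 ∨ g = w := fun {g} hg => by
    obtain ⟨k, rfl⟩ := hg
    rcases Int.even_or_odd k with ⟨j, rfl⟩ | ⟨j, rfl⟩
    · left
      show w ^ (j + j) = 1
      rw [← two_mul, zpow_mul, zpow_two, hww, one_zpow]
    · right
      show w ^ (2 * j + 1) = w
      rw [zpow_add, zpow_mul, zpow_two, hww, one_zpow, one_mul, zpow_one]
  have hNker : N ≤ (toPermHom G Ω).ker := Subgroup.zpowers_le.2
    (MonoidHom.mem_ker.2 (Equiv.ext fun x => hwfix x))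
  letI act : MulAction (G ⧸ N) Ω :=
    MulAction.compHom Ω (QuotientGroup.lift N (toPermHom G Ω) hNker)
  set q := QuotientGroup.mk' N with hq
  have hqs : ∀ (g : G) (x : Ω), q g • x = g • x := fun g x => rfl
  set Y : Set (G ⧸ N) := q '' Z with hY
  have hgenY : Subgroup.closure Y = ⊤ := by
    rw [hY, ← MonoidHom.map_closure, hgen, Subgroup.map_top_of_surjective q (QuotientGroup.mk'_surjective N)]
  have hwZ : w ∉ Z := fun hwZ => hxy₀ (h.unique w hwZ x₀ y₀ (hwfix x₀) (hwfix y₀))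
  have hmemN' : ∀ {g : G}, q g = 1 → g = 1 ∨ g = w := fun {g} hg =>
    hmemN ((QuotientGroup.eq_one_iff g).1 hg)
  -- members commuting modulo `w` commute
  have hcommute : ∀ {s t : G}, s ∈ Z → t ∈ Z → Commute (q s) (q t) → Commute s t := by
    intro s t hs ht hst
    have h1 : q ⁅s, t⁆ = 1 := by
      rw [map_commutatorElement]; exact commutatorElement_eq_one_iff_mul_comm.2 hst.eq
    rcases hmemN' h1 with h2 | h2
    · exact commutatorElement_eq_one_iff_mul_comm.1 h2
    · exfalso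
      -- `w` would be the product of two commuting members
      have hs2 := h.invol s hs
      have ht2 := h.invol t ht
      have h3 : s * (t * s * t⁻¹) = w := by
        rw [← h2, commutatorElement_def, inv_eq_self_of_involution hs2]; group
      have hc' : Commute s (t * s * t⁻¹) := by
        show s * (t * s * t⁻¹) = t * s * t⁻¹ * s
        rw [h3]
        calc w = s * w * s := by rw [← (hcen s).eq, mul_assoc, mul_self_eq_one hs2, mul_one]
          _ = s * (s * (t * s * t⁻¹)) * s := by rw [h3]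
          _ = (s * s) * (t * s * t⁻¹) * s := by group
          _ = t * s * t⁻¹ * s := by rw [mul_self_eq_one hs2, one_mul]
      refine hwZ (h3 ▸ hmul s hs _ (h.conj_mem t s hs) hc' fun e => ne_one_of_involution hw2 ?_)
      rw [← h3, ← e, mul_self_eq_one hs2]
  have hset : Setting Ω Y := by
    refine ⟨?_, ?_, fun x y => ?_, h.nontriv, ?_, ?_, ?_, fun x T hT hTx => ?_⟩
    · rintro _ ⟨t, ht, rfl⟩
      refine orderOf_eq_two_iff_mul.2 ⟨fun e => ?_, by rw [← map_mul, mul_self_eq_one (h.invol t ht), map_one]⟩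
      rcases hmemN' e with h1 | h1
      · exact ne_one_of_involution (h.invol t ht) h1
      · exact hwZ (h1 ▸ ht)
    · intro g
      obtain ⟨g, rfl⟩ := QuotientGroup.mk'_surjective N g
      rintro _ ⟨t, ht, rfl⟩
      exact ⟨g * t * g⁻¹, h.conj_mem g t ht, by rw [map_mul, map_mul, map_inv]⟩
    · obtain ⟨g, hg⟩ := h.trans x y
      exact ⟨q g, hg⟩
    · rintro _ ⟨t, ht, rfl⟩
      exact h.exists_fix t ht
    · rintro _ ⟨t, ht, rfl⟩ x y hx hy
      exact h.unique t ht x y hx hy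
    · rintro _ ⟨s, hs, rfl⟩ _ ⟨t, ht, rfl⟩ hst hne x y hx hy
      exact h.pair s hs t ht (hcommute hs ht hst) (fun e => hne (congrArg q e)) x y hx hy
    · have hT' : IsPGroup 2 (T.comap q) := hT.comap_of_ker_isPGroup q (by
        rw [QuotientGroup.ker_mk']; exact isPGroup_zpowers hw2)
      obtain ⟨t, ht, htx, htc⟩ := h.central x (T.comap q) hT' (fun g hg => hTx hg)
      refine ⟨q t, ⟨t, ht, rfl⟩, htx, fun g hg => ?_⟩
      obtain ⟨g, rfl⟩ := QuotientGroup.mk'_surjective N g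
      exact (htc g hg).map q
  have hmulY : MulClosed Y := by
    rintro _ ⟨s, hs, rfl⟩ _ ⟨t, ht, rfl⟩ hst hne
    exact ⟨s * t, hmul s hs t ht (hcommute hs ht hst) (fun e => hne (congrArg q e)), map_mul q s t⟩
  have hlt : Nat.card (G ⧸ N) < Nat.card G := by
    rw [← N.card_mul_index, Nat.card_zpowers, hw2, Subgroup.index_eq_card]
    have : 0 < Nat.card (G ⧸ N) := Nat.card_pos
    omega
  have hnobad : ∀ v : G ⧸ N, ¬ IsBad Ω v := fun v hv =>
    IH (G ⧸ N) Y hlt hset hmulY v hv (hgenY ▸ Subgroup.mem_top v)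
  have hloc : LocalOdd Ω Y := fun v hv => absurd hv (hnobad v)
  have hcrit := hset.crit_range hloc
  set K := ((toPermHom (G ⧸ N) Ω).comp (Subgroup.closure Y).subtype).range with hK
  have hnoK : NoBad (G := K) Ω := main _ Ω _ hcrit
  let f : G →* K := MonoidHom.mk' (fun g => ⟨toPermHom (G ⧸ N) Ω (q g),
    ⟨⟨q g, hgenY ▸ Subgroup.mem_top _⟩, rfl⟩⟩) fun a b => Subtype.ext (by
      show toPermHom (G ⧸ N) Ω (q (a * b)) = _
      rw [map_mul, map_mul]; rfl)
  have hact : ∀ (g : G) (x : Ω), f g • x = g • x := fun g x => rfl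
  have hsurj : Function.Surjective f := by
    rintro ⟨-, ⟨⟨v, hv⟩, rfl⟩⟩
    obtain ⟨g, rfl⟩ := QuotientGroup.mk'_surjective N v
    exact ⟨g, rfl⟩
  have hker : ∀ g : G, f g = 1 → (∃ k : ℕ, g ^ 2 ^ k = 1) → g = 1 ∨ g = w := by
    rintro g hg ⟨k, hk⟩
    refine hmemN' ?_
    have hodd := hset.odd_order_trivial hloc (n := q g) (hgenY ▸ Subgroup.mem_top _)
      fun x => by
        have := congrArg (fun v : K => v • x) hg
        simpa [hact, hqs] using this
    obtain ⟨i, -, hi⟩ := (Nat.dvd_prime_pow Nat.prime_two).1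
      (orderOf_dvd_of_pow_eq_one (show q g ^ 2 ^ k = 1 by rw [← map_pow, hk, map_one]))
    rcases i with _ | i
    · exact orderOf_eq_one_iff.1 (by rw [hi, pow_zero])
    · exact absurd hodd (by rw [hi, Nat.not_odd_iff_even, pow_succ]; exact even_two.mul_left _)
  have : FaithfulSMul K Ω := ⟨fun {a b} e =>
    inv_mul_eq_one.1 (hcrit.faith (a⁻¹ * b) fun x => by rw [mul_smul, ← e, inv_smul_smul])⟩
  have honeK : OneFix K Ω := by
    refine ⟨hcrit.base.trans, hcrit.base.nontriv, ?_, fun v hv => ?_, fun v hv x y hx hy => ?_⟩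
    · obtain ⟨t, ht, -⟩ := h.exists_memAt x₀
      exact ⟨f t, hcrit.base.invol _ ⟨q t, ⟨t, ht, rfl⟩, rfl⟩⟩
    · obtain ⟨d, hd⟩ := hcrit.base.exists_fixed_point (isPGroup_zpowers hv) x₀
      exact ⟨d, hd v (Subgroup.mem_zpowers v)⟩
    · by_contra hxy
      exact hnoK v ⟨hv, x, y, hxy, hx, hy⟩
  have hmemK : ∀ v : K, orderOf v = 2 → ∃ t ∈ Z, f t = v := by
    intro v hv
    obtain ⟨d, hd⟩ := honeK.exists_fix v hv
    obtain ⟨_, ⟨t, ht, rfl⟩, hvt⟩ :=
      hcrit.base.mem_of_unique hcrit.faith hv hd fun x hx => honeK.unique v hv x d hx hd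
    exact ⟨t, ht, Subtype.ext hvt⟩
  by_cases hfour : ∃ s ∈ Z, ∃ t ∈ Z, s ≠ t ∧ Commute s t
  · obtain ⟨s, hs, t, ht, hne, hst⟩ := hfour
    have hfour' : HasFour K := by
      refine ⟨f s, f t, hcrit.base.invol _ ⟨q s, ⟨s, hs, rfl⟩, rfl⟩,
        hcrit.base.invol _ ⟨q t, ⟨t, ht, rfl⟩, rfl⟩, fun e => hne ?_, hst.map f⟩
      exact h.eq_of_act_eq hs ht (fun x => by rw [← hact s, ← hact t, e]) hst
    exact false_of_central_cover h hmul hgen hw2 hcen hwfix f hsurj hact hker honeK hfour' hmemK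
  -- otherwise every member is isolated
  push Not at hfour
  obtain ⟨t, ht, -⟩ := h.exists_memAt x₀
  have ht2 := h.invol t ht
  have hz := zstar G t ⟨ht2, fun g hg => by
    by_contra hne
    exact hfour t ht _ (h.conj_mem g t ht) (Ne.symm hne) hg⟩
  set O := Cfsg.pPrimeCore 2 G with hO
  have hOodd : Odd (Nat.card O) := Nat.coprime_two_right.1 PCore.pPrimeCore_coprime
  have hall : Subgroup.closure Z ≤ (Subgroup.zpowers (QuotientGroup.mk' O t)).comap (QuotientGroup.mk' O) := by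
    rw [Subgroup.closure_le]
    intro s hs
    obtain ⟨g, rfl⟩ := isConj_iff.1 (h.isConj_mem ht hs)
    refine ⟨1, ?_⟩
    show QuotientGroup.mk' O t ^ (1 : ℤ) = QuotientGroup.mk' O (g * t * g⁻¹)
    rw [zpow_one]
    refine (QuotientGroup.eq_iff_div_mem.2 ?_).symm
    rw [div_eq_mul_inv]
    exact hz g
  obtain ⟨k, hk⟩ := hall (hgen ▸ Subgroup.mem_top w)
  have hodd_of : ∀ z : G, z * z = 1 → QuotientGroup.mk' O z = 1 → z = 1 := fun z hz2 hz1 => by
    by_contra hne
    have h1 := Subgroup.orderOf_dvd_natCard O ((QuotientGroup.eq_one_iff z).1 hz1)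
    rw [orderOf_eq_two_iff_mul.2 ⟨hne, hz2⟩] at h1
    exact hOodd.not_two_dvd_nat h1
  rcases Int.even_or_odd k with ⟨j, rfl⟩ | ⟨j, rfl⟩
  · refine ne_one_of_involution hw2 (hodd_of w hww ?_)
    rw [← hk]
    show QuotientGroup.mk' O t ^ (j + j) = 1
    rw [← two_mul, zpow_mul, zpow_two, ← map_mul, mul_self_eq_one ht2, map_one, one_zpow]
  · refine hwZ ?_
    have h1 : t * w = 1 := by
      refine hodd_of _ ?_ ?_
      · rw [show t * w * (t * w) = t * (w * t) * w by group, (hcen t).eq,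
          show t * (t * w) * w = (t * t) * (w * w) by group, mul_self_eq_one ht2, hww, one_mul]
      · rw [map_mul, ← hk]
        show QuotientGroup.mk' O t * QuotientGroup.mk' O t ^ (2 * j + 1) = 1
        rw [zpow_add, zpow_mul, zpow_two, ← map_mul, mul_self_eq_one ht2, map_one, one_zpow, one_mul,
          zpow_one, ← map_mul, mul_self_eq_one ht2, map_one]
    rw [← inv_eq_of_mul_eq_one_right h1, inv_eq_self_of_involution ht2]
    exact ht

end CfsgLib.StrongCrit
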