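import Cfsg.Agent.Lib.StrongCrit.Coset

/-!
Two point stabilisers without two commuting bad involutions: then every bad involution at `c`
commuting with a bad involution `u` at `c` lies in the coset of the members centralising `u`.
-/

set_option autoImplicit false

namespace CfsgLib.StrongCrit

open CfsgLib.Involutions MulAction

universe u v

variable {G : Type u} [Group G]

/-- Two commuting bad involutions with two common fixed points are equal. -/
def NoFour (Ω : Type v) [MulAction G Ω] : Prop :=
  ∀ a b : G, IsBad Ω a → IsBad Ω b → Commute a b →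
    ∀ x y : Ω, x ≠ y → a • x = x → a • y = y → b • x = x → b • y = y → a = b

variable {Ω : Type v} [MulAction G Ω] {Z : Set G}

namespace Setting

variable (h : Setting Ω Z)
include h

/-- Without two commuting bad involutions at two points, a bad involution at `c` commuting with `u`
is `u` times an element of the group of the members at `c` centralising `u`. -/
theorem inv_of_noFour [Finite G] [Finite Ω] (hnf : NoFour (G := G) Ω) {u v : G} {c : Ω}
    (hu : IsBad Ω u) (huc : u • c = c) (hv : IsBad Ω v) (hvc : v • c = c) (hvu : Commute v u) :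
    ∃ b ∈ cenGroup Z u c, v = u * b := by
  obtain ⟨hu2, p, r, hpr, hp, hr⟩ := id hu
  obtain ⟨y, hy, hyc⟩ : ∃ y, u • y = y ∧ y ≠ c := by
    rcases eq_or_ne p c with rfl | hpc
    · exact ⟨r, hr, hpr.symm⟩
    · exact ⟨p, hp, hpc⟩
  by_cases hcom : ∃ z, z ≠ c ∧ u • z = z ∧ v • z = z
  · obtain ⟨z, hzc, huz, hvz⟩ := hcom
    exact ⟨1, one_mem _, by
      rw [mul_one]; exact hnf v u hv hu hvu c z hzc.symm hvc hvz huc huz⟩
  push Not at hcom
  have hv2 := hv.1
  have hvy : v • y ≠ y := hcom y hyc hy
  have huvy : u • v • y = v • y := by rw [smul_smul, ← hvu.eq, mul_smul, hy]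
  have hT : IsPGroup 2 (Subgroup.zpowers v ⊔ Subgroup.zpowers u : Subgroup G) :=
    (isPGroup_zpowers hv2).to_sup_of_normal_right' (isPGroup_zpowers hu2)
      (Subgroup.zpowers_le.2 (Subgroup.mem_normalizer_iff.2 fun g => by
        constructor
        · intro hg
          obtain ⟨n, rfl⟩ := Subgroup.mem_zpowers_iff.1 hg
          rw [(hvu.zpow_right n).eq, mul_inv_cancel_right]
          exact hg
        · intro hg
          obtain ⟨n, hn⟩ := Subgroup.mem_zpowers_iff.1 hg
          have : g = v⁻¹ * u ^ n * v := by rw [hn]; group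
          rw [this, mul_assoc, ← (hvu.zpow_right n).eq, inv_mul_cancel_left]
          exact zpow_mem (Subgroup.mem_zpowers u) n))
  obtain ⟨s, hs, hc⟩ := h.exists_swap_centralized hT (Ne.symm hvy) fun g hg => by
    rw [Subgroup.zpowers_eq_closure, Subgroup.zpowers_eq_closure, ← Subgroup.closure_union] at hg
    refine pair_of_le_closure ?_ hg
    rintro z (rfl | rfl)
    · exact Or.inr ⟨rfl, by rw [smul_smul, mul_self_eq_one hv2, one_smul]⟩
    · exact Or.inl ⟨hy, huvy⟩
  have hvs : Commute v s := hc v (Subgroup.mem_sup_left (Subgroup.mem_zpowers v))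
  have hus : Commute u s := hc u (Subgroup.mem_sup_right (Subgroup.mem_zpowers u))
  obtain ⟨d, hd⟩ := h.exists_fix s hs.1
  have hdc : d = c := by
    by_contra hdc
    exact hcom d hdc (h.fix_of_commute ⟨hs.1, hd⟩ hus) (h.fix_of_commute ⟨hs.1, hd⟩ hvs)
  subst hdc
  have hs2 := mul_self_eq_one (h.invol s hs.1)
  have hvsc : (v * s) • d = d := by rw [mul_smul, hd, hvc]
  have hvsy : (v * s) • y = y := by
    rw [mul_smul, hs.2, smul_smul, mul_self_eq_one hv2, one_smul]
  have hne : v * s ≠ 1 := fun e => by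
    rw [mul_eq_one_iff_eq_inv, inv_eq_self_of_involution (h.invol s hs.1)] at e
    obtain ⟨-, a, b, hab, ha, hb⟩ := hv
    exact hab (h.unique s hs.1 a b (e ▸ ha) (e ▸ hb))
  have hbad : IsBad Ω (v * s) := ⟨orderOf_eq_two_iff_mul.2 ⟨hne, by
    rw [mul_assoc, ← mul_assoc s, ← hvs.eq, mul_assoc v, hs2, mul_one, mul_self_eq_one hv2]⟩,
    d, y, hyc.symm, hvsc, hvsy⟩
  have he := hnf (v * s) u hbad hu (hvu.mul_left hus.symm) d y hyc.symm hvsc hvsy huc hy
  exact ⟨s, Subgroup.subset_closure ⟨⟨hs.1, hd⟩, hus⟩, by rw [← he, mul_assoc, hs2, mul_one]⟩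

end Setting

end CfsgLib.StrongCrit
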