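import Cfsg.Agent.Lib.StrongCrit.Transfer

/-!
In the setting of Aschbacher's criterion, the case where the members at a point commute: with 1 they
form an elementary group; the numbers of members at a fixed point and of interchanging members
centralised by a bad involution, and the count of the points it moves.
-/

set_option autoImplicit false

namespace CfsgLib.StrongCrit

open CfsgLib.Involutions MulAction

universe u v

variable {G : Type u} [Group G] {Ω : Type v} [MulAction G Ω] {Z : Set G}

/-- Members at one point commute. -/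
def AllCommute (Ω : Type v) [MulAction G Ω] (Z : Set G) : Prop :=
  ∀ c : Ω, ∀ a ∈ memAt Z c, ∀ b ∈ memAt Z c, Commute a b

/-- The members at `c` centralised by `u`. -/
def cenMem (Z : Set G) (u : G) (c : Ω) : Set G := {t | t ∈ memAt Z c ∧ Commute u t}

/-- The members centralised by `u` interchanging `x` and `u • x`. -/
def swapCen (Z : Set G) (u : G) (x : Ω) : Set G := {t | t ∈ swapMem Z x (u • x) ∧ Commute u t}

/-- One and the members at `c`. -/
def memGroup (Z : Set G) (c : Ω) : Subgroup G := Subgroup.closure (memAt Z c)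

theorem ncard_fixedBy_conj (a g : G) :
    (fixedBy Ω (g * a * g⁻¹)).ncard = (fixedBy Ω a).ncard := by
  refine (Set.ncard_congr (fun x _ => g • x) (fun x hx => ?_) (fun a b _ _ hab =>
    MulAction.injective g hab) fun y hy => ⟨g⁻¹ • y, ?_, smul_inv_smul g y⟩).symm
  · show (g * a * g⁻¹) • g • x = g • x
    rw [smul_smul, inv_mul_cancel_right, mul_smul, show a • x = x from hx]
  · show a • g⁻¹ • y = g⁻¹ • y
    calc a • g⁻¹ • y = g⁻¹ • (g * a * g⁻¹) • y := by simp only [smul_smul]; congr 1; group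
      _ = g⁻¹ • y := by rw [show (g * a * g⁻¹) • y = y from hy]

namespace Setting

variable (h : Setting Ω Z)
include h

/-- Commuting members at one point give it at all. -/
theorem allCommute_of_at {c : Ω} (hab : ∀ a ∈ memAt Z c, ∀ b ∈ memAt Z c, Commute a b) :
    AllCommute Ω Z := by
  intro d a ha b hb
  obtain ⟨g, rfl⟩ := h.trans c d
  have key : ∀ {a : G}, a ∈ memAt Z (g • c) → g⁻¹ * a * g ∈ memAt Z c := by
    intro a ha
    have := h.conj_memAt (g := g⁻¹) ha
    rwa [inv_inv, inv_smul_smul] at this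
  show a * b = b * a
  calc a * b = g * ((g⁻¹ * a * g) * (g⁻¹ * b * g)) * g⁻¹ := by group
    _ = g * ((g⁻¹ * b * g) * (g⁻¹ * a * g)) * g⁻¹ := by rw [(hab _ (key ha) _ (key hb)).eq]
    _ = b * a := by group

theorem cenMem_nonempty {u : G} (hu : orderOf u = 2) {c : Ω} (huc : u • c = c) :
    (cenMem Z u c).Nonempty := by
  obtain ⟨t, ht, hut⟩ := h.exists_memAt_commute hu huc
  exact ⟨t, ht, hut⟩

/-- Conjugating inside the centraliser of `u` between members with different centres. -/
theorem exists_conj_cen [Finite G] {u a b : G} {c d : Ω} (ha : a ∈ cenMem Z u c)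
    (hb : b ∈ cenMem Z u d) (hcd : c ≠ d) :
    ∃ g, Commute u g ∧ g * a * g⁻¹ = b ∧ g • c = d := by
  obtain ⟨g, hg, hgab, hgc⟩ := h.exists_conj_of_ne ha.1 hb.1 hcd
  have hle : Subgroup.closure ({a, b} : Set G) ≤ Subgroup.centralizer {u} := by
    rw [Subgroup.closure_le]
    rintro z (rfl | rfl) <;>
      simp only [SetLike.mem_coe, Subgroup.mem_centralizer_singleton_iff]
    · exact ha.2.eq.symm
    · exact hb.2.eq.symm
  exact ⟨g, (Subgroup.mem_centralizer_singleton_iff.1 (hle hg)).symm, hgab, hgc⟩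

/-- An involution centralises as many members at each of its fixed points. -/
theorem ncard_cenMem_eq [Finite G] {u : G} (hu : orderOf u = 2) {c d : Ω} (huc : u • c = c)
    (hud : u • d = d) : (cenMem Z u c).ncard = (cenMem Z u d).ncard := by
  rcases eq_or_ne c d with rfl | hcd
  · rfl
  obtain ⟨a, ha⟩ := h.cenMem_nonempty hu huc
  obtain ⟨b, hb⟩ := h.cenMem_nonempty hu hud
  obtain ⟨g, hug, -, hgc⟩ := h.exists_conj_cen ha hb hcd
  refine Set.ncard_congr (fun t _ => g * t * g⁻¹) (fun t ht => ⟨?_, ?_⟩)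
    (fun a b _ _ hab => by simpa using hab) fun t ht => ⟨g⁻¹ * t * g, ⟨?_, ?_⟩, by group⟩
  · have := h.conj_memAt (g := g) ht.1
    rwa [hgc] at this
  · exact (hug.mul_right ht.2).mul_right hug.inv_right
  · have := h.conj_memAt (g := g⁻¹) ht.1
    rwa [inv_inv, ← hgc, inv_smul_smul] at this
  · exact (hug.inv_right.mul_right ht.2).mul_right hug

/-- Centralising all members at one fixed point, an involution does so at all. -/
theorem commute_all_fixed [Finite G] {u : G} (hu : orderOf u = 2) {c d : Ω} (huc : u • c = c)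
    (hall : ∀ a ∈ memAt Z c, Commute u a) (hud : u • d = d) : ∀ a ∈ memAt Z d, Commute u a := by
  have h1 : (cenMem Z u c).ncard = (memAt Z c).ncard :=
    congrArg Set.ncard (Set.ext fun a => ⟨And.left, fun ha => ⟨ha, hall a ha⟩⟩)
  have h2 : cenMem Z u d = memAt Z d := Set.eq_of_subset_of_ncard_le (fun a ha => ha.1)
    (by rw [← h.ncard_cenMem_eq hu huc hud, h1, h.ncard_memAt_eq c d]) (Set.toFinite _)
  exact fun a ha => (h2.symm.subset ha).2

/-- A member at `c` times an involution centralises the members there as the involution does. -/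
theorem cenMem_mul (hab : AllCommute Ω Z) {u t : G} {c : Ω} (ht : t ∈ memAt Z c) :
    cenMem Z (u * t) c = cenMem Z u c := by
  ext a
  refine and_congr_right fun ha => ⟨fun h1 => ?_, fun h1 => h1.mul_left (hab c t ht a ha)⟩
  have := h1.mul_left (hab c t ht a ha).inv_left
  rwa [mul_inv_cancel_right] at this

section Group

variable [Finite G] [Finite Ω] (hfaith : ∀ g : G, (∀ x : Ω, g • x = x) → g = 1)
  (hab : AllCommute Ω Z)
include hfaith hab

/-- One and the members at a point form a group. -/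
theorem mem_memGroup_iff {c : Ω} {g : G} : g ∈ memGroup Z c ↔ g = 1 ∨ g ∈ memAt Z c := by
  constructor
  · intro hg
    induction hg using Subgroup.closure_induction with
    | mem x hx => exact Or.inr hx
    | one => exact Or.inl rfl
    | mul x y _ _ hx hy =>
      rcases hx with rfl | hx
      · rw [one_mul]; exact hy
      rcases hy with rfl | hy
      · rw [mul_one]; exact Or.inr hx
      rcases eq_or_ne x y with rfl | hne
      · exact Or.inl (mul_self_eq_one (h.invol x hx.1))
      · exact Or.inr ⟨h.mul_mem_of_commute hfaith hx.1 hy.1 (hab c x hx y hy) hne,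
          by rw [mul_smul, hy.2, hx.2]⟩
    | inv x _ hx =>
      rcases hx with rfl | hx
      · exact Or.inl inv_one
      · exact Or.inr (by rwa [inv_eq_self_of_involution (h.invol x hx.1)])
  · rintro (rfl | hg)
    · exact one_mem _
    · exact Subgroup.subset_closure hg

theorem mul_self_memGroup {c : Ω} {g : G} (hg : g ∈ memGroup Z c) : g * g = 1 := by
  rcases (h.mem_memGroup_iff hfaith hab).1 hg with rfl | hg
  · exact one_mul 1
  · exact mul_self_eq_one (h.invol g hg.1)

theorem commute_memGroup {c : Ω} {g g' : G} (hg : g ∈ memGroup Z c) (hg' : g' ∈ memGroup Z c) :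
    Commute g g' := by
  rcases (h.mem_memGroup_iff hfaith hab).1 hg with rfl | hg
  · exact Commute.one_left g'
  rcases (h.mem_memGroup_iff hfaith hab).1 hg' with rfl | hg'
  · exact Commute.one_right g
  · exact hab c g hg g' hg'

theorem card_memGroup (c : Ω) : Nat.card (memGroup Z c) = (memAt Z c).ncard + 1 := by
  have h1 : (memGroup Z c : Set G) = insert 1 (memAt Z c) :=
    Set.ext fun g => h.mem_memGroup_iff hfaith hab
  rw [← SetLike.coe_sort_coe, Nat.card_coe_set_eq, h1, Set.ncard_insert_of_notMem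
    (fun h2 => ne_one_of_involution (h.invol 1 h2.1) rfl)]

omit hfaith hab in
/-- A point stabiliser normalises the group of its members. -/
theorem conj_mem_memGroup {c : Ω} {g e : G} (hg : g • c = c) (he : e ∈ memGroup Z c) :
    g * e * g⁻¹ ∈ memGroup Z c := by
  have hle : (memGroup Z c).map (MulAut.conj g).toMonoidHom ≤ memGroup Z c := by
    rw [memGroup, MonoidHom.map_closure, Subgroup.closure_le]
    rintro _ ⟨a, ha, rfl⟩
    have h1 := h.conj_memAt (g := g) ha
    rw [hg] at h1
    exact Subgroup.subset_closure h1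
  exact hle ⟨e, he, rfl⟩

/-- The group of the members at a point is semiregular elsewhere. -/
theorem eq_one_of_memGroup_fix {c x : Ω} {g : G} (hg : g ∈ memGroup Z c) (hx : g • x = x)
    (hxc : x ≠ c) : g = 1 := by
  rcases (h.mem_memGroup_iff hfaith hab).1 hg with rfl | hg
  · rfl
  · exact absurd (h.unique g hg.1 x c hx hg.2) hxc

theorem isPGroup_memGroup (c : Ω) : IsPGroup 2 (memGroup Z c) := fun g =>
  ⟨1, Subtype.ext (by
    rw [pow_one, Subgroup.coe_pow, pow_two, Subgroup.coe_one]
    exact h.mul_self_memGroup hfaith hab g.2)⟩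

theorem exists_ncard_memAt_eq_two_pow (c : Ω) : ∃ e : ℕ, (memAt Z c).ncard + 1 = 2 ^ e := by
  have : Fact (Nat.Prime 2) := ⟨Nat.prime_two⟩
  obtain ⟨e, he⟩ := (h.isPGroup_memGroup hfaith hab c).exists_card_eq
  exact ⟨e, by rw [← h.card_memGroup hfaith hab c, he]⟩

theorem card_cen_memGroup (u : G) (c : Ω) :
    Nat.card (memGroup Z c ⊓ Subgroup.centralizer {u} : Subgroup G) =
      (cenMem Z u c).ncard + 1 := by
  have h1 : ((memGroup Z c ⊓ Subgroup.centralizer {u} : Subgroup G) : Set G) =
      insert 1 (cenMem Z u c) := by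
    ext g
    rw [Subgroup.coe_inf, Set.mem_inter_iff, SetLike.mem_coe, SetLike.mem_coe,
      h.mem_memGroup_iff hfaith hab, Subgroup.mem_centralizer_singleton_iff, Set.mem_insert_iff]
    constructor
    · rintro ⟨rfl | hg, hu⟩
      · exact Or.inl rfl
      · exact Or.inr ⟨hg, hu.symm⟩
    · rintro (rfl | ⟨hg, hu⟩)
      · exact ⟨Or.inl rfl, by rw [one_mul, mul_one]⟩
      · exact ⟨Or.inr hg, hu.eq.symm⟩
  rw [← SetLike.coe_sort_coe, Nat.card_coe_set_eq, h1, Set.ncard_insert_of_notMem
    (fun h2 => ne_one_of_involution (h.invol 1 h2.1.1) rfl)]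

theorem exists_ncard_cenMem_eq_two_pow (u : G) (c : Ω) :
    ∃ i : ℕ, (cenMem Z u c).ncard + 1 = 2 ^ i := by
  have : Fact (Nat.Prime 2) := ⟨Nat.prime_two⟩
  obtain ⟨i, hi⟩ := ((h.isPGroup_memGroup hfaith hab c).to_inf_left
    (K := Subgroup.centralizer {u})).exists_card_eq
  exact ⟨i, by rw [← h.card_cen_memGroup hfaith hab u c, hi]⟩

/-- The members at `c` are at most the square of those centralised by an involution fixing `c`. -/
theorem ncard_memAt_le_sq {u : G} (hu : orderOf u = 2) {c : Ω} (huc : u • c = c) :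
    (memAt Z c).ncard + 1 ≤ ((cenMem Z u c).ncard + 1) ^ 2 := by
  set E := memGroup Z c
  have hcm : ∀ a b : G, a ∈ E → b ∈ E → Commute a b := fun a b ha hb =>
    h.commute_memGroup hfaith hab ha hb
  let ψ : E →* G := MonoidHom.mk' (fun a => (a : G) * (u * a * u⁻¹)) fun a b => by
    show (a : G) * b * (u * (a * b) * u⁻¹) = a * (u * a * u⁻¹) * (b * (u * b * u⁻¹))
    calc (a : G) * b * (u * (a * b) * u⁻¹) = a * (b * (u * a * u⁻¹)) * (u * b * u⁻¹) := by group
      _ = a * ((u * a * u⁻¹) * b) * (u * b * u⁻¹) := by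
          rw [(hcm _ _ b.2 (h.conj_mem_memGroup huc a.2)).eq]
      _ = _ := by group
  have hC := h.card_cen_memGroup hfaith hab u c
  have hker : Nat.card ψ.ker ≤ (cenMem Z u c).ncard + 1 := by
    rw [← hC]
    refine Nat.card_le_card_of_injective (fun a => ⟨(a : E), ?_⟩) fun a b hab => by
      simp only [Subtype.mk.injEq] at hab
      exact Subtype.ext (Subtype.ext hab)
    refine ⟨(a : E).2, Subgroup.mem_centralizer_singleton_iff.2 ?_⟩
    have h1 : ((a : E) : G) * (u * (a : E) * u⁻¹) = 1 := a.2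
    have h2 := inv_eq_of_mul_eq_one_right h1
    rw [inv_eq_of_mul_eq_one_right (h.mul_self_memGroup hfaith hab (a : E).2)] at h2
    exact (mul_inv_eq_iff_eq_mul.1 h2.symm).symm
  have hrange : Nat.card ψ.range ≤ (cenMem Z u c).ncard + 1 := by
    rw [← hC]
    refine Nat.le_of_dvd Nat.card_pos (Subgroup.card_dvd_of_le ?_)
    rintro _ ⟨a, rfl⟩
    refine ⟨mul_mem a.2 (h.conj_mem_memGroup huc a.2),
      Subgroup.mem_centralizer_singleton_iff.2 ?_⟩
    have hui := inv_eq_self_of_involution hu
    show (a : G) * (u * a * u⁻¹) * u = u * ((a : G) * (u * a * u⁻¹))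
    calc (a : G) * (u * a * u⁻¹) * u = a * u * a := by group
      _ = u * u * a * u⁻¹ * a := by rw [mul_self_eq_one hu, one_mul, hui]
      _ = u * ((u * a * u⁻¹) * a) := by group
      _ = _ := by rw [(hcm _ _ a.2 (h.conj_mem_memGroup huc a.2)).eq]
  rw [← h.card_memGroup hfaith hab c, Subgroup.card_eq_card_quotient_mul_card_subgroup ψ.ker,
    Nat.card_congr (QuotientGroup.quotientKerEquivRange ψ).toEquiv, pow_two]
  exact Nat.mul_le_mul hrange hker

end Group

/-- The products with a bad involution `u` of the members centralising it fix equally many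
points. -/
theorem ncard_fixedBy_mul_eq [Finite G] {u : G} (hu : IsBad Ω u) {t t' : G} (ht : t ∈ Z)
    (hut : Commute u t) (ht' : t' ∈ Z) (hut' : Commute u t') :
    (fixedBy Ω (u * t')).ncard = (fixedBy Ω (u * t)).ncard := by
  have key : ∀ {a b : G} {p r : Ω}, a ∈ cenMem Z u p → b ∈ cenMem Z u r → p ≠ r →
      (fixedBy Ω (u * b)).ncard = (fixedBy Ω (u * a)).ncard := by
    intro a b p r ha hb hpr
    obtain ⟨g, hug, hgab, -⟩ := h.exists_conj_cen ha hb hpr
    rw [← ncard_fixedBy_conj (u * a) g]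
    congr 2
    rw [show g * (u * a) * g⁻¹ = g * u * g⁻¹ * (g * a * g⁻¹) by group, hgab, hug.symm.eq,
      mul_inv_cancel_right]
  obtain ⟨c, hc⟩ := h.exists_fix t ht
  obtain ⟨c', hc'⟩ := h.exists_fix t' ht'
  rcases eq_or_ne c c' with rfl | hne
  · obtain ⟨hu2, x, y, hxy, hx, hy⟩ := id hu
    obtain ⟨r, hr, hrc⟩ : ∃ r, u • r = r ∧ r ≠ c := by
      rcases eq_or_ne x c with rfl | hxc
      · exact ⟨y, hy, hxy.symm⟩
      · exact ⟨x, hx, hxc⟩
    obtain ⟨w, hw⟩ := h.cenMem_nonempty hu2 hr
    rw [← key ⟨⟨ht', hc'⟩, hut'⟩ hw hrc.symm, key ⟨⟨ht, hc⟩, hut⟩ hw hrc.symm]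
  · exact key ⟨⟨ht, hc⟩, hut⟩ ⟨⟨ht', hc'⟩, hut'⟩ hne

/-- The points moved by a bad involution, counted through the members centralising it. -/
theorem count_moved [Finite G] [Finite Ω] {u t₀ : G} (hu : IsBad Ω u) (ht₀ : t₀ ∈ Z)
    (hut₀ : Commute u t₀) {c₀ : Ω} (hc₀ : u • c₀ = c₀) {s : ℕ}
    (hs : ∀ x : Ω, u • x ≠ x → (swapCen Z u x).ncard = s) :
    (Nat.card Ω - (fixedBy Ω u).ncard) * s =
      (fixedBy Ω u).ncard * (cenMem Z u c₀).ncard * ((fixedBy Ω (u * t₀)).ncard - 1) := by
  classical
  have := Fintype.ofFinite Ω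
  have := Fintype.ofFinite G
  have hu2 := hu.1
  let T : Finset G := Finset.univ.filter fun t => t ∈ Z ∧ Commute u t
  let X : Finset Ω := Finset.univ.filter fun x => u • x ≠ x
  let F : Finset Ω := Finset.univ.filter fun x => u • x = x
  let r : G → Ω → Prop := fun t x => t • x = u • x
  let ctr : G → Ω := fun t => if ht : t ∈ Z then (h.exists_fix t ht).choose else c₀
  have hctr : ∀ t ∈ Z, t • ctr t = ctr t := fun t ht => by
    simp only [ctr, dif_pos ht]
    exact (h.exists_fix t ht).choose_spec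
  have hF : F.card = (fixedBy Ω u).ncard := by
    rw [← Set.ncard_coe_finset]
    congr 1
    ext x
    simp [F, mem_fixedBy]
  have hX : X.card = Nat.card Ω - (fixedBy Ω u).ncard := by
    rw [← hF, Nat.card_eq_fintype_card, ← Finset.card_compl]
    congr 1
    ext x
    simp [X, F]
  have hT : T.card = (fixedBy Ω u).ncard * (cenMem Z u c₀).ncard := by
    rw [← hF, Finset.card_eq_sum_card_fiberwise (f := ctr) (t := F) fun t ht => ?_]
    · refine Finset.sum_const_nat fun c hc => ?_
      have huc : u • c = c := (Finset.mem_filter.1 hc).2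
      rw [← h.ncard_cenMem_eq hu2 huc hc₀, ← Set.ncard_coe_finset]
      congr 1
      ext t
      simp only [T, Finset.coe_filter, Finset.mem_filter, Finset.mem_univ, true_and,
        Set.mem_ofPred_eq, cenMem, memAt]
      constructor
      · rintro ⟨⟨ht, hut⟩, rfl⟩
        exact ⟨⟨ht, hctr t ht⟩, hut⟩
      · rintro ⟨⟨ht, htc⟩, hut⟩
        exact ⟨⟨ht, hut⟩, h.unique t ht _ _ (hctr t ht) htc⟩
    · simp only [T, Finset.coe_filter, Finset.mem_univ, true_and, Set.mem_ofPred_eq] at ht
      simp only [F, Finset.coe_filter, Finset.mem_univ, true_and, Set.mem_ofPred_eq]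
      exact h.fix_of_commute ⟨ht.1, hctr t ht.1⟩ ht.2
  have hrow : ∀ t ∈ T, (X.bipartiteAbove r t).card = (fixedBy Ω (u * t₀)).ncard - 1 := by
    intro t ht
    obtain ⟨htZ, hut⟩ := (Finset.mem_filter.1 ht).2
    have htc := hctr t htZ
    have huc : u • ctr t = ctr t := h.fix_of_commute ⟨htZ, htc⟩ hut
    rw [← h.ncard_fixedBy_mul_eq hu ht₀ hut₀ htZ hut, ← Set.ncard_diff_singleton_of_mem
      (a := ctr t) (s := fixedBy Ω (u * t))
      (show (u * t) • ctr t = ctr t by rw [mul_smul, htc, huc]), ← Set.ncard_coe_finset]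
    congr 1
    ext x
    simp only [X, r, Finset.bipartiteAbove, Finset.coe_filter, Finset.mem_filter, Finset.mem_univ,
      true_and, Set.mem_ofPred_eq, Set.mem_sdiff, Set.mem_singleton_iff, mem_fixedBy]
    constructor
    · rintro ⟨hx, htx⟩
      refine ⟨by rw [mul_smul, htx, smul_smul, mul_self_eq_one hu2, one_smul], ?_⟩
      rintro rfl
      exact hx huc
    · rintro ⟨hx, hxc⟩
      have htx : t • x = u • x := by
        conv_rhs => rw [← hx]
        rw [mul_smul, smul_smul u u, mul_self_eq_one hu2, one_smul]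
      exact ⟨fun hux => hxc (h.unique t htZ x _ (htx.trans hux) htc), htx⟩
  have hcol : ∀ x ∈ X, (T.bipartiteBelow r x).card = s := by
    intro x hx
    rw [← hs x (Finset.mem_filter.1 hx).2, ← Set.ncard_coe_finset]
    congr 1
    ext t
    simp only [T, r, Finset.bipartiteBelow, Finset.coe_filter, Finset.mem_filter, Finset.mem_univ,
      true_and, Set.mem_ofPred_eq, swapCen, swapMem]
    tauto
  have hsum := Finset.sum_card_bipartiteAbove_eq_sum_card_bipartiteBelow r (s := T) (t := X)
  rw [Finset.sum_const_nat hrow, Finset.sum_const_nat hcol, hT, hX] at hsum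
  exact hsum.symm

/-- If members commute and `u` centralises all at one fixed point, exactly one member centralised by
`u` interchanges `x` and `u • x`. -/
theorem ncard_swapCen_of_all [Finite G] [Finite Ω] (hab : AllCommute Ω Z) {u : G}
    (hu : IsBad Ω u) {c : Ω} (huc : u • c = c) (hall : ∀ a ∈ memAt Z c, Commute u a) {x : Ω}
    (hx : u • x ≠ x) : (swapCen Z u x).ncard = 1 := by
  have hu2 := hu.1
  have huu : u • u • x = x := by rw [smul_smul, mul_self_eq_one hu2, one_smul]
  obtain ⟨t, ht, hcomm⟩ := h.exists_swap_centralized (isPGroup_zpowers hu2) (x := x) (y := u • x)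
    (Ne.symm hx) (by
      intro g hg
      rw [Subgroup.zpowers_eq_closure] at hg
      refine pair_of_le_closure ?_ hg
      rintro z rfl
      exact Or.inr ⟨rfl, huu⟩)
  have hut : Commute u t := hcomm u (Subgroup.mem_zpowers u)
  obtain ⟨d, hd⟩ := h.exists_fix t ht.1
  have hud : u • d = d := h.fix_of_commute ⟨ht.1, hd⟩ hut
  rw [Set.ncard_eq_one]
  refine ⟨t, Set.eq_singleton_iff_unique_mem.2 ⟨⟨ht, hut⟩, fun t' ht' => ?_⟩⟩
  set v := u * t with hv
  have hvx : v • x = x := by rw [hv, mul_smul, ht.2, huu]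
  have hvy : v • u • x = u • x := by rw [hv, mul_smul, h.swap_symm ht]
  have hv2 : orderOf v = 2 := orderOf_eq_two_iff_mul.2 ⟨fun e => by
      obtain ⟨-, p, q, hpq, hp, hq⟩ := hu
      rw [hv, mul_eq_one_iff_eq_inv, inv_eq_self_of_involution (h.invol t ht.1)] at e
      exact hpq (h.unique t ht.1 p q (e ▸ hp) (e ▸ hq)), by
      rw [hv, mul_assoc, ← mul_assoc t, ← hut.eq, mul_assoc u, mul_self_eq_one (h.invol t ht.1),
        mul_one, mul_self_eq_one hu2]⟩
  have hvd : v • d = d := by rw [hv, mul_smul, hd, hud]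
  have hvall : ∀ a ∈ memAt Z d, Commute v a := fun a ha =>
    (h.commute_all_fixed hu2 huc hall hud a ha).mul_left (hab d t ⟨ht.1, hd⟩ a ha)
  obtain ⟨b, hb⟩ := h.exists_memAt (u • x)
  have hvb := h.commute_all_fixed hv2 hvd hvall hvy b hb
  have hyx := h.conj_memAt (g := t') hb
  rw [h.swap_symm ht'.1] at hyx
  have hva := h.commute_all_fixed hv2 hvd hvall hvx _ hyx
  have hs'' : v * t' * v⁻¹ ∈ swapMem Z x (u • x) := by
    refine ⟨h.conj_mem v t' ht'.1.1, ?_⟩
    rw [mul_smul, mul_smul, inv_smul_eq_iff.2 hvx.symm, ht'.1.2, hvy]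
  have hfix : v * t' * v⁻¹ = t' := h.injOn_conj (Ne.symm hx) hb hs'' ht'.1 (by
    show v * t' * v⁻¹ * b * (v * t' * v⁻¹)⁻¹ = t' * b * t'⁻¹
    calc v * t' * v⁻¹ * b * (v * t' * v⁻¹)⁻¹ = v * t' * (v⁻¹ * b * v) * t'⁻¹ * v⁻¹ := by group
      _ = v * (t' * b * t'⁻¹) * v⁻¹ := by
          rw [show v⁻¹ * b * v = b by rw [mul_assoc, ← hvb.eq, inv_mul_cancel_left]]; group
      _ = t' * b * t'⁻¹ := by rw [hva.eq, mul_inv_cancel_right])
  have hvt' : Commute v t' := mul_inv_eq_iff_eq_mul.1 hfix
  have hut'' : Commute u t' := ht'.2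
  have htt : Commute t t' := by
    have := hut''.inv_left.mul_left hvt'
    rwa [hv, inv_mul_cancel_left] at this
  by_contra hne
  have hodd := h.odd_order_mul_swap (Ne.symm hx) ht ht'.1
  have h2 : orderOf (t * t') = 2 := orderOf_eq_two_iff_mul.2 ⟨fun e => hne (by
    rw [mul_eq_one_iff_eq_inv, inv_eq_self_of_involution (h.invol t' ht'.1.1)] at e
    exact e.symm), by
    rw [mul_assoc, ← mul_assoc t', ← htt.eq, mul_assoc t, mul_self_eq_one (h.invol t' ht'.1.1),
      mul_one, mul_self_eq_one (h.invol t ht.1)]⟩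
  rw [h2] at hodd
  exact absurd hodd (by decide)

/-- A bad involution and its product with a member centralising it fix equally many points, when
members commute and the two kinds of member counts differ. -/
theorem ncard_fixedBy_twin [Finite G] [Finite Ω]
    (hfaith : ∀ g : G, (∀ x : Ω, g • x = x) → g = 1) (hab : AllCommute Ω Z) {u t : G} {c : Ω}
    (hu : IsBad Ω u) (ht : t ∈ memAt Z c) (hut : Commute u t) {s : ℕ}
    (hs : ∀ x : Ω, u • x ≠ x → (swapCen Z u x).ncard = s)
    (hs' : ∀ x : Ω, (u * t) • x ≠ x → (swapCen Z (u * t) x).ncard = s)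
    (hne : s ≠ (cenMem Z u c).ncard) :
    (fixedBy Ω (u * t)).ncard = (fixedBy Ω u).ncard ∧
      (Nat.card Ω - (fixedBy Ω u).ncard) * s =
        (fixedBy Ω u).ncard * (cenMem Z u c).ncard * ((fixedBy Ω u).ncard - 1) := by
  have hu' := h.isBad_mul hfaith hu ht.1 hut
  have huc : u • c = c := h.fix_of_commute ht hut
  have h1 := h.count_moved hu ht.1 hut huc hs
  have h2 := h.count_moved hu' ht.1 (hut.mul_left (Commute.refl t)) (c₀ := c)
    (by rw [mul_smul, ht.2, huc]) hs'
  rw [mul_assoc u t t, mul_self_eq_one (h.invol t ht.1), mul_one, h.cenMem_mul hab ht] at h2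
  have hle : ∀ g : G, (fixedBy Ω g).ncard ≤ Nat.card Ω := fun g => by
    rw [← Set.ncard_univ]
    exact Set.ncard_le_ncard (Set.subset_univ _) (Set.toFinite _)
  have hpos : ∀ g : G, g • c = c → 1 ≤ (fixedBy Ω g).ncard := fun g hg =>
    (Set.ncard_pos (Set.toFinite _)).2 ⟨c, hg⟩
  have hf := hpos u huc
  have hf' := hpos (u * t) (by rw [mul_smul, ht.2, huc])
  have hn := hle u
  have hn' := hle (u * t)
  have heq : (fixedBy Ω (u * t)).ncard = (fixedBy Ω u).ncard := by
    generalize (fixedBy Ω (u * t)).ncard = f' at *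
    generalize (fixedBy Ω u).ncard = f at *
    generalize (cenMem Z u c).ncard = k at *
    zify [hn, hn', hf, hf'] at h1 h2
    have h3 : ((f : ℤ) - f') * ((s : ℤ) - k) = 0 := by linear_combination h2 - h1
    rcases mul_eq_zero.1 h3 with h4 | h4
    · omega
    · exact absurd (by omega) hne
  rw [heq] at h1
  exact ⟨heq, h1⟩

/-- If members commute, are several at a point, and a bad `u` centralises all at a fixed point, the
number of points is `f + f (f - 1) m`, with `f` the number of fixed points of `u` and of the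
products of `u` with members centralising it. -/
theorem card_of_centralizing [Finite G] [Finite Ω]
    (hfaith : ∀ g : G, (∀ x : Ω, g • x = x) → g = 1) (hab : AllCommute Ω Z) {u t : G} {c : Ω}
    (hbig : 1 < (memAt Z c).ncard)
    (hu : IsBad Ω u) (huc : u • c = c) (hall : ∀ a ∈ memAt Z c, Commute u a)
    (ht : t ∈ memAt Z c) :
    (fixedBy Ω (u * t)).ncard = (fixedBy Ω u).ncard ∧
      Nat.card Ω - (fixedBy Ω u).ncard =
        (fixedBy Ω u).ncard * (memAt Z c).ncard * ((fixedBy Ω u).ncard - 1) := by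
  have hut := hall t ht
  have hu' := h.isBad_mul hfaith hu ht.1 hut
  have hk : cenMem Z u c = memAt Z c :=
    Set.ext fun a => ⟨And.left, fun ha => ⟨ha, hall a ha⟩⟩
  obtain ⟨h1, h2⟩ := h.ncard_fixedBy_twin hfaith hab hu ht hut (s := 1)
    (fun x hx => h.ncard_swapCen_of_all hab hu huc hall hx)
    (fun x hx => h.ncard_swapCen_of_all hab hu' (c := c) (by rw [mul_smul, ht.2, huc])
      (fun a ha => (hall a ha).mul_left (hab c t ht a ha)) hx)
    (by rw [hk]; omega)
  rw [hk, mul_one] at h2
  exact ⟨h1, h2⟩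

end Setting

/-- If `2 ^ i - 1` divides `2 ^ e - 1` and `e ≤ 2 * i` then `i` is `e` or half of it. -/
theorem eq_or_double_of_dvd {i e : ℕ} (hi : i ≠ 0) (hle : i ≤ e) (he : e ≤ 2 * i)
    (hd : 2 ^ i - 1 ∣ 2 ^ e - 1) : i = e ∨ 2 * i = e := by
  by_cases h1 : i = e
  · exact Or.inl h1
  refine Or.inr ?_
  have hg := Nat.pow_sub_one_gcd_pow_sub_one 2 i e
  rw [Nat.gcd_eq_left hd] at hg
  have h2 : Nat.gcd i e = i := by
    have h3 : (2 : ℕ) ^ i = 2 ^ Nat.gcd i e := by
      have := Nat.one_le_two_pow (n := i)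
      have := Nat.one_le_two_pow (n := Nat.gcd i e)
      omega
    exact (Nat.pow_right_injective le_rfl h3).symm
  obtain ⟨r, rfl⟩ := h2 ▸ Nat.gcd_dvd_right i e
  have hr : r ≤ 2 := Nat.le_of_mul_le_mul_left (by rw [mul_comm i 2]; exact he) (Nat.pos_of_ne_zero hi)
  interval_cases r
  · omega
  · omega
  · exact mul_comm 2 i

namespace Setting

variable (h : Setting Ω Z)
include h

/-- When members commute and the number centralised by `u` divides their number, `u` centralises
all members at its fixed point or its centraliser there is the square root. -/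
theorem ncard_cenMem_dichotomy [Finite G] [Finite Ω]
    (hfaith : ∀ g : G, (∀ x : Ω, g • x = x) → g = 1) (hab : AllCommute Ω Z) {u : G}
    (hu : orderOf u = 2) {c : Ω} (huc : u • c = c)
    (hdvd : (cenMem Z u c).ncard ∣ (memAt Z c).ncard) :
    (∀ a ∈ memAt Z c, Commute u a) ∨
      ((cenMem Z u c).ncard + 1) ^ 2 = (memAt Z c).ncard + 1 := by
  obtain ⟨e, he⟩ := h.exists_ncard_memAt_eq_two_pow hfaith hab c
  obtain ⟨i, hi⟩ := h.exists_ncard_cenMem_eq_two_pow hfaith hab u c
  have hle := h.ncard_memAt_le_sq hfaith hab hu huc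
  have hpos : 0 < (cenMem Z u c).ncard :=
    (Set.ncard_pos (Set.toFinite _)).2 (h.cenMem_nonempty hu huc)
  have hsub : (cenMem Z u c).ncard ≤ (memAt Z c).ncard :=
    Set.ncard_le_ncard (fun a ha => ha.1) (Set.toFinite _)
  have hi0 : i ≠ 0 := by rintro rfl; omega
  have h1 : 2 ^ i ≤ 2 ^ e := by omega
  have h2 : 2 ^ e ≤ 2 ^ (2 * i) := by rwa [mul_comm, pow_mul, ← hi, ← he]
  rw [show (cenMem Z u c).ncard = 2 ^ i - 1 by omega,
    show (memAt Z c).ncard = 2 ^ e - 1 by omega] at hdvd
  rcases eq_or_double_of_dvd hi0 ((Nat.pow_le_pow_iff_right (by norm_num)).1 h1)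
    ((Nat.pow_le_pow_iff_right (by norm_num)).1 h2) hdvd with rfl | rfl
  · refine Or.inl fun a ha => ?_
    have h3 : cenMem Z u c = memAt Z c :=
      Set.eq_of_subset_of_ncard_le (fun a ha => ha.1) (by omega) (Set.toFinite _)
    exact (h3.symm.subset ha).2
  · exact Or.inr (by rw [hi, he, ← pow_mul, mul_comm])

end Setting

end CfsgLib.StrongCrit
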