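import Cfsg.Agent.Lib.StrongCrit.SectionCore
import Cfsg.Agent.Lib.BenderQ.Classify
import Cfsg.Agent.Lib.RankOneRecog.Setup
import Cfsg.Agent.Lib.BenderQ.Bender

/-!
A normal subgroup `L` in which every involution fixes one point, and a subgroup `Q` normal in the
stabiliser of a point: an involution fixing that point and another and congruent modulo `L` to an
element of `Q` lies in `Q`.
-/

set_option autoImplicit false

namespace CfsgLib.StrongCrit

open CfsgLib.Involutions CfsgLib.BenderTrans CfsgLib.BenderQ MulAction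

universe u

variable {G : Type u} [Group G] [Finite G] {Ω : Type u} [MulAction G Ω]

/-- A member of a group of odd order with an element mapped to its inverse by an involution. -/
theorem exists_root_of_inv {d u : G} (hd : Odd (orderOf d)) (hdu : u * d * u⁻¹ = d⁻¹) :
    ∃ k : ℕ, d ^ k * u * (d ^ k)⁻¹ = d * u := by
  obtain ⟨m, hm⟩ := hd
  refine ⟨m + 1, ?_⟩
  have h1 : ∀ k : ℕ, d ^ k * u * (d ^ k)⁻¹ = d ^ (2 * k) * u := by
    intro k
    have h2 : u * (d ^ k)⁻¹ = d ^ k * u := by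
      have h3 : u * d ^ k * u⁻¹ = (d ^ k)⁻¹ := by
        rw [← conj_pow, hdu, inv_pow]
      have h4 : u * (d ^ k)⁻¹ * u⁻¹ = d ^ k := by
        rw [show u * (d ^ k)⁻¹ * u⁻¹ = (u * d ^ k * u⁻¹)⁻¹ by group, h3, inv_inv]
      exact mul_inv_eq_iff_eq_mul.1 h4
    rw [mul_assoc, h2, ← mul_assoc, ← pow_add, two_mul]
  rw [h1, show 2 * (m + 1) = orderOf d + 1 by rw [hm]; ring, pow_succ, pow_orderOf_eq_one, one_mul]

/-- An involution fixing `c` and another point and congruent modulo `L` to an element of `Q` lies in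
`Q`. -/
theorem mem_of_cong {L Q : Subgroup G} [L.Normal]
    (hone : OneFix L Ω) (hfaith : ∀ g : L, (∀ x : Ω, g • x = x) → g = 1) (hfour : HasFour L)
    (hfin : Finite Ω) {c y : Ω} (hyc : y ≠ c) (hQc : Q ≤ stabilizer G c)
    (hQn : stabilizer G c ≤ Subgroup.normalizer (Q : Set G)) {u r : G}
    (huc : u • c = c) (huy : u • y = y) (hu2 : orderOf u = 2) (hr2 : orderOf r = 2) (hrL : r ∈ L)
    (hry : r • c = y) (hur : Commute u r) (hcong : ∃ q ∈ Q, u * q⁻¹ ∈ L) : u ∈ Q := by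
  classical
  have : Fact (Nat.Prime 2) := ⟨Nat.prime_two⟩
  obtain ⟨T, hT⟩ : HasKernelAt L Ω c := benderKernel L Ω hone hfaith hfour c
  have hT' : IsKernelAt c T := by
    obtain ⟨hle, hn, h2, htr, hfr⟩ := hT
    exact ⟨hle, fun h hh x hx => (Subgroup.mem_normalizer_iff.1 (hn hh) x).1 hx, h2, htr, hfr⟩
  -- the rank one set-up of `L` with the swap `r`
  set rL : L := ⟨r, hrL⟩ with hrLdef
  have hrL2 : rL * rL = 1 := Subtype.ext (mul_self_eq_one hr2)
  have hS : Cfsg.IsRankOneSetup L Ω c rL T := by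
    obtain ⟨t₀, hS₀⟩ := exists_rankOneSetup hone hT'
    refine ⟨hS₀.two_transitive, hrL2, fun e => ne_one_of_involution hr2 (congrArg Subtype.val e),
      fun e => hyc (hry.symm.trans e), hT'.le, fun g hg x hx => hT'.conj g hg x hx, ?_, ?_, ?_, ?_⟩
    · rw [eq_bot_iff]
      rintro x ⟨hx, hxy⟩
      rw [show rL • c = y from hry] at hxy
      exact Subgroup.mem_bot.2 (hT'.free x hx y hyc (mem_stabilizer_iff.1 hxy))
    · rw [show rL • c = y from hry]
      refine le_antisymm (sup_le hT'.le inf_le_left) fun g hg => ?_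
      obtain ⟨x, hx, d, hd, rfl⟩ := hT'.sup_two hyc hg
      exact Subgroup.mul_mem_sup hx hd
    · obtain ⟨s, hs⟩ := hone.exists_invAt c
      rw [even_iff_two_dvd, ← hs.1]
      exact Subgroup.orderOf_dvd_natCard _ (hT'.invol_mem hone hs)
    · rw [show rL • c = y from hry]
      exact odd_card_two hone hyc.symm
  have h2 : ∃ x y : L, x ≠ 1 ∧ y ≠ 1 ∧ x ≠ y ∧ x * x = 1 ∧ y * y = 1 ∧ x * y = y * x := by
    obtain ⟨a, b, ha, hb, hab, hc⟩ := hfour
    exact ⟨a, b, ne_one_of_involution ha, ne_one_of_involution hb, hab, mul_self_eq_one ha,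
      mul_self_eq_one hb, hc.eq⟩
  -- two elements of `T` and conjugation
  have hTmem : ∀ {g : L}, g • c = c → (∃ k : ℕ, g ^ 2 ^ k = 1) → g ∈ T := fun {g} hg ⟨k, hk⟩ =>
    mem_kernel_of_two hone hT' hg hk
  have hTc : ∀ {g : L}, g ∈ T → (g : G) • c = c := fun {g} hg => hT'.le hg
  have hTconj : ∀ {g : L} {a : G}, g ∈ T → a • c = c →
      (⟨a * g * a⁻¹, Subgroup.Normal.conj_mem inferInstance _ g.2 a⟩ : L) ∈ T := by
    intro g a hg ha
    obtain ⟨k, hk⟩ := hT'.isTwo ⟨g, hg⟩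
    refine hTmem ?_ ⟨k, Subtype.ext ?_⟩
    · show (a * g * a⁻¹) • c = c
      rw [mul_smul, mul_smul, inv_smul_eq_iff.2 ha.symm, hTc hg, ha]
    · show (a * g * a⁻¹) ^ 2 ^ k = 1
      have h1 : ((g : L) : G) ^ 2 ^ k = 1 := by
        have := congrArg (fun z : T => ((z : L) : G)) hk
        simpa using this
      rw [conj_pow, h1, mul_one, mul_inv_cancel]
  -- an element of `Q` in `T * u`
  obtain ⟨q₀, hq₀, hq₀u⟩ := hcong
  obtain ⟨a, b, hb, hab⟩ : ∃ a b : ℕ, Odd b ∧ orderOf q₀ = 2 ^ a * b :=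
    Nat.exists_eq_two_pow_mul_odd (orderOf_pos q₀).ne'
  set q := q₀ ^ b with hqdef
  have hqQ : q ∈ Q := pow_mem hq₀ b
  have hqc : q • c = c := hQc hqQ
  have hqu : q * u⁻¹ ∈ L := by
    have h0 : (QuotientGroup.mk q₀ : G ⧸ L) = QuotientGroup.mk u := by
      refine QuotientGroup.eq_iff_div_mem.2 ?_
      rw [div_eq_mul_inv, show q₀ * u⁻¹ = (u * q₀⁻¹)⁻¹ by group]
      exact inv_mem hq₀u
    have h1 : (QuotientGroup.mk q : G ⧸ L) = QuotientGroup.mk u := by
      rw [hqdef, QuotientGroup.mk_pow, h0, ← QuotientGroup.mk_pow]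
      obtain ⟨j, rfl⟩ := hb
      rw [pow_succ, pow_mul, show u ^ 2 = 1 from hu2 ▸ pow_orderOf_eq_one u, one_pow, one_mul]
    have := QuotientGroup.eq_iff_div_mem.1 h1
    rwa [div_eq_mul_inv] at this
  have huu : u⁻¹ = u := inv_eq_self_of_involution hu2
  have huu' : u * u = 1 := mul_self_eq_one hu2
  set k : L := ⟨q * u⁻¹, hqu⟩ with hk
  have hkc : k ∈ stabilizer L c := by
    show (q * u⁻¹) • c = c
    rw [mul_smul, huu, huc, hqc]
  obtain ⟨s, hs, d, hd, hkd⟩ := hT'.sup_two hyc hkc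
  have hkd' : q = (s : G) * (d : G) * u := by
    have h1 : q * u⁻¹ = (s : G) * (d : G) := congrArg Subtype.val hkd
    rw [← h1]; group
  have hdc : (d : G) • c = c := hd.1
  have hdy : (d : G) • y = y := hd.2
  have hdodd : Odd (orderOf (d : G)) := by
    rw [Subgroup.orderOf_coe]
    exact (odd_card_two hone hyc.symm).of_dvd_nat (Subgroup.orderOf_dvd_natCard _ hd)
  -- `u` inverts `d`
  have hdinv : u * (d : G) * u⁻¹ = (d : G)⁻¹ := by
    have hq2 : q ^ 2 ^ a = 1 := by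
      rw [hqdef, ← pow_mul, mul_comm, ← hab, pow_orderOf_eq_one]
    set e : L := ⟨(d : G) * u * (d : G) * u, by
      have : (d : G) * u * (d : G) * u = (d : G) * (u * d * u⁻¹) := by rw [huu]; group
      rw [this]; exact mul_mem d.2 (Subgroup.Normal.conj_mem inferInstance _ d.2 u)⟩ with he
    have hey : e ∈ two L c y := ⟨show ((d : G) * u * d * u) • c = c by
        simp only [mul_smul, huc, hdc],
      show ((d : G) * u * d * u) • y = y by simp only [mul_smul, huy, hdy]⟩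
    -- `q * q` is in `T * e`
    have hsu : ((d : G) * u) * s * ((d : G) * u)⁻¹ ∈ L :=
      Subgroup.Normal.conj_mem inferInstance _ s.2 _
    set s' : L := ⟨_, hsu⟩
    have hs'T : s' ∈ T := hTconj hs (by rw [mul_smul, huc, hdc])
    set qq : L := s * s' * e with hqqdef
    have hqq : (qq : G) = q * q := by
      show (s : G) * (((d : G) * u) * s * ((d : G) * u)⁻¹) * ((d : G) * u * d * u) = q * q
      rw [hkd']; group
    have hqqT : qq ∈ T := hTmem (show (qq : G) • c = c by rw [hqq, mul_smul, hqc, hqc])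
      ⟨a, Subtype.ext (by
        show (qq : G) ^ 2 ^ a = 1
        rw [hqq, ← sq, ← pow_mul, mul_comm, pow_mul, hq2, one_pow])⟩
    have heT : e ∈ T := by
      have := mul_mem (inv_mem (mul_mem hs hs'T)) hqqT
      rwa [hqqdef, inv_mul_cancel_left] at this
    have he1 : e = 1 := hT'.free e heT y hyc hey.2
    have he1' : (d : G) * u * d * u = 1 := congrArg Subtype.val he1
    rw [huu]
    calc u * d * u = (d : G)⁻¹ * ((d : G) * u * d * u) := by group
      _ = (d : G)⁻¹ := by rw [he1', mul_one]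
  obtain ⟨i, hi⟩ := exists_root_of_inv hdodd hdinv
  set w : G := (d : G) ^ i with hw
  have hwc : w • c = c := pow_mem (show (d : G) ∈ stabilizer G c from hdc) i
  have hwc' : w⁻¹ • c = c := inv_smul_eq_iff.2 hwc.symm
  set q' := w⁻¹ * q * w with hq'def
  have hq'Q : q' ∈ Q := by
    have h1 := (Subgroup.mem_normalizer_iff.1 (hQn (inv_mem hwc) ) q).1 hqQ
    rwa [inv_inv] at h1
  set s₁ : L := ⟨w⁻¹ * s * w⁻¹⁻¹, Subgroup.Normal.conj_mem inferInstance _ s.2 _⟩ with hs1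
  have hs₁T : s₁ ∈ T := hTconj hs hwc'
  have hq's : q' = (s₁ : G) * u := by
    show w⁻¹ * q * w = w⁻¹ * s * w⁻¹⁻¹ * u
    rw [hkd', mul_assoc _ (d : G) u, ← hi]
    group
  -- the elements of `T` in `Q`
  let X : Subgroup L := Q.subgroupOf L ⊓ T
  have hXc : ∀ {v : L} {g : G}, v ∈ X → g • c = c →
      (⟨g * v * g⁻¹, Subgroup.Normal.conj_mem inferInstance _ v.2 g⟩ : L) ∈ X :=
    fun {v} {g} hv hg => ⟨(Subgroup.mem_normalizer_iff.1 (hQn hg) _).1 hv.1, hTconj hv.2 hg⟩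
  -- a coset of `X` fixed by a torus element is `X`
  have hcoset : ∀ {k v : L}, k ∈ RankOneInvol.invSet L c rL → k ≠ 1 → v ∈ T →
      k * v * k⁻¹ * v⁻¹ ∈ X → v ∈ X := by
    intro k v hk hk1 hv hkv
    have hkc' : (k : G) • c = c := ((RankOneInvol.mem_invSet hS).1 hk).1.1
    have hodd : Odd (orderOf k) :=
      (odd_card_two hone (by exact hyc.symm)).of_dvd_nat (Subgroup.orderOf_dvd_natCard _ (by
        have h1 := RankOneInvol.mem_twoPt.1 ((RankOneInvol.mem_invSet hS).1 hk).1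
        exact ⟨h1.1, by
          have h3 := h1.2
          rw [show rL • c = y from hry] at h3
          exact h3⟩))
    -- a power of prime order
    obtain ⟨p, hp, hpk⟩ := Nat.exists_prime_and_dvd (fun e => hk1 (orderOf_eq_one_iff.1 e))
    have : Fact p.Prime := ⟨hp⟩
    set k₁ := k ^ (orderOf k / p) with hk₁
    have hk₁o : orderOf k₁ = p := by
      rw [hk₁, orderOf_pow_of_dvd (Nat.div_pos (Nat.le_of_dvd (orderOf_pos k) hpk) hp.pos).ne'
        (Nat.div_dvd_of_dvd hpk), Nat.div_div_self hpk (orderOf_pos k).ne']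
    have hk₁inv : k₁ ∈ RankOneInvol.invSet L c rL := by
      rw [← RankOneTwo.mem_Ksub_iff hS h2] at hk ⊢
      exact pow_mem hk _
    have hp2 : p ≠ 2 := fun e => hodd.not_two_dvd_nat (e ▸ hpk)
    let Y : Set L := {x | x * v⁻¹ ∈ X}
    have hYinv : ∀ g ∈ Subgroup.zpowers k, ∀ x ∈ Y, g * x * g⁻¹ ∈ Y := by
      let S : Subgroup L :=
        { carrier := {g | (g : G) • c = c ∧ g * v * g⁻¹ * v⁻¹ ∈ X}
          one_mem' := ⟨one_smul G c, by simp [X]⟩
          mul_mem' := fun {g g'} hg hg' => ⟨by rw [Subgroup.coe_mul, mul_smul, hg'.1, hg.1], by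
            have h1 := hXc hg'.2 hg.1
            have h2 : g * g' * v * (g * g')⁻¹ * v⁻¹ =
                g * (g' * v * g'⁻¹ * v⁻¹) * g⁻¹ * (g * v * g⁻¹ * v⁻¹) := by group
            rw [h2]
            exact mul_mem h1 hg.2⟩
          inv_mem' := fun {g} hg => by
            have hgc : ((g⁻¹ : L) : G) • c = c := by
              rw [Subgroup.coe_inv]; exact inv_smul_eq_iff.2 hg.1.symm
            refine ⟨hgc, ?_⟩
            have h1 := inv_mem (hXc hg.2 hgc)
            have h2 : g⁻¹ * v * g⁻¹⁻¹ * v⁻¹ = (g⁻¹ * (g * v * g⁻¹ * v⁻¹) * g⁻¹⁻¹)⁻¹ := by group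
            rw [h2]
            exact h1 }
      intro g hg x hx
      have hgS : g ∈ S := Subgroup.zpowers_le.2 (show k ∈ S from ⟨hkc', hkv⟩) hg
      show g * x * g⁻¹ * v⁻¹ ∈ X
      rw [show g * x * g⁻¹ * v⁻¹ = g * (x * v⁻¹) * g⁻¹ * (g * v * g⁻¹ * v⁻¹) by group]
      exact mul_mem (hXc hx hgS.1) hgS.2
    let act : MulAction (Subgroup.zpowers k₁) Y :=
      { smul := fun g x => ⟨(g : L) * x.1 * (g : L)⁻¹,
          hYinv _ (Subgroup.zpowers_le.2 (pow_mem (Subgroup.mem_zpowers k) _) g.2) _ x.2⟩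
        one_smul := fun x => Subtype.ext (by show (1 : L) * x.1 * (1 : L)⁻¹ = x.1; group)
        mul_smul := fun g g' x => Subtype.ext (by
          show (g : L) * g' * x.1 * ((g : L) * g')⁻¹ = g * (g' * x.1 * (g' : L)⁻¹) * (g : L)⁻¹
          group) }
    have hY : Nat.card Y = Nat.card X := by
      refine Nat.card_congr ⟨fun x => ⟨x.1 * v⁻¹, x.2⟩, fun x => ⟨x.1 * v, by
        show (x.1 : L) * v * v⁻¹ ∈ X
        rw [mul_inv_cancel_right]; exact x.2⟩, fun x => Subtype.ext (inv_mul_cancel_right _ _),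
        fun x => Subtype.ext (mul_inv_cancel_right _ _)⟩
    have hpg : IsPGroup p (Subgroup.zpowers k₁) :=
      IsPGroup.of_card (n := 1) (by rw [Nat.card_zpowers, hk₁o, pow_one])
    obtain ⟨n, hn⟩ := (hT'.isTwo.to_le (inf_le_right : X ≤ T)).exists_card_eq
    obtain ⟨x, hx⟩ := hpg.nonempty_fixed_point_of_prime_not_dvd_card Y (by
      rw [hY, hn]
      exact fun h => hp2 ((Nat.prime_dvd_prime_iff_eq hp Nat.prime_two).1 (hp.dvd_of_dvd_pow h)))
    have hfix : k₁ * x.1 * k₁⁻¹ = x.1 :=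
      congrArg Subtype.val (hx ⟨k₁, Subgroup.mem_zpowers k₁⟩)
    have hxT : x.1 ∈ T := by
      have := mul_mem (show x.1 * v⁻¹ ∈ T from x.2.2) hv
      rwa [inv_mul_cancel_right] at this
    have hx1 := RankOneRecog.invSet_fpf hS hk₁inv
      (fun e => hp.one_lt.ne' (by rw [← hk₁o, e, orderOf_one])) hxT (mul_inv_eq_iff_eq_mul.1 hfix)
    have h3 : x.1 * v⁻¹ ∈ X := x.2
    rw [hx1, one_mul] at h3
    exact inv_mem_iff.1 h3
  obtain ⟨j, hj, hj1⟩ := RankOneInvol.exists_invSet_ne_one hS h2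
  obtain ⟨hjD, hjinv⟩ := (RankOneInvol.mem_invSet hS).1 hj
  obtain ⟨hjc, hjy⟩ := RankOneInvol.mem_twoPt.1 hjD
  rw [show rL • c = y from hry] at hjy
  have hjc' : (j : G) • c = c := hjc
  -- the commutator of `j` and `u` in the torus
  set j' : L := ⟨u * j * u⁻¹, Subgroup.Normal.conj_mem inferInstance _ j.2 u⟩ with hj'
  have hj'K : j' ∈ RankOneInvol.invSet L c rL := by
    refine (RankOneInvol.mem_invSet hS).2 ⟨RankOneInvol.mem_twoPt.2 ⟨?_, ?_⟩, ?_⟩
    · show (u * j * u⁻¹) • c = c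
      rw [huu, mul_smul, mul_smul, huc, hjc', huc]
    · rw [show rL • c = y from hry]
      show (u * j * u⁻¹) • y = y
      rw [huu, mul_smul, mul_smul, huy, show (j : G) • y = y from hjy, huy]
    · refine Subtype.ext ?_
      have h1 := congrArg Subtype.val hjinv
      simp only [Subgroup.coe_mul, Subgroup.coe_inv] at h1 ⊢
      show r * (u * j * u⁻¹) * _ = _
      calc r * (u * j * u⁻¹) * r = u * (r * j * r) * u⁻¹ := by
            have e2 : u⁻¹ * r = r * u⁻¹ := hur.inv_left.eq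
            rw [← mul_assoc r, ← mul_assoc r, ← hur.eq]
            simp only [mul_assoc, e2]
        _ = u * (j : G)⁻¹ * u⁻¹ := by rw [h1]
        _ = (u * j * u⁻¹)⁻¹ := by group
  set e : L := j * j'⁻¹ with hedef
  have heK : e ∈ RankOneInvol.invSet L c rL := by
    rw [← RankOneTwo.mem_Ksub_iff hS h2] at hj hj'K ⊢
    exact mul_mem hj (inv_mem hj'K)
  have hu_of_s : s₁ ∈ X → u ∈ Q := fun h => by
    have : u = (s₁ : G)⁻¹ * q' := by rw [hq's]; group
    rw [this]
    exact mul_mem (inv_mem h.1) hq'Q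
  -- `[j, q']`
  set x : L := j * s₁ * j⁻¹ * (e * s₁⁻¹) with hxdef
  have hxQ : (x : G) ∈ Q := by
    have h1 : (x : G) = (j : G) * q' * (j : G)⁻¹ * q'⁻¹ := by
      show (j : G) * s₁ * (j : G)⁻¹ * ((j : G) * (u * j * u⁻¹)⁻¹ * (s₁ : G)⁻¹) = _
      rw [hq's]; group
    rw [h1]
    exact mul_mem ((Subgroup.mem_normalizer_iff.1 (hQn hjc') q').1 hq'Q) (inv_mem hq'Q)
  by_cases he1 : e = 1
  · refine hu_of_s (hcoset hj hj1 hs₁T ?_)
    rw [hxdef, he1, one_mul] at hxQ
    exact ⟨hxQ, T.mul_mem (hTconj hs₁T hjc') (T.inv_mem hs₁T)⟩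
  · -- then all of `T` lies in `Q`
    have hec : (e : G) • c = c := ((RankOneInvol.mem_invSet hS).1 heK).1.1
    have hxT : ∀ v ∈ T, x * v * x⁻¹ * v⁻¹ ∈ X := by
      intro v hv
      have hxc : (x : G) • c = c := hQc hxQ
      refine ⟨?_, T.mul_mem (hTconj hv hxc) (T.inv_mem hv)⟩
      show (x : G) * v * (x : G)⁻¹ * (v : G)⁻¹ ∈ Q
      rw [show (x : G) * v * (x : G)⁻¹ * (v : G)⁻¹ = x * ((v : G) * (x : G)⁻¹ * (v : G)⁻¹) by group]
      exact mul_mem hxQ ((Subgroup.mem_normalizer_iff.1 (hQn (hTc hv)) _).1 (inv_mem hxQ))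
    -- `x` is `a * e`, `a ∈ T`
    set av : L := j * s₁ * j⁻¹ * (e * s₁⁻¹ * e⁻¹) with hav
    have havT : av ∈ T := mul_mem (hTconj hs₁T hjc') (hTconj (inv_mem hs₁T) hec)
    have hxa : x = av * e := by rw [hxdef, hav]; group
    obtain ⟨n, hn⟩ : ∃ n : ℕ, (av⁻¹) ^ 2 ^ n = 1 := by
      obtain ⟨n, hn⟩ := hT'.isTwo ⟨_, inv_mem havT⟩
      exact ⟨n, congrArg Subtype.val hn⟩
    -- powers of `e` act on `T` modulo `X` as powers of `av⁻¹`
    have hpow : ∀ i : ℕ, ∀ v ∈ T, e ^ i * v * (e ^ i)⁻¹ * ((av⁻¹) ^ i * v * ((av⁻¹) ^ i)⁻¹)⁻¹ ∈ X := by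
      intro i
      induction i with
      | zero => intro v _; simp [X]
      | succ i ih =>
        intro v hv
        have hv' : (av⁻¹) ^ i * v * ((av⁻¹) ^ i)⁻¹ ∈ T :=
          mul_mem (mul_mem (pow_mem (inv_mem havT) _) hv) (inv_mem (pow_mem (inv_mem havT) _))
        set v' := (av⁻¹) ^ i * v * ((av⁻¹) ^ i)⁻¹
        have hstep : e * v' * e⁻¹ * (av⁻¹ * v' * av⁻¹⁻¹)⁻¹ ∈ X := by
          have h1 := hXc (hxT v' hv') (show ((av⁻¹ : L) : G) • c = c from hTc (inv_mem havT))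
          have h3 : e * v' * e⁻¹ * (av⁻¹ * v' * av⁻¹⁻¹)⁻¹ =
              av⁻¹ * (x * v' * x⁻¹ * v'⁻¹) * av⁻¹⁻¹ := by rw [hxa]; group
          rw [h3]
          exact h1
        have h1 := hXc (ih v hv) hec
        have h3 : e ^ (i + 1) * v * (e ^ (i + 1))⁻¹ *
            ((av⁻¹) ^ (i + 1) * v * ((av⁻¹) ^ (i + 1))⁻¹)⁻¹ =
            e * (e ^ i * v * (e ^ i)⁻¹ * v'⁻¹) * e⁻¹ * (e * v' * e⁻¹ * (av⁻¹ * v' * av⁻¹⁻¹)⁻¹) := by
          simp only [v', pow_succ']; group
        rw [h3]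
        exact mul_mem h1 hstep
    have he2 : e ^ 2 ^ n ≠ 1 := fun hh => he1 (by
      have hodd : Odd (orderOf e) := (odd_card_two hone hyc.symm).of_dvd_nat
        (Subgroup.orderOf_dvd_natCard _ (by
          have h1 := RankOneInvol.mem_twoPt.1 ((RankOneInvol.mem_invSet hS).1 heK).1
          exact ⟨h1.1, by
            have h3 := h1.2
            rw [show rL • c = y from hry] at h3
            exact h3⟩))
      exact orderOf_eq_one_iff.1 (Nat.eq_one_of_dvd_coprimes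
        (Nat.Coprime.pow_left _ (Nat.coprime_two_left.2 hodd))
        (orderOf_dvd_of_pow_eq_one hh) dvd_rfl))
    have heK' : e ^ 2 ^ n ∈ RankOneInvol.invSet L c rL := by
      rw [← RankOneTwo.mem_Ksub_iff hS h2] at heK ⊢
      exact pow_mem heK _
    refine hu_of_s (hcoset heK' he2 hs₁T ?_)
    have h1 := hpow (2 ^ n) s₁ hs₁T
    rwa [hn, one_mul, inv_one, mul_one] at h1

end CfsgLib.StrongCrit
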