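import Cfsg.Agent.Lib.StrongCrit.Faithful
import Cfsg.Agent.Lib.StrongCrit.Cover
import Cfsg.Agent.Lib.StrongCrit.TightCore
import Cfsg.Agent.Lib.StrongCrit.SecOdd
import Cfsg.Agent.Lib.Components.FStar
import Cfsg.Agent.Lib.PF.OddOrder
import Cfsg.Prelude.Def_Local

/-!
A tightly embedded subgroup whose conjugates meet its normaliser in groups of odd order: the
normaliser meets the normal closure in a strongly embedded subgroup.  Deduced from Aschbacher's
criterion.
-/

set_option autoImplicit false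

namespace CfsgLib.StrongCrit

open CfsgLib.Involutions CfsgLib.BenderTrans MulAction

universe u

variable {G : Type u} [Group G]

/-- The involutions in the conjugates of a subgroup. -/
def tightMem (Q : Subgroup G) : Set G := {x | orderOf x = 2 ∧ ∃ g : G, g * x * g⁻¹ ∈ Q}

/-- A 2-group normalising a subgroup of even order centralises one of its involutions. -/
theorem exists_invol_centralized [Finite G] {Q T : Subgroup G} (hQ : Even (Nat.card Q))
    (hT : IsPGroup 2 T) (hTN : T ≤ Subgroup.normalizer (Q : Set G)) :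
    ∃ x ∈ Q, orderOf x = 2 ∧ ∀ g ∈ T, Commute g x := by
  have : Fact (Nat.Prime 2) := ⟨Nat.prime_two⟩
  let act : MulAction T Q :=
    { smul := fun g s => ⟨(g : G) * s.1 * (g : G)⁻¹,
        (Subgroup.mem_normalizer_iff.1 (hTN g.2) _).1 s.2⟩
      one_smul := fun s => Subtype.ext (by show (1 : G) * s.1 * (1 : G)⁻¹ = s.1; group)
      mul_smul := fun g g' s => Subtype.ext (by
        show (g : G) * g' * s.1 * ((g : G) * g')⁻¹ = g * (g' * s.1 * (g' : G)⁻¹) * (g : G)⁻¹
        group) }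
  let C : Subgroup Q := (Subgroup.centralizer (T : Set G)).subgroupOf Q
  have hC : (C : Set Q) = fixedPoints T Q := by
    ext s
    simp only [C, SetLike.mem_coe, Subgroup.mem_subgroupOf, Subgroup.mem_centralizer_iff,
      MulAction.mem_fixedPoints]
    constructor
    · intro hs g
      refine Subtype.ext ?_
      show (g : G) * s.1 * (g : G)⁻¹ = s.1
      rw [hs g g.2, mul_inv_cancel_right]
    · intro hs g hg
      have h1 : g * s.1 * g⁻¹ = s.1 := congrArg Subtype.val (hs ⟨g, hg⟩)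
      exact mul_inv_eq_iff_eq_mul.1 h1
  have hm := hT.card_modEq_card_fixedPoints Q
  have hCe : Even (Nat.card C) := by
    have h1 : Nat.card C = Nat.card (fixedPoints T Q) :=
      Nat.card_congr (Equiv.setCongr hC)
    have h2 : Nat.card Q % 2 = Nat.card (fixedPoints T Q) % 2 := hm
    rw [h1, Nat.even_iff, ← h2]
    exact Nat.even_iff.1 hQ
  obtain ⟨x, hx⟩ := exists_prime_orderOf_dvd_card' (G := C) 2 hCe.two_dvd
  refine ⟨((x : Q) : G), (x : Q).2, ?_, fun g hg => ?_⟩
  · rw [Subgroup.orderOf_coe, Subgroup.orderOf_coe, hx]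
  · exact Subgroup.mem_centralizer_iff.1 x.2 g hg

/-- An involution in `O * Q`, `O` normal of odd order, is conjugate into `Q`. -/
theorem exists_conj_mem_of_odd [Finite G] {O Q : Subgroup G} [O.Normal] (hO : Odd (Nat.card O))
    {u : G} (hu : orderOf u = 2) (hmem : u ∈ O ⊔ Q) : ∃ g : G, g * u * g⁻¹ ∈ Q := by
  have : Fact (Nat.Prime 2) := ⟨Nat.prime_two⟩
  obtain ⟨o, ho, q, hq, rfl⟩ := Subgroup.mem_sup_of_normal_left.1 hmem
  set u := o * q
  set x₀ : G ⧸ Q := ((1 : G) : G ⧸ Q)
  set X : Set (G ⧸ Q) := orbit O x₀ with hX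
  have hmk : ∀ (g a : G), g • ((a : G) : G ⧸ Q) = ((g * a : G) : G ⧸ Q) := fun _ _ => rfl
  have hinv : ∀ y ∈ X, u • y ∈ X := by
    rintro _ ⟨o', rfl⟩
    refine ⟨⟨o * (q * o' * q⁻¹), mul_mem ho (Subgroup.Normal.conj_mem inferInstance _ o'.2 q)⟩, ?_⟩
    show (o * (q * o' * q⁻¹)) • x₀ = u • ((o' : G) • x₀)
    rw [hmk, hmk, hmk]
    refine QuotientGroup.eq.2 ?_
    convert hq using 1
    simp only [u]; group
  have hinv' : ∀ g ∈ Subgroup.zpowers u, ∀ y ∈ X, g • y ∈ X := by
    intro g hg y hy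
    rw [Subgroup.zpowers_eq_closure] at hg
    induction hg using Subgroup.closure_induction generalizing y with
    | mem z hz => rw [Set.mem_singleton_iff] at hz; rw [hz]; exact hinv y hy
    | one => rwa [one_smul]
    | mul a b _ _ ha hb => rw [mul_smul]; exact ha _ (hb _ hy)
    | inv a ha' ha =>
      have : a⁻¹ = a ^ (orderOf a - 1) := by
        refine inv_eq_of_mul_eq_one_right ?_
        rw [← pow_succ', Nat.sub_add_cancel (orderOf_pos a), pow_orderOf_eq_one]
      rw [this]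
      generalize orderOf a - 1 = k
      induction k with
      | zero => rwa [pow_zero, one_smul]
      | succ k ih => rw [pow_succ', mul_smul]; exact ha _ ih
  let act : MulAction (Subgroup.zpowers u) X :=
    { smul := fun g y => ⟨(g : G) • y.1, hinv' _ g.2 _ y.2⟩
      one_smul := fun y => Subtype.ext (one_smul G y.1)
      mul_smul := fun g g' y => Subtype.ext (mul_smul (g : G) (g' : G) y.1) }
  have hodd : Odd (Nat.card X) := by
    refine hO.of_dvd_nat ?_
    rw [Nat.card_congr (orbitEquivQuotientStabilizer O x₀)]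
    exact Subgroup.index_dvd_card _
  obtain ⟨⟨y, o', rfl⟩, hy⟩ :=
    (isPGroup_zpowers hu).nonempty_fixed_point_of_prime_not_dvd_card X
      (fun hd => (Nat.not_even_iff_odd.2 hodd) (even_iff_two_dvd.2 hd))
  refine ⟨(o' : G)⁻¹, ?_⟩
  have h1 : u • ((o' : G) • x₀) = (o' : G) • x₀ :=
    congrArg Subtype.val (hy ⟨u, Subgroup.mem_zpowers u⟩)
  rw [hmk, hmk, mul_one] at h1
  have h2 := QuotientGroup.eq.1 h1.symm
  rwa [inv_inv, mul_assoc]

section

variable [Finite G] {Q : Subgroup G}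

local notation "N" => Subgroup.normalizer (Q : Set G)

theorem base_smul_eq_iff_normalizer (g : G) :
    g • ((1 : G) : G ⧸ N) = ((1 : G) : G ⧸ N) ↔ g ∈ N := by
  show ((g * 1 : G) : G ⧸ N) = _ ↔ _
  rw [mul_one, eq_comm, QuotientGroup.eq, inv_one, one_mul]

variable (hodd : ∀ g : G, g ∉ Subgroup.normalizer (Q : Set G) →
  Odd (Nat.card ↥(Q.map (MulAut.conj g).toMonoidHom ⊓ Subgroup.normalizer (Q : Set G))))

include hodd in
/-- An involution of `Q` fixes only the base point. -/
theorem eq_base_of_fix {x : G} (hx : x ∈ Q) (hx2 : orderOf x = 2) {a : G ⧸ N} (ha : x • a = a) :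
    a = ((1 : G) : G ⧸ N) := by
  induction a using QuotientGroup.induction_on with | H a => ?_
  have h1 : a⁻¹ * x * a ∈ N := by
    have h2 : ((x * a : G) : G ⧸ N) = (a : G ⧸ N) := ha
    rw [mul_assoc]
    exact QuotientGroup.eq.1 h2.symm
  by_contra hne
  have haN : a⁻¹ ∉ N := fun h3 => hne (QuotientGroup.eq.2 (by simpa using h3))
  refine (Nat.not_even_iff_odd.2 (hodd a⁻¹ haN)) (even_iff_two_dvd.2 ?_)
  have hmem : a⁻¹ * x * a ∈ Q.map (MulAut.conj a⁻¹).toMonoidHom ⊓ N :=
    ⟨⟨x, hx, by simp⟩, h1⟩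
  have h4 := Subgroup.orderOf_dvd_natCard _ hmem
  rwa [show a⁻¹ * x * a = a⁻¹ * x * a⁻¹⁻¹ by group, orderOf_conj_eq, hx2] at h4

include hodd in
/-- A member has one fixed point. -/
theorem eq_of_fix_tightMem {t g : G} (ht2 : orderOf t = 2) (hg : g * t * g⁻¹ ∈ Q) {x : G ⧸ N}
    (hx : t • x = x) : x = g⁻¹ • ((1 : G) : G ⧸ N) := by
  refine eq_inv_smul_iff.2 (eq_base_of_fix hodd hg ((orderOf_conj_eq g t).trans ht2) ?_)
  rw [smul_smul, inv_mul_cancel_right, mul_smul, hx]

theorem tightMem_fix {t g : G} (hg : g * t * g⁻¹ ∈ Q) :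
    t • g⁻¹ • ((1 : G) : G ⧸ N) = g⁻¹ • ((1 : G) : G ⧸ N) := by
  have h1 : (g * t * g⁻¹) • ((1 : G) : G ⧸ N) = ((1 : G) : G ⧸ N) :=
    (base_smul_eq_iff_normalizer _).2 (Subgroup.le_normalizer hg)
  rw [mul_smul, mul_smul, smul_eq_iff_eq_inv_smul] at h1
  exact h1

include hodd in
/-- Commuting members multiply to members. -/
theorem mul_mem_tightMem {s t : G} (hs : s ∈ tightMem Q) (ht : t ∈ tightMem Q) (hc : Commute s t)
    (hne : s ≠ t) : s * t ∈ tightMem Q := by
  obtain ⟨hs2, g, hg⟩ := hs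
  obtain ⟨ht2, k, hk⟩ := ht
  have h1 : s • (t • g⁻¹ • ((1 : G) : G ⧸ N)) = t • g⁻¹ • ((1 : G) : G ⧸ N) := by
    rw [smul_smul, hc.eq, mul_smul, tightMem_fix hg]
  have h2 := eq_of_fix_tightMem hodd ht2 hk (eq_of_fix_tightMem hodd hs2 hg h1)
  rw [eq_inv_smul_iff, smul_smul, base_smul_eq_iff_normalizer] at h2
  have htg : g * t * g⁻¹ ∈ Q := by
    have h3 := (Subgroup.mem_normalizer_iff.1 (inv_mem h2) _).1 hk
    convert h3 using 1
    group
  refine ⟨?_, g, ?_⟩
  · refine orderOf_eq_two_iff_mul.2 ⟨fun e => hne ?_, ?_⟩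
    · rw [mul_eq_one_iff_eq_inv] at e
      rw [e, inv_eq_self_of_involution ht2]
    · rw [mul_assoc, ← mul_assoc t, ← hc.eq, mul_assoc s, mul_self_eq_one ht2, mul_one,
        mul_self_eq_one hs2]
  · convert mul_mem hg htg using 1
    group

variable (hQe : Even (Nat.card Q))

include hodd hQe in
/-- The setting on the conjugates of `Q`. -/
theorem setting_tight (hnn : ¬ Q.Normal) : Setting (G ⧸ N) (tightMem Q) := by
  refine ⟨fun t ht => ht.1, ?_, fun x y => exists_smul_eq G x y, ?_, ?_, ?_, ?_, ?_⟩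
  · rintro a t ⟨ht, g, hg⟩
    refine ⟨(orderOf_conj_eq a t).trans ht, g * a⁻¹, ?_⟩
    convert hg using 1; group
  · intro x
    by_contra hc
    push Not at hc
    refine hnn (Subgroup.normalizer_eq_top_iff.1 (eq_top_iff.2 fun g _ => ?_))
    exact (base_smul_eq_iff_normalizer g).1 ((hc _).trans (hc _).symm)
  · rintro t ⟨-, g, hg⟩
    exact ⟨_, tightMem_fix hg⟩
  · rintro t ⟨ht, g, hg⟩ x y hx hy
    rw [eq_of_fix_tightMem hodd ht hg hx, eq_of_fix_tightMem hodd ht hg hy]
  · intro s hs t ht hc hne x y hx hy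
    obtain ⟨h2, g, hg⟩ := mul_mem_tightMem hodd hs ht hc hne
    rw [eq_of_fix_tightMem hodd h2 hg hx, eq_of_fix_tightMem hodd h2 hg hy]
  · intro x T hT hTx
    induction x using QuotientGroup.induction_on with | H a => ?_
    have hTN : T.map (MulAut.conj a⁻¹).toMonoidHom ≤ N := by
      rintro _ ⟨t, ht, rfl⟩
      have h1 : ((t * a : G) : G ⧸ N) = (a : G ⧸ N) := hTx ht
      have h2 := QuotientGroup.eq.1 h1.symm
      simpa [mul_assoc] using h2
    obtain ⟨v, hvQ, hv2, hvc⟩ := exists_invol_centralized hQe (hT.map _) hTN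
    refine ⟨a * v * a⁻¹, ⟨(orderOf_conj_eq a v).trans hv2, a⁻¹, ?_⟩, ?_, fun t ht => ?_⟩
    · convert hvQ using 1; group
    · show ((a * v * a⁻¹ * a : G) : G ⧸ N) = (a : G ⧸ N)
      refine (QuotientGroup.eq.2 ?_).symm
      convert Subgroup.le_normalizer hvQ using 1
      group
    · have h1 := hvc _ ⟨t, ht, rfl⟩
      rw [MulEquiv.coe_toMonoidHom, MulAut.conj_apply] at h1
      show t * (a * v * a⁻¹) = a * v * a⁻¹ * t
      calc t * (a * v * a⁻¹) = a * ((a⁻¹ * t * a⁻¹⁻¹) * v) * a⁻¹ := by group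
        _ = a * (v * (a⁻¹ * t * a⁻¹⁻¹)) * a⁻¹ := by rw [h1.eq]
        _ = a * v * a⁻¹ * t := by group

include hodd hQe in
/-- No involution of the normal closure of `Q` fixes two points. -/
theorem noBad_normalClosure (main : CriterionMain.{u}) (hnn : ¬ Q.Normal)
    {u : G} (huK : u ∈ Subgroup.normalClosure (Q : Set G)) : ¬ IsBad (G ⧸ N) u := by
  classical
  have : Fact (Nat.Prime 2) := ⟨Nat.prime_two⟩
  intro hu
  set Ω := G ⧸ N
  set b : Ω := ((1 : G) : G ⧸ N) with hb
  set Z := tightMem Q with hZ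
  have h : Setting Ω Z := setting_tight hodd hQe hnn
  have hloc : LocalOdd Ω Z :=
    h.localOdd_of_mul main fun s hs t ht hc hne => mul_mem_tightMem hodd hs ht hc hne
  have hmemQ : ∀ {g v : G}, orderOf v = 2 → g * v * g⁻¹ ∈ Q → v ∈ Z :=
    fun {g v} hv hg => ⟨hv, g, hg⟩
  have hnotQ : ∀ g : G, g * u * g⁻¹ ∉ Q := by
    intro g hg
    obtain ⟨hu2, x, y, hxy, hx, hy⟩ := hu
    exact hxy (h.unique u (hmemQ hu2 hg) x y hx hy)
  set L := Subgroup.closure Z with hLdef
  have hLn : L.Normal := by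
    have : Z = Group.conjugatesOfSet Z := by
      refine subset_antisymm Group.subset_conjugatesOfSet fun a ha => ?_
      obtain ⟨c, hc, hca⟩ := Group.mem_conjugatesOfSet_iff.1 ha
      obtain ⟨g, rfl⟩ := isConj_iff.1 hca
      exact h.conj_mem g c hc
    rw [hLdef, this]
    exact Subgroup.normalClosure_normal
  -- `L` is transitive
  have hLtr : ∀ x y : Ω, ∃ l ∈ L, l • x = y := by
    intro x y
    rcases eq_or_ne x y with rfl | hxy
    · exact ⟨1, one_mem _, one_smul _ x⟩
    obtain ⟨s, hs⟩ := h.exists_memAt x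
    obtain ⟨t, ht⟩ := h.exists_memAt y
    obtain ⟨g, hg, -, hgy⟩ := h.exists_conj_of_ne hs ht hxy
    exact ⟨g, (Subgroup.closure_le L).2 (Set.insert_subset (Subgroup.subset_closure hs.1)
      (Set.singleton_subset_iff.2 (Subgroup.subset_closure ht.1))) hg, hgy⟩
  have hKle : Subgroup.normalClosure (Q : Set G) ≤ L ⊔ Q := by
    rw [Subgroup.normalClosure, Subgroup.closure_le]
    intro v hv
    obtain ⟨q, hq, hqv⟩ := Group.mem_conjugatesOfSet_iff.1 hv
    obtain ⟨g, rfl⟩ := isConj_iff.1 hqv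
    obtain ⟨l, hl, hlg⟩ := hLtr b (g • b)
    have hn : l⁻¹ * g ∈ N := (base_smul_eq_iff_normalizer _).1 (by rw [mul_smul, ← hlg, inv_smul_smul])
    have h1 : l⁻¹ * g * q * (l⁻¹ * g)⁻¹ ∈ Q := (Subgroup.mem_normalizer_iff.1 hn q).1 hq
    rw [SetLike.mem_coe, show g * q * g⁻¹ = l * (l⁻¹ * g * q * (l⁻¹ * g)⁻¹) * l⁻¹ by group]
    exact mul_mem (mul_mem (Subgroup.mem_sup_left hl) (Subgroup.mem_sup_right h1))
      (inv_mem (Subgroup.mem_sup_left hl))
  obtain ⟨hu2, x, y, hxy, hx, hy⟩ := id hu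
  by_cases hfour : ∀ s ∈ Z, ∀ t ∈ Z, Commute s t → s = t
  · -- every member is isolated
    let O : Subgroup G := Cfsg.pPrimeCore 2 G
    have hO : Odd (Nat.card O) := Nat.coprime_two_right.1 PCore.pPrimeCore_coprime
    have hcore : ∀ t ∈ Z, ∀ g : G, g * t * g⁻¹ * t⁻¹ ∈ O := fun t ht g =>
      zstar G t ⟨h.invol t ht, fun k hk => (hfour t ht _ (h.conj_mem k t ht) hk).symm⟩ g
    have hLO : L ≤ O ⊔ Q := by
      rw [hLdef, Subgroup.closure_le]
      intro t ht
      obtain ⟨-, g, hg⟩ := id ht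
      have h1 := hcore t ht g
      rw [SetLike.mem_coe, show t = (g * t * g⁻¹ * t⁻¹)⁻¹ * (g * t * g⁻¹) by group]
      exact mul_mem (Subgroup.mem_sup_left (inv_mem h1)) (Subgroup.mem_sup_right hg)
    obtain ⟨g, hg⟩ := exists_conj_mem_of_odd hO hu2
      ((hKle.trans (sup_le hLO le_sup_right)) huK)
    exact hnotQ g hg
  · push Not at hfour
    obtain ⟨s, hs, t, ht, hst, hne⟩ := hfour
    -- the kernel in `L`
    let N₀ : Subgroup G := L ⊓ (toPermHom G Ω).ker
    have hN₀n : N₀.Normal := inferInstance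
    have hmemN₀ : ∀ {g : G}, g ∈ N₀ ↔ g ∈ L ∧ ∀ z : Ω, g • z = z := by
      intro g
      rw [Subgroup.mem_inf, MonoidHom.mem_ker]
      exact and_congr_right fun _ =>
        ⟨fun e z => by simpa using Equiv.ext_iff.1 e z, fun e => Equiv.ext fun z => e z⟩
    have hN₀odd : Odd (Nat.card N₀) := by
      rw [← Nat.not_even_iff_odd]
      intro hev
      obtain ⟨v, hv⟩ := exists_prime_orderOf_dvd_card' (G := N₀) 2 hev.two_dvd
      have h1 := h.odd_order_trivial hloc (hmemN₀.1 v.2).1 (hmemN₀.1 v.2).2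
      rw [Subgroup.orderOf_coe, hv] at h1
      exact absurd h1 (by decide)
    let π := QuotientGroup.mk' N₀
    have hker : N₀ ≤ (toPermHom G Ω).ker := inf_le_right
    let act : MulAction (G ⧸ N₀) Ω :=
      MulAction.compHom Ω (QuotientGroup.lift N₀ (toPermHom G Ω) hker)
    have hπ : ∀ (g : G) (z : Ω), π g • z = g • z := fun _ _ => rfl
    have hπ2 : ∀ {g : G}, orderOf g = 2 → orderOf (π g) = 2 := by
      intro g hg
      refine orderOf_eq_two_iff_mul.2 ⟨fun e => ?_, by rw [← map_mul, mul_self_eq_one hg, map_one]⟩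
      have h1 := Subgroup.orderOf_dvd_natCard N₀ ((QuotientGroup.eq_one_iff g).1 e)
      rw [hg] at h1
      exact hN₀odd.not_two_dvd_nat h1
    -- involutions of the image lift to involutions
    have hlift : ∀ l ∈ L, orderOf (π l) = 2 → ∃ w ∈ L, orderOf w = 2 ∧ π w = π l := by
      intro l hl hl2
      obtain ⟨i, j, hj, hij⟩ : ∃ i j : ℕ, Odd j ∧ orderOf l = 2 ^ i * j :=
        Nat.exists_eq_two_pow_mul_odd (orderOf_pos l).ne'
      have hne1 : π (l ^ j) = π l := by
        obtain ⟨m, rfl⟩ := hj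
        rw [map_pow, pow_succ, pow_mul, ← hl2, pow_orderOf_eq_one, one_pow, one_mul]
      refine ⟨l ^ j, pow_mem hl _, orderOf_eq_two_iff_mul.2 ⟨fun e => ?_, ?_⟩, hne1⟩
      · rw [e, map_one] at hne1
        rw [← hne1, orderOf_one] at hl2
        omega
      · have h1 : l ^ j * l ^ j ∈ N₀ := by
          rw [← QuotientGroup.eq_one_iff]
          show π (l ^ j * l ^ j) = 1
          rw [map_mul, hne1]
          exact mul_self_eq_one hl2
        have h2 : orderOf (l ^ j * l ^ j) ∣ 2 ^ i := orderOf_dvd_of_pow_eq_one (by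
          rw [← pow_add, ← pow_mul, ← two_mul, mul_assoc, mul_comm j, ← hij, mul_comm, pow_mul,
            pow_orderOf_eq_one, one_pow])
        exact orderOf_eq_one_iff.1 (Nat.eq_one_of_dvd_coprimes
          (Nat.Coprime.pow_left i (Nat.coprime_two_left.2 hN₀odd)) h2
          (Subgroup.orderOf_dvd_natCard N₀ h1))
    set LN : Subgroup (G ⧸ N₀) := L.map π with hLN
    have hLNn : LN.Normal := hLn.map π (QuotientGroup.mk'_surjective N₀)
    have hsm : ∀ (v : LN) (z : Ω), v • z = (v : G ⧸ N₀) • z := fun _ _ => rfl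
    have hone : OneFix LN Ω := by
      refine ⟨fun p q => ?_, h.nontriv, ?_, ?_, ?_⟩
      · obtain ⟨l, hl, hlq⟩ := hLtr p q
        exact ⟨⟨π l, l, hl, rfl⟩, hlq⟩
      · refine ⟨⟨π s, s, Subgroup.subset_closure hs, rfl⟩, ?_⟩
        rw [← Subgroup.orderOf_coe]; exact hπ2 (h.invol s hs)
      · rintro ⟨v, l, hl, rfl⟩ hv
        rw [← Subgroup.orderOf_coe] at hv
        obtain ⟨w, -, hw2, hwl⟩ := hlift l hl hv
        obtain ⟨d, hd⟩ := h.exists_fixed_point (isPGroup_zpowers hw2) b
        refine ⟨d, ?_⟩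
        show π l • d = d
        rw [← hwl, hπ]; exact hd w (Subgroup.mem_zpowers w)
      · rintro ⟨v, l, hl, rfl⟩ hv p q hp hq
        rw [← Subgroup.orderOf_coe] at hv
        obtain ⟨w, hwL, hw2, hwl⟩ := hlift l hl hv
        by_contra hpq
        refine h.noBad_closure main hloc (w := w) ⟨hw2, p, q, hpq, ?_, ?_⟩ hwL
        · rw [← hπ, hwl]; exact hp
        · rw [← hπ, hwl]; exact hq
    have hfaith : ∀ g : LN, (∀ z : Ω, g • z = z) → g = 1 := by
      rintro ⟨v, l, hl, rfl⟩ hv
      exact Subtype.ext ((QuotientGroup.eq_one_iff l).2 (hmemN₀.2 ⟨hl, fun z => hv z⟩))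
    have hhas : HasFour LN := by
      refine ⟨⟨π s, s, Subgroup.subset_closure hs, rfl⟩, ⟨π t, t, Subgroup.subset_closure ht, rfl⟩,
        ?_, ?_, fun e => ?_, Subtype.ext (hst.map π).eq⟩
      · rw [← Subgroup.orderOf_coe]; exact hπ2 (h.invol s hs)
      · rw [← Subgroup.orderOf_coe]; exact hπ2 (h.invol t ht)
      · have e' : π s = π t := congrArg Subtype.val e
        have h1 : π (s * t) = 1 := by
          rw [map_mul, e', ← map_mul, mul_self_eq_one (h.invol t ht), map_one]
        have h2 := hπ2 (mul_mem_tightMem hodd hs ht hst hne).1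
        rw [h1, orderOf_one] at h2
        omega
    -- move the first fixed point to the base point
    obtain ⟨a, ha⟩ := h.trans x b
    set v := a * u * a⁻¹ with hv
    have hv2 : orderOf v = 2 := (orderOf_conj_eq a u).trans hu2
    have hfixv : ∀ {z : Ω}, u • z = z → v • a • z = a • z := fun {z} hz => by
      rw [hv, smul_smul, inv_mul_cancel_right, mul_smul, hz]
    have hvb : v • b = b := ha ▸ hfixv hx
    set y' := a • y with hy'
    have hy'b : y' ≠ b := fun e => hxy (MulAction.injective a (ha.trans e.symm))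
    have hvy : v • y' = y' := hfixv hy
    obtain ⟨r, hr, hrc⟩ := h.exists_swap_centralized (isPGroup_zpowers hv2) hy'b.symm
      (fun g hg => Or.inl ⟨Subgroup.zpowers_le.2 (show v ∈ stabilizer G b from hvb) hg,
        Subgroup.zpowers_le.2 (show v ∈ stabilizer G y' from hvy) hg⟩)
    obtain ⟨l, hl, q, hq, hlq⟩ := Subgroup.mem_sup_of_normal_left.1 (hKle
      (Subgroup.normalClosure_normal.conj_mem u huK a))
    have hmem : π v ∈ Q.map π := by
      refine mem_of_cong hone hfaith hhas inferInstance hy'b ?_ ?_ (hvb) (hvy) (hπ2 hv2)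
        (hπ2 (h.invol r hr.1)) ⟨r, Subgroup.subset_closure hr.1, rfl⟩ hr.2
        ((hrc v (Subgroup.mem_zpowers v)).map π) ⟨π q, ⟨q, hq, rfl⟩, l, hl, ?_⟩
      · rintro _ ⟨q', hq', rfl⟩
        exact (base_smul_eq_iff_normalizer q').2 (Subgroup.le_normalizer hq')
      · intro g hg
        obtain ⟨g, rfl⟩ := QuotientGroup.mk'_surjective N₀ g
        have hgN : g ∈ N := (base_smul_eq_iff_normalizer g).1 hg
        rw [Subgroup.mem_normalizer_iff]
        intro w
        constructor
        · rintro ⟨q', hq', rfl⟩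
          exact ⟨g * q' * g⁻¹, (Subgroup.mem_normalizer_iff.1 hgN q').1 hq', by simp [π]⟩
        · rintro ⟨q', hq', hw⟩
          refine ⟨g⁻¹ * q' * g, ?_, ?_⟩
          · have := (Subgroup.mem_normalizer_iff.1 (inv_mem hgN) q').1 hq'
            rwa [inv_inv] at this
          · rw [map_mul, map_mul, map_inv, hw]
            simp [π, mul_assoc]
      · rw [← map_inv, ← map_mul, hv, ← hlq, mul_inv_cancel_right]
    obtain ⟨q', hq', hqv⟩ := hmem
    have hvN : v ∈ N₀ ⊔ Q := by
      have h1 : v * q'⁻¹ ∈ N₀ := by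
        rw [← QuotientGroup.eq_one_iff]
        show π (v * q'⁻¹) = 1
        rw [map_mul, map_inv, hqv, mul_inv_cancel]
      have := Subgroup.mul_mem_sup h1 hq'
      rwa [inv_mul_cancel_right] at this
    obtain ⟨g, hg⟩ := exists_conj_mem_of_odd hN₀odd hv2 hvN
    refine hnotQ (g * a) ?_
    convert hg using 1
    rw [hv]; group

include hodd hQe in
/-- The normaliser of `Q` meets its normal closure in a strongly embedded subgroup. -/
theorem isStronglyEmbedded_normalizer_of_tight (main : CriterionMain.{u}) (hnn : ¬ Q.Normal) :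
    Cfsg.IsStronglyEmbedded ((N).subgroupOf (Subgroup.normalClosure (Q : Set G))) := by
  classical
  have : Fact (Nat.Prime 2) := ⟨Nat.prime_two⟩
  set K := Subgroup.normalClosure (Q : Set G) with hK
  have h := setting_tight hodd hQe hnn
  set b : G ⧸ N := ((1 : G) : G ⧸ N)
  obtain ⟨z, hz2⟩ := exists_prime_orderOf_dvd_card' (G := Q) 2 hQe.two_dvd
  rw [← Subgroup.orderOf_coe] at hz2
  have hzK : (z : G) ∈ K := Subgroup.subset_normalClosure z.2
  refine ⟨fun htop => ?_, ?_, fun g hg => ?_⟩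
  · have hfix : ∀ x : G ⧸ N, (z : G) • x = x := by
      intro x
      induction x using QuotientGroup.induction_on with | H a => ?_
      have hmem : a⁻¹ * z * a ∈ K := by
        simpa using (inferInstance : K.Normal).conj_mem _ hzK a⁻¹
      have hN : a⁻¹ * z * a ∈ N := by
        have : (⟨_, hmem⟩ : K) ∈ (N).subgroupOf K := htop ▸ Subgroup.mem_top _
        exact this
      show ((z * a : G) : G ⧸ N) = (a : G ⧸ N)
      refine (QuotientGroup.eq.2 ?_).symm
      rwa [← mul_assoc]
    obtain ⟨y, hy⟩ := h.nontriv b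
    exact hy (eq_base_of_fix hodd z.2 hz2 (hfix y))
  · refine even_iff_two_dvd.2 ?_
    have h1 := Subgroup.orderOf_dvd_natCard ((N).subgroupOf K) (x := ⟨z, hzK⟩)
      (Subgroup.le_normalizer z.2)
    rwa [← Subgroup.orderOf_coe, hz2] at h1
  · rw [← Nat.not_even_iff_odd]
    intro hev
    obtain ⟨⟨x, hxN, y, hy, hyx⟩, hx2⟩ := exists_prime_orderOf_dvd_card' 2 hev.two_dvd
    rw [← Subgroup.orderOf_coe, ← Subgroup.orderOf_coe] at hx2
    refine noBad_normalClosure hodd hQe main hnn x.2 ⟨hx2, b, (g : G) • b,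
      fun e => hg ((base_smul_eq_iff_normalizer (g : G)).1 e.symm),
      (base_smul_eq_iff_normalizer (x : G)).2 hxN, ?_⟩
    rw [← hyx, MulEquiv.coe_toMonoidHom, MulAut.conj_apply, Subgroup.coe_mul, Subgroup.coe_mul,
      Subgroup.coe_inv, mul_smul, mul_smul, inv_smul_smul,
      (base_smul_eq_iff_normalizer (y : G)).2 hy]

include hodd hQe in
/-- A non-abelian simple normal subgroup meets the normaliser in a strongly embedded subgroup,
provided it lies in the normal closure. -/
theorem exists_stronglyEmbedded_of_tight (main : CriterionMain.{u})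
    (hnn : ¬ Q.Normal) {F : Subgroup G} [F.Normal] (hFe : Even (Nat.card F))
    (hFK : F ≤ Subgroup.normalClosure (Q : Set G)) :
    Cfsg.IsStronglyEmbedded ((N).subgroupOf F) := by
  classical
  have : Fact (Nat.Prime 2) := ⟨Nat.prime_two⟩
  have h := setting_tight hodd hQe hnn
  set b : G ⧸ N := ((1 : G) : G ⧸ N)
  obtain ⟨w, hw2⟩ := exists_prime_orderOf_dvd_card' (G := F) 2 hFe.two_dvd
  rw [← Subgroup.orderOf_coe] at hw2
  refine ⟨fun htop => ?_, ?_, fun g hg => ?_⟩
  · have hfix : ∀ x : G ⧸ N, (w : G) • x = x := by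
      intro x
      induction x using QuotientGroup.induction_on with | H a => ?_
      have hmem : a⁻¹ * w * a ∈ F := by
        simpa using (inferInstance : F.Normal).conj_mem _ w.2 a⁻¹
      have hN : a⁻¹ * w * a ∈ N := by
        have : (⟨_, hmem⟩ : F) ∈ (N).subgroupOf F := htop ▸ Subgroup.mem_top _
        exact this
      show ((w * a : G) : G ⧸ N) = (a : G ⧸ N)
      refine (QuotientGroup.eq.2 ?_).symm
      rwa [← mul_assoc]
    obtain ⟨y, hy⟩ := h.nontriv b
    exact noBad_normalClosure hodd hQe main hnn (hFK w.2)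
      ⟨hw2, b, y, hy.symm, hfix b, hfix y⟩
  · obtain ⟨d, hd⟩ := h.exists_fixed_point (isPGroup_zpowers hw2) b
    obtain ⟨a, rfl⟩ := h.trans b d
    refine even_iff_two_dvd.2 ?_
    have hmem : a⁻¹ * w * a⁻¹⁻¹ ∈ F := (inferInstance : F.Normal).conj_mem _ w.2 a⁻¹
    have h1 := Subgroup.orderOf_dvd_natCard ((N).subgroupOf F) (x := ⟨_, hmem⟩) (by
      show a⁻¹ * w * a⁻¹⁻¹ ∈ N
      rw [← base_smul_eq_iff_normalizer, inv_inv, mul_smul, mul_smul,
        hd _ (Subgroup.mem_zpowers _), inv_smul_smul])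
    rwa [← Subgroup.orderOf_coe, orderOf_conj_eq, hw2] at h1
  · rw [← Nat.not_even_iff_odd]
    intro hev
    obtain ⟨⟨x, hxN, y, hy, hyx⟩, hx2⟩ := exists_prime_orderOf_dvd_card' 2 hev.two_dvd
    rw [← Subgroup.orderOf_coe, ← Subgroup.orderOf_coe] at hx2
    refine noBad_normalClosure hodd hQe main hnn (hFK x.2) ⟨hx2, b, (g : G) • b,
      fun e => hg ((base_smul_eq_iff_normalizer (g : G)).1 e.symm),
      (base_smul_eq_iff_normalizer (x : G)).2 hxN, ?_⟩
    rw [← hyx, MulEquiv.coe_toMonoidHom, MulAut.conj_apply, Subgroup.coe_mul, Subgroup.coe_mul,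
      Subgroup.coe_inv, mul_smul, mul_smul, inv_smul_smul,
      (base_smul_eq_iff_normalizer (y : G)).2 hy]

end

variable [Finite G] {Q : Subgroup G}

/-- If the generalised Fitting subgroup is non-abelian simple, it has a strongly embedded
subgroup. -/
theorem fstar_stronglyEmbedded_of_tight (main : CriterionMain.{u})
    (hodd : ∀ g : G, g ∉ Subgroup.normalizer (Q : Set G) →
      Odd (Nat.card ↥(Q.map (MulAut.conj g).toMonoidHom ⊓ Subgroup.normalizer (Q : Set G))))
    (hQe : Even (Nat.card Q)) (hnn : ¬ Q.Normal)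
    (hF : IsSimpleGroup ↥(Cfsg.generalizedFittingSubgroup G))
    (hF' : ¬ IsMulCommutative ↥(Cfsg.generalizedFittingSubgroup G)) :
    Cfsg.IsStronglyEmbedded ((Subgroup.normalizer (Q : Set G)).subgroupOf
      (Cfsg.generalizedFittingSubgroup G)) := by
  set F := Cfsg.generalizedFittingSubgroup G with hFdef
  have hFn : F.Normal := CfsgLib.Components.generalizedFitting_normal
  have hFe : Even (Nat.card F) := by
    rw [← Nat.not_odd_iff_even]
    intro ho
    obtain ⟨p, hp⟩ : ∃ p : F, p ≠ 1 := exists_ne 1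
    have := CfsgLib.PF.oddSolvable F ho
    exact hF' ⟨⟨fun a b => (IsSimpleGroup.comm_iff_isSolvable.2 this) a b⟩⟩
  refine exists_stronglyEmbedded_of_tight hodd hQe main hnn hFe ?_
  set K := Subgroup.normalClosure (Q : Set G)
  have hKn : K.Normal := Subgroup.normalClosure_normal
  rcases Subgroup.Normal.eq_bot_or_eq_top
    (inferInstance : (K.subgroupOf F).Normal) with h | h
  · have hKF : K ⊓ F = ⊥ := by
      rw [inf_comm]; exact disjoint_iff.1 (Subgroup.subgroupOf_eq_bot.1 h).symm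
    have hKC : K ≤ Subgroup.centralizer (F : Set G) := fun k hk =>
      Subgroup.mem_centralizer_iff.2 fun f hf =>
        (Subgroup.commute_of_normal_of_disjoint K F hKn hFn (disjoint_iff.2 hKF) k f hk hf).eq.symm
    have hK : K = ⊥ := by
      rw [← hKF, inf_eq_left.2 (hKC.trans CfsgLib.Components.centralizer_generalizedFitting_le)]
    have hQ : Q = ⊥ := eq_bot_iff.2 fun q hq => hK ▸ Subgroup.subset_normalClosure hq
    rw [hQ, Subgroup.card_bot] at hQe
    exact absurd hQe (by decide)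
  · exact Subgroup.subgroupOf_eq_top.1 h

end CfsgLib.StrongCrit
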