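import Cfsg.Agent.Lib.StrongCrit.LemmaN
import Cfsg.Agent.Lib.StrongCrit.Commute

/-!
The elementary group generated by the members at `c` centralising a bad involution `u`, the subgroup
of the stabiliser of `c` preserving its coset at `u`, and a fixed point lemma for odd groups
normalising an elementary abelian 2-group with a regular orbit.
-/

set_option autoImplicit false

namespace CfsgLib.StrongCrit

open CfsgLib.Involutions MulAction

universe u v

variable {G : Type u} [Group G] {Ω : Type v} [MulAction G Ω] {Z : Set G}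

/-- An odd group normalising an elementary abelian 2-group, and permuting an orbit on which the
latter is regular, fixes a point of this orbit. -/
theorem exists_fixed_of_odd [Finite G] {W K : Subgroup G} (hW : Odd (Nat.card W))
    (hK : ∀ b ∈ K, b * b = 1) (hnorm : ∀ g ∈ W, ∀ b ∈ K, g * b * g⁻¹ ∈ K) {p : Ω}
    (horb : ∀ g ∈ W, ∃ b ∈ K, g • p = b • p) (hfree : ∀ b ∈ K, b • p = p → b = 1) :
    ∃ b ∈ K, ∀ g ∈ W, g • b • p = b • p := by
  classical
  have := Fintype.ofFinite W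
  have hcomm : ∀ a b : K, a * b = b * a := fun a b => by
    apply Subtype.ext
    show (a : G) * b = b * a
    have h1 := hK _ (mul_mem a.2 b.2)
    have h2 : ∀ {x : G}, x * x = 1 → x⁻¹ = x := fun h => inv_eq_of_mul_eq_one_right h
    rw [← h2 h1, mul_inv_rev, h2 (hK _ a.2), h2 (hK _ b.2)]
  letI : CommGroup K := { (inferInstance : Group K) with mul_comm := hcomm }
  choose β hβK hβ using horb
  let β' : W → K := fun g => ⟨β g g.2, hβK g g.2⟩
  have hsq : ∀ a : K, a * a = 1 := fun a => Subtype.ext (hK _ a.2)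
  refine ⟨_, (∏ h : W, β' h).2, fun g hg => ?_⟩
  let φ : K →* K :=
    { toFun := fun b => ⟨g * b * g⁻¹, hnorm g hg b b.2⟩
      map_one' := Subtype.ext (by simp)
      map_mul' := fun a b => Subtype.ext (by simp [mul_assoc]) }
  have hcoc : ∀ h : W, β' (⟨g, hg⟩ * h) = φ (β' h) * β' ⟨g, hg⟩ := fun h => by
    have h1 : ((φ (β' h) * β' ⟨g, hg⟩ : K) : G) • p = (g * (h : G)) • p := by
      show (g * β h h.2 * g⁻¹ * β g hg) • p = _
      rw [mul_smul, ← hβ g hg, mul_smul (g * β h h.2), inv_smul_smul, mul_smul, ← hβ h h.2,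
        ← mul_smul]
    have h2 : ((β' (⟨g, hg⟩ * h) : K) : G) • p = (g * (h : G)) • p := (hβ _ (⟨g, hg⟩ * h : W).2).symm
    apply eq_of_inv_mul_eq_one
    exact Subtype.ext (hfree _ (mul_mem (inv_mem (β' _).2) (φ (β' h) * β' ⟨g, hg⟩).2) (by
      change (((β' (⟨g, hg⟩ * h) : K) : G)⁻¹ * ((φ (β' h) * β' ⟨g, hg⟩ : K) : G)) • p = p
      rw [mul_smul, h1, inv_smul_eq_iff, h2]))
  have hpow : β' ⟨g, hg⟩ ^ Fintype.card W = β' ⟨g, hg⟩ := by
    obtain ⟨k, hk⟩ := hW
    rw [← Nat.card_eq_fintype_card, hk, pow_succ, pow_mul, pow_two, hsq, one_pow, one_mul]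
  have hb : φ (∏ h : W, β' h) * β' ⟨g, hg⟩ = ∏ h : W, β' h := by
    conv_rhs => rw [← Equiv.prod_comp (Equiv.mulLeft (⟨g, hg⟩ : W))]
    simp only [Equiv.coe_mulLeft, hcoc, Finset.prod_mul_distrib, map_prod]
    rw [Finset.prod_const, Finset.card_univ, hpow]
  have h3 : ((∏ h : W, β' h : K) : G) • p
      = (g * ((∏ h : W, β' h : K) : G) * g⁻¹ * β g hg) • p := congrArg (fun b : K => (b : G) • p) hb.symm
  refine Eq.trans ?_ h3.symm
  rw [mul_smul _ (β g hg), ← hβ g hg, smul_smul, smul_smul, inv_mul_cancel_right]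

/-- The group generated by the members at `c` centralising `u`. -/
def cenGroup (Z : Set G) (u : G) (c : Ω) : Subgroup G := Subgroup.closure (cenSet Z u c)

/-- The elements fixing `c` and permuting the coset `u * cenGroup Z u c` under conjugation. -/
def cosetStab (Z : Set G) (u : G) (c : Ω) : Subgroup G where
  carrier := {g | g • c = c ∧
    (∀ b ∈ cenGroup Z u c, ∃ b' ∈ cenGroup Z u c, g * (u * b) * g⁻¹ = u * b') ∧
    ∀ b ∈ cenGroup Z u c, ∃ b' ∈ cenGroup Z u c, g⁻¹ * (u * b) * g = u * b'}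
  one_mem' := ⟨one_smul G c, fun b hb => ⟨b, hb, by simp⟩, fun b hb => ⟨b, hb, by simp⟩⟩
  mul_mem' := by
    rintro g h ⟨hg, hg1, hg2⟩ ⟨hh, hh1, hh2⟩
    refine ⟨by rw [mul_smul, hh, hg], fun b hb => ?_, fun b hb => ?_⟩
    · obtain ⟨b1, hb1, e1⟩ := hh1 b hb
      obtain ⟨b2, hb2, e2⟩ := hg1 b1 hb1
      exact ⟨b2, hb2, by rw [← e2, ← e1]; group⟩
    · obtain ⟨b1, hb1, e1⟩ := hg2 b hb
      obtain ⟨b2, hb2, e2⟩ := hh2 b1 hb1
      exact ⟨b2, hb2, by rw [← e2, ← e1]; group⟩
  inv_mem' := by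
    rintro g ⟨hg, hg1, hg2⟩
    refine ⟨by rw [inv_smul_eq_iff, hg], fun b hb => ?_, fun b hb => ?_⟩
    · rw [inv_inv]; exact hg2 b hb
    · rw [inv_inv]; exact hg1 b hb

namespace Setting

variable (h : Setting Ω Z) (hfaith : ∀ g : G, (∀ x : Ω, g • x = x) → g = 1) (hsec : SecComm Ω Z)
  [Finite G] [Finite Ω] {u : G} {c : Ω} (hu : IsBad Ω u) (huc : u • c = c)
include h hfaith hsec hu huc

theorem mem_cenGroup {g : G} : g ∈ cenGroup Z u c ↔ g = 1 ∨ g ∈ cenSet Z u c := by
  refine ⟨fun hg => ?_, ?_⟩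
  · induction hg using Subgroup.closure_induction with
    | mem a ha => exact Or.inr ha
    | one => exact Or.inl rfl
    | mul a b _ _ ha hb =>
      rcases ha with rfl | ha
      · rwa [one_mul]
      rcases hb with rfl | hb
      · rw [mul_one]; exact Or.inr ha
      rcases eq_or_ne a b with rfl | hab
      · exact Or.inl (mul_self_eq_one (h.invol a ha.1.1))
      · exact Or.inr (h.mul_mem_cenSet hfaith hsec hu huc ha hb hab)
    | inv a _ ha =>
      rcases ha with rfl | ha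
      · exact Or.inl inv_one
      · rw [inv_eq_self_of_involution (h.invol a ha.1.1)]; exact Or.inr ha
  · rintro (rfl | hg)
    · exact one_mem _
    · exact Subgroup.subset_closure hg

theorem cenGroup_sq {b : G} (hb : b ∈ cenGroup Z u c) : b * b = 1 := by
  rcases (h.mem_cenGroup hfaith hsec hu huc).1 hb with rfl | hb
  · exact one_mul 1
  · exact mul_self_eq_one (h.invol b hb.1.1)

theorem cenGroup_inv {b : G} (hb : b ∈ cenGroup Z u c) : b⁻¹ = b :=
  inv_eq_of_mul_eq_one_right (h.cenGroup_sq hfaith hsec hu huc hb)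

theorem cenGroup_commute {a b : G} (ha : a ∈ cenGroup Z u c) (hb : b ∈ cenGroup Z u c) :
    Commute a b := by
  rcases (h.mem_cenGroup hfaith hsec hu huc).1 ha with rfl | ha
  · exact Commute.one_left b
  rcases (h.mem_cenGroup hfaith hsec hu huc).1 hb with rfl | hb
  · exact Commute.one_right a
  exact hsec.commute_cenSet hu huc ha hb

theorem cenGroup_commute_self {b : G} (hb : b ∈ cenGroup Z u c) : Commute u b := by
  rcases (h.mem_cenGroup hfaith hsec hu huc).1 hb with rfl | hb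
  · exact Commute.one_right u
  · exact hb.2

theorem cenGroup_fix {b : G} (hb : b ∈ cenGroup Z u c) : b • c = c := by
  rcases (h.mem_cenGroup hfaith hsec hu huc).1 hb with rfl | hb
  · exact one_smul G c
  · exact hb.1.2

theorem cenGroup_free {b : G} {x : Ω} (hb : b ∈ cenGroup Z u c) (hxc : x ≠ c) (hbx : b • x = x) :
    b = 1 := by
  rcases (h.mem_cenGroup hfaith hsec hu huc).1 hb with rfl | hb
  · rfl
  · exact absurd (h.unique b hb.1.1 x c hbx hb.1.2) hxc

theorem isBad_mul_cenGroup {b : G} (hb : b ∈ cenGroup Z u c) : IsBad Ω (u * b) := by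
  rcases (h.mem_cenGroup hfaith hsec hu huc).1 hb with rfl | hb
  · rwa [mul_one]
  · exact h.isBad_mul hfaith hu hb.1.1 hb.2

theorem mul_cenGroup_fix {b : G} (hb : b ∈ cenGroup Z u c) : (u * b) • c = c := by
  rw [mul_smul, h.cenGroup_fix hfaith hsec hu huc hb, huc]

theorem cenSet_mul_cenGroup {b : G} (hb : b ∈ cenGroup Z u c) :
    cenSet Z (u * b) c = cenSet Z u c := by
  rcases (h.mem_cenGroup hfaith hsec hu huc).1 hb with rfl | hb
  · rw [mul_one]
  · exact h.cenSet_mul hfaith hsec hu huc hb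

theorem cenGroup_mul {b : G} (hb : b ∈ cenGroup Z u c) :
    cenGroup Z (u * b) c = cenGroup Z u c := by
  rw [cenGroup, h.cenSet_mul_cenGroup hfaith hsec hu huc hb]; rfl

theorem card_cenGroup : Nat.card (cenGroup Z u c) = (cenSet Z u c).ncard + 1 := by
  have h1 : (cenGroup Z u c : Set G) = insert 1 (cenSet Z u c) := Set.ext fun g =>
    h.mem_cenGroup hfaith hsec hu huc
  rw [← Set.ncard_insert_of_notMem (fun e => ne_one_of_involution (h.invol _ e.1.1) rfl)
    (Set.toFinite _), ← h1]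
  exact (Nat.card_coe_set_eq _)

theorem mem_cosetStab {g t : G} (hgc : g • c = c) (ht : t ∈ cenGroup Z u c)
    (hg : g * u * g⁻¹ = u * t) : g ∈ cosetStab Z u c := by
  have hK := fun {x : G} => h.mem_cenGroup hfaith hsec hu huc (g := x)
  have hn1 : ∀ b ∈ cenGroup Z u c, g * b * g⁻¹ ∈ cenGroup Z u c := fun b hb => by
    rcases hK.1 hb with rfl | hb
    · simp
    · have h1 := h.conj_cenSet (g := g) hb
      rw [hgc, hg, h.cenSet_mul_cenGroup hfaith hsec hu huc ht] at h1
      exact hK.2 (Or.inr h1)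
  have hn2 : ∀ b ∈ cenGroup Z u c, g⁻¹ * b * g ∈ cenGroup Z u c := fun b hb => by
    rcases hK.1 hb with rfl | hb
    · simp
    · rw [← h.cenSet_mul_cenGroup hfaith hsec hu huc ht, ← hg] at hb
      have h1 := h.conj_cenSet (g := g⁻¹) hb
      rw [inv_smul_eq_iff.2 hgc.symm, show g⁻¹ * (g * u * g⁻¹) * g⁻¹⁻¹ = u by group, inv_inv] at h1
      exact hK.2 (Or.inr h1)
  refine ⟨hgc, fun b hb => ⟨t * (g * b * g⁻¹), mul_mem ht (hn1 b hb), ?_⟩,
    fun b hb => ⟨(g⁻¹ * t * g)⁻¹ * (g⁻¹ * b * g), mul_mem (inv_mem (hn2 t ht)) (hn2 b hb), ?_⟩⟩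
  · rw [show g * (u * b) * g⁻¹ = g * u * g⁻¹ * (g * b * g⁻¹) by group, hg, mul_assoc]
  · have h2 : g⁻¹ * u * g = u * (g⁻¹ * t * g)⁻¹ := by
      rw [eq_mul_inv_iff_mul_eq, show g⁻¹ * u * g * (g⁻¹ * t * g) = g⁻¹ * (u * t) * g by group, ← hg]
      group
    rw [show g⁻¹ * (u * b) * g = g⁻¹ * u * g * (g⁻¹ * b * g) by group, h2, mul_assoc]

theorem cosetStab_norm {g b : G} (hg : g ∈ cosetStab Z u c) (hb : b ∈ cenGroup Z u c) :
    g * b * g⁻¹ ∈ cenGroup Z u c := by
  obtain ⟨b1, hb1, e1⟩ := hg.2.1 1 (one_mem _)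
  obtain ⟨b2, hb2, e2⟩ := hg.2.1 b hb
  rw [show g * b * g⁻¹ = (g * (u * 1) * g⁻¹)⁻¹ * (g * (u * b) * g⁻¹) by group, e1, e2,
    show (u * b1)⁻¹ * (u * b2) = b1⁻¹ * b2 by group]
  exact mul_mem (inv_mem hb1) hb2

/-- With as many other fixed points as elements, the group is transitive on them. -/
theorem exists_cenGroup_smul (hcard : (fixedBy Ω u).ncard = (cenSet Z u c).ncard + 2) {p q : Ω}
    (hp : u • p = p) (hpc : p ≠ c) (hq : u • q = q) (hqc : q ≠ c) :
    ∃ b ∈ cenGroup Z u c, b • p = q := by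
  have hsub : (fun b : G => b • p) '' (cenGroup Z u c : Set G) ⊆ fixedBy Ω u \ {c} := by
    rintro _ ⟨b, hb, rfl⟩
    refine ⟨?_, fun e => hpc (MulAction.injective b
      ((e : b • p = c).trans (h.cenGroup_fix hfaith hsec hu huc hb).symm))⟩
    show u • b • p = b • p
    rw [smul_smul, (h.cenGroup_commute_self hfaith hsec hu huc hb).eq, mul_smul, hp]
  have hinj : Set.InjOn (fun b : G => b • p) (cenGroup Z u c : Set G) := fun a ha b hb e =>
    inv_mul_eq_one.1 (h.cenGroup_free hfaith hsec hu huc (mul_mem (inv_mem ha) hb) hpc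
      (by simp only at e; rw [mul_smul, ← e, inv_smul_smul]))
  have hK : (cenGroup Z u c : Set G).ncard = (cenSet Z u c).ncard + 1 :=
    (Nat.card_coe_set_eq _).symm.trans (h.card_cenGroup hfaith hsec hu huc)
  have heq := Set.eq_of_subset_of_ncard_le hsub (by
    rw [hinj.ncard_image, Set.ncard_sdiff ((Set.singleton_subset_iff.2 huc) : ({c} : Set Ω) ⊆ fixedBy Ω u),
      Set.ncard_singleton, hcard, hK]
    omega) (Set.toFinite _)
  obtain ⟨b, hb, hbp⟩ := heq.ge ⟨hq, hqc⟩
  exact ⟨b, hb, hbp⟩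

end Setting

end CfsgLib.StrongCrit
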