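import Cfsg.Agent.Lib.StrongCrit.Transfer

/-!
The transfer of an involution into a subgroup of odd index only depends on its extremal conjugates,
those whose centraliser in the subgroup has odd index in the whole centraliser; the resulting
transfer lemma for the setting of Aschbacher's criterion.
-/

set_option autoImplicit false

namespace CfsgLib.StrongCrit

open CfsgLib.Involutions MulAction

universe u v w

variable {G : Type u} [Group G] {Ω : Type v} [MulAction G Ω] {Z : Set G}

/-- An invariant function with values squaring to one which is one on odd orbits has product one. -/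
theorem prod_eq_one_of_even_orbits {C : Type*} [Group C] {X : Type*} [MulAction C X] [Fintype X]
    {A : Type w} [CommMonoid A] (f : X → A) (hinv : ∀ (c : C) (x : X), f (c • x) = f x)
    (h2 : ∀ x, f x * f x = 1) (hodd : ∀ x, Odd (Nat.card (orbit C x)) → f x = 1) :
    ∏ x, f x = 1 := by
  classical
  have := Fintype.ofFinite (orbitRel.Quotient C X)
  have (q : orbitRel.Quotient C X) : Fintype (orbit C q.out) := Fintype.ofFinite _
  rw [← (selfEquivSigmaOrbits C X).symm.prod_comp, Fintype.prod_sigma]
  refine Finset.prod_eq_one fun q _ => ?_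
  have hc : ∀ y : orbit C q.out, f ((selfEquivSigmaOrbits C X).symm ⟨q, y⟩) = f q.out := by
    rintro ⟨y, c, rfl⟩
    exact hinv c _
  simp only [hc, Finset.prod_const, Finset.card_univ]
  rcases Nat.even_or_odd (Fintype.card (orbit C q.out)) with ⟨k, hk⟩ | ho
  · rw [hk, pow_add, ← mul_pow, h2, one_pow]
  · rw [hodd _ (by rwa [Nat.card_eq_fintype_card]), one_pow]

/-- The transfer of an involution is the product over the cosets it fixes. -/
theorem transfer_eq_prod_fixed [Finite G] {H : Subgroup G} {A : Type w} [CommGroup A] (φ : H →* A)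
    {g : G} (hg : g * g = 1) [Fintype (G ⧸ H)] (F : G ⧸ H → A)
    (hF1 : ∀ (c : G) (hc : c⁻¹ * g * c ∈ H), F (c : G ⧸ H) = φ ⟨c⁻¹ * g * c, hc⟩)
    (hF2 : ∀ q : G ⧸ H, g • q ≠ q → F q = 1) :
    MonoidHom.transfer φ g = ∏ q, F q := by
  classical
  have := Fintype.ofFinite (Quotient (orbitRel (Subgroup.zpowers g) (G ⧸ H)))
  rw [MonoidHom.transfer_eq_prod_quotient_orbitRel_zpowers_quot,
    ← (selfEquivSigmaOrbits (Subgroup.zpowers g) (G ⧸ H)).symm.prod_comp]
  rw [Fintype.prod_sigma]
  refine Finset.prod_congr rfl fun q _ => ?_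
  rcases eq_or_ne (g • q.out) q.out with hfix | hmove
  · have h1 : Function.minimalPeriod (g • ·) q.out = 1 :=
      Function.minimalPeriod_eq_one_iff_isFixedPt.2 hfix
    have hall : ∀ y : orbit (Subgroup.zpowers g) q.out, (y : G ⧸ H) = q.out := by
      rintro ⟨y, ⟨z, hz⟩, rfl⟩
      obtain ⟨n, rfl⟩ := hz
      exact mem_stabilizer_iff.1 (zpow_mem (mem_stabilizer_iff.2 hfix) n)
    have hc : q.out.out⁻¹ * g * q.out.out ∈ H := by
      have h3 := QuotientGroup.out_conj_pow_minimalPeriod_mem H g q.out
      rwa [h1, pow_one] at h3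
    refine Eq.trans ?_ (Fintype.prod_eq_single ⟨q.out, mem_orbit_self _⟩
      fun y hy => absurd (Subtype.ext (hall y)) hy).symm
    refine Eq.trans ?_ (Eq.trans (hF1 _ hc).symm (congrArg F (QuotientGroup.out_eq' _)))
    simp only [h1, pow_one]
  · have hper : Function.IsPeriodicPt (g • · : G ⧸ H → G ⧸ H) 2 q.out := by
      show g • g • q.out = q.out
      rw [smul_smul, hg, one_smul]
    have h2 : Function.minimalPeriod (g • ·) q.out = 2 :=
      ((Nat.dvd_prime Nat.prime_two).1 hper.minimalPeriod_dvd).resolve_left fun h1 =>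
        hmove (Function.minimalPeriod_eq_one_iff_isFixedPt.1 h1)
    rw [Finset.prod_eq_one fun y _ => hF2 _ ?_]
    · simp only [h2, pow_two, hg]
      convert map_one φ
      simp
    · obtain ⟨y, ⟨z, hz⟩, rfl⟩ := y
      obtain ⟨n, rfl⟩ := hz
      intro he
      apply hmove
      refine MulAction.injective (g ^ n) ?_
      show g ^ n • g • q.out = g ^ n • q.out
      rw [smul_smul, ← zpow_add_one, add_comm, zpow_one_add, mul_smul]
      exact he

/-- The transfer of an involution whose extremal conjugates in an odd-index subgroup map to `i`. -/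
theorem transfer_involution_extremal [Finite G] {H : Subgroup G} {A : Type w} [CommGroup A]
    (φ : H →* A) (hH : Odd H.index) {g : G} (hg : g * g = 1) {i : A} (hi2 : i * i = 1)
    (hi : ∀ (c : G) (hc : c⁻¹ * g * c ∈ H),
      Odd (H.subgroupOf (Subgroup.centralizer {c⁻¹ * g * c})).index → φ ⟨c⁻¹ * g * c, hc⟩ = i) :
    MonoidHom.transfer φ g = i := by
  classical
  have : Fintype (G ⧸ H) := Fintype.ofFinite _
  have hfix : ∀ q : G ⧸ H, g • q = q → q.out⁻¹ * g * q.out ∈ H := fun q hq => by
    rw [mul_assoc, ← QuotientGroup.eq, QuotientGroup.out_eq']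
    conv_lhs => rw [← hq]
    conv_lhs => rw [← QuotientGroup.out_eq' q]
    rfl
  let F : G ⧸ H → A := fun q => if hq : g • q = q then φ ⟨_, hfix q hq⟩ else 1
  have hF1 : ∀ (c : G) (hc : c⁻¹ * g * c ∈ H), F (c : G ⧸ H) = φ ⟨c⁻¹ * g * c, hc⟩ := by
    intro c hc
    have hq : g • (c : G ⧸ H) = c := by
      refine (QuotientGroup.eq.2 ?_).symm
      show c⁻¹ * (g * c) ∈ H
      rwa [← mul_assoc]
    obtain ⟨⟨h, hh⟩, hout⟩ := QuotientGroup.mk_out_eq_mul H c
    simp only [F, dif_pos hq]
    calc φ ⟨_, hfix _ hq⟩ = φ (⟨h, hh⟩⁻¹ * ⟨c⁻¹ * g * c, hc⟩ * ⟨h, hh⟩) := by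
          congr 1
          apply Subtype.ext
          simp only [hout, Subgroup.coe_mul, InvMemClass.coe_inv]
          group
      _ = _ := by rw [map_mul, map_mul, map_inv, inv_mul_cancel_comm]
  rw [transfer_eq_prod_fixed φ hg F hF1 fun q hq => dif_neg hq]
  let C : Subgroup G := Subgroup.centralizer {g}
  let F' : G ⧸ H → A := fun q => if g • q = q then F q * i⁻¹ else 1
  have hcomm : ∀ z : C, g * (z : G) = z * g := fun z =>
    (Subgroup.mem_centralizer_singleton_iff.1 z.2).symm
  have hmoveC : ∀ (z : C) (q : G ⧸ H), g • q = q → g • z • q = z • q := by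
    intro z q hq
    show g • (z : G) • q = (z : G) • q
    rw [smul_smul, hcomm, mul_smul, hq]
  have hsq : ∀ q : G ⧸ H, F q * F q = 1 := by
    intro q
    by_cases hq : g • q = q
    · simp only [F, dif_pos hq, ← map_mul]
      convert map_one φ
      apply Subtype.ext
      show q.out⁻¹ * g * q.out * (q.out⁻¹ * g * q.out) = 1
      rw [show q.out⁻¹ * g * q.out * (q.out⁻¹ * g * q.out) = q.out⁻¹ * (g * g) * q.out by group,
        hg, mul_one, inv_mul_cancel]
    · simp [F, hq]
  have key : ∏ q, F' q = 1 := by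
    refine prod_eq_one_of_even_orbits (C := C) F' (fun z q => ?_) (fun q => ?_) (fun q ho => ?_)
    · by_cases hq : g • q = q
      · obtain ⟨c, rfl⟩ := QuotientGroup.mk_surjective q
        have hzc : z • (c : G ⧸ H) = (((z : G) * c : G) : G ⧸ H) := rfl
        simp only [F', if_pos hq, if_pos (hmoveC z _ hq)]
        rw [hzc]
        congr 1
        have hc : c⁻¹ * g * c ∈ H := by
          rw [mul_assoc]; exact QuotientGroup.eq.1 hq.symm
        have hc' : ((z : G) * c)⁻¹ * g * ((z : G) * c) = c⁻¹ * g * c := by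
          rw [mul_inv_rev, show c⁻¹ * (z : G)⁻¹ * g * ((z : G) * c) =
            c⁻¹ * ((z : G)⁻¹ * (g * z)) * c by group, hcomm, inv_mul_cancel_left]
        rw [hF1 _ (hc'.symm ▸ hc), hF1 _ hc]
        congr 1
        exact Subtype.ext hc'
      · have hq' : g • z • q ≠ z • q := fun he => hq (by
          have := hmoveC z⁻¹ _ he
          rwa [inv_smul_smul] at this)
        simp only [F', if_neg hq, if_neg hq']
    · by_cases hq : g • q = q
      · simp only [F', if_pos hq]
        rw [mul_mul_mul_comm, hsq, ← mul_inv, hi2, inv_one, one_mul]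
      · simp [F', hq]
    · by_cases hq : g • q = q
      · obtain ⟨c, rfl⟩ := QuotientGroup.mk_surjective q
        have hc : c⁻¹ * g * c ∈ H := by
          rw [mul_assoc]; exact QuotientGroup.eq.1 hq.symm
        simp only [F', if_pos hq]
        rw [hF1 c hc, hi c hc ?_, mul_inv_cancel]
        set x := c⁻¹ * g * c
        let D : Subgroup G := Subgroup.centralizer {x}
        have hstab : stabilizer D ((1 : G) : G ⧸ H) = H.subgroupOf D := by
          ext d
          rw [mem_stabilizer_iff, Subgroup.mem_subgroupOf]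
          show ((((d : G) * 1 : G) : G ⧸ H) = ((1 : G) : G ⧸ H)) ↔ _
          rw [QuotientGroup.eq, mul_one, mul_one, inv_mem_iff]
        rw [← hstab, index_stabilizer, ← Nat.card_coe_set_eq]
        have hset : orbit D ((1 : G) : G ⧸ H) = (fun y => c⁻¹ • y) '' orbit C (c : G ⧸ H) := by
          ext y
          constructor
          · rintro ⟨d, rfl⟩
            have hd : (d : G) * x = x * d := Subgroup.mem_centralizer_singleton_iff.1 d.2
            refine ⟨((c * d * c⁻¹ * c : G) : G ⧸ H),
              ⟨⟨c * d * c⁻¹, Subgroup.mem_centralizer_singleton_iff.2 ?_⟩, rfl⟩, ?_⟩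
            · calc c * d * c⁻¹ * g = c * (d * x) * c⁻¹ := by simp only [x]; group
                _ = c * (x * d) * c⁻¹ := by rw [hd]
                _ = g * (c * d * c⁻¹) := by simp only [x]; group
            · show (((c⁻¹ * (c * d * c⁻¹ * c) : G)) : G ⧸ H) = (((d : G) * 1 : G) : G ⧸ H)
              congr 1
              group
          · rintro ⟨_, ⟨z, rfl⟩, rfl⟩
            refine ⟨⟨c⁻¹ * z * c, Subgroup.mem_centralizer_singleton_iff.2 ?_⟩, ?_⟩
            · calc c⁻¹ * z * c * x = c⁻¹ * (z * g) * c := by simp only [x]; group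
                _ = c⁻¹ * (g * z) * c := by rw [hcomm]
                _ = x * (c⁻¹ * z * c) := by simp only [x]; group
            · show (((c⁻¹ * z * c * 1 : G)) : G ⧸ H) = ((c⁻¹ * ((z : G) * c) : G) : G ⧸ H)
              congr 1
              group
        rw [hset, Nat.card_image_of_injective (MulAction.injective c⁻¹)]
        exact ho
      · simp [F', hq]
  have hfixcard : Odd (Finset.univ.filter fun q : G ⧸ H => g • q = q).card := by
    have : Fact (Nat.Prime 2) := ⟨Nat.prime_two⟩
    have hP : IsPGroup 2 (Subgroup.zpowers g) := by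
      rintro ⟨x, n, rfl⟩
      refine ⟨1, Subtype.ext ?_⟩
      show (g ^ n) ^ 2 = 1
      rw [← zpow_natCast, ← zpow_mul, mul_comm, zpow_mul, zpow_natCast, pow_two, hg, one_zpow]
    have hm := hP.card_modEq_card_fixedPoints (G ⧸ H)
    have hset : fixedPoints (Subgroup.zpowers g) (G ⧸ H) =
        ↑(Finset.univ.filter fun q : G ⧸ H => g • q = q) := by
      ext q
      simp only [mem_fixedPoints, Finset.coe_filter, Finset.mem_univ, true_and, Set.mem_ofPred_eq]
      refine ⟨fun hq => hq ⟨g, Subgroup.mem_zpowers g⟩, ?_⟩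
      rintro hq ⟨_, n, rfl⟩
      exact mem_stabilizer_iff.1 (zpow_mem (mem_stabilizer_iff.2 hq) n)
    rw [hset, Nat.card_coe_set_eq, Set.ncard_coe_finset] at hm
    rw [Nat.odd_iff, ← hm, ← Nat.odd_iff]
    exact hH
  calc ∏ q, F q = ∏ q, F' q * (if g • q = q then i else 1) := by
        refine Finset.prod_congr rfl fun q _ => ?_
        by_cases hq : g • q = q
        · simp [F', hq, mul_assoc]
        · simp [F', F, hq]
    _ = i := by
        rw [Finset.prod_mul_distrib, key, one_mul, Finset.prod_ite, Finset.prod_const,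
          Finset.prod_const_one, mul_one]
        obtain ⟨k, hk⟩ := hfixcard
        rw [hk, pow_succ, pow_mul, pow_two, hi2, one_pow, one_mul]

namespace Setting

variable (h : Setting Ω Z)
include h

/-- If a bad involution `u` and a member `t` commuting with it are given, no homomorphism from a
Sylow 2-subgroup to an abelian group sends the extremal conjugates of `u` and of `u * t` to one
element other than one, when `u` lies in the group generated by the members. -/
theorem false_of_extremal_hom [Finite G] [Finite Ω]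
    (S : Sylow 2 G) {A : Type w} [CommGroup A] (φ : (S : Subgroup G) →* A) {i : A} (hi : i ≠ 1)
    (hi2 : i * i = 1) {u t : G} (hu : IsBad Ω u) (ht : t ∈ Z) (hut : Commute u t)
    (hgen : u ∈ Subgroup.closure Z)
    (hφu : ∀ (c : G) (hc : c⁻¹ * u * c ∈ (S : Subgroup G)),
      Odd ((S : Subgroup G).subgroupOf (Subgroup.centralizer {c⁻¹ * u * c})).index →
        φ ⟨c⁻¹ * u * c, hc⟩ = i)
    (hφut : ∀ (c : G) (hc : c⁻¹ * (u * t) * c ∈ (S : Subgroup G)),
      Odd ((S : Subgroup G).subgroupOf (Subgroup.centralizer {c⁻¹ * (u * t) * c})).index →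
        φ ⟨c⁻¹ * (u * t) * c, hc⟩ = i) : False := by
  have : Fact (Nat.Prime 2) := ⟨Nat.prime_two⟩
  have hidx : Odd (S : Subgroup G).index := Nat.not_even_iff_odd.1 fun he =>
    S.not_dvd_index (even_iff_two_dvd.1 he)
  have hVu := transfer_involution_extremal φ hidx (mul_self_eq_one hu.1) hi2 hφu
  have hut2 : u * t * (u * t) = 1 := by
    rw [mul_assoc, ← mul_assoc t, ← hut.eq, mul_assoc u, mul_self_eq_one (h.invol t ht), mul_one,
      mul_self_eq_one hu.1]
  have hVut := transfer_involution_extremal φ hidx hut2 hi2 hφut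
  have hVt : MonoidHom.transfer φ t = 1 := by
    rw [map_mul, hVu] at hVut
    exact mul_eq_left.1 hVut
  have hle : Subgroup.closure Z ≤ (MonoidHom.transfer φ).ker := by
    rw [Subgroup.closure_le]
    intro s hs
    obtain ⟨g, hg⟩ := isConj_iff.1 (h.isConj_mem ht hs)
    rw [SetLike.mem_coe, MonoidHom.mem_ker, ← hg, map_mul, map_mul, hVt, mul_one, ← map_mul,
      mul_inv_cancel, map_one]
  exact hi (hVu.symm.trans (hle hgen))

end Setting

end CfsgLib.StrongCrit
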