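import Mathlib
import Cfsg.Agent.Lib.PF.OddOrder

/-!
A group of odd order acting on a finite elementary abelian 2-group `V` fixes a vector `u` if it
contains an element `τ` fixing `u` no small power of which fixes another vector of the orbit span,
with `τ` of order bigger than the dimension.
-/

set_option autoImplicit false
set_option linter.style.haveILetI false
set_option linter.deprecated false

namespace CfsgLib.StrongCrit

universe u v

/-- A ring automorphism of a finite commutative reduced ring of characteristic two fixing only zero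
and one has order at most the dimension. -/
theorem ringAut_pow_eq_one {R : Type u} [CommRing R] [Finite R] [IsReduced R] [Nontrivial R]
    (h2 : ∀ r : R, r + r = 0) (σ : R ≃+* R) (hfix : ∀ r, σ r = r → r = 0 ∨ r = 1) {d : ℕ}
    (hd : Nat.card R ≤ 2 ^ d) : ∃ k, 0 < k ∧ k ≤ d ∧ ∀ r, σ^[k] r = r := by
  classical
  haveI : IsArtinianRing R := inferInstance
  let e := IsArtinianRing.equivPi R
  -- the automorphism permutes the maximal ideals
  let π : MaximalSpectrum R → MaximalSpectrum R := fun m =>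
    ⟨m.asIdeal.comap (σ : R →+* R), by
      haveI := m.isMaximal
      exact Ideal.comap_isMaximal_of_surjective _ σ.surjective⟩
  have hπmem : ∀ (m : MaximalSpectrum R) (r : R), r ∈ (π m).asIdeal ↔ σ r ∈ m.asIdeal :=
    fun m r => Iff.rfl
  have hπinj : Function.Injective π := fun m m' h => by
    ext r
    obtain ⟨r, rfl⟩ := σ.surjective r
    rw [← hπmem, ← hπmem, h]
  haveI : Finite (MaximalSpectrum R) := inferInstance
  haveI := Fintype.ofFinite (MaximalSpectrum R)
  obtain ⟨m₀⟩ : Nonempty (MaximalSpectrum R) := inferInstance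
  set O : Set (MaximalSpectrum R) := {m | ∃ j : ℕ, π^[j] m₀ = m} with hO
  have hper : m₀ ∈ Function.periodicPts π := hπinj.mem_periodicPts m₀
  set i := Function.minimalPeriod π m₀ with hi
  have hipos : 0 < i := Function.minimalPeriod_pos_of_mem_periodicPts hper
  have hOmaps : ∀ m, π m ∈ O ↔ m ∈ O := by
    intro m
    constructor
    · rintro ⟨j, hj⟩
      refine ⟨j + (i - 1), hπinj ?_⟩
      rw [← Function.iterate_succ_apply' π, Nat.succ_eq_add_one, show j + (i - 1) + 1 = j + i by omega,
        Function.iterate_add_apply, Function.iterate_minimalPeriod, hj]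
    · rintro ⟨j, rfl⟩
      exact ⟨j + 1, Function.iterate_succ_apply' π j m₀⟩
  -- the idempotent of an orbit is fixed, so there is only one orbit
  obtain ⟨x, hx⟩ : ∃ x : R, ∀ m : MaximalSpectrum R,
      (m ∈ O → x - 1 ∈ m.asIdeal) ∧ (m ∉ O → x ∈ m.asIdeal) := by
    obtain ⟨x, hx⟩ := e.surjective fun m => if m ∈ O then 1 else 0
    refine ⟨x, fun m => ⟨fun hm => ?_, fun hm => ?_⟩⟩
    · have h1 : Ideal.Quotient.mk m.asIdeal x = 1 := by
        have := congrFun hx m
        rw [if_pos hm] at this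
        exact this
      rw [← map_one (Ideal.Quotient.mk m.asIdeal)] at h1
      exact Ideal.Quotient.eq.1 h1
    · have h1 : Ideal.Quotient.mk m.asIdeal x = 0 := by
        have := congrFun hx m
        rw [if_neg hm] at this
        exact this
      exact Ideal.Quotient.eq_zero_iff_mem.1 h1
  have hsep : ∀ r : R, (∀ m : MaximalSpectrum R, r ∈ m.asIdeal) → r = 0 := fun r hr =>
    e.injective (funext fun m => by
      rw [map_zero]
      exact Ideal.Quotient.eq_zero_iff_mem.2 (hr m))
  have hσx : σ x = x := by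
    refine sub_eq_zero.1 (hsep _ fun m => ?_)
    by_cases hm : m ∈ O
    · have h1 : σ x - 1 ∈ m.asIdeal := by
        have := (hx (π m)).1 ((hOmaps m).2 hm)
        rwa [hπmem, map_sub, map_one] at this
      simpa using m.asIdeal.sub_mem h1 ((hx m).1 hm)
    · exact m.asIdeal.sub_mem ((hπmem m x).1 ((hx (π m)).2 fun h => hm ((hOmaps m).1 h)))
        ((hx m).2 hm)
  have hall : ∀ m, m ∈ O := by
    intro m
    by_contra hm
    rcases hfix x hσx with rfl | rfl
    · have h1 : (0 : R) - 1 ∈ m₀.asIdeal := (hx m₀).1 ⟨0, rfl⟩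
      exact m₀.isMaximal.ne_top ((Ideal.eq_top_iff_one _).2 (by simpa using h1))
    · exact m.isMaximal.ne_top ((Ideal.eq_top_iff_one _).2 ((hx m).2 hm))
  -- the residue field at `m₀`
  let m := m₀.asIdeal
  haveI := m₀.isMaximal
  letI : Field (R ⧸ m) := Ideal.Quotient.field m
  have h2K : (2 : R ⧸ m) = 0 := by
    have : ((1 : R) + 1) = 0 := h2 1
    have h3 := congrArg (Ideal.Quotient.mk m) this
    rw [map_add, map_one, map_zero] at h3
    rw [← one_add_one_eq_two, h3]
  haveI : CharP (R ⧸ m) 2 := CharTwo.of_one_ne_zero_of_two_eq_zero one_ne_zero h2K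
  letI : Algebra (ZMod 2) (R ⧸ m) := ZMod.algebra _ 2
  have hiter : ∀ j r, r ∈ (π^[j] m₀).asIdeal ↔ σ^[j] r ∈ m₀.asIdeal := by
    intro j
    induction j with
    | zero => intro r; rfl
    | succ j ih =>
      intro r
      rw [Function.iterate_succ_apply', hπmem, ih, Function.iterate_succ_apply]
  have hitermap : ∀ j, ∃ τ : R ≃+* R, ∀ r, τ r = σ^[j] r := by
    intro j
    induction j with
    | zero => exact ⟨RingEquiv.refl R, fun r => rfl⟩
    | succ j ih =>
      obtain ⟨τ, hτ⟩ := ih
      exact ⟨σ.trans τ, fun r => by rw [Function.iterate_succ_apply]; exact hτ _⟩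
  obtain ⟨ρ, hρ⟩ := hitermap i
  have hρm : m = m.map (ρ : R →+* R) := by
    conv_lhs => rw [← Ideal.map_comap_of_surjective (ρ : R →+* R) ρ.surjective m]
    congr 1
    ext r
    show ρ r ∈ m ↔ r ∈ m
    rw [hρ, ← hiter, Function.iterate_minimalPeriod]
  let ψ₀ : (R ⧸ m) ≃+* (R ⧸ m) := Ideal.quotientEquiv m m ρ hρm
  let ψ : (R ⧸ m) ≃ₐ[ZMod 2] (R ⧸ m) := AlgEquiv.ofRingEquiv (f := ψ₀) fun c => by
    rw [← RingEquiv.coe_toRingHom, ← RingHom.comp_apply]
    exact RingHom.congr_fun (Subsingleton.elim _ _) c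
  set f := Module.finrank (ZMod 2) (R ⧸ m) with hf
  haveI : Finite (R ⧸ m) := Finite.of_surjective (Ideal.Quotient.mk m) Ideal.Quotient.mk_surjective
  haveI : FiniteDimensional (ZMod 2) (R ⧸ m) := Module.Finite.of_finite
  have hfpos : 0 < f := Module.finrank_pos
  have hψ : ψ ^ f = 1 := by
    rw [hf, ← IsGalois.card_aut_eq_finrank (F := ZMod 2) (E := R ⧸ m)]
    exact pow_card_eq_one'
  have hψr : ∀ n r, (ψ ^ n) (Ideal.Quotient.mk m r) = Ideal.Quotient.mk m (σ^[i * n] r) := by
    intro n
    induction n with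
    | zero => intro r; simp
    | succ n ih =>
      intro r
      rw [pow_succ, AlgEquiv.mul_apply, show ψ (Ideal.Quotient.mk m r) = Ideal.Quotient.mk m (ρ r)
        from Ideal.quotientEquiv_mk m m ρ hρm r, hρ, ih, Nat.mul_succ, Function.iterate_add_apply]
  refine ⟨i * f, Nat.mul_pos hipos hfpos, ?_, fun r => ?_⟩
  · -- count
    have hcardf : Nat.card (R ⧸ m) = 2 ^ f := by
      rw [Module.natCard_eq_pow_finrank (K := ZMod 2) (V := R ⧸ m), Nat.card_zmod]
    have hq : ∀ m' : MaximalSpectrum R, 2 ^ f ≤ Nat.card (R ⧸ m'.asIdeal) := by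
      intro m'
      obtain ⟨j, rfl⟩ := hall m'
      obtain ⟨τ, hτ⟩ := hitermap j
      rw [← hcardf]
      refine le_of_eq (Nat.card_congr (Ideal.quotientEquiv (π^[j] m₀).asIdeal m τ ?_).toEquiv).symm
      conv_lhs => rw [← Ideal.map_comap_of_surjective (τ : R →+* R) τ.surjective m]
      congr 1
      ext s
      show τ s ∈ m ↔ _
      rw [hτ, hiter]
    have hiP : i ≤ Nat.card (MaximalSpectrum R) := by
      have hinj : Function.Injective fun j : Fin i => π^[(j : ℕ)] m₀ := fun a b hab =>
        Fin.ext (Function.iterate_injOn_Iio_minimalPeriod a.2 b.2 hab)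
      simpa using Nat.card_le_card_of_injective _ hinj
    have hpow : (2 ^ f) ^ Nat.card (MaximalSpectrum R) ≤ Nat.card R := by
      rw [Nat.card_congr e.toEquiv, Nat.card_pi, Nat.card_eq_fintype_card, ← Finset.card_univ,
        ← Finset.prod_const]
      exact Finset.prod_le_prod (fun _ _ => Nat.zero_le _) fun m' _ => hq m'
    have h3 : 2 ^ (f * i) ≤ 2 ^ d := by
      rw [pow_mul]
      exact ((Nat.pow_le_pow_right (Nat.two_pow_pos f) hiP).trans hpow).trans hd
    rw [mul_comm]
    exact (Nat.pow_le_pow_iff_right Nat.one_lt_two).1 h3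
  · refine sub_eq_zero.1 (hsep _ fun m' => ?_)
    obtain ⟨j, rfl⟩ := hall m'
    rw [hiter]
    obtain ⟨τ, hτ⟩ := hitermap j
    rw [← hτ, map_sub, hτ, hτ, ← Function.iterate_add_apply, add_comm, Function.iterate_add_apply]
    refine Ideal.Quotient.eq.1 ?_
    rw [← hψr, hψ]
    rfl

variable {N : Type u} [Group N] {V : Type v} [AddCommGroup V] [Finite V] [DistribMulAction N V]

/-- An odd group acting on `V` fixes `u` unless some power `τ ^ k`, with `2 ^ k` at most the order of
`V`, fixes another vector of the orbit of `u`, given that `τ` fixes only `0` and `u`. -/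
theorem fixed_of_torus [Finite N] (hN : Odd (Nat.card N)) (h2 : ∀ v : V, v + v = 0) {u : V}
    {τ : N} (hτu : τ • u = u) (hτ : ∀ v : V, τ • v = v → v = 0 ∨ v = u)
    (hpow : ∀ k : ℕ, 0 < k → 2 ^ k ≤ Nat.card V → ∀ g : N, (τ ^ k) • g • u = g • u → g • u = u)
    (g : N) : g • u = u := by
  classical
  by_contra hg
  have hsol : Group.IsSolvable N := CfsgLib.PF.oddSolvable N hN
  obtain ⟨n, hn⟩ := hsol.solvable
  -- the last term of the derived series moving `u`
  obtain ⟨i, hi, hi1⟩ : ∃ i, (∃ a ∈ derivedSeries N i, a • u ≠ u) ∧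
      ∀ a ∈ derivedSeries N (i + 1), a • u = u := by
    by_contra hc
    have hall : ∀ i, ∃ a ∈ derivedSeries N i, a • u ≠ u := by
      intro i
      induction i with
      | zero => exact ⟨g, by simp, hg⟩
      | succ i ih =>
        by_contra hno
        push Not at hno
        exact hc ⟨i, ih, hno⟩
    obtain ⟨a, ha, hau⟩ := hall n
    rw [hn, Subgroup.mem_bot] at ha
    exact hau (by rw [ha, one_smul])
  obtain ⟨a₀, ha₀, hau⟩ := hi
  set A := derivedSeries N i with hA
  haveI : A.Normal := derivedSeries_normal N i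
  -- the span of the orbit
  let W : AddSubgroup V := AddSubgroup.closure (Set.range fun g : N => g • u)
  have hW : ∀ (g : N), ∀ w ∈ W, g • w ∈ W := by
    intro g w hw
    induction hw using AddSubgroup.closure_induction with
    | mem x hx =>
      obtain ⟨h, rfl⟩ := hx
      exact AddSubgroup.subset_closure ⟨g * h, mul_smul g h u⟩
    | zero => rw [smul_zero]; exact W.zero_mem
    | add x y _ _ hx hy => rw [smul_add]; exact W.add_mem hx hy
    | neg x _ hx => rw [smul_neg]; exact W.neg_mem hx
  let ρ : N →* AddMonoid.End W :=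
    { toFun := fun g =>
        { toFun := fun w => ⟨g • (w : V), hW g w w.2⟩
          map_zero' := Subtype.ext (smul_zero g)
          map_add' := fun x y => Subtype.ext (smul_add g (x : V) y) }
      map_one' := by ext w; exact one_smul N (w : V)
      map_mul' := fun g h => by ext w; exact mul_smul g h (w : V) }
  have hρapp : ∀ (g : N) (w : W), ((ρ g w : W) : V) = g • (w : V) := fun _ _ => rfl
  have huW : u ∈ W := AddSubgroup.subset_closure ⟨1, one_smul N u⟩
  let u₀ : W := ⟨u, huW⟩
  have hcomm : ∀ a ∈ A, ∀ b ∈ A, ρ a * ρ b = ρ b * ρ a := by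
    intro a ha b hb
    ext ⟨w, hw⟩
    rw [← map_mul, ← map_mul, hρapp, hρapp]
    show (a * b) • w = (b * a) • w
    induction hw using AddSubgroup.closure_induction with
    | mem x hx =>
      obtain ⟨h, rfl⟩ := hx
      have hmem : h⁻¹ * ((b * a)⁻¹ * (a * b)) * h ∈ derivedSeries N (i + 1) := by
        refine (derivedSeries_normal N (i + 1)).conj_mem _ ?_ h⁻¹ |> (fun x => by simpa using x)
        rw [derivedSeries_succ, show a⁻¹ * b⁻¹ * (a * b) = a⁻¹ * b⁻¹ * a * b by group]
        have := Subgroup.commutator_mem_commutator (inv_mem ha) (inv_mem hb)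
        rw [commutatorElement_def, inv_inv, inv_inv] at this
        exact this
      have h3 := hi1 _ hmem
      rw [mul_smul, mul_smul, inv_smul_eq_iff, mul_smul, inv_smul_eq_iff] at h3
      exact h3
    | zero => simp
    | add x y _ _ hx hy => rw [smul_add, smul_add, hx, hy]
    | neg x _ hx => rw [smul_neg, smul_neg, hx]
  -- the ring generated by `A` on `W`
  let S : Set (AddMonoid.End W) := ρ '' (A : Set N)
  let R := Subring.closure S
  letI : CommRing R := Subring.closureCommRingOfComm (by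
    rintro _ ⟨a, ha, rfl⟩ _ ⟨b, hb, rfl⟩
    exact hcomm a ha b hb)
  have hend2 : ∀ r : AddMonoid.End W, r + r = 0 := fun r => by
    ext w
    exact h2 _
  have hR2 : ∀ r : R, r + r = 0 := fun r => Subtype.ext (hend2 r)
  set τc : R → R := fun r => ⟨ρ τ * r * ρ τ⁻¹, by
    obtain ⟨r, hr⟩ := r
    show ρ τ * r * ρ τ⁻¹ ∈ R
    induction hr using Subring.closure_induction with
    | mem x hx =>
      obtain ⟨a, ha, rfl⟩ := hx
      refine Subring.subset_closure ⟨τ * a * τ⁻¹, Subgroup.Normal.conj_mem ‹_› a ha τ, ?_⟩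
      rw [map_mul, map_mul]
    | zero => simp
    | one => simp [← map_mul]
    | add x y _ _ hx hy => rw [mul_add, add_mul]; exact add_mem hx hy
    | neg x _ hx =>
      rw [show -x = x from neg_eq_of_add_eq_zero_left (hend2 x)]; exact hx
    | mul x y _ _ hx hy =>
      have : ρ τ * (x * y) * ρ τ⁻¹ = (ρ τ * x * ρ τ⁻¹) * (ρ τ * y * ρ τ⁻¹) := by
        simp only [mul_assoc]
        rw [← mul_assoc (ρ τ⁻¹) (ρ τ), ← map_mul, inv_mul_cancel, map_one, one_mul]
      rw [this]
      exact mul_mem hx hy⟩ with hτc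
  -- evaluation at `u`
  let ev : R →+ W :=
    { toFun := fun r => (r : AddMonoid.End W) u₀
      map_zero' := rfl
      map_add' := fun _ _ => rfl }
  let I : Ideal R :=
    { carrier := {r | ev r = 0}
      zero_mem' := map_zero ev
      add_mem' := fun {a b} (ha : ev a = 0) (hb : ev b = 0) => by
        show ev (a + b) = 0; rw [map_add, ha, hb, add_zero]
      smul_mem' := fun c r (hr : ev r = 0) => by
        show (c : AddMonoid.End W) ((r : AddMonoid.End W) u₀) = 0
        rw [show (r : AddMonoid.End W) u₀ = 0 from hr, map_zero] }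
  have hτu₀ : ρ τ⁻¹ u₀ = u₀ := Subtype.ext (by rw [hρapp]; exact inv_smul_eq_iff.2 hτu.symm)
  have hev : ∀ r : R, ((ev (τc r) : W) : V) = τ • ((ev r : W) : V) := fun r => by
    show ((ρ τ ((r : AddMonoid.End W) (ρ τ⁻¹ u₀)) : W) : V) = _
    rw [hτu₀, hρapp]
    rfl
  have hτinv : ∀ r : R, ρ τ⁻¹ * (ρ τ * (r : AddMonoid.End W) * ρ τ⁻¹) * ρ τ = r := fun r => by
    simp only [← mul_assoc, ← map_mul, inv_mul_cancel, map_one, one_mul]
    rw [mul_assoc, ← map_mul, inv_mul_cancel, map_one, mul_one]
  have hinj : Function.Injective τc := fun r s hrs => Subtype.ext (by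
    rw [← hτinv r, ← hτinv s]
    exact congrArg (fun x : R => ρ τ⁻¹ * (x : AddMonoid.End W) * ρ τ) hrs)
  haveI : Finite (AddMonoid.End W) :=
    Finite.of_injective (fun f : AddMonoid.End W => (f : W → W)) DFunLike.coe_injective
  let σ : R ≃+* R := RingEquiv.ofBijective
    ({ toFun := τc
       map_one' := Subtype.ext (by simp [τc, ← map_mul])
       map_mul' := fun x y => Subtype.ext (by
        show ρ τ * ((x : AddMonoid.End W) * y) * ρ τ⁻¹ = ρ τ * x * ρ τ⁻¹ * (ρ τ * y * ρ τ⁻¹)
        simp only [mul_assoc]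
        rw [← mul_assoc (ρ τ⁻¹) (ρ τ), ← map_mul, inv_mul_cancel, map_one, one_mul])
       map_zero' := Subtype.ext (by simp [τc])
       map_add' := fun x y => Subtype.ext (by simp [τc, mul_add, add_mul]) } : R →+* R)
    (Finite.injective_iff_bijective.1 hinj)
  have hσ : ∀ r : R, σ r = τc r := fun _ => rfl
  have hIσ : ∀ r : R, r ∈ I → σ r ∈ I := fun r (hr : ev r = 0) => by
    show ev (σ r) = 0
    exact Subtype.ext (by rw [hσ, hev, hr]; exact smul_zero τ)
  have hImap : I = I.map (σ : R →+* R) := by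
    refine le_antisymm ?_ (Ideal.map_le_iff_le_comap.2 hIσ)
    intro r hr
    have hb : Function.Bijective (fun x : I => (⟨σ x, hIσ x x.2⟩ : I)) :=
      Finite.injective_iff_bijective.1 fun x y h =>
        Subtype.ext (σ.injective (congrArg Subtype.val h))
    obtain ⟨x, hx⟩ := hb.2 ⟨r, hr⟩
    rw [← show σ x = r from congrArg Subtype.val hx]
    exact Ideal.mem_map_of_mem _ x.2
  let σ' : (R ⧸ I) ≃+* (R ⧸ I) := Ideal.quotientEquiv I I σ hImap
  -- every element satisfies `x ^ 2 ^ m = x`
  obtain ⟨m, hm, hmdvd⟩ : ∃ m, 0 < m ∧ Nat.card A ∣ 2 ^ m - 1 := by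
    have hodd : Nat.Coprime 2 (Nat.card A) :=
      Nat.coprime_two_left.2 (hN.of_dvd_nat (Subgroup.card_subgroup_dvd_card A))
    exact ⟨(Nat.card A).totient, Nat.totient_pos.2 Nat.card_pos,
      (Nat.modEq_iff_dvd' (Nat.one_le_two_pow)).1 (Nat.ModEq.pow_totient hodd).symm⟩
  haveI : CharP R 2 := by
    refine CharTwo.of_one_ne_zero_of_two_eq_zero ?_ (by rw [← one_add_one_eq_two]; exact hR2 1)
    intro h10
    have := congrArg (fun r : R => ((ev r : W) : V)) h10
    exact hg (by rw [show u = (0 : V) from this, smul_zero])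
  have hfrob : ∀ r : R, r ^ 2 ^ m = r := by
    rintro ⟨r, hr⟩
    induction hr using Subring.closure_induction with
    | mem x hx =>
      obtain ⟨a, ha, rfl⟩ := hx
      refine Subtype.ext ?_
      rw [SubmonoidClass.coe_pow, ← map_pow]
      congr 1
      obtain ⟨c, hc⟩ := hmdvd
      have hac : a ^ Nat.card A = 1 :=
        congrArg Subtype.val (pow_card_eq_one' (x := (⟨a, ha⟩ : A)))
      rw [show (2 : ℕ) ^ m = Nat.card A * c + 1 by have := Nat.one_le_two_pow (n := m); omega,
        pow_succ, pow_mul, hac, one_pow, one_mul]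
    | zero => exact zero_pow (by positivity)
    | one => exact one_pow _
    | add x y hx' hy' hx hy =>
      have := add_pow_char_pow (R := R) (p := 2) (n := m) ⟨x, hx'⟩ ⟨y, hy'⟩
      rw [show (⟨x + y, _⟩ : R) = ⟨x, hx'⟩ + ⟨y, hy'⟩ from rfl, this, hx, hy]
    | neg x hx' hx =>
      have h1 : (⟨-x, neg_mem hx'⟩ : R) = ⟨x, hx'⟩ :=
        Subtype.ext (neg_eq_of_add_eq_zero_left (hend2 x))
      rw [h1]; exact hx
    | mul x y hx' hy' hx hy =>
      rw [show (⟨x * y, _⟩ : R) = ⟨x, hx'⟩ * ⟨y, hy'⟩ from rfl, mul_pow, hx, hy]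
  haveI : IsReduced (R ⧸ I) := ⟨fun x ⟨k, hk⟩ => by
    have hx : x ^ 2 ^ m = x := by
      obtain ⟨r, rfl⟩ := Ideal.Quotient.mk_surjective x
      rw [← map_pow, hfrob]
    have hit : ∀ j, x ^ (2 ^ m) ^ j = x := by
      intro j
      induction j with
      | zero => simp
      | succ j ih => rw [pow_succ, pow_mul, ih, hx]
    have hle : k ≤ (2 ^ m) ^ k := (Nat.lt_pow_self (Nat.one_lt_two_pow hm.ne')).le
    rw [← hit k, ← Nat.sub_add_cancel hle, pow_add, hk, mul_zero]⟩
  haveI : Nontrivial (R ⧸ I) := by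
    refine Ideal.Quotient.nontrivial_iff.2 fun h => ?_
    have h1 : ev (1 : R) = 0 := (Ideal.eq_top_iff_one _).1 h
    exact hg (by rw [show u = (0 : V) from congrArg Subtype.val h1, smul_zero])
  have hcard : Nat.card (R ⧸ I) ≤ Nat.card V := by
    let F : R ⧸ I → V := Quotient.lift (fun r => ((ev r : W) : V)) fun r s h => by
      have h1 : r - s ∈ I := (Submodule.quotientRel_def I).1 h
      have h4 : ev (r - s) = 0 := h1
      rw [map_sub, sub_eq_zero] at h4
      simp only [h4]
    refine Nat.card_le_card_of_injective F ?_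
    intro x y hxy
    obtain ⟨r, rfl⟩ := Ideal.Quotient.mk_surjective x
    obtain ⟨s, rfl⟩ := Ideal.Quotient.mk_surjective y
    refine Ideal.Quotient.eq.2 ?_
    show ev (r - s) = 0
    rw [map_sub, show ev r = ev s from Subtype.ext hxy, sub_self]
  obtain ⟨e, he⟩ : ∃ e, Nat.card V = 2 ^ e := by
    haveI : Fact (Nat.Prime 2) := ⟨Nat.prime_two⟩
    refine (IsPGroup.iff_card (G := Multiplicative V)).1 fun x => ⟨1, ?_⟩
    rw [pow_one, pow_two]
    exact congrArg Multiplicative.ofAdd (h2 x.toAdd)
  haveI : Finite (R ⧸ I) :=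
    Finite.of_surjective (Ideal.Quotient.mk I) Ideal.Quotient.mk_surjective
  obtain ⟨k, hk0, hke, hk⟩ := ringAut_pow_eq_one (R := R ⧸ I)
    (fun x => by
      obtain ⟨r, rfl⟩ := Ideal.Quotient.mk_surjective x
      rw [← map_add, hR2, map_zero]) σ' (fun x hx => by
      obtain ⟨r, rfl⟩ := Ideal.Quotient.mk_surjective x
      rw [Ideal.quotientEquiv_mk] at hx
      have h1 : ev (σ r - r) = 0 := Ideal.Quotient.eq.1 hx
      rw [map_sub, sub_eq_zero, hσ] at h1
      have h3 := congrArg (fun w : W => (w : V)) h1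
      simp only [hev] at h3
      rcases hτ _ h3 with h4 | h4
      · left
        exact Ideal.Quotient.eq_zero_iff_mem.2 (show ev r = 0 from Subtype.ext h4)
      · right
        rw [← map_one (Ideal.Quotient.mk I)]
        refine Ideal.Quotient.eq.2 (show ev (r - 1) = 0 from ?_)
        rw [map_sub, sub_eq_zero]
        exact Subtype.ext h4) (hcard.trans he.le)
  have hiter : ∀ j (r : R), σ'^[j] (Ideal.Quotient.mk I r) = Ideal.Quotient.mk I (σ^[j] r) ∧
      ((ev (σ^[j] r) : W) : V) = (τ ^ j) • ((ev r : W) : V) := by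
    intro j
    induction j with
    | zero => exact fun r => ⟨rfl, by simp⟩
    | succ j ih =>
      intro r
      rw [Function.iterate_succ_apply', Function.iterate_succ_apply', (ih r).1,
        Ideal.quotientEquiv_mk, hσ, hev, (ih r).2, pow_succ', mul_smul]
      exact ⟨rfl, rfl⟩
  let r₀ : R := ⟨ρ a₀, Subring.subset_closure ⟨a₀, ha₀, rfl⟩⟩
  have h1 := (hiter k r₀).1
  rw [hk] at h1
  have h2' : ev (r₀ - σ^[k] r₀) = 0 := Ideal.Quotient.eq.1 h1
  rw [map_sub, sub_eq_zero] at h2'
  have h3 := congrArg (fun w : W => (w : V)) h2'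
  simp only [(hiter k r₀).2] at h3
  exact hau (hpow k hk0 (he ▸ Nat.pow_le_pow_right two_pos hke) a₀ h3.symm)

end CfsgLib.StrongCrit
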