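import Cfsg.Agent.Lib.RankOneRecog.Unitary.Coord
import Cfsg.Agent.Lib.RankOneRecog.Unitary.Exists
import Cfsg.Agent.Lib.RankOneRecog.Abelian
import Cfsg.Agent.Lib.SuzukiTwo.TypeA

/-!
In a faithful rank one set-up with a four group, a biadditive map on the kernel `Q` which is trivial
on `Zsub` and invariant under the two point stabiliser is trivial.
-/

set_option autoImplicit false

noncomputable section

namespace CfsgLib.StrongCrit.FormZero

open CfsgLib.RankOneInvol CfsgLib.RankOneTwo CfsgLib.RankOneRecog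
open CfsgLib.RankOneRecog.Unitary

universe u v

/-- An invariant biadditive map on a field vanishes if three scalars `l + m = n` leave it invariant
and `l⁻¹ + m⁻¹ + n⁻¹` is not zero. -/
theorem eq_zero_of_scalars {K : Type*} [Field K] [CharP K 2] (g : K → K → ZMod 2)
    (hl : ∀ u v w, g (u + v) w = g u w + g v w) (hr : ∀ u v w, g u (v + w) = g u v + g u w)
    {l m n : K} (hl0 : l ≠ 0) (hm0 : m ≠ 0) (hn0 : n ≠ 0) (hsum : l + m = n)
    (hc : l⁻¹ + m⁻¹ + n⁻¹ ≠ 0) (il : ∀ u v, g (l * u) (l * v) = g u v)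
    (im : ∀ u v, g (m * u) (m * v) = g u v) (i_n : ∀ u v, g (n * u) (n * v) = g u v) :
    ∀ u v, g u v = 0 := by
  have adj : ∀ {k : K}, k ≠ 0 → (∀ u v, g (k * u) (k * v) = g u v) →
      ∀ u v, g (k * u) v = g u (k⁻¹ * v) := fun {k} hk hi u v => by
    rw [← hi u (k⁻¹ * v), mul_inv_cancel_left₀ hk]
  intro u v
  have h1 : ∀ w, g u ((l⁻¹ + m⁻¹ + n⁻¹) * w) = 0 := fun w => by
    rw [add_mul, add_mul, hr, hr, ← adj hl0 il, ← adj hm0 im, ← adj hn0 i_n, ← hl, ← add_mul, hsum]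
    exact CharTwo.add_self_eq_zero _
  rw [← mul_inv_cancel_left₀ hc v]
  exact h1 _

/-- An invariant biadditive map on a field vanishes if a field of more than four elements acts. -/
theorem eq_zero_of_big {K : Type*} [Field K] [CharP K 2] {L : Type*} [Field L] [Fintype L]
    (emb : L →+* K) (hcard : 5 ≤ Fintype.card L) (g : K → K → ZMod 2)
    (hl : ∀ u v w, g (u + v) w = g u w + g v w) (hr : ∀ u v w, g u (v + w) = g u v + g u w)
    (hi : ∀ l : L, l ≠ 0 → ∀ u v, g (emb l * u) (emb l * v) = g u v) : ∀ u v, g u v = 0 := by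
  classical
  haveI : CharP L 2 := (RingHom.charP_iff emb emb.injective 2).2 inferInstance
  have h2 : (2 : L) = 0 := CharTwo.two_eq_zero
  obtain ⟨x, hx⟩ : ∃ x : L, x ∉ ({0, 1} : Finset L) ∧ x * x + x + 1 ≠ 0 := by
    by_contra hall
    push Not at hall
    let p : Polynomial L := Polynomial.X ^ 2 + Polynomial.X + 1
    have hpdeg : p.natDegree = 2 := by
      simp only [p]
      compute_degree!
    have hp : p ≠ 0 := fun e => by rw [e] at hpdeg; simp at hpdeg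
    have hsub : Finset.univ \ ({0, 1} : Finset L) ⊆ p.roots.toFinset := by
      intro y hy
      rw [Finset.mem_sdiff] at hy
      rw [Multiset.mem_toFinset, Polynomial.mem_roots hp]
      have := hall y hy.2
      simp only [p, Polynomial.IsRoot, Polynomial.eval_add, Polynomial.eval_pow, Polynomial.eval_X,
        Polynomial.eval_one]
      linear_combination this
    have h1 := (Finset.card_le_card hsub).trans ((Multiset.toFinset_card_le _).trans p.card_roots')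
    rw [Finset.card_sdiff_of_subset (Finset.subset_univ _), Finset.card_univ, hpdeg] at h1
    have h01 : ({0, 1} : Finset L).card ≤ 2 := Finset.card_le_two
    omega
  obtain ⟨hx01, hxx⟩ := hx
  simp only [Finset.mem_insert, Finset.mem_singleton, not_or] at hx01
  have hx1 : 1 + x ≠ 0 := fun e => hx01.2 (by linear_combination e - h2)
  refine eq_zero_of_scalars g hl hr (l := emb 1) (m := emb x) (n := emb (1 + x)) ?_ ?_ ?_
    (map_add emb 1 x).symm ?_ (hi 1 one_ne_zero) (hi x hx01.1) (hi _ hx1)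
  · simp
  · exact (map_ne_zero emb).2 hx01.1
  · exact (map_ne_zero emb).2 hx1
  · rw [← map_inv₀, ← map_inv₀, ← map_inv₀, ← map_add, ← map_add, map_ne_zero]
    intro e
    refine hxx ?_
    have hx0 := hx01.1
    field_simp at e
    linear_combination e - x * h2

variable {G : Type u} {Ω : Type v} [Group G] [Finite G] [MulAction G Ω] [FaithfulSMul G Ω] {a : Ω}
  {t : G} {Q : Subgroup G}

/-- The hypotheses on the map. -/
structure IsInvForm (a : Ω) (t : G) (Q : Subgroup G) (f : G → G → ZMod 2) : Prop where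
  addl : ∀ x ∈ Q, ∀ y ∈ Q, ∀ z ∈ Q, f (x * y) z = f x z + f y z
  addr : ∀ x ∈ Q, ∀ y ∈ Q, ∀ z ∈ Q, f x (y * z) = f x y + f x z
  left_Z : ∀ x ∈ Zsub G a, ∀ y ∈ Q, f x y = 0
  right_Z : ∀ x ∈ Q, ∀ y ∈ Zsub G a, f x y = 0
  inv : ∀ d ∈ twoPt G a t, ∀ x ∈ Q, ∀ y ∈ Q, f (d * x * d⁻¹) (d * y * d⁻¹) = f x y

omit [Finite G] [FaithfulSMul G Ω] in
/-- A map trivial on `Zsub` factors through a coordinate with kernel `Zsub`. -/
theorem exists_factor {f : G → G → ZMod 2} (hf : IsInvForm a t Q f) {K : Type} [Field K] [CharP K 2]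
    (α : G → K) (hα : ∀ x ∈ Q, ∀ y ∈ Q, α (x * y) = α x + α y)
    (hαZ : ∀ x ∈ Q, α x = 0 → x ∈ Zsub G a) (hαsurj : ∀ k, ∃ x ∈ Q, α x = k) :
    ∃ g : K → K → ZMod 2, (∀ x ∈ Q, ∀ y ∈ Q, f x y = g (α x) (α y)) ∧
      (∀ u v w, g (u + v) w = g u w + g v w) ∧ (∀ u v w, g u (v + w) = g u v + g u w) := by
  choose σ hσQ hσ using hαsurj
  have hd : ∀ x ∈ Q, σ (α x) ∈ Q ∧ x * (σ (α x))⁻¹ ∈ Zsub G a := fun x hx => by
    refine ⟨hσQ _, hαZ _ (Q.mul_mem hx (Q.inv_mem (hσQ _))) ?_⟩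
    have h1 := hα _ (Q.mul_mem hx (Q.inv_mem (hσQ (α x)))) _ (hσQ (α x))
    rw [inv_mul_cancel_right, hσ] at h1
    exact left_eq_add.1 (by rw [add_comm]; exact h1)
  have hfac : ∀ x ∈ Q, ∀ y ∈ Q, f x y = f (σ (α x)) (σ (α y)) := by
    intro x hx y hy
    obtain ⟨hxQ, hxZ⟩ := hd x hx
    obtain ⟨hyQ, hyZ⟩ := hd y hy
    have hxm := Q.mul_mem hx (Q.inv_mem hxQ)
    have hym := Q.mul_mem hy (Q.inv_mem hyQ)
    calc f x y = f (x * (σ (α x))⁻¹ * σ (α x)) y := by rw [inv_mul_cancel_right]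
      _ = f (σ (α x)) (y * (σ (α y))⁻¹ * σ (α y)) := by
        rw [hf.addl _ hxm _ hxQ _ hy, hf.left_Z _ hxZ _ hy, zero_add, inv_mul_cancel_right]
      _ = f (σ (α x)) (σ (α y)) := by
        rw [hf.addr _ hxQ _ hym _ hyQ, hf.right_Z _ hxQ _ hyZ, zero_add]
  refine ⟨fun u v => f (σ u) (σ v), hfac, fun u v w => ?_, fun u v w => ?_⟩
  · show f (σ (u + v)) (σ w) = f (σ u) (σ w) + f (σ v) (σ w)
    rw [← hf.addl _ (hσQ u) _ (hσQ v) _ (hσQ w),
      hfac _ (Q.mul_mem (hσQ u) (hσQ v)) _ (hσQ w), hα _ (hσQ u) _ (hσQ v), hσ, hσ, hσ]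
  · show f (σ u) (σ (v + w)) = f (σ u) (σ v) + f (σ u) (σ w)
    rw [← hf.addr _ (hσQ u) _ (hσQ v) _ (hσQ w),
      hfac _ (hσQ u) _ (Q.mul_mem (hσQ v) (hσQ w)), hα _ (hσQ v) _ (hσQ w), hσ, hσ, hσ]

/-- The case `|Q| = q ^ 3`. -/
theorem eq_zero_frame {L : Type} [Field L] [Fintype L] [CharP L 2] (F : Frame a t Q L)
    {f : G → G → ZMod 2} (hf : IsInvForm a t Q f) : ∀ x ∈ Q, ∀ y ∈ Q, f x y = 0 := by
  classical
  obtain ⟨R, hR⟩ := F.exists_twist
  obtain ⟨K, _, _, _, ⟨T⟩⟩ := exists_torusData R hR.1 hR.2.1 hR.2.2.1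
  obtain ⟨g, hg, hgl, hgr⟩ := exists_factor hf (F.cA T)
    (fun x hx y hy => F.cA_mul hR T hx hy)
    (fun x hx h => by
      obtain ⟨c, rfl⟩ := F.eq_zc_of_cA hR T hx h
      exact F.zc_mem c)
    (fun k => by
      rcases eq_or_ne k 0 with rfl | hk
      · exact ⟨F.ι (zc 0), F.zc_mem_Q 0, F.cA_zc hR T 0⟩
      · exact F.exists_coord hR T hk)
  suffices hz : ∀ u v, g u v = 0 by
    intro x hx y hy
    rw [hg x hx y hy, hz]
  -- invariance under a scalar realised by conjugation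
  have hscal : ∀ (k : K), k ≠ 0 → ∀ d ∈ twoPt G a t,
      (∀ g' : SL2 L, F.cA T (d * F.lab g' * d⁻¹) = k * F.cA T (F.lab g')) →
      (∀ c : L, d * F.ι (zc c) * d⁻¹ ∈ Zsub G a) → ∀ u v, g (k * u) (k * v) = g u v := by
    intro k hk d hd hlab hzc
    have hall : ∀ x ∈ Q, F.cA T (d * x * d⁻¹) = k * F.cA T x := by
      intro x hx
      rcases F.cases_Q hR T hx with ⟨c, rfl⟩ | ⟨g', rfl⟩
      · obtain ⟨c', hc'⟩ := (F.ι_Z _).1 (hzc c)
        rw [← hc', F.cA_zc hR T, F.cA_zc hR T, mul_zero]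
      · exact hlab g'
    have hdQ : ∀ x ∈ Q, d * x * d⁻¹ ∈ Q := fun x hx => Q_conj F.setup (mem_twoPt.1 hd).1 hx
    have hsurj : ∀ u, ∃ x ∈ Q, F.cA T x = u := fun u => by
      rcases eq_or_ne u 0 with rfl | hu
      · exact ⟨F.ι (zc 0), F.zc_mem_Q 0, F.cA_zc hR T 0⟩
      · exact F.exists_coord hR T hu
    intro u v
    obtain ⟨x, hx, rfl⟩ := hsurj u
    obtain ⟨y, hy, rfl⟩ := hsurj v
    rw [← hall x hx, ← hall y hy, ← hg _ (hdQ x hx) _ (hdQ y hy), ← hg x hx y hy,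
      hf.inv d hd x hx y hy]
  have hZconj : ∀ d ∈ twoPt G a t, ∀ c : L, d * F.ι (zc c) * d⁻¹ ∈ Zsub G a := fun d hd c => by
    refine RankOneRecog.mem_Zsub_of_sq F.setup F.four
      (Q_conj F.setup (mem_twoPt.1 hd).1 (F.zc_mem_Q c)) ?_
    have h1 := Zsub_sq F.setup F.four (F.zc_mem c)
    calc d * F.ι (zc c) * d⁻¹ * (d * F.ι (zc c) * d⁻¹)
        = d * (F.ι (zc c) * F.ι (zc c)) * d⁻¹ := by group
      _ = 1 := by rw [h1]; group
  have hemb : ∀ l : L, l ≠ 0 → ∀ u v, g (T.emb l * u) (T.emb l * v) = g u v := by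
    intro l hl
    refine hscal _ ((map_ne_zero T.emb).2 hl) _ (F.kc_mem_twoPt (Units.mk0 l hl)) (fun g' => ?_)
      (hZconj _ (F.kc_mem_twoPt _))
    rw [← F.lab_kc_mul, F.cA_lab hR T, F.cA_lab hR T, bot_kc_mul, T.e_smul, mul_inv, map_inv₀,
      inv_inv]
    rfl
  obtain ⟨n, hn, hnZ, -⟩ := exists_exponent F.setup F.four
  rw [F.card_Z] at hnZ
  by_cases h5 : 5 ≤ Fintype.card L
  · exact eq_zero_of_big T.emb h5 g hgl hgr hemb
  -- four elements: an element of the torus of norm one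
  have hn2 : n = 2 := by
    by_contra hne
    have h8 : 2 ^ 3 ≤ 2 ^ n := Nat.pow_le_pow_right two_pos (by omega)
    omega
  subst hn2
  have hq4 : Fintype.card L = 4 := hnZ
  have hVbig := F.card_V_bound
  have hVne : (Vsub G a t : Subgroup G) ≠ ⊥ := fun e => by
    rw [e, Subgroup.card_bot, hq4] at hVbig
    omega
  obtain ⟨v₀, hv₀, hv₀1⟩ := (Subgroup.bot_or_exists_ne_one _).resolve_left hVne
  set w : Vsub G a t := ⟨v₀, hv₀⟩
  have hσ : ∀ v : Vsub G a t, v ∈ F.sigmaHom.ker := by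
    intro v
    rw [MonoidHom.mem_ker, ← orderOf_eq_one_iff]
    have hc : Nat.card (RingAut L) = 2 := card_ringAut (f := 2) (by rw [Nat.card_eq_fintype_card, hq4]; norm_num)
    have h1 : orderOf (F.sigmaHom v) ∣ 2 := hc ▸ orderOf_dvd_natCard _
    have h2 : Odd (orderOf (F.sigmaHom v)) := F.odd_card_V.of_dvd_nat
      ((orderOf_map_dvd F.sigmaHom v).trans (orderOf_dvd_natCard v))
    rcases (Nat.dvd_prime Nat.prime_two).1 h1 with h | h
    · exact h
    · rw [h] at h2; exact absurd h2 (by decide)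
  set ξ := F.xi hR T w with hξdef
  have he : ∀ r, T.e (F.semi w r) = ξ * T.e r :=
    fun r => F.semi_mul_of_tau hR T (MonoidHom.mem_ker.1 (F.tau_ker hR T (hσ w))) r
  -- the multiplier is outside the small field
  have hξL : ∀ l : L, ξ ≠ T.emb l := by
    intro l hl
    obtain ⟨r, hr⟩ : ∃ r : Row L, r ≠ 0 := exists_ne 0
    refine F.rhoW_free (w := ⟨w⁻¹, inv_mem (hσ w)⟩) (fun e => hv₀1 ?_) hr l ?_
    · have h1 : w⁻¹ = 1 := congrArg Subtype.val e
      exact congrArg Subtype.val (inv_eq_one.1 h1)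
    · show rowMul r (F.rho (w⁻¹)⁻¹) = l • r
      rw [inv_inv, ← F.semi_ker (hσ w)]
      refine T.e.injective ?_
      rw [he, T.e_smul, hl]
  have hξ0 : ξ ≠ 0 := F.xi_ne_zero hR T w
  have hξq : ξ ^ Nat.card L = ξ⁻¹ := eq_inv_of_mul_eq_one_left (by
    rw [← pow_succ]; exact F.xi_pow hR T w)
  have hq : Nat.card L = 4 := by rw [Nat.card_eq_fintype_card, hq4]
  obtain ⟨c, hc⟩ : ∃ c, T.emb c = ξ + ξ⁻¹ := (T.emb_range _).1 (by
    rw [Unitary.bar_add, inv_pow, hξq, inv_inv, add_comm])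
  have hc0 : c ≠ 0 := by
    rintro rfl
    rw [map_zero, eq_comm, CharTwo.add_eq_zero] at hc
    have h1 : ξ * ξ = 1 := by nth_rewrite 2 [hc]; exact mul_inv_cancel₀ hξ0
    exact hξL 1 (by rw [map_one]; exact CharTwo.sq_injective (R := K) (by simp [sq, h1]))
  have hc1 : c ≠ 1 := by
    rintro rfl
    rw [map_one] at hc
    have h3 : ξ ^ 3 = 1 := by
      have h4 : ξ * ξ + 1 = ξ := by
        field_simp at hc
        linear_combination -hc
      linear_combination (ξ + 1) * h4 - CharTwo.two_eq_zero (R := K)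
    have hfix : ξ ^ Nat.card L = ξ := by rw [hq, pow_succ, h3, one_mul]
    obtain ⟨l, hl⟩ := (T.emb_range _).1 hfix
    exact hξL l hl.symm
  -- scaling by the multiplier
  have hinvξ : ∀ u v, g (ξ⁻¹ * u) (ξ⁻¹ * v) = g u v := by
    refine hscal _ (inv_ne_zero hξ0) _ (F.mem_Vsub.1 w.2).1 (fun g' => ?_)
      (hZconj _ (F.mem_Vsub.1 w.2).1)
    rw [F.lab_conj, F.cA_lab hR T, F.cA_lab hR T, F.slMap_ker (hσ w), bot_mul,
      ← F.semi_ker (hσ w), he, mul_inv]
  have hiξ : ∀ u v, g (ξ * u) (ξ * v) = g u v := fun u v => by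
    rw [← hinvξ (ξ * u) (ξ * v), inv_mul_cancel_left₀ hξ0, inv_mul_cancel_left₀ hξ0]
  refine eq_zero_of_scalars g hgl hgr (l := ξ) (m := ξ⁻¹) (n := T.emb c) hξ0 (inv_ne_zero hξ0)
    ((map_ne_zero T.emb).2 hc0) hc.symm ?_ hiξ hinvξ (hemb c hc0)
  rw [inv_inv, add_comm ξ⁻¹ ξ, ← hc, ← map_inv₀, ← map_add, map_ne_zero, Ne, CharTwo.add_eq_zero]
  intro e
  refine hc1 (CharTwo.sq_injective (R := L) ?_)
  show c ^ 2 = 1 ^ 2
  rw [sq, one_pow]
  nth_rewrite 2 [e]
  exact mul_inv_cancel₀ hc0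

/-- **Vanishing**: an invariant biadditive map on `Q` trivial on `Zsub` is trivial. -/
theorem eq_zero (hS : Cfsg.IsRankOneSetup G Ω a t Q)
    (h2 : ∃ x y : G, x ≠ 1 ∧ y ≠ 1 ∧ x ≠ y ∧ x * x = 1 ∧ y * y = 1 ∧ x * y = y * x)
    {f : G → G → ZMod 2} (hf : IsInvForm a t Q f) : ∀ x ∈ Q, ∀ y ∈ Q, f x y = 0 := by
  classical
  by_cases hna : ∃ x y : Q, x * y ≠ y * x
  swap
  · push Not at hna
    have hZ : Zsub G a = Q := Subgroup.eq_of_le_of_card_ge (Zsub_le hS h2)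
      (card_eq_of_comm hS h2 fun x hx y hy => congrArg Subtype.val (hna ⟨x, hx⟩ ⟨y, hy⟩)).le
    exact fun x hx y hy => hf.right_Z x hx y (hZ.symm ▸ hy)
  rcases card_Q_cases hS h2 hna with hc | hc
  · -- the Suzuki case
    letI := kComm hS h2; letI := kAct hS h2
    obtain ⟨F, iF, iT, φ, p, j, ψ, hcard, hφ, hφodd, h2F, hp, hpsurj, hjadd, -, -, hker, -, hpk, hψ⟩ :=
      (qSetting hS h2).exists_coord_sq hna (by rw [hc, card_invols_Q hS h2])
    haveI : Fact (Nat.Prime 2) := ⟨Nat.prime_two⟩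
    haveI : CharP F 2 := CharTwo.of_one_ne_zero_of_two_eq_zero one_ne_zero (by
      rw [← one_add_one_eq_two]; exact h2F 1)
    let α : G → F := fun x => if hx : x ∈ Q then p ⟨x, hx⟩ else 0
    have hαQ : ∀ x : Q, α x = p x := fun x => dif_pos x.2
    obtain ⟨g, hg, hgl, hgr⟩ := exists_factor hf α
      (fun x hx y hy => by
        show α ((⟨x, hx⟩ * ⟨y, hy⟩ : Q) : G) = α (⟨x, hx⟩ : Q) + α (⟨y, hy⟩ : Q)
        rw [hαQ, hαQ, hαQ, hp])
      (fun x hx hx0 => by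
        have h1 : p ⟨x, hx⟩ = 0 := (hαQ ⟨x, hx⟩).symm.trans hx0
        obtain ⟨b, hb⟩ := (hker _).1 h1
        refine RankOneRecog.mem_Zsub_of_sq hS h2 hx ?_
        have h3 := congrArg Subtype.val (show j b * j b = 1 from ?_)
        · rw [hb] at h3; exact h3
        · rw [← hjadd, h2F]
          exact left_eq_mul.1 (show j 0 = j 0 * j 0 by rw [← hjadd, add_zero]))
      (fun k => by
        obtain ⟨x, hx⟩ := hpsurj k
        exact ⟨x, x.2, (hαQ x).trans hx⟩)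
    -- more than four elements
    have h5 : 5 ≤ Fintype.card F := by
      by_contra hlt
      have hne := hφ
      obtain ⟨e, -, he⟩ := FiniteField.card F 2
      rw [he] at hlt
      have he2 : (e : ℕ) ≤ 2 := by
        by_contra h3
        have h8 : 2 ^ 3 ≤ 2 ^ (e : ℕ) := Nat.pow_le_pow_right two_pos (by omega)
        omega
      have hc : Nat.card (RingAut F) = e := card_ringAut (by rw [Nat.card_eq_fintype_card, he])
      have hd : orderOf (φ : RingAut F) ∣ e := hc ▸ orderOf_dvd_natCard _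
      have h1 : orderOf (φ : RingAut F) = 1 := by
        have h0 : 0 < (e : ℕ) := e.pos
        have hle := Nat.le_of_dvd h0 hd
        obtain ⟨i, hi⟩ := hφodd
        omega
      exact hne (orderOf_eq_one_iff.1 h1)
    suffices hz : ∀ u v, g u v = 0 by
      intro x hx y hy
      rw [hg x hx y hy, hz]
    refine eq_zero_of_big (RingHom.id F) h5 g hgl hgr fun l hl u v => ?_
    obtain ⟨k, hk⟩ := hψ l hl
    obtain ⟨x, rfl⟩ := hpsurj u
    obtain ⟨y, rfl⟩ := hpsurj v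
    show g (l * p x) (l * p y) = g (p x) (p y)
    rw [← hk, ← hpk, ← hpk, ← hαQ, ← hαQ, ← hαQ, ← hαQ, ← hg _ (k • x).2 _ (k • y).2,
      ← hg _ x.2 _ y.2]
    exact hf.inv k (Ksub_le hS h2 k.2) x x.2 y y.2
  · obtain ⟨L, iF, iT, iC, -, -, ⟨F⟩⟩ := Unitary.exists_frame hS h2 hna hc
    exact eq_zero_frame F hf

end CfsgLib.StrongCrit.FormZero
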