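import Cfsg.Agent.Lib.StrongCrit.Transfer
import Cfsg.Agent.Lib.StrongCrit.Crit

/-!
In the setting of Aschbacher's criterion, if members at `c` centralising one bad involution commute:
a bad involution `u` at `c` is conjugate in the stabiliser of `c` to its product with each member at
`c` centralising it, and the order of the stabiliser is divisible accordingly.
-/

set_option autoImplicit false

namespace CfsgLib.StrongCrit

open CfsgLib.Involutions MulAction

universe u v

variable {G : Type u} [Group G] {Ω : Type v} [MulAction G Ω] {Z : Set G}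

/-- The members at `c` centralising `u`. -/
def cenSet (Z : Set G) (u : G) (c : Ω) : Set G := {t | t ∈ memAt Z c ∧ Commute u t}

theorem mem_cenSet {u t : G} {c : Ω} : t ∈ cenSet Z u c ↔ t ∈ memAt Z c ∧ Commute u t := Iff.rfl

theorem SecComm.commute_cenSet (hsec : SecComm Ω Z) {u a b : G} {c : Ω} (hu : IsBad Ω u)
    (huc : u • c = c) (ha : a ∈ cenSet Z u c) (hb : b ∈ cenSet Z u c) : Commute a b :=
  hsec c u hu huc a ha.1 b hb.1 ha.2 hb.2

namespace Setting

variable (h : Setting Ω Z)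
include h

theorem conj_cenSet {u t g : G} {c : Ω} (ht : t ∈ cenSet Z u c) :
    g * t * g⁻¹ ∈ cenSet Z (g * u * g⁻¹) (g • c) := by
  refine ⟨h.conj_memAt ht.1, ?_⟩
  show g * u * g⁻¹ * (g * t * g⁻¹) = g * t * g⁻¹ * (g * u * g⁻¹)
  rw [show g * u * g⁻¹ * (g * t * g⁻¹) = g * (u * t) * g⁻¹ by group, ht.2.eq]
  group

/-- The centraliser of a bad involution in the stabiliser is transitive on the members there
centralising it. -/
theorem exists_conj_cenSet [Finite G] {u s t : G} {c : Ω} (hu : IsBad Ω u)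
    (hs : s ∈ cenSet Z u c) (ht : t ∈ cenSet Z u c) :
    ∃ g : G, g • c = c ∧ Commute g u ∧ g * s * g⁻¹ = t := by
  obtain ⟨hu2, x, y, hxy, hx, hy⟩ := id hu
  obtain ⟨r, hr, hrc⟩ : ∃ r, u • r = r ∧ r ≠ c := by
    rcases eq_or_ne x c with rfl | hxc
    · exact ⟨y, hy, hxy.symm⟩
    · exact ⟨x, hx, hxc⟩
  obtain ⟨w, hw, huw⟩ := h.exists_memAt_commute hu2 hr
  have hle : ∀ {a b : G}, Commute u a → Commute u b →
      Subgroup.closure ({a, b} : Set G) ≤ Subgroup.centralizer {u} := by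
    intro a b ha hb
    rw [Subgroup.closure_le]
    rintro z (rfl | rfl) <;>
      simp only [SetLike.mem_coe, Subgroup.mem_centralizer_singleton_iff]
    · exact ha.eq.symm
    · exact hb.eq.symm
  obtain ⟨g, hg, hgs, hgc⟩ := h.exists_conj_of_ne hs.1 hw hrc.symm
  obtain ⟨g', hg', hgw, hgr⟩ := h.exists_conj_of_ne hw ht.1 hrc
  have h1 : Commute g u := Subgroup.mem_centralizer_singleton_iff.1 (hle hs.2 huw hg)
  have h2 : Commute g' u := Subgroup.mem_centralizer_singleton_iff.1 (hle huw ht.2 hg')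
  refine ⟨g' * g, by rw [mul_smul, hgc, hgr], h2.mul_left h1, ?_⟩
  rw [show g' * g * s * (g' * g)⁻¹ = g' * (g * s * g⁻¹) * g'⁻¹ by group, hgs, hgw]

/-- The product of two members centralising a bad involution is one, too. -/
theorem mul_mem_cenSet [Finite G] [Finite Ω] (hfaith : ∀ g : G, (∀ x : Ω, g • x = x) → g = 1)
    (hsec : SecComm Ω Z) {u s t : G} {c : Ω} (hu : IsBad Ω u) (huc : u • c = c)
    (hs : s ∈ cenSet Z u c) (ht : t ∈ cenSet Z u c) (hne : s ≠ t) : s * t ∈ cenSet Z u c :=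
  ⟨⟨h.mul_mem_of_commute hfaith hs.1.1 ht.1.1 (hsec.commute_cenSet hu huc hs ht) hne,
    by rw [mul_smul, ht.1.2, hs.1.2]⟩, hs.2.mul_right ht.2⟩

/-- A bad involution times a member centralising it is centralised by the same members. -/
theorem cenSet_mul [Finite G] [Finite Ω] (hfaith : ∀ g : G, (∀ x : Ω, g • x = x) → g = 1)
    (hsec : SecComm Ω Z) {u t : G} {c : Ω} (hu : IsBad Ω u) (huc : u • c = c)
    (ht : t ∈ cenSet Z u c) : cenSet Z (u * t) c = cenSet Z u c := by
  have hut : IsBad Ω (u * t) := h.isBad_mul hfaith hu ht.1.1 ht.2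
  have hutc : (u * t) • c = c := by rw [mul_smul, ht.1.2, huc]
  have htt : t ∈ cenSet Z (u * t) c := ⟨ht.1, ht.2.mul_left (Commute.refl t)⟩
  refine Set.ext fun s => ⟨fun hs => ⟨hs.1, ?_⟩, fun hs => ⟨hs.1, ?_⟩⟩
  · have h1 : Commute (u * t * t⁻¹) s :=
      hs.2.mul_left (hsec.commute_cenSet hut hutc htt hs).inv_left
    rwa [mul_inv_cancel_right] at h1
  · exact hs.2.mul_left (hsec.commute_cenSet hu huc ht hs)

/-- LEMMA N: a bad involution `u` is conjugate in the stabiliser of a fixed point `c` to `u * t` for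
every member `t` at `c` centralising it, by an element permuting these members. -/
theorem exists_conj_mul [Finite G] [Finite Ω] (hfaith : ∀ g : G, (∀ x : Ω, g • x = x) → g = 1)
    (hsec : SecComm Ω Z) {u t : G} {c : Ω} (hu : IsBad Ω u) (huc : u • c = c)
    (htwo : ∃ a ∈ cenSet Z u c, ∃ b ∈ cenSet Z u c, a ≠ b) (ht : t ∈ cenSet Z u c) :
    ∃ g : G, g • c = c ∧ g * u * g⁻¹ = u * t ∧
      ∀ s, s ∈ cenSet Z u c → g * s * g⁻¹ ∈ cenSet Z u c := by
  -- moving `u` to `u * s` for `s` different from a given member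
  have key : ∀ {z s : G}, z ∈ cenSet Z u c → s ∈ cenSet Z u c → z ≠ s →
      ∃ g : G, g • c = c ∧ g * u * g⁻¹ = u * s := by
    intro z s hz hs hne
    have huz : IsBad Ω (u * z) := h.isBad_mul hfaith hu hz.1.1 hz.2
    have hB := h.cenSet_mul hfaith hsec hu huc hz
    have hzs : z * s ∈ cenSet Z u c := h.mul_mem_cenSet hfaith hsec hu huc hz hs hne
    obtain ⟨g, hgc, hgu, hgz⟩ :=
      h.exists_conj_cenSet (s := z) (t := z * s) huz (hB ▸ hz) (hB ▸ hzs)
    refine ⟨g, hgc, ?_⟩
    have hcomm : Commute z s := hsec.commute_cenSet hu huc hz hs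
    calc g * u * g⁻¹ = g * (u * z) * g⁻¹ * (g * z * g⁻¹)⁻¹ := by group
      _ = u * z * (z * s)⁻¹ := by rw [hgz, hgu.eq, mul_inv_cancel_right]
      _ = u * s := by
        rw [mul_inv_rev, inv_eq_self_of_involution (h.invol s hs.1.1),
          inv_eq_self_of_involution (h.invol z hz.1.1), mul_assoc, ← mul_assoc z, hcomm.eq,
          mul_assoc s, mul_self_eq_one (h.invol z hz.1.1), mul_one]
  obtain ⟨a, ha, b, hb, hab⟩ := htwo
  obtain ⟨g, hgc, hgu⟩ : ∃ g : G, g • c = c ∧ g * u * g⁻¹ = u * t := by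
    rcases eq_or_ne a t with rfl | hat
    · exact key hb ht hab.symm
    · exact key ha ht hat
  refine ⟨g, hgc, hgu, fun s hs => ?_⟩
  have h1 := h.conj_cenSet (g := g) hs
  rwa [hgc, hgu, h.cenSet_mul hfaith hsec hu huc ht] at h1

/-- A bad involution is conjugate to its product with a member centralising it. -/
theorem isConj_mul [Finite G] [Finite Ω] (hfaith : ∀ g : G, (∀ x : Ω, g • x = x) → g = 1)
    (hsec : SecComm Ω Z) {u t : G} {c : Ω} (hu : IsBad Ω u) (huc : u • c = c)
    (htwo : ∃ a ∈ cenSet Z u c, ∃ b ∈ cenSet Z u c, a ≠ b) (ht : t ∈ cenSet Z u c) :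
    IsConj u (u * t) := by
  obtain ⟨g, -, hg, -⟩ := h.exists_conj_mul hfaith hsec hu huc htwo ht
  exact isConj_iff.2 ⟨g, hg⟩

/-- They fix equally many points. -/
theorem ncard_fixedBy_mul [Finite G] [Finite Ω] (hfaith : ∀ g : G, (∀ x : Ω, g • x = x) → g = 1)
    (hsec : SecComm Ω Z) {u t : G} {c : Ω} (hu : IsBad Ω u) (huc : u • c = c)
    (htwo : ∃ a ∈ cenSet Z u c, ∃ b ∈ cenSet Z u c, a ≠ b) (ht : t ∈ cenSet Z u c) :
    (MulAction.fixedBy Ω (u * t)).ncard = (MulAction.fixedBy Ω u).ncard := by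
  obtain ⟨g, -, hg, -⟩ := h.exists_conj_mul hfaith hsec hu huc htwo ht
  have himg : MulAction.fixedBy Ω (u * t) = (fun x => g • x) '' MulAction.fixedBy Ω u := by
    ext x
    simp only [MulAction.mem_fixedBy, Set.mem_image, ← hg]
    constructor
    · intro hx
      refine ⟨g⁻¹ • x, ?_, smul_inv_smul g x⟩
      calc u • g⁻¹ • x = g⁻¹ • (g * u * g⁻¹) • x := by simp only [smul_smul]; congr 1; group
        _ = g⁻¹ • x := by rw [hx]
    · rintro ⟨y, hy, rfl⟩
      exact conj_fix g hy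
  rw [himg, Set.ncard_image_of_injective _ (MulAction.injective g)]
where
  conj_fix (g : G) {u : G} {y : Ω} (hy : u • y = y) : (g * u * g⁻¹) • g • y = g • y := by
    rw [smul_smul, inv_mul_cancel_right, mul_smul, hy]

/-- The order of the stabiliser is divisible by `|B| + 1` times the order of the centraliser of `u`
in it, `B` the members centralising `u`. -/
theorem card_dvd_stabilizer [Finite G] [Finite Ω] (hfaith : ∀ g : G, (∀ x : Ω, g • x = x) → g = 1)
    (hsec : SecComm Ω Z) {u : G} {c : Ω} (hu : IsBad Ω u) (huc : u • c = c)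
    (htwo : ∃ a ∈ cenSet Z u c, ∃ b ∈ cenSet Z u c, a ≠ b) :
    ((cenSet Z u c).ncard + 1) * Nat.card (stabilizer G c ⊓ Subgroup.centralizer {u} : Subgroup G) ∣
      Nat.card (stabilizer G c) := by
  classical
  set B := cenSet Z u c with hBdef
  let A : Set G := insert u ((fun t => u * t) '' B)
  have hconjB : ∀ g : G, g • c = c → g * u * g⁻¹ ∈ A → ∀ x ∈ A, g * x * g⁻¹ ∈ A := by
    intro g hgc hgu x hx
    rcases hx with rfl | ⟨s, hs, rfl⟩
    · exact hgu
    have h1 := h.conj_cenSet (g := g) hs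
    rw [hgc] at h1
    rw [show g * (u * s) * g⁻¹ = g * u * g⁻¹ * (g * s * g⁻¹) by group]
    rcases hgu with he | ⟨t, ht, he⟩
    · rw [he] at h1 ⊢
      exact Or.inr ⟨_, h1, rfl⟩
    · rw [← he] at h1 ⊢
      rw [h.cenSet_mul hfaith hsec hu huc ht] at h1
      rcases eq_or_ne t (g * s * g⁻¹) with hst | hst
      · left
        rw [← hst, mul_assoc, mul_self_eq_one (h.invol t ht.1.1), mul_one]
      · exact Or.inr ⟨_, h.mul_mem_cenSet hfaith hsec hu huc ht h1 hst, (mul_assoc _ _ _).symm⟩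
  let N : Subgroup G :=
    { carrier := {g | g • c = c ∧ ∀ x, x ∈ A ↔ g * x * g⁻¹ ∈ A}
      one_mem' := ⟨one_smul G c, fun x => by simp⟩
      mul_mem' := fun {a b} ha hb => ⟨by rw [mul_smul, hb.1, ha.1], fun x => by
        rw [hb.2, ha.2, show a * (b * x * b⁻¹) * a⁻¹ = a * b * x * (a * b)⁻¹ by group]⟩
      inv_mem' := fun {a} ha => ⟨by rw [inv_smul_eq_iff, ha.1], fun x => by
        conv_rhs => rw [ha.2]
        rw [show a * (a⁻¹ * x * a⁻¹⁻¹) * a⁻¹ = x by group]⟩ }
  have hmemN : ∀ g : G, g • c = c → g * u * g⁻¹ ∈ A → g ∈ N := by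
    intro g hgc hgu
    refine ⟨hgc, fun x => ⟨hconjB g hgc hgu x, fun hx => ?_⟩⟩
    have hmaps : Set.MapsTo (fun x => g * x * g⁻¹) A A := hconjB g hgc hgu
    have hsurj := (Set.toFinite A).injOn_iff_bijOn_of_mapsTo hmaps |>.1
      (fun a _ b _ hab => by simpa using hab) |>.surjOn
    obtain ⟨y, hy, hyx⟩ := hsurj hx
    rwa [show x = y by simpa using hyx.symm]
  let act : MulAction N G :=
    { smul := fun g x => (g : G) * x * (g : G)⁻¹
      one_smul := fun x => by show (1 : G) * x * (1 : G)⁻¹ = x; group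
      mul_smul := fun g g' x => by
        show (g : G) * g' * x * ((g : G) * g')⁻¹ = g * (g' * x * (g' : G)⁻¹) * (g : G)⁻¹
        group }
  have horb : orbit N u = A := by
    ext x
    constructor
    · rintro ⟨⟨g, hg⟩, rfl⟩
      exact (hg.2 u).1 (Set.mem_insert u _)
    · rintro (rfl | ⟨t, ht, rfl⟩)
      · exact mem_orbit_self _
      · obtain ⟨g, hgc, hgu, -⟩ := h.exists_conj_mul hfaith hsec hu huc htwo ht
        exact ⟨⟨g, hmemN g hgc (hgu ▸ Or.inr ⟨t, ht, rfl⟩)⟩, hgu⟩
  have hA : A.ncard = B.ncard + 1 := by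
    rw [Set.ncard_insert_of_notMem, Set.ncard_image_of_injective _ (mul_right_injective u)]
    rintro ⟨t, ht, he⟩
    exact ne_one_of_involution (h.invol t ht.1.1) (mul_eq_left.1 he)
  have hstab : Nat.card (stabilizer N u) =
      Nat.card (stabilizer G c ⊓ Subgroup.centralizer {u} : Subgroup G) := by
    refine Nat.card_congr
      { toFun := fun g => ⟨(g.1 : G), g.1.2.1, Subgroup.mem_centralizer_singleton_iff.2
          (mul_inv_eq_iff_eq_mul.1 g.2)⟩
        invFun := fun g => ⟨⟨g.1, hmemN g.1 g.2.1 ?_⟩, ?_⟩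
        left_inv := fun g => rfl
        right_inv := fun g => rfl }
    · rw [mul_inv_eq_iff_eq_mul.2 (Subgroup.mem_centralizer_singleton_iff.1 g.2.2)]
      exact Set.mem_insert u _
    · exact mul_inv_eq_iff_eq_mul.2 (Subgroup.mem_centralizer_singleton_iff.1 g.2.2)
  have hcard : Nat.card (orbit N u) * Nat.card (stabilizer N u) = Nat.card N := by
    rw [← Subgroup.card_mul_index (stabilizer N u), index_stabilizer, Nat.card_coe_set_eq, mul_comm]
  rw [Nat.card_coe_set_eq, horb, hA, hstab] at hcard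
  rw [hcard]
  exact Subgroup.card_dvd_of_le fun g hg => hg.1

end Setting

end CfsgLib.StrongCrit
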