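import Cfsg.Agent.Lib.StrongCrit.Criterion
import Cfsg.Agent.Lib.StrongCrit.CritSections
import Cfsg.Agent.Lib.StrongCrit.Sign
import Cfsg.Agent.Lib.StrongCrit.W1.Pure
import Cfsg.Agent.Lib.OddOrder.PuigSeries

/-!
The induction of Aschbacher's criterion: the main theorem on `Crit` follows from the step in which
every proper subgroup generated by members is pure (all its involutions are members).
-/

set_option autoImplicit false

namespace CfsgLib.StrongCrit

open CfsgLib.Involutions MulAction

universe u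

/-- The inductive step. -/
def CritStep : Prop :=
  ∀ (G : Type u) [Group G] [Finite G] (Ω : Type u) [MulAction G Ω] [Finite Ω] (Z : Set G),
    Crit Ω Z → W1.PureBelow Ω Z → NoBad (G := G) Ω

variable {G : Type u} [Group G] [Finite G] {Ω : Type u} [MulAction G Ω] [Finite Ω] {Z : Set G}

namespace Crit

variable (hC : Crit Ω Z)
include hC

/-- A bad involution does not lie in the group generated by the members commuting with it. -/
theorem not_mem_memCent {w : G} (hw : IsBad Ω w) : w ∉ memCent Z w := by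
  intro hmem
  obtain ⟨hw2, x, y, hxy, hx, hy⟩ := id hw
  have h1 := hC.oddSect hw w (by rw [← memCent_eq]; exact hmem) x (mem_fixSet_zpowers.2 hx) y
    (mem_fixSet_zpowers.2 hy) hxy hx hy
  rw [hw2] at h1
  exact absurd h1 (by decide)

/-- The members in a subgroup, with two centres, satisfy the setting and the local condition on
their centres. -/
theorem exists_sub_setting {M : Subgroup G} (hM : W1.ZMulti Ω Z M) :
    ∃ act : MulAction (W1.memIn Z M) (W1.zCentres Ω Z M),
      (∀ (g : W1.memIn Z M) (x : W1.zCentres Ω Z M), ((act.smul g x : W1.zCentres Ω Z M) : Ω) = (g : G) • (x : Ω)) ∧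
      letI := act
      Setting (W1.zCentres Ω Z M) {t : W1.memIn Z M | (t : G) ∈ Z} ∧
        LocalOdd (W1.zCentres Ω Z M) {t : W1.memIn Z M | (t : G) ∈ Z} := by
  classical
  set L := W1.memIn Z M with hL
  set C := W1.zCentres Ω Z M with hC'
  have hLM : L ≤ M := W1.memIn_le Z M
  have hstab : ∀ g ∈ L, ∀ x ∈ C, g • x ∈ C := by
    rintro g hg x ⟨t, htM, htZ, htx⟩
    exact ⟨g * t * g⁻¹, mul_mem (mul_mem (hLM hg) htM) (inv_mem (hLM hg)),
      hC.base.conj_mem g t htZ, (hC.base.conj_memAt (g := g) ⟨htZ, htx⟩).2⟩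
  let act : MulAction L C :=
    { smul := fun g x => ⟨(g : G) • (x : Ω), hstab g g.2 x x.2⟩
      one_smul := fun x => Subtype.ext (one_smul G (x : Ω))
      mul_smul := fun g k x => Subtype.ext (mul_smul (g : G) (k : G) (x : Ω)) }
  refine ⟨act, fun g x => rfl, ?_⟩
  letI := act
  have hsm : ∀ (g : L) (x : C), ((g • x : C) : Ω) = (g : G) • (x : Ω) := fun _ _ => rfl
  have hpt : ∀ {x : C}, ∃ t : L, (t : G) ∈ Z ∧ (t : G) • (x : Ω) = x := by
    rintro ⟨x, t, htM, htZ, htx⟩
    exact ⟨⟨t, W1.mem_memIn htZ htM⟩, htZ, htx⟩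
  refine ⟨⟨?_, ?_, ?_, ?_, ?_, ?_, ?_, ?_⟩, ?_⟩
  · intro t ht
    rw [← Subgroup.orderOf_coe]
    exact hC.base.invol _ ht
  · intro g t ht
    exact hC.base.conj_mem _ _ ht
  · intro x y
    rcases eq_or_ne x y with rfl | hxy
    · exact ⟨1, one_smul _ x⟩
    obtain ⟨a, ha, hax⟩ := @hpt x
    obtain ⟨b, hb, hby⟩ := @hpt y
    obtain ⟨g, hg, -, hgy⟩ := hC.base.exists_conj_of_ne (s := (a : G)) (t := (b : G)) ⟨ha, hax⟩
      ⟨hb, hby⟩ (fun e => hxy (Subtype.ext e))
    have hgL : g ∈ L :=
      (Subgroup.closure_le L).2 (Set.insert_subset a.2 (Set.singleton_subset_iff.2 b.2)) hg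
    exact ⟨⟨g, hgL⟩, Subtype.ext hgy⟩
  · intro x
    obtain ⟨a, ha, b, hb, hab⟩ := hM
    rcases eq_or_ne (x : Ω) a with h | h
    · exact ⟨⟨b, hb⟩, fun e => hab (h.symm.trans (congrArg Subtype.val e).symm)⟩
    · exact ⟨⟨a, ha⟩, fun e => h (congrArg Subtype.val e).symm⟩
  · intro t ht
    obtain ⟨x, hx⟩ := hC.base.exists_fix _ ht
    exact ⟨⟨x, t, hLM t.2, ht, hx⟩, Subtype.ext hx⟩
  · intro t ht x y hx hy
    exact Subtype.ext (hC.base.unique _ ht _ _ (congrArg Subtype.val hx) (congrArg Subtype.val hy))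
  · intro s hs t ht hst hne x y hx hy
    exact Subtype.ext (hC.base.pair _ hs _ ht (congrArg Subtype.val hst)
      (fun e => hne (Subtype.ext e)) _ _ (congrArg Subtype.val hx) (congrArg Subtype.val hy))
  · -- a Sylow 2-subgroup of the stabiliser has a central involution among the members
    intro x T hT hTx
    have : Fact (Nat.Prime 2) := ⟨Nat.prime_two⟩
    set K : Subgroup L := stabilizer L x with hK
    obtain ⟨a, ha, hax⟩ := @hpt x
    let aK : K := ⟨a, Subtype.ext hax⟩
    obtain ⟨S0, hS0⟩ := (isPGroup_zpowers (u := aK) (by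
      rw [← Subgroup.orderOf_coe, ← Subgroup.orderOf_coe]; exact hC.base.invol _ ha)).exists_le_sylow
    obtain ⟨S, hS⟩ := (hT.comap_of_injective K.subtype K.subtype_injective).exists_le_sylow
    obtain ⟨k, hk⟩ := exists_smul_eq K S0 S
    -- the member in `S`
    set b : K := k * aK * k⁻¹ with hb
    have hbS : b ∈ (S : Subgroup K) := by
      rw [← hk, Sylow.coe_subgroup_smul, Subgroup.mem_pointwise_smul_iff_inv_smul_mem]
      have h1 := hS0 (Subgroup.mem_zpowers aK)
      convert h1 using 1
      simp [hb, MulAut.smul_def, MulAut.conj_apply, mul_assoc]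
    have hbZ : ((b : L) : G) ∈ Z := hC.base.conj_mem _ _ ha
    -- the subgroup generated by the members in `S` meets the centre of `S`
    let B : Set (S : Subgroup K) := {c | (((c : K) : L) : G) ∈ Z}
    let N : Subgroup (S : Subgroup K) := Subgroup.closure B
    have hNn : N.Normal := by
      refine ⟨fun n hn g => ?_⟩
      have hle : N.map (MulAut.conj g).toMonoidHom ≤ N := by
        rw [MonoidHom.map_closure, Subgroup.closure_le]
        rintro _ ⟨c, hc, rfl⟩
        exact Subgroup.subset_closure (hC.base.conj_mem _ _ hc)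
      exact hle ⟨n, hn, rfl⟩
    have hNne : N ≠ ⊥ := fun e => by
      have h1 : (⟨b, hbS⟩ : (S : Subgroup K)) ∈ N := Subgroup.subset_closure hbZ
      rw [e, Subgroup.mem_bot] at h1
      have h2 : ((b : L) : G) = 1 := by rw [show b = 1 from congrArg Subtype.val h1]; rfl
      exact ne_one_of_involution (hC.base.invol _ hbZ) h2
    obtain ⟨e, heN, hec, he2⟩ : ∃ e : (S : Subgroup K), e ∈ N ∧
        e ∈ Subgroup.center (S : Subgroup K) ∧ orderOf e = 2 := by
      have : Group.IsNilpotent (S : Subgroup K) := S.isPGroup'.isNilpotent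
      have hI : N ⊓ Subgroup.center (S : Subgroup K) ≠ ⊥ := by
        rw [inf_comm]; exact OddOrder.PuigSeries.inf_center_ne_bot N hNne
      have hd : 2 ∣ Nat.card ↥(N ⊓ Subgroup.center (S : Subgroup K)) := by
        obtain ⟨n, hn⟩ :=
          (S.isPGroup'.to_subgroup (N ⊓ Subgroup.center (S : Subgroup K))).exists_card_eq
        rcases n with _ | n
        · exact absurd (Subgroup.card_eq_one.1 (by simpa using hn)) hI
        · exact hn ▸ dvd_pow_self 2 (Nat.succ_ne_zero n)
      obtain ⟨⟨e, he⟩, he2⟩ :=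
        exists_prime_orderOf_dvd_card' (G := ↥(N ⊓ Subgroup.center (S : Subgroup K))) 2 hd
      exact ⟨e, he.1, he.2, by rwa [← Subgroup.orderOf_coe] at he2⟩
    set eG : G := (((e : K) : L) : G) with heG
    have heo : orderOf eG = 2 := by
      rw [heG, Subgroup.orderOf_coe, Subgroup.orderOf_coe, Subgroup.orderOf_coe, he2]
    have hex : eG • (x : Ω) = x := congrArg Subtype.val (show ((e : K) : L) • x = x from (e : K).2)
    have heZ : eG ∈ Z := by
      refine (hC.base.mem_or_isBad hC.faith heo hex).resolve_right fun hbad =>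
        hC.not_mem_memCent hbad ?_
      let ι : (S : Subgroup K) →* G := L.subtype.comp (K.subtype.comp (S : Subgroup K).subtype)
      have hle : N.map ι ≤ memCent Z eG := by
        rw [MonoidHom.map_closure, Subgroup.closure_le]
        rintro _ ⟨c, hc, rfl⟩
        exact Subgroup.subset_closure ⟨hc,
          ((Subgroup.mem_center_iff.1 hec c : c * e = e * c).symm ▸ rfl :
            ι (e * c) = ι (c * e)) |> fun h => by rw [map_mul, map_mul] at h; exact h⟩
      exact hle ⟨e, heN, rfl⟩
    refine ⟨((e : K) : L), heZ, (e : K).2, fun g hg => ?_⟩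
    let gK : K := ⟨g, hTx hg⟩
    have hgS : gK ∈ (S : Subgroup K) := hS hg
    exact congrArg (fun c : (S : Subgroup K) => ((c : K) : L))
      (Subgroup.mem_center_iff.1 hec ⟨gK, hgS⟩)
  · intro w hw c hwc g hg hgc k hk hk2 hkc hkg
    obtain ⟨hw2, p, q, hpq, hp, hq⟩ := hw
    have hwG : IsBad Ω (w : G) := ⟨by rw [Subgroup.orderOf_coe]; exact hw2, p, q,
      fun e => hpq (Subtype.ext e), congrArg Subtype.val hp, congrArg Subtype.val hq⟩
    have hmem : ∀ l ∈ memCent {t : L | (t : G) ∈ Z} w, (l : G) ∈ memCent Z (w : G) := by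
      intro l hl
      have hle : (memCent {t : L | (t : G) ∈ Z} w).map L.subtype ≤ memCent Z (w : G) := by
        rw [memCent, MonoidHom.map_closure, Subgroup.closure_le]
        rintro _ ⟨t, ht, rfl⟩
        exact Subgroup.subset_closure ⟨ht.1, congrArg Subtype.val ht.2⟩
      exact hle ⟨l, hl, rfl⟩
    have hw' : (w : G) • (c : Ω) = c := congrArg Subtype.val hwc
    have hfix : ∀ {v : G}, Commute (w : G) v → (w : G) • v • (c : Ω) = v • (c : Ω) :=
      fun {v} hv => by rw [smul_smul, hv.eq, mul_smul, hw']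
    have h1 := hC.oddSect hwG (k : G) (by rw [← memCent_eq]; exact hmem k hk) (c : Ω)
      (mem_fixSet_zpowers.2 hw') ((g : G) • (c : Ω))
      (mem_fixSet_zpowers.2 (hfix (commute_memCent (hmem g hg))))
      (fun e => hgc (Subtype.ext e.symm)) (congrArg Subtype.val hkc) (congrArg Subtype.val hkg)
    rw [Subgroup.orderOf_coe, hk2] at h1
    exact absurd h1 (by decide)

/-- By induction proper subgroups are pure. -/
theorem pureBelow
    (IH : ∀ (H : Type u) [Group H] [Finite H] (X : Type u) [MulAction H X] [Finite X] (W : Set H),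
      Nat.card H < Nat.card G → Crit X W → NoBad (G := H) X) : W1.PureBelow Ω Z := by
  classical
  intro M hne hM _ t ht ht2
  have hex := hC.exists_sub_setting hM
  set L := W1.memIn Z M with hL
  obtain ⟨act, -, hset, hloc⟩ := hex
  set ZL : Set L := {t : L | (t : G) ∈ Z} with hZL
  have hlt : Nat.card L < Nat.card G := by
    have hLne : L ≠ ⊤ := fun e => hne (top_le_iff.1 (e ▸ W1.memIn_le Z M))
    refine lt_of_le_of_ne (Subgroup.card_le_card_group L) fun e => hLne ?_
    exact Subgroup.eq_top_of_card_eq L e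
  have hgen : Subgroup.closure ZL = ⊤ := by
    have h1 : ZL = L.subtype ⁻¹' {x | x ∈ Z ∧ x ∈ M} := by
      ext s
      exact ⟨fun hs => ⟨hs, W1.memIn_le Z M s.2⟩, fun hs => hs.1⟩
    rw [h1]
    exact Subgroup.closure_closure_coe_preimage
  -- `t` fixes a centre
  obtain ⟨a, ha, -⟩ := hM
  have hodd := hset.odd_natCard ⟨a, ha⟩
  have : Fact (Nat.Prime 2) := ⟨Nat.prime_two⟩
  set tL : L := ⟨t, ht⟩ with htL
  have htL2 : orderOf tL = 2 := by rw [← Subgroup.orderOf_coe]; exact ht2
  obtain ⟨x, hx⟩ : ∃ x : W1.zCentres Ω Z M, tL • x = x := by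
    have hm := (isPGroup_zpowers htL2).card_modEq_card_fixedPoints (W1.zCentres Ω Z M)
    obtain ⟨⟨x, hx⟩⟩ : Nonempty (fixedPoints (Subgroup.zpowers tL) (W1.zCentres Ω Z M)) := by
      by_contra hc
      rw [not_nonempty_iff] at hc
      rw [Nat.card_of_isEmpty (α := fixedPoints _ _)] at hm
      exact absurd (Nat.odd_iff.1 hodd) (by rw [hm]; decide)
    exact ⟨x, hx ⟨tL, Subgroup.mem_zpowers tL⟩⟩
  have hIH : ∀ (H : Type u) [Group H] [Finite H] (X : Type u) [MulAction H X] [Finite X] (W : Set H),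
      Nat.card H ≤ Nat.card (Subgroup.closure ZL) → Crit X W → NoBad (G := H) X := by
    intro H _ _ X _ _ W hH hW
    exact IH H X W (lt_of_le_of_lt (hH.trans (Subgroup.card_le_card_group _)) hlt) hW
  -- `t` acts on the centres as a member does
  have huniq : ∀ y, tL • y = y → y = x := fun y hy => by
    by_contra hne'
    exact hset.noBad_closure_of_le hIH hloc ⟨htL2, y, x, hne', hy, hx⟩
      (by rw [hgen]; trivial)
  have hCL := hset.crit_range hloc
  set π := toPermHom L (W1.zCentres Ω Z M) with hπ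
  set q : (π.comp (Subgroup.closure ZL).subtype).range :=
    ⟨π tL, ⟨tL, hgen ▸ Subgroup.mem_top _⟩, rfl⟩ with hq
  have hq2 : orderOf q = 2 := by
    refine orderOf_eq_two_iff_mul.2 ⟨fun e => ?_, Subtype.ext ?_⟩
    · have h1 : π tL = 1 := congrArg Subtype.val e
      have h2 := hset.odd_order_trivial hloc (n := tL) (hgen ▸ Subgroup.mem_top _)
        fun z => Equiv.ext_iff.1 h1 z
      rw [htL2] at h2
      exact absurd h2 (by decide)
    · show π tL * π tL = 1
      rw [← map_mul, mul_self_eq_one htL2, map_one]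
  obtain ⟨s, hs, hsq⟩ := hCL.base.mem_of_unique hCL.faith hq2 (c := x) hx huniq
  have hsq' : ∀ z, s • z = tL • z := fun z => Equiv.ext_iff.1 hsq z
  have hstodd : Odd (orderOf (s * tL)) := hset.odd_order_trivial hloc (hgen ▸ Subgroup.mem_top _)
    fun z => by rw [mul_smul, hsq', smul_smul, mul_self_eq_one htL2, one_smul]
  obtain ⟨g, -, hg⟩ := conj_of_odd_order (hset.invol s hs) htL2 hstodd
  have h1 : tL ∈ ZL := hg ▸ hset.conj_mem g s hs
  exact h1

end Crit

/-- The main theorem from the inductive step. -/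
theorem criterionMain_of_step (step : CritStep.{u}) : CriterionMain.{u} := by
  intro G _ _ Ω _ _ Z hC
  induction hn : Nat.card G using Nat.strong_induction_on generalizing G Ω with
  | _ n IH =>
    subst hn
    exact step G Ω Z hC (hC.pureBelow fun H _ _ X _ _ W hlt hW => IH _ hlt H X W hW rfl)

end CfsgLib.StrongCrit
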