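import Cfsg.Agent.Lib.StrongCrit.TightCrit
import Cfsg.Agent.Lib.StrongCrit.FourReduce
import Cfsg.Agent.Lib.StrongCrit.Endgame

/-!
The case that members at a point do not all commute: by the count of swappers every bad involution
is then in the tight case, so no four group of bad involutions fixes two points and the tight case
gives a contradiction.
-/

set_option autoImplicit false

namespace CfsgLib.StrongCrit

open CfsgLib.Involutions MulAction

universe u

/-- Every bad involution fixes two more points than the members it centralises at one of them, and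
there are `k (k + 2)` members at a point. -/
def TightCount {G : Type u} [Group G] (Ω : Type u) [MulAction G Ω] (Z : Set G) : Prop :=
  ∀ (w : G) (c : Ω), IsBad Ω w → w • c = c →
    (fixedBy Ω w).ncard = (cenSet Z w c).ncard + 2 ∧
      (memAt Z c).ncard = (cenSet Z w c).ncard * ((cenSet Z w c).ncard + 2)

variable {G : Type u} [Group G] {Ω : Type u} [MulAction G Ω] {Z : Set G}

namespace Crit

variable (hC : Crit Ω Z) [Finite G] [Finite Ω] (hsc : SecComm Ω Z)
  (hbig : ∀ c : Ω, 1 < (memAt Z c).ncard) (hcount : TightCount Ω Z) (hab : ¬ AllCommute Ω Z)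
include hC hsc hbig hcount hab

/-- In the tight case no four group of bad involutions fixes two points. -/
theorem noFour_of_tightCount : NoFour (G := G) Ω := by
  intro a b ha hb hc x y hxy hax hay hbx hby
  by_contra hne
  exact hab (hC.four_centralize hsc (fun g c hg hgc => Or.inr (hcount g c hg hgc).2.symm) hbig ha hb
    hne hc hxy hax hay hbx hby).1

/-- The non-commuting case is impossible given the count. -/
theorem false_of_tightCount (hbad : ∃ w : G, IsBad Ω w) : False := by
  obtain ⟨w, hw⟩ := hbad
  obtain ⟨-, x, -, -, hx, -⟩ := id hw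
  obtain ⟨hF, hm⟩ := hcount w x hw hx
  exact hC.false_of_tight_case hsc hbig (hC.noFour_of_tightCount hsc hbig hcount hab) hw hx hF hm

end Crit

/-- `NonCommFalse` follows from the count. -/
theorem nonCommFalse_of_count
    (hcount : ∀ (G : Type u) [Group G] [Finite G] (Ω : Type u) [MulAction G Ω] [Finite Ω] (Z : Set G),
      Crit Ω Z → W1.PureBelow Ω Z → (∃ w : G, IsBad Ω w) → ¬ AllCommute Ω Z → TightCount Ω Z) :
    NonCommFalse.{u} := by
  intro G _ _ Ω _ _ Z hC hP hbad hab
  exact hC.false_of_tightCount (hC.secComm hP) (hC.one_lt_memAt hP hbad) (hcount G Ω Z hC hP hbad hab)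
    hab hbad

end CfsgLib.StrongCrit
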