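import Mathlib

/-!
Biadditive maps on a field equivariant for the multiplicative group: an alternating one into the
field (with any field endomorphism as twist) vanishes in characteristic two, and an invariant one
vanishes when the field has at least five elements.
-/

set_option autoImplicit false

namespace CfsgLib.StrongCrit

universe u v

variable {K : Type u} [Field K]

/-- An alternating biadditive equivariant map on a perfect field of characteristic two vanishes. -/
theorem equivariant_alternating_eq_zero [CharP K 2] (hsq : ∀ a : K, ∃ r : K, r ^ 2 = a)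
    (σ : K →+* K) (w : K →+ K →+ K) (halt : ∀ x, w x x = 0)
    (heq : ∀ m x y, w (m * x) (m * y) = σ m * w x y) : w = 0 := by
  set f := w 1 with hf
  have hw : ∀ x y : K, x ≠ 0 → w x y = σ x * f (y / x) := fun x y hx => by
    rw [hf, ← heq x 1 (y / x), mul_one, mul_div_cancel₀ _ hx]
  have hsym : ∀ x y : K, w x y = w y x := fun x y => by
    have h1 := halt (x + y)
    simp only [map_add, AddMonoidHom.add_apply, halt, zero_add, add_zero] at h1
    exact (CharTwo.add_eq_zero.1 h1).symm
  have hinv : ∀ x : K, x ≠ 0 → f x = σ x * f x⁻¹ := fun x hx => by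
    rw [hf, hsym 1 x, hw x 1 hx, one_div, hf]
  have hzero : ∀ x : K, f (x ^ 2) = 0 := by
    intro x
    rcases eq_or_ne x 0 with rfl | hx
    · simp
    rcases eq_or_ne x 1 with rfl | hx1
    · rw [one_pow]; exact halt 1
    have hx1' : x + 1 ≠ 0 := fun e => hx1 (CharTwo.add_eq_zero.1 e)
    have h2 : x * (x + 1) ≠ 0 := mul_ne_zero hx hx1'
    have hsum : (x * (x + 1))⁻¹ = x⁻¹ + (x + 1)⁻¹ := by
      field_simp
      linear_combination (-x) * CharTwo.two_eq_zero (R := K)
    have key := hinv _ h2
    rw [hsum, map_add, mul_add (σ (x * (x + 1)))] at key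
    have e1 : σ (x * (x + 1)) * f x⁻¹ = σ (x + 1) * f x := by
      rw [hinv x hx, map_mul]; ring
    have e2 : σ (x * (x + 1)) * f (x + 1)⁻¹ = σ x * f (x + 1) := by
      rw [hinv (x + 1) hx1', map_mul]; ring
    have hone : f 1 = 0 := halt 1
    rw [e1, e2, map_add f x 1, hone, add_zero, ← add_mul, map_add σ x 1, map_one,
      show x * (x + 1) = x ^ 2 + x by ring, map_add] at key
    have h3 : σ x + 1 + σ x = 1 := by
      rw [add_comm (σ x) 1, add_assoc, CharTwo.add_self_eq_zero, add_zero]
    rw [h3, one_mul] at key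
    exact add_eq_right.1 key
  have hf0 : f = 0 := AddMonoidHom.ext fun a => by
    obtain ⟨r, rfl⟩ := hsq a
    exact hzero r
  refine AddMonoidHom.ext fun x => AddMonoidHom.ext fun y => ?_
  rcases eq_or_ne x 0 with rfl | hx
  · simp
  · rw [hw x y hx, hf0]; simp

/-- A biadditive map invariant under the multiplicative group of a field with at least five
elements vanishes. -/
theorem invariant_pairing_eq_zero [Finite K] (hcard : 5 ≤ Nat.card K) {A : Type v} [AddCommGroup A]
    (b : K →+ K →+ A) (hinv : ∀ m x y, m ≠ 0 → b (m * x) (m * y) = b x y) : b = 0 := by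
  classical
  set g := b 1 with hg
  have hb : ∀ x y : K, x ≠ 0 → b x y = g (y / x) := fun x y hx => by
    rw [hg, ← hinv x 1 (y / x) hx, mul_one, mul_div_cancel₀ _ hx]
  have key : ∀ a x : K, x ≠ 0 → x + 1 ≠ 0 → g (a * (1 + x + x ^ 2)) = 0 := by
    intro a x hx hx1
    have h1 : b (x + 1) (a * (x * (x + 1))) = b x (a * (x * (x + 1))) + b 1 (a * (x * (x + 1))) := by
      rw [map_add, AddMonoidHom.add_apply]
    rw [hb _ _ hx1, hb _ _ hx, ← hg,
      show a * (x * (x + 1)) / (x + 1) = a * x by field_simp,
      show a * (x * (x + 1)) / x = a * x + a by field_simp,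
      map_add, add_assoc, left_eq_add, ← map_add] at h1
    rw [← h1]; congr 1; ring
  obtain ⟨x, hx, hx1, hp⟩ : ∃ x : K, x ≠ 0 ∧ x + 1 ≠ 0 ∧ 1 + x + x ^ 2 ≠ 0 := by
    by_contra hcon
    push Not at hcon
    have := Fintype.ofFinite K
    let P : Polynomial K := Polynomial.X * (Polynomial.X + Polynomial.C 1) *
      (Polynomial.X ^ 2 + Polynomial.X + Polynomial.C 1)
    have hdeg : P.natDegree = 4 := by simp only [P]; compute_degree!
    have hP : P ≠ 0 := fun e => by rw [e] at hdeg; simp at hdeg
    have hroot : ∀ y : K, P.IsRoot y := fun y => by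
      simp only [P, Polynomial.IsRoot.def, Polynomial.eval_mul, Polynomial.eval_add,
        Polynomial.eval_pow, Polynomial.eval_X, Polynomial.eval_C, mul_eq_zero]
      by_cases h0 : y = 0
      · exact Or.inl (Or.inl h0)
      · by_cases h1 : y + 1 = 0
        · exact Or.inl (Or.inr h1)
        · exact Or.inr (by rw [← hcon y h0 h1]; ring)
    have hle := Polynomial.card_roots' P
    have hsub : Finset.univ ⊆ P.roots.toFinset := fun y _ => by
      rw [Multiset.mem_toFinset, Polynomial.mem_roots hP]; exact hroot y
    have hc := (Finset.card_le_card hsub).trans (Multiset.toFinset_card_le _)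
    rw [Finset.card_univ, ← Nat.card_eq_fintype_card] at hc
    omega
  have hg0 : g = 0 := AddMonoidHom.ext fun a => by
    have := key (a / (1 + x + x ^ 2)) x hx hx1
    rwa [div_mul_cancel₀ _ hp] at this
  refine AddMonoidHom.ext fun y => AddMonoidHom.ext fun z => ?_
  rcases eq_or_ne y 0 with rfl | hy
  · simp
  · rw [hb y z hy, hg0]; simp

end CfsgLib.StrongCrit
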