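import Mathlib

/-!
Inversion on a field of characteristic two with more than eight elements is not a quadratic map, so a
module with a non-degenerate square map into the natural one has no constituent dual to it.
-/

set_option autoImplicit false

namespace CfsgLib.StrongCrit

universe u v

variable {K : Type u} [Field K]

/-- The third difference of a map at the origin, in characteristic two. -/
def thirdDiff {A : Type v} [AddCommGroup A] (h : K → A) (x y z : K) : A :=
  h (x + y + z) + h (x + y) + h (x + z) + h (y + z) + h x + h y + h z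

/-- Inversion has a non-zero third difference when there are more than eight elements. -/
theorem exists_thirdDiff_inv_ne_zero [CharP K 2] [Finite K] (hcard : 8 < Nat.card K) :
    ∃ x y z : K, thirdDiff (fun t : K => t⁻¹) x y z ≠ 0 := by
  classical
  by_contra hall
  push Not at hall
  have := Fintype.ofFinite K
  rw [Nat.card_eq_fintype_card] at hcard
  have h2 : (2 : K) = 0 := CharTwo.two_eq_zero
  obtain ⟨a, ha⟩ : ∃ a : K, a ∉ ({0, 1} : Finset K) := by
    by_contra hc
    push Not at hc
    have h1 := Finset.card_le_card (fun a (_ : a ∈ (Finset.univ : Finset K)) => hc a)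
    have h3 := Finset.card_le_two (a := (0 : K)) (b := 1)
    rw [Finset.card_univ] at h1
    omega
  simp only [Finset.mem_insert, Finset.mem_singleton, not_or] at ha
  obtain ⟨ha0, ha1⟩ := ha
  have ha1' : 1 + a ≠ 0 := fun e => ha1 (CharTwo.add_eq_zero.1 e).symm
  set U : Finset K := Finset.univ \ {0, 1, a, 1 + a} with hU
  have hUcard : 4 < U.card := by
    have h1 := Finset.le_card_sdiff ({0, 1, a, 1 + a} : Finset K) Finset.univ
    have h3 : ({0, 1, a, 1 + a} : Finset K).card ≤ 4 := Finset.card_le_four
    rw [Finset.card_univ] at h1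
    rw [hU]
    omega
  set C : K := 1⁻¹ + a⁻¹ + (1 + a)⁻¹ with hC
  have key : ∀ z ∈ U, z * (1 + z) * (a + z) * (1 + a + z) * C = a * (1 + a) := by
    intro z hz
    simp only [hU, Finset.mem_sdiff, Finset.mem_univ, true_and, Finset.mem_insert,
      Finset.mem_singleton, not_or] at hz
    obtain ⟨hz0, hz1, hza, hza1⟩ := hz
    have hz1' : 1 + z ≠ 0 := fun e => hz1 (CharTwo.add_eq_zero.1 e).symm
    have hza' : a + z ≠ 0 := fun e => hza (CharTwo.add_eq_zero.1 e).symm
    have hza1' : 1 + a + z ≠ 0 := fun e => hza1 (CharTwo.add_eq_zero.1 e).symm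
    have h4 : (1 + a + z)⁻¹ + (1 + z)⁻¹ + (a + z)⁻¹ + z⁻¹ + C = 0 := by
      have h5 := hall 1 a z
      simp only [thirdDiff] at h5
      rw [hC]
      linear_combination h5
    have h6 : z * (1 + z) * (a + z) * (1 + a + z) *
        ((1 + a + z)⁻¹ + (1 + z)⁻¹ + (a + z)⁻¹ + z⁻¹) = a * (1 + a) := by
      field_simp
      linear_combination (z + 2 * z ^ 3 + 3 * a * z ^ 2 + a ^ 2 * z + 3 * a * z + 3 * z ^ 2) * h2
    have h7 : C = (1 + a + z)⁻¹ + (1 + z)⁻¹ + (a + z)⁻¹ + z⁻¹ := by
      rw [eq_comm, ← CharTwo.add_eq_zero]
      exact h4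
    rw [h7, h6]
  have hC0 : C ≠ 0 := by
    intro e
    obtain ⟨z, hz⟩ := Finset.card_pos.1 (show 0 < U.card by omega)
    have h1 := key z hz
    rw [e, mul_zero] at h1
    exact mul_ne_zero ha0 ha1' h1.symm
  let P : Polynomial K := Polynomial.X * (Polynomial.X + Polynomial.C 1) *
    (Polynomial.X + Polynomial.C a) * (Polynomial.X + Polynomial.C (1 + a)) -
      Polynomial.C (a * (1 + a) / C)
  have hdeg : P.natDegree = 4 := by simp only [P]; compute_degree!
  have hP : P ≠ 0 := fun e => by rw [e] at hdeg; simp at hdeg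
  have hsub : U ⊆ P.roots.toFinset := by
    intro z hz
    rw [Multiset.mem_toFinset, Polynomial.mem_roots hP]
    simp only [P, Polynomial.IsRoot.def, Polynomial.eval_sub, Polynomial.eval_mul,
      Polynomial.eval_add, Polynomial.eval_X, Polynomial.eval_C, sub_eq_zero]
    rw [eq_div_iff hC0, ← key z hz]
    ring
  have h1 := (Finset.card_le_card hsub).trans (Multiset.toFinset_card_le _)
  have h3 := Polynomial.card_roots' P
  omega

/-- A quadratic map is never inversion composed with an injective additive map, when there are more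
than eight elements. -/
theorem false_of_quadratic_inv [CharP K 2] [Finite K] (hcard : 8 < Nat.card K) {A : Type v}
    [AddCommGroup A] (ψ : K →+ A) (hψ : Function.Injective ψ)
    (hquad : ∀ x y z : K, thirdDiff (fun t : K => ψ t⁻¹) x y z = 0) : False := by
  obtain ⟨x, y, z, hne⟩ := exists_thirdDiff_inv_ne_zero hcard
  apply hne
  apply hψ
  rw [map_zero, ← hquad x y z]
  simp only [thirdDiff, map_add]

end CfsgLib.StrongCrit
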