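import Mathlib
import Cfsg.Agent.Lib.Involutions.Basic

/-!
The setting of Aschbacher's criterion for strong embedding: a transitive action with a conjugation
invariant set `Z` of involutions, each fixing exactly one point.
-/

set_option autoImplicit false

namespace CfsgLib.StrongCrit

open MulAction

universe u v

/-- The setting: every member of `Z` fixes exactly one point, a bad involution is never the product
of two commuting members, and every 2-subgroup fixing a point is centralised by a member fixing it. -/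
structure Setting {G : Type u} [Group G] (Ω : Type v) [MulAction G Ω] (Z : Set G) : Prop where
  invol : ∀ t ∈ Z, orderOf t = 2
  conj_mem : ∀ g : G, ∀ t ∈ Z, g * t * g⁻¹ ∈ Z
  trans : ∀ x y : Ω, ∃ g : G, g • x = y
  nontriv : ∀ x : Ω, ∃ y, y ≠ x
  exists_fix : ∀ t ∈ Z, ∃ x : Ω, t • x = x
  unique : ∀ t ∈ Z, ∀ x y : Ω, t • x = x → t • y = y → x = y
  pair : ∀ s ∈ Z, ∀ t ∈ Z, Commute s t → s ≠ t → ∀ x y : Ω, (s * t) • x = x → (s * t) • y = y → x = y
  central : ∀ x : Ω, ∀ T : Subgroup G, IsPGroup 2 T → T ≤ stabilizer G x →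
    ∃ t ∈ Z, t • x = x ∧ ∀ g ∈ T, Commute g t

variable {G : Type u} [Group G] {Ω : Type v} [MulAction G Ω]

/-- The members with centre `c`. -/
def memAt (Z : Set G) (c : Ω) : Set G := {t | t ∈ Z ∧ t • c = c}

/-- The members mapping `x` to `y`. -/
def swapMem (Z : Set G) (x y : Ω) : Set G := {t | t ∈ Z ∧ t • x = y}

/-- An involution fixing at least two points. -/
def IsBad (Ω : Type v) [MulAction G Ω] (u : G) : Prop :=
  orderOf u = 2 ∧ ∃ x y : Ω, x ≠ y ∧ u • x = x ∧ u • y = y

end CfsgLib.StrongCrit
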