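import Cfsg.Agent.Lib.StrongCrit.Coset
import Cfsg.Agent.Lib.StrongCrit.Trans

/-!
The tight case of the criterion for strong embedding: a bad involution `u` at `c` whose fixed set has
two more points than there are members at `c` centralising it, such that each fixed point is the
centre of exactly one member centralising `u` and moving a given moved point like `u`.  The subgroup
permuting the coset of `u` acts on it with a regular normal 2-subgroup, so its 2-elements centralise
these members.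
-/

set_option autoImplicit false

namespace CfsgLib.StrongCrit

open CfsgLib.Involutions MulAction

universe u v

variable {G : Type u} [Group G]

/-- The hypotheses of the tight case. -/
structure TightHyp (Ω : Type v) [MulAction G Ω] (Z : Set G) (u : G) (c : Ω) : Prop where
  base : Setting Ω Z
  faith : ∀ g : G, (∀ x : Ω, g • x = x) → g = 1
  secComm : SecComm Ω Z
  bad : IsBad Ω u
  fix : u • c = c
  two : ∃ a ∈ cenSet Z u c, ∃ b ∈ cenSet Z u c, a ≠ b
  card_fix : (fixedBy Ω u).ncard = (cenSet Z u c).ncard + 2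
  swap : ∀ x : Ω, u • x ≠ x → ∀ d : Ω, u • d = d →
    ∃ t ∈ cenSet Z u d, t • x = u • x ∧ ∀ t' ∈ cenSet Z u d, t' • x = u • x → t' = t
  galois : ∃ (A : Type u) (_ : CommGroup A) (_ : IsCyclic A)
    (π : (stabilizer G c ⊓ Subgroup.centralizer {u} : Subgroup G) →* A),
    ∀ g : (stabilizer G c ⊓ Subgroup.centralizer {u} : Subgroup G),
      ((∀ b ∈ cenSet Z u c, Commute (g : G) b) → π g = 1) ∧
      (π g = 1 → ((∃ j, (g : G) ^ 2 ^ j = 1) ∨ ∃ w ∈ cenSet Z u c, Commute (g : G) w) →
        ∀ b ∈ cenSet Z u c, Commute (g : G) b)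
  trans_odd : ∀ a ∈ cenSet Z u c, ∀ b ∈ cenSet Z u c,
    ∃ g : G, g • c = c ∧ Commute g u ∧ Odd (orderOf g) ∧ g * a * g⁻¹ = b
  inv : ∀ v : G, IsBad Ω v → v • c = c → Commute v u → ∃ b ∈ cenGroup Z u c, v = u * b

variable {Ω : Type v} [MulAction G Ω] {Z : Set G}

/-- A power with odd index of an element, and a power of two killing it. -/
theorem exists_odd_split [Finite G] (g : G) :
    ∃ o j : ℕ, Odd o ∧ orderOf g = 2 ^ j * o ∧ (g ^ o) ^ 2 ^ j = 1 := by
  obtain ⟨j, o, hndvd, he⟩ := Nat.exists_eq_pow_mul_and_not_dvd (orderOf_pos g).ne' 2 (by norm_num)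
  refine ⟨o, j, Nat.not_even_iff_odd.1 fun ev => hndvd (even_iff_two_dvd.1 ev), he, ?_⟩
  rw [← pow_mul, mul_comm, ← he, pow_orderOf_eq_one]

namespace TightHyp

variable {u : G} {c : Ω} (H : TightHyp Ω Z u c) [Finite G] [Finite Ω]
include H

theorem mem_iff {g : G} : g ∈ cenGroup Z u c ↔ g = 1 ∨ g ∈ cenSet Z u c :=
  H.base.mem_cenGroup H.faith H.secComm H.bad H.fix

theorem sq {b : G} (hb : b ∈ cenGroup Z u c) : b * b = 1 :=
  H.base.cenGroup_sq H.faith H.secComm H.bad H.fix hb

theorem comm_self {b : G} (hb : b ∈ cenGroup Z u c) : Commute u b :=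
  H.base.cenGroup_commute_self H.faith H.secComm H.bad H.fix hb

theorem mem_cosetStab {g t : G} (hgc : g • c = c) (ht : t ∈ cenGroup Z u c)
    (hg : g * u * g⁻¹ = u * t) : g ∈ cosetStab Z u c :=
  H.base.mem_cosetStab H.faith H.secComm H.bad H.fix hgc ht hg

theorem mem_cosetStab_of_commute {g : G} (hgc : g • c = c) (hg : Commute g u) :
    g ∈ cosetStab Z u c :=
  H.mem_cosetStab hgc (one_mem _) (by rw [hg.eq, mul_inv_cancel_right, mul_one])

theorem norm {g b : G} (hg : g ∈ cosetStab Z u c) (hb : b ∈ cenGroup Z u c) :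
    g * b * g⁻¹ ∈ cenGroup Z u c :=
  H.base.cosetStab_norm H.faith H.secComm H.bad H.fix hg hb

/-- Every element of the coset is conjugate to `u` in `cosetStab`. -/
theorem exists_conj_coset {b : G} (hb : b ∈ cenGroup Z u c) :
    ∃ g ∈ cosetStab Z u c, g * u * g⁻¹ = u * b := by
  rcases H.mem_iff.1 hb with rfl | hb'
  · exact ⟨1, one_mem _, by simp⟩
  · obtain ⟨g, hgc, hgu, -⟩ := H.base.exists_conj_mul H.faith H.secComm H.bad H.fix H.two hb'
    exact ⟨g, H.mem_cosetStab hgc hb hgu, hgu⟩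

theorem card_fix_mul {w : G} (hw : w ∈ cenSet Z u c) :
    (fixedBy Ω (u * w)).ncard = (cenSet Z (u * w) c).ncard + 2 := by
  rw [H.base.ncard_fixedBy_mul H.faith H.secComm H.bad H.fix H.two hw,
    H.base.cenSet_mul H.faith H.secComm H.bad H.fix hw, H.card_fix]

/-- For `w` at `c` and `x` fixed by `u * w` there is exactly one member at `x` centralising `u * w`
taking `c` to `u • x`. -/
theorem exists_member_at {w : G} (hw : w ∈ cenSet Z u c) {x : Ω} (hx : (u * w) • x = x)
    (hxc : x ≠ c) : ∃ s ∈ cenSet Z (u * w) x, s • c = u • x ∧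
      ∀ s' ∈ cenSet Z (u * w) x, s' • c = u • x → s' = s := by
  have huw : IsBad Ω (u * w) := H.base.isBad_mul H.faith H.bad hw.1.1 hw.2
  have hwc : (u * w) • c = c := by rw [mul_smul, hw.1.2, H.fix]
  have hinj : Set.InjOn (fun s : G => s • c) (cenSet Z (u * w) x) := by
    intro a ha b hb e
    by_contra hab
    have h1 := H.base.mul_mem_cenSet H.faith H.secComm huw hx ha hb hab
    refine hxc (H.base.unique _ h1.1.1 x c h1.1.2 ?_)
    simp only at e
    rw [mul_smul, ← e, smul_smul, mul_self_eq_one (H.base.invol a ha.1.1), one_smul]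
  have hcnt : (cenSet Z (u * w) x).ncard = (cenSet Z (u * w) c).ncard :=
    H.base.ncard_cenMem_eq huw.1 hx hwc
  have hsub : (fun s : G => s • c) '' cenSet Z (u * w) x ⊆ (fixedBy Ω (u * w) \ {c}) \ {x} := by
    rintro _ ⟨s, hs, rfl⟩
    refine ⟨⟨?_, fun e => hxc (H.base.unique s hs.1.1 x c hs.1.2 e)⟩, fun e => hxc ?_⟩
    · show (u * w) • s • c = s • c
      rw [smul_smul, hs.2.eq, mul_smul, hwc]
    · exact (MulAction.injective s ((e : s • c = x).trans hs.1.2.symm)).symm
  have heq := Set.eq_of_subset_of_ncard_le hsub (by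
    rw [hinj.ncard_image, Set.ncard_sdiff ((Set.singleton_subset_iff.2 ⟨hx, hxc⟩) :
        ({x} : Set Ω) ⊆ fixedBy Ω (u * w) \ {c}),
      Set.ncard_sdiff ((Set.singleton_subset_iff.2 hwc) : ({c} : Set Ω) ⊆ fixedBy Ω (u * w)),
      Set.ncard_singleton, Set.ncard_singleton, H.card_fix_mul hw, hcnt]
    omega) (Set.toFinite _)
  have hux : (u * w) • u • x = u • x := by
    rw [smul_smul, ((Commute.refl u).mul_left hw.2.symm).eq, mul_smul, hx]
  have hne1 : u • x ≠ c := fun e => hxc (MulAction.injective u (e.trans H.fix.symm))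
  have hne2 : u • x ≠ x := fun e => by
    have h2 : w • x = x := by
      rw [mul_smul] at hx
      exact MulAction.injective u (hx.trans e.symm)
    exact hxc (H.base.unique w hw.1.1 x c h2 hw.1.2)
  obtain ⟨s, hs, hsc⟩ := heq.ge ⟨⟨hux, hne1⟩, hne2⟩
  exact ⟨s, hs, hsc, fun s' hs' h' => hinj hs' hs (h'.trans hsc.symm)⟩

/-- An odd group centralising `u` and `w` centralises an element moving `u` to `u` times a member. -/
theorem exists_swapper {w : G} (hw : w ∈ cenSet Z u c) {W : Subgroup G} (hW : Odd (Nat.card W))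
    (hWc : ∀ g ∈ W, g • c = c) (hWu : ∀ g ∈ W, Commute g u) (hWw : ∀ g ∈ W, Commute g w) :
    ∃ d : G, ∃ v ∈ cenSet Z u c, d • c = c ∧ d * u * d⁻¹ = u * v ∧ d * d = v ∧
      ∀ g ∈ W, Commute g d ∧ Commute g v := by
  have hh := H.base
  have hnorm : ∀ g ∈ W, ∀ b ∈ cenGroup Z u c, g * b * g⁻¹ ∈ cenGroup Z u c := fun g hg b hb =>
    H.norm (H.mem_cosetStab_of_commute (hWc g hg) (hWu g hg)) hb
  have huw : IsBad Ω (u * w) := hh.isBad_mul H.faith H.bad hw.1.1 hw.2
  have huwc : (u * w) • c = c := by rw [mul_smul, hw.1.2, H.fix]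
  have hKw := hh.cenGroup_mul H.faith H.secComm H.bad H.fix (H.mem_iff.2 (Or.inr hw))
  -- an odd group fixes a point in the fixed set of each element of the coset
  have hfixpt : ∀ {u' : G}, IsBad Ω u' → u' • c = c → cenGroup Z u' c = cenGroup Z u c →
      (fixedBy Ω u').ncard = (cenSet Z u' c).ncard + 2 → (∀ g ∈ W, Commute g u') →
      ∃ p : Ω, u' • p = p ∧ p ≠ c ∧ ∀ g ∈ W, g • p = p := by
    intro u' hu' hu'c hK hcard hWu'
    obtain ⟨hu2, x, y, hxy, hx, hy⟩ := id hu'
    obtain ⟨p, hp, hpc⟩ : ∃ p, u' • p = p ∧ p ≠ c := by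
      rcases eq_or_ne x c with rfl | hxc
      · exact ⟨y, hy, hxy.symm⟩
      · exact ⟨x, hx, hxc⟩
    obtain ⟨b, hb, hfix⟩ := exists_fixed_of_odd (p := p) (K := cenGroup Z u c) hW (fun b hb => H.sq hb)
      hnorm (fun g hg => by
        obtain ⟨b, hb, hbp⟩ := hh.exists_cenGroup_smul H.faith H.secComm hu' hu'c hcard hp hpc
          (q := g • p) (by rw [smul_smul, ← (hWu' g hg).eq, mul_smul, hp])
          (fun e => hpc (MulAction.injective g (e.trans (hWc g hg).symm)))
        exact ⟨b, hK ▸ hb, hbp.symm⟩)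
      (fun b hb hbp => hh.cenGroup_free H.faith H.secComm H.bad H.fix hb hpc hbp)
    refine ⟨b • p, ?_, fun e => hpc (MulAction.injective b
      (e.trans (hh.cenGroup_fix H.faith H.secComm H.bad H.fix hb).symm)), hfix⟩
    rw [← hK] at hb
    rw [smul_smul, (hh.cenGroup_commute_self H.faith H.secComm hu' hu'c hb).eq, mul_smul, hp]
  obtain ⟨P, hP, hPc, hWP⟩ := hfixpt H.bad H.fix rfl H.card_fix hWu
  obtain ⟨x, hx, hxc, hWx⟩ := hfixpt huw huwc hKw (H.card_fix_mul hw)
    (fun g hg => (hWu g hg).mul_right (hWw g hg))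
  obtain ⟨s, hs, hsc, hsu⟩ := H.exists_member_at hw hx hxc
  have hne : u • x ≠ x := fun e => by
    rw [mul_smul] at hx
    exact hxc (hh.unique w hw.1.1 x c (MulAction.injective u (hx.trans e.symm)) hw.1.2)
  obtain ⟨t, ht, htx, htu⟩ := H.swap x hne P hP
  have hWux : ∀ g ∈ W, g • u • x = u • x := fun g hg => by
    rw [smul_smul, (hWu g hg).eq, mul_smul, hWx g hg]
  -- uniqueness makes `W` centralise both members
  have hWs : ∀ g ∈ W, Commute g s := fun g hg => mul_inv_eq_iff_eq_mul.1 (hsu (g * s * g⁻¹) ⟨by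
      have := hh.conj_memAt (g := g) hs.1
      rwa [hWx g hg] at this,
      (((hWu g hg).mul_right (hWw g hg)).symm.mul_right hs.2).mul_right
        ((hWu g hg).mul_right (hWw g hg)).symm.inv_right⟩
    (by rw [mul_smul, mul_smul, inv_smul_eq_iff.2 (hWc g hg).symm, hsc, hWux g hg]))
  have hWt : ∀ g ∈ W, Commute g t := fun g hg => mul_inv_eq_iff_eq_mul.1 (htu (g * t * g⁻¹) ⟨by
      have := hh.conj_memAt (g := g) ht.1
      rwa [hWP g hg] at this,
      ((hWu g hg).symm.mul_right ht.2).mul_right (hWu g hg).symm.inv_right⟩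
    (by rw [mul_smul, mul_smul, inv_smul_eq_iff.2 (hWx g hg).symm, htx, hWux g hg]))
  have hs2 := mul_self_eq_one (hh.invol s hs.1.1)
  have ht2 := mul_self_eq_one (hh.invol t ht.1.1)
  -- the conjugate of `s` with centre `c` does not centralise `u`
  set e := s * t * s * (s * t)⁻¹ with he
  have heZ : e ∈ memAt Z c := by
    have := hh.conj_memAt (g := s * t) hs.1
    rwa [mul_smul, htx, ← hsc, smul_smul, hs2, one_smul] at this
  have hnc : ¬ Commute u e := fun hue => by
    have hemem : e ∈ cenSet Z (u * w) c := by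
      rw [hh.cenSet_mul H.faith H.secComm H.bad H.fix hw]; exact ⟨heZ, hue⟩
    -- `e` commutes with `u * w`, so `t • c` is fixed by `u` and by `u * w`
    have h8 : (u * w) • t • c = t • c := by
      have h10 : (u * w) • e • x = e • x := by rw [smul_smul, hemem.2.eq, mul_smul, hx]
      have h11 : e • x = s • t • c := by
        have : x = (s * t) • u • x := by
          rw [mul_smul, ← htx, smul_smul t t, ht2, one_smul, hs.1.2]
        conv_lhs => rw [this]
        rw [he, smul_smul, inv_mul_cancel_right, mul_smul, mul_smul]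
        congr 2
        rw [← hsc, smul_smul, hs2, one_smul]
      rw [h11, smul_smul, hs.2.eq, mul_smul] at h10
      exact MulAction.injective s h10
    have h12 : u • t • c = t • c := by rw [smul_smul, ht.2.eq, mul_smul, H.fix]
    rw [mul_smul] at h8
    have h13 : w • t • c = t • c := MulAction.injective u (h8.trans h12.symm)
    exact hPc (hh.unique t ht.1.1 P c ht.1.2 (hh.unique w hw.1.1 _ c h13 hw.1.2))
  -- the central involution of `⟨u, e⟩`
  have he2 := hh.invol e heZ.1
  have hev : Even (orderOf (u * e)) := even_order_of_not_isConj H.bad.1 he2 fun hc => by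
    obtain ⟨g, hg⟩ := isConj_iff.1 hc
    obtain ⟨-, x', y', hne', hx', hy'⟩ := isBad_conj H.bad g
    rw [hg] at hx' hy'
    exact hne' (hh.unique e heZ.1 x' y' hx' hy')
  set r := u * e with hr
  set n := orderOf r / 2 with hn
  obtain ⟨hv2, hvu, hve⟩ := central_involution H.bad.1 he2 hev
  rw [← hr, ← hn] at hv2 hvu hve
  set v := r ^ n with hvdef
  have hrc : r • c = c := by rw [hr, mul_smul, heZ.2, H.fix]
  have hpowc : ∀ k : ℕ, r ^ k • c = c := fun k => by
    induction k with
    | zero => simp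
    | succ k ih => rw [pow_succ, mul_smul, hrc, ih]
  have hvc : v • c = c := hpowc n
  have hvmem : v ∈ cenSet Z u c := by
    rcases hh.mem_or_isBad H.faith hv2 hvc with hv | hv
    · exact ⟨⟨hv, hvc⟩, hvu.symm⟩
    · exfalso
      obtain ⟨b, hb, hvb⟩ := H.inv v hv hvc hvu
      rcases H.mem_iff.1 hb with rfl | hb
      · rw [mul_one] at hvb
        exact hnc (hvb ▸ hve)
      · have h1 : e ∈ cenSet Z (u * b) c := ⟨heZ, hvb ▸ hve⟩
        rw [hh.cenSet_mul H.faith H.secComm H.bad H.fix hb] at h1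
        exact hnc h1.2
  have hinv : ∀ k : ℕ, u * r ^ k * u⁻¹ = (r ^ k)⁻¹ := fun k =>
    inverts_pow (left_inverts_prod H.bad.1 he2) k
  have hneven : Even n := by
    by_contra hodd
    obtain ⟨k, hk⟩ := Nat.not_even_iff_odd.1 hodd
    have hconj : (r ^ k)⁻¹ * e * r ^ k = u * v := by
      have h1 : u * (r ^ k)⁻¹ = r ^ k * u := by
        have := hinv k
        rw [← this, ← mul_assoc, ← mul_assoc, mul_self_eq_one H.bad.1, one_mul,
          inv_eq_self_of_involution H.bad.1]
      have h2 : e = u * r := by rw [hr, ← mul_assoc, mul_self_eq_one H.bad.1, one_mul]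
      rw [hvdef, hk, h2]
      have h3 : (r ^ k)⁻¹ * u = u * r ^ k := by
        calc (r ^ k)⁻¹ * u = (u * u) * (r ^ k)⁻¹ * u := by rw [mul_self_eq_one H.bad.1, one_mul]
          _ = u * (u * (r ^ k)⁻¹) * u := by group
          _ = u * (r ^ k * u) * u := by rw [h1]
          _ = u * r ^ k * (u * u) := by group
          _ = u * r ^ k := by rw [mul_self_eq_one H.bad.1, mul_one]
      rw [← mul_assoc, h3, show 2 * k + 1 = k + (1 + k) by ring, pow_add, pow_add, pow_one]
      group
    have hbadv := hh.isBad_mul H.faith H.bad hvmem.1.1 hvmem.2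
    rw [← hconj] at hbadv
    obtain ⟨-, x', y', hne', hx', hy'⟩ := hbadv
    have hmem := hh.conj_mem (r ^ k)⁻¹ e heZ.1
    rw [inv_inv] at hmem
    exact hne' (hh.unique _ hmem x' y' hx' hy')
  obtain ⟨k, hk⟩ := hneven
  refine ⟨(r ^ k)⁻¹, v, hvmem, ?_, ?_, ?_, fun g hg => ?_⟩
  · rw [inv_smul_eq_iff, hpowc]
  · rw [inv_inv, hvdef, hk, pow_add]
    have h1 : u * r ^ k = (r ^ k)⁻¹ * u := by rw [← hinv k, inv_mul_cancel_right]
    rw [← mul_assoc u, h1]
  · rw [← mul_inv_rev, ← pow_add, ← hk, ← hvdef, inv_eq_self_of_involution hv2]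
  · have hge : Commute g e :=
      (((hWs g hg).mul_right (hWt g hg)).mul_right (hWs g hg)).mul_right
        ((hWs g hg).mul_right (hWt g hg)).inv_right
    exact ⟨(((hWu g hg).mul_right hge).pow_right k).inv_right, ((hWu g hg).mul_right hge).pow_right n⟩

end TightHyp

end CfsgLib.StrongCrit
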