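import Cfsg.Agent.Lib.StrongCrit.CritSections
import Cfsg.Agent.Lib.BenderQ.Linear

/-!
The section of a bad involution: the elements fixing two of its points that are inverted by a member
interchanging them form a cyclic group regular on the members at either point.
-/

set_option autoImplicit false

namespace CfsgLib.StrongCrit

open CfsgLib.Involutions CfsgLib.BenderTrans CfsgLib.BenderQ MulAction

universe u

variable {G : Type u} [Group G] {Ω : Type u} [MulAction G Ω] {Z : Set G}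

/-- The elements of the section fixing `c` and `y` inverted by `r`. -/
def torusSet (Z : Set G) (w : G) (c y : Ω) (r : G) : Set G :=
  {d | d ∈ memCent Z w ∧ d • c = c ∧ d • y = y ∧ r * d * r⁻¹ = d⁻¹}

namespace Crit

variable (hC : Crit Ω Z)
include hC

variable [Finite G] [Finite Ω] (hsc : SecComm Ω Z) (hbig : ∀ c : Ω, 1 < (memAt Z c).ncard)
include hsc hbig

/-- The inverted elements form a cyclic group. -/
theorem exists_cyclic_torus {w : G} (hw : IsBad Ω w) {c y : Ω} (hc : w • c = c) (hy : w • y = y)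
    (hyc : y ≠ c) {r : G} (hr : r ∈ swapMem Z c y) (hwr : Commute w r) :
    ∃ J : Subgroup G, (J : Set G) = torusSet Z w c y r ∧ IsCyclic J := by
  have hodd : ∀ X : Type u, ∀ _ : Group X, ∀ _ : Finite X, Odd (Nat.card X) → Group.IsSolvable X :=
    fun X i i' hX => @CfsgLib.PF.oddSolvable X i i' hX
  have hS := hC.sectSetting_bad hsc hbig hw
  have hrL : r ∈ memCent Z w := Subgroup.subset_closure ⟨hr.1, hwr⟩
  have hr2 := hC.base.invol r hr.1
  set f := hS.toPerm.rangeRestrict with hf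
  let c' : ({x : Ω | w • x = x} : Set Ω) := ⟨c, hc⟩
  let y' : ({x : Ω | w • x = x} : Set Ω) := ⟨y, hy⟩
  have hyc' : y' ≠ c' := fun e => hyc (congrArg Subtype.val e)
  obtain ⟨Qb, hQb⟩ := hS.exists_kernel c'
  have hcon : Concl hS.toPerm.range ({x : Ω | w • x = x} : Set Ω) :=
    concl_of_card_le _ _ _ le_rfl hodd hS.oneFix hS.faith hS.hasFour
  have hcomm : ∀ s ∈ invAt hS.toPerm.range c', ∀ t ∈ invAt hS.toPerm.range c', Commute s t :=
    fun s hs t ht => commute_invAt_kernel hS.oneFix hQb hs (hQb.invol_mem hS.oneFix ht)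
  obtain ⟨J', hJ', hJc⟩ := exists_cyclic_invSet_of_oneFix hodd hS.oneFix hS.faith hS.hasFour hcon
    hcomm hyc' (r := f ⟨r, hrL⟩)
    ⟨hS.orderOf_image (g := ⟨r, hrL⟩) hr2, Subtype.ext hr.2⟩
  have himg : ∀ d : G, ∀ hd : d ∈ memCent Z w, d ∈ torusSet Z w c y r → f ⟨d, hd⟩ ∈ J' := by
    rintro d hd ⟨-, hdc, hdy, hdr⟩
    show f ⟨d, hd⟩ ∈ (J' : Set hS.toPerm.range)
    rw [hJ']
    refine ⟨mem_two_iff.2 ⟨Subtype.ext hdc, Subtype.ext hdy⟩, ?_⟩
    rw [← map_inv f, ← map_inv f, ← map_mul, ← map_mul]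
    exact congrArg f (Subtype.ext hdr)
  set S : Set (memCent Z w) := {d | (d : G) ∈ torusSet Z w c y r}
  have hW : Subgroup.closure S ≤ J'.comap f :=
    (Subgroup.closure_le _).2 fun d hd => himg d d.2 hd
  let φ : Subgroup.closure S →* J' :=
    (f.comp (Subgroup.closure S).subtype).codRestrict J' fun d => hW d.2
  have hφker : φ.ker ≤ Subgroup.center (Subgroup.closure S) := fun d hd =>
    Subgroup.mem_center_iff.2 fun e => Subtype.ext (Subtype.ext
      (hC.commute_kernel hsc hbig hw (d : memCent Z w).2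
        (hS.toPerm_eq_one.1 (congrArg Subtype.val
          (show f (d : memCent Z w) = 1 from congrArg Subtype.val (MonoidHom.mem_ker.1 hd))))
        (e : memCent Z w).2).eq.symm)
  have := φ.isMulCommutative_of_isCyclic_of_ker_le_center hφker
  have hab : ∀ a b : Subgroup.closure S, a * b = b * a := mul_comm'
  let J : Subgroup G :=
    { carrier := torusSet Z w c y r
      one_mem' := ⟨one_mem _, one_smul G c, one_smul G y, by simp⟩
      mul_mem' := by
        rintro a b ⟨haL, hac, hay, har⟩ ⟨hbL, hbc, hby, hbr⟩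
        refine ⟨mul_mem haL hbL, by rw [mul_smul, hbc, hac], by rw [mul_smul, hby, hay], ?_⟩
        have h2 : a * b = b * a := congrArg (fun z : Subgroup.closure S => ((z : memCent Z w) : G))
          (hab ⟨⟨a, haL⟩, Subgroup.subset_closure ⟨haL, hac, hay, har⟩⟩
            ⟨⟨b, hbL⟩, Subgroup.subset_closure ⟨hbL, hbc, hby, hbr⟩⟩)
        calc r * (a * b) * r⁻¹ = (r * a * r⁻¹) * (r * b * r⁻¹) := by group
          _ = (b * a)⁻¹ := by rw [har, hbr, mul_inv_rev]
          _ = (a * b)⁻¹ := by rw [h2]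
      inv_mem' := by
        rintro a ⟨haL, hac, hay, har⟩
        refine ⟨inv_mem haL, inv_smul_eq_iff.2 hac.symm, inv_smul_eq_iff.2 hay.symm, ?_⟩
        rw [show r * a⁻¹ * r⁻¹ = (r * a * r⁻¹)⁻¹ by group, har] }
  refine ⟨J, rfl, ?_⟩
  let ψ : J →* J' := (f.comp (Subgroup.inclusion (show J ≤ memCent Z w from fun a ha => ha.1))).codRestrict J'
    fun d => himg _ d.2.1 d.2
  refine isCyclic_of_injective ψ ((injective_iff_map_eq_one ψ).2 fun d hd => ?_)
  obtain ⟨hdL, hdc, hdy, hdr⟩ := d.2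
  have hk := hS.toPerm_eq_one.1 (congrArg Subtype.val
    (show f ⟨(d : G), hdL⟩ = 1 from congrArg Subtype.val hd))
  have h1 : r * (d : G) * r⁻¹ = d := by
    rw [← (hC.commute_kernel hsc hbig hw hdL hk hrL).eq, mul_inv_cancel_right]
  have h2 : orderOf (d : G) ∣ 2 := orderOf_dvd_of_pow_eq_one (by
    rw [pow_two]; exact eq_inv_iff_mul_eq_one.1 (h1.symm.trans hdr))
  have h3 : Odd (orderOf (d : G)) := hC.oddSect hw d (memCent_eq Z w ▸ hdL) c
    (mem_fixSet_zpowers.2 hc) y (mem_fixSet_zpowers.2 hy) hyc.symm hdc hdy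
  refine Subtype.ext (orderOf_eq_one_iff.1 ?_)
  rcases (Nat.dvd_prime Nat.prime_two).1 h2 with e | e
  · exact e
  · rw [e] at h3; exact absurd h3 (by decide)

/-- There are as many members commuting with `w` interchanging two of its points as there are at
each of them. -/
theorem ncard_swap_commute {w : G} (hw : IsBad Ω w) {c y : Ω} (hc : w • c = c) (hy : w • y = y)
    (hyc : y ≠ c) :
    {s | s ∈ swapMem Z c y ∧ Commute w s}.ncard = (bMem Z c w).ncard ∧
      ∀ b ∈ bMem Z y w, ∀ a ∈ bMem Z c w,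
        ∃ s ∈ swapMem Z c y, Commute w s ∧ s * b * s⁻¹ = a := by
  have key : ∀ b ∈ bMem Z y w, Set.BijOn (fun s => s * b * s⁻¹)
      {s | s ∈ swapMem Z c y ∧ Commute w s} (bMem Z c w) := by
    intro b hb
    obtain ⟨hmaps, hinj, hsurj⟩ := hC.base.bijOn_conj hyc.symm hb.1
    refine ⟨fun s hs => ⟨hmaps hs.1, (hs.2.mul_right hb.2).mul_right hs.2.inv_right⟩,
      hinj.mono fun s hs => hs.1, ?_⟩
    intro a ha
    obtain ⟨s, hs, hsa⟩ := hsurj ha.1
    simp only at hsa
    have hs' : w * s * w⁻¹ ∈ swapMem Z c y := by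
      refine ⟨hC.base.conj_mem w s hs.1, ?_⟩
      rw [mul_smul, mul_smul, inv_smul_eq_iff.2 hc.symm, hs.2, hy]
    have h2 := hinj hs' hs (by
      show w * s * w⁻¹ * b * (w * s * w⁻¹)⁻¹ = s * b * s⁻¹
      calc w * s * w⁻¹ * b * (w * s * w⁻¹)⁻¹ = w * (s * (w⁻¹ * b * w) * s⁻¹) * w⁻¹ := by group
        _ = w * (s * b * s⁻¹) * w⁻¹ := by
          rw [mul_assoc w⁻¹, ← hb.2.eq, inv_mul_cancel_left]
        _ = s * b * s⁻¹ := by rw [hsa, ha.2.eq, mul_inv_cancel_right])
    exact ⟨s, ⟨hs, mul_inv_eq_iff_eq_mul.1 h2⟩, hsa⟩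
  obtain ⟨b, hb, hwb⟩ := hC.base.exists_memAt_commute hw.1 hy
  refine ⟨?_, fun b hb a ha => ?_⟩
  · obtain ⟨h1, h2, h3⟩ := key b ⟨hb, hwb⟩
    rw [← h2.ncard_image, Set.Subset.antisymm h1.image_subset h3]
  · obtain ⟨s, hs, hsa⟩ := (key b hb).surjOn ha
    exact ⟨s, hs.1, hs.2, hsa⟩

/-- The cyclic group of inverted elements is regular on the members at the first point. -/
theorem exists_torus {w : G} (hw : IsBad Ω w) {c y : Ω} (hc : w • c = c) (hy : w • y = y)
    (hyc : y ≠ c) {r : G} (hr : r ∈ swapMem Z c y) (hwr : Commute w r) :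
    ∃ J : Subgroup G, (J : Set G) = torusSet Z w c y r ∧ IsCyclic J ∧
      Nat.card J = (bMem Z c w).ncard ∧ J ≤ memCent Z w ∧
      (∀ a ∈ bMem Z c w, Set.BijOn (fun d => d * a * d⁻¹) (J : Set G) (bMem Z c w)) := by
  obtain ⟨J, hJ, hJc⟩ := hC.exists_cyclic_torus hsc hbig hw hc hy hyc hr hwr
  have hJmem : ∀ {d : G}, d ∈ J ↔ d ∈ torusSet Z w c y r := by
    intro d; rw [← SetLike.mem_coe, hJ]
  have hJL : J ≤ memCent Z w := fun d hd => (hJmem.1 hd).1
  have hr2 := hC.base.invol r hr.1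
  have hrr : r * r = 1 := mul_self_eq_one hr2
  have hri : r⁻¹ = r := inv_eq_self_of_involution hr2
  obtain ⟨hcard, hswap⟩ := hC.ncard_swap_commute hsc hbig hw hc hy hyc
  set U := {s | s ∈ swapMem Z c y ∧ Commute w s} with hU
  have hrL : r ∈ memCent Z w := Subgroup.subset_closure ⟨hr.1, hwr⟩
  have hfwd : ∀ s ∈ U, s * r ∈ J := by
    rintro s ⟨hs, hws⟩
    refine hJmem.2 ⟨mul_mem (Subgroup.subset_closure ⟨hs.1, hws⟩) hrL, ?_, ?_, ?_⟩
    · rw [mul_smul, hr.2, hC.base.swap_symm hs]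
    · rw [mul_smul, hC.base.swap_symm hr, hs.2]
    · rw [mul_inv_rev, hri, inv_eq_self_of_involution (hC.base.invol s hs.1), mul_assoc, mul_assoc,
        hrr, mul_one]
  have hbwd : ∀ d ∈ J, d * r ∈ U := by
    intro d hd
    obtain ⟨hdL, hdc, hdy, hdr⟩ := hJmem.1 hd
    have hdd : d * r * (d * r) = 1 := by
      calc d * r * (d * r) = d * (r * d * r) := by group
        _ = d * (r * d * r⁻¹) := by rw [hri]
        _ = 1 := by rw [hdr, mul_inv_cancel]
    have hne : d * r ≠ 1 := fun e => hyc (by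
      have h1 : (d * r) • c = c := by rw [e, one_smul]
      rwa [mul_smul, hr.2, hdy] at h1)
    refine ⟨⟨?_, by rw [mul_smul, hr.2, hdy]⟩, commute_memCent (mul_mem hdL hrL)⟩
    have hS := hC.sectSetting_bad hsc hbig hw
    rw [memCent_eq, ← fixSet_zpowers] at hS
    exact hC.base.mem_of_mem_sect (isPGroup_zpowers hw.1) hS (memCent_eq Z w ▸ mul_mem hdL hrL)
      (orderOf_eq_two_iff_mul.2 ⟨hne, hdd⟩)
  have hJcard : (J : Set G).ncard = (bMem Z c w).ncard := by
    rw [← hcard]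
    exact Set.ncard_congr (fun d _ => d * r) (fun d hd => hbwd d hd)
      (fun a b _ _ e => mul_right_cancel e)
      fun s hs => ⟨s * r, hfwd s hs, by rw [mul_assoc, hrr, mul_one]⟩
  refine ⟨J, hJ, hJc, by rw [← hJcard, ← Nat.card_coe_set_eq]; rfl, hJL, fun a ha => ?_⟩
  have hmaps : Set.MapsTo (fun d => d * a * d⁻¹) (J : Set G) (bMem Z c w) := by
    intro d hd
    obtain ⟨hdL, hdc, -, -⟩ := hJmem.1 hd
    have hwd := commute_memCent hdL
    refine ⟨?_, (hwd.mul_right ha.2).mul_right hwd.inv_right⟩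
    have := hC.base.conj_memAt (g := d) ha.1
    rwa [hdc] at this
  have hsurj : Set.SurjOn (fun d => d * a * d⁻¹) (J : Set G) (bMem Z c w) := by
    intro a' ha'
    obtain ⟨b, hb, hwb⟩ := hC.base.exists_memAt_commute hw.1 hy
    obtain ⟨s, hs, hws, hsa⟩ := hswap b ⟨hb, hwb⟩ a ha
    obtain ⟨s', hs', hws', hsa'⟩ := hswap b ⟨hb, hwb⟩ a' ha'
    have hd : s' * r * (s * r)⁻¹ ∈ J := J.mul_mem (hfwd s' ⟨hs', hws'⟩) (J.inv_mem (hfwd s ⟨hs, hws⟩))
    refine ⟨_, hd, ?_⟩
    show s' * r * (s * r)⁻¹ * a * (s' * r * (s * r)⁻¹)⁻¹ = a'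
    rw [← hsa, ← hsa']
    group
  refine ⟨hmaps, ?_, hsurj⟩
  refine Set.injOn_of_ncard_image_eq ?_ (Set.toFinite _)
  rw [Set.Subset.antisymm hmaps.image_subset hsurj, hJcard]

end Crit

end CfsgLib.StrongCrit
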