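import Cfsg.Agent.Lib.StrongCrit.TightFinal
import Cfsg.Agent.Lib.StrongCrit.Torus
import Cfsg.Agent.Lib.StrongCrit.Semilinear
import Cfsg.Agent.Lib.StrongCrit.FourD
import Cfsg.Agent.Lib.StrongCrit.OrbitFormula

/-!
The tight case on the interface of the criterion: a bad involution fixing two more points than it
centralises members at one of them, with `k (k + 2)` members at a point, does not exist if no four
group of bad involutions fixes two points.
-/

set_option autoImplicit false

namespace CfsgLib.StrongCrit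

open CfsgLib.Involutions MulAction

universe u

variable {G : Type u} [Group G] {Ω : Type u} [MulAction G Ω] {Z : Set G}

namespace Crit

variable (hC : Crit Ω Z) [Finite G] [Finite Ω] (hsc : SecComm Ω Z)
  (hbig : ∀ c : Ω, 1 < (memAt Z c).ncard)
include hC hsc hbig

/-- The stabiliser of `c` centralising `u` acts semilinearly on the members there centralising `u`. -/
theorem exists_galois {u : G} {c : Ω} (hu : IsBad Ω u) (huc : u • c = c)
    (hF : (fixedBy Ω u).ncard = (cenSet Z u c).ncard + 2) :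
    (∃ (A : Type u) (_ : CommGroup A) (_ : IsCyclic A)
      (π : (stabilizer G c ⊓ Subgroup.centralizer {u} : Subgroup G) →* A),
      ∀ g : (stabilizer G c ⊓ Subgroup.centralizer {u} : Subgroup G),
        ((∀ b ∈ cenSet Z u c, Commute (g : G) b) → π g = 1) ∧
        (π g = 1 → ((∃ j, (g : G) ^ 2 ^ j = 1) ∨ ∃ w ∈ cenSet Z u c, Commute (g : G) w) →
          ∀ b ∈ cenSet Z u c, Commute (g : G) b)) ∧
    ∀ a ∈ cenSet Z u c, ∀ b ∈ cenSet Z u c,
      ∃ g : G, g • c = c ∧ Commute g u ∧ Odd (orderOf g) ∧ g * a * g⁻¹ = b := by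
  classical
  have hh := hC.base
  have hfa := hC.faith
  obtain ⟨-, p, q, hpq, hp, hq⟩ := id hu
  obtain ⟨y, hy, hyc⟩ : ∃ y, u • y = y ∧ y ≠ c := by
    rcases eq_or_ne p c with rfl | hpc
    · exact ⟨q, hq, hpq.symm⟩
    · exact ⟨p, hp, hpc⟩
  obtain ⟨e, he2, hecard, -⟩ := hC.exists_q hsc hbig hu huc
  obtain ⟨hswc, -⟩ := hC.ncard_swap_commute hsc hbig hu huc hy hyc
  obtain ⟨r, hr, hur⟩ : ∃ r, r ∈ swapMem Z c y ∧ Commute u r := by
    have hpos : 0 < {s | s ∈ swapMem Z c y ∧ Commute u s}.ncard := by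
      rw [hswc]
      have : 4 ≤ 2 ^ e := (by norm_num : (4 : ℕ) = 2 ^ 2).trans_le (Nat.pow_le_pow_right (by norm_num) he2)
      omega
    exact (Set.ncard_pos (Set.toFinite _)).1 hpos
  obtain ⟨J, hJ, hJc, hJcard, hJL, hJbij⟩ := hC.exists_torus hsc hbig hu huc hy hyc hr hur
  have hJmem : ∀ {d : G}, d ∈ J ↔ d ∈ torusSet Z u c y r := by
    intro d; rw [← SetLike.mem_coe, hJ]
  have hJodd : Odd (Nat.card J) := by
    rw [hJcard, Nat.odd_iff]
    have : 2 ∣ 2 ^ e := dvd_pow_self 2 (by omega)
    omega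
  have hJu : ∀ d ∈ J, Commute d u := fun d hd => (commute_memCent (hJL hd)).symm
  have hJc' : ∀ d ∈ J, d • c = c := fun d hd => (hJmem.1 hd).2.1
  constructor
  swap
  · intro a ha b hb
    obtain ⟨d, hd, hdab⟩ := (hJbij a ha).surjOn hb
    exact ⟨d, hJc' d hd, hJu d hd, hJodd.of_dvd_nat (by
      rw [← Subgroup.orderOf_mk d hd]; exact orderOf_dvd_natCard _), hdab⟩
  set D : Subgroup G := stabilizer G c ⊓ Subgroup.centralizer {u} with hD
  have hDmem : ∀ d : D, (d : G) • c = c ∧ Commute (d : G) u := fun d =>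
    ⟨d.2.1, Subgroup.mem_centralizer_singleton_iff.1 d.2.2⟩
  set K := cenGroup Z u c with hK
  have hnorm : ∀ (d : D) (b : G), b ∈ K → (d : G) * b * (d : G)⁻¹ ∈ K := fun d b hb =>
    hh.cosetStab_norm hfa hsc hu huc (hh.mem_cosetStab hfa hsc hu huc (hDmem d).1 (one_mem _)
      (by rw [(hDmem d).2.eq, mul_inv_cancel_right, mul_one])) hb
  letI : CommGroup K :=
    { (inferInstance : Group K) with
      mul_comm := fun a b => Subtype.ext (hh.cenGroup_commute hfa hsc hu huc a.2 b.2) }
  letI : DistribMulAction D (Additive K) :=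
    { smul := fun d v => Additive.ofMul ⟨(d : G) * (v.toMul : G) * (d : G)⁻¹, hnorm d _ v.toMul.2⟩
      one_smul := fun v => congrArg Additive.ofMul (Subtype.ext
        (show (1 : G) * (v.toMul : G) * (1 : G)⁻¹ = (v.toMul : G) by group))
      mul_smul := fun d d' v => congrArg Additive.ofMul (Subtype.ext
        (show ((d : G) * d') * (v.toMul : G) * ((d : G) * d')⁻¹ =
          (d : G) * ((d' : G) * (v.toMul : G) * (d' : G)⁻¹) * (d : G)⁻¹ by group))
      smul_zero := fun d => congrArg Additive.ofMul (Subtype.ext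
        (show (d : G) * (1 : G) * (d : G)⁻¹ = 1 by group))
      smul_add := fun d v w => congrArg Additive.ofMul (Subtype.ext
        (show (d : G) * ((v.toMul : G) * (w.toMul : G)) * (d : G)⁻¹ =
          (d : G) * (v.toMul : G) * (d : G)⁻¹ * ((d : G) * (w.toMul : G) * (d : G)⁻¹) by group)) }
  have hsmul : ∀ (d : D) (v : Additive K),
      (((d • v).toMul : K) : G) = (d : G) * (v.toMul : G) * (d : G)⁻¹ := fun d v => rfl
  have hext : ∀ v w : Additive K, (v.toMul : G) = (w.toMul : G) → v = w := fun v w e =>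
    congrArg Additive.ofMul (Subtype.ext e : v.toMul = w.toMul)
  have hne0 : ∀ v : Additive K, v ≠ 0 → (v.toMul : G) ∈ cenSet Z u c := fun v hv =>
    ((hh.mem_cenGroup hfa hsc hu huc).1 v.toMul.2).resolve_left fun e1 => hv (hext v 0 e1)
  have : Nontrivial (Additive K) := by
    obtain ⟨a, ha⟩ : (cenSet Z u c).Nonempty := by
      refine (Set.ncard_pos (Set.toFinite _)).1 ?_
      have : 4 ≤ 2 ^ e := (by norm_num : (4 : ℕ) = 2 ^ 2).trans_le (Nat.pow_le_pow_right (by norm_num) he2)
      have h1 : (cenSet Z u c).ncard + 1 = 2 ^ e := hecard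
      omega
    refine ⟨Additive.ofMul ⟨a, (hh.mem_cenGroup hfa hsc hu huc).2 (Or.inr ha)⟩, 0, fun e1 => ?_⟩
    exact ne_one_of_involution (hh.invol a ha.1.1)
      (congrArg (fun v : Additive K => (v.toMul : G)) e1)
  have hexp : ∀ v : Additive K, v + v = 0 := fun v =>
    hext _ _ (hh.cenGroup_sq hfa hsc hu huc v.toMul.2)
  let JD : Subgroup D := J.subgroupOf D
  have hJD : ∀ d ∈ J, d ∈ D := fun d hd =>
    ⟨hJc' d hd, Subgroup.mem_centralizer_singleton_iff.2 (hJu d hd)⟩
  have hJab : ∀ a ∈ J, ∀ b ∈ J, a * b = b * a := fun a ha b hb => by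
    letI : CommGroup J := IsCyclic.commGroup
    exact congrArg Subtype.val (mul_comm (⟨a, ha⟩ : J) ⟨b, hb⟩)
  have hG : HasGaloisHom D (Additive K) := by
    refine hasGaloisHom_of_abelian_transitive hexp (JD : Set D) ?_ ?_ ?_
    · intro d t ht
      have htJ : (t : G) ∈ J := ht
      -- split off an element fixing `y`
      obtain ⟨b, hb, hby⟩ := hh.exists_cenGroup_smul hfa hsc hu huc hF hy hyc (q := (d : G) • y)
        (by rw [smul_smul, ← (hDmem d).2.eq, mul_smul, hy])
        (fun e1 => hyc (MulAction.injective (d : G) (e1.trans (hDmem d).1.symm)))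
      obtain ⟨d', hd'⟩ : ∃ d', d' = b⁻¹ * (d : G) := ⟨_, rfl⟩
      have hd'y : d' • y = y := by rw [hd', mul_smul, inv_smul_eq_iff, hby]
      have hd'c : d' • c = c := by
        rw [hd', mul_smul, (hDmem d).1, inv_smul_eq_iff, hh.cenGroup_fix hfa hsc hu huc hb]
      have hd'u : Commute d' u :=
        hd' ▸ ((hh.cenGroup_commute_self hfa hsc hu huc hb).symm.inv_left).mul_left (hDmem d).2
      obtain ⟨r', hr'⟩ : ∃ r', r' = d' * r * d'⁻¹ := ⟨_, rfl⟩
      have hr'mem : r' ∈ swapMem Z c y := ⟨hr' ▸ hh.conj_mem d' r hr.1, by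
        rw [hr', mul_smul, mul_smul, inv_smul_eq_iff.2 hd'c.symm, hr.2, hd'y]⟩
      have hur' : Commute u r' :=
        hr' ▸ ((hd'u.symm).mul_right hur).mul_right hd'u.symm.inv_right
      have hr2 := hh.invol r hr.1
      have hr'2 := hh.invol r' hr'mem.1
      -- the product of the two swappers lies in the torus
      have hjJ : r' * r ∈ J := by
        refine hJmem.2 ⟨mul_mem (Subgroup.subset_closure ⟨hr'mem.1, hur'⟩)
          (Subgroup.subset_closure ⟨hr.1, hur⟩), ?_, ?_, ?_⟩
        · rw [mul_smul, hr.2, hh.swap_symm hr'mem]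
        · rw [mul_smul, hh.swap_symm hr, hr'mem.2]
        · rw [mul_inv_rev, inv_eq_self_of_involution hr2, inv_eq_self_of_involution hr'2, mul_assoc,
            mul_assoc, mul_self_eq_one hr2, mul_one]
      obtain ⟨htL, htc, hty, htr⟩ := hJmem.1 htJ
      have hconjL : d' * t * d'⁻¹ ∈ memCent Z u := by
        have hle : (memCent Z u).map (MulAut.conj d').toMonoidHom ≤ memCent Z u := by
          rw [memCent, MonoidHom.map_closure, Subgroup.closure_le]
          rintro _ ⟨s, hs, rfl⟩
          exact Subgroup.subset_closure ⟨hh.conj_mem d' s hs.1,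
            ((hd'u.symm).mul_right hs.2).mul_right hd'u.symm.inv_right⟩
        exact hle ⟨t, htL, rfl⟩
      obtain ⟨t', ht'⟩ : ∃ t', t' = d' * (t : G) * d'⁻¹ := ⟨_, rfl⟩
      have hrr' : r' * (r' * r) = r := by rw [← mul_assoc, mul_self_eq_one hr'2, one_mul]
      have ht'J : t' ∈ J := by
        refine hJmem.2 ⟨ht' ▸ hconjL, ?_, ?_, ?_⟩
        · rw [ht', mul_smul, mul_smul, inv_smul_eq_iff.2 hd'c.symm, htc, hd'c]
        · rw [ht', mul_smul, mul_smul, inv_smul_eq_iff.2 hd'y.symm, hty, hd'y]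
        · -- inverted by `r'`, hence by `r`
          have h1 : r' * t' * r'⁻¹ = t'⁻¹ := by
            rw [hr', ht', show d' * r * d'⁻¹ * (d' * t * d'⁻¹) * (d' * r * d'⁻¹)⁻¹ =
              d' * (r * t * r⁻¹) * d'⁻¹ by group, htr]
            group
          have h2 : Commute (r' * r) t' := by
            have h3 : d'⁻¹ * (r' * r) * d' ∈ memCent Z u := by
              have hle : (memCent Z u).map (MulAut.conj d'⁻¹).toMonoidHom ≤ memCent Z u := by
                rw [memCent, MonoidHom.map_closure, Subgroup.closure_le]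
                rintro _ ⟨s, hs, rfl⟩
                exact Subgroup.subset_closure ⟨hh.conj_mem d'⁻¹ s hs.1,
                  ((hd'u.symm.inv_right).mul_right hs.2).mul_right hd'u.symm.inv_right.inv_right⟩
              have := hle ⟨r' * r, (hJL hjJ), rfl⟩
              simpa using this
            set j := d'⁻¹ * (r' * r) * d' with hj
            have hje : j = r * (d'⁻¹ * r * d') := by rw [hj, hr']; group
            have hr'' : Commute u (d'⁻¹ * r * d') :=
              ((hd'u.symm.inv_right).mul_right hur).mul_right hd'u.symm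
            have hjm : j ∈ J := by
              refine hJmem.2 ⟨h3, ?_, ?_, ?_⟩
              · rw [hje, mul_smul, mul_smul, mul_smul, hd'c, hr.2, inv_smul_eq_iff.2 hd'y.symm,
                  hh.swap_symm hr]
              · rw [hje, mul_smul, mul_smul, mul_smul, hd'y, hh.swap_symm hr,
                  inv_smul_eq_iff.2 hd'c.symm, hr.2]
              · have h4 : (d'⁻¹ * r * d') * (d'⁻¹ * r * d') = 1 := by
                  rw [show d'⁻¹ * r * d' * (d'⁻¹ * r * d') = d'⁻¹ * (r * r) * d' by group,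
                    mul_self_eq_one hr2]
                  group
                rw [hje, mul_inv_rev, inv_eq_self_of_involution hr2,
                  inv_eq_of_mul_eq_one_right h4]
                calc r * (r * (d'⁻¹ * r * d')) * r = (r * r) * (d'⁻¹ * r * d') * r := by group
                  _ = d'⁻¹ * r * d' * r := by rw [mul_self_eq_one hr2, one_mul]
            have hjd : d' * j * d'⁻¹ = r' * r := by rw [hj]; group
            show r' * r * t' = t' * (r' * r)
            rw [ht', ← hjd, show d' * j * d'⁻¹ * (d' * t * d'⁻¹) = d' * (j * t) * d'⁻¹ by group,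
              hJab j hjm t htJ]
            group
          calc r * t' * r⁻¹ = r' * ((r' * r) * t') * r⁻¹ := by rw [← mul_assoc r', hrr']
            _ = r' * (t' * (r' * r)) * r⁻¹ := by rw [h2.eq]
            _ = r' * t' * r'⁻¹ := by
              rw [inv_eq_self_of_involution hr'2, inv_eq_self_of_involution hr2]
              simp only [mul_assoc, mul_self_eq_one hr2, mul_one]
            _ = t'⁻¹ := h1
      refine ⟨⟨t', hJD t' ht'J⟩, ht'J, fun v => hext _ _ ?_⟩
      rw [hsmul, hsmul, hsmul, hsmul]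
      set x := (v.toMul : G) with hx
      have hxK : x ∈ K := v.toMul.2
      have hz := hnorm ⟨t', hJD t' ht'J⟩ _ (hnorm d x hxK)
      have hd : (d : G) = b * d' := by rw [hd', mul_inv_cancel_left]
      have h5 : ∀ w : G, w ∈ K → b * w * b⁻¹ = w := fun w hw => by
        rw [(hh.cenGroup_commute hfa hsc hu huc hb hw).eq, mul_inv_cancel_right]
      have hd'K : ∀ w : G, w ∈ K → d' * w * d'⁻¹ ∈ K := fun w hw => by
        have := hnorm ⟨d', hd'c, Subgroup.mem_centralizer_singleton_iff.2 hd'u⟩ w hw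
        exact this
      show (d : G) * ((t : G) * x * (t : G)⁻¹) * (d : G)⁻¹ = t' * ((d : G) * x * (d : G)⁻¹) * t'⁻¹
      have h6 : ∀ w : G, w ∈ K → (d : G) * w * (d : G)⁻¹ = d' * w * d'⁻¹ := fun w hw => by
        rw [hd, show b * d' * w * (b * d')⁻¹ = b * (d' * w * d'⁻¹) * b⁻¹ by group, h5 _ (hd'K w hw)]
      rw [h6 _ (hnorm t x hxK), h6 x hxK, ht']
      group
    · intro s hs t ht v
      refine hext _ _ ?_
      rw [hsmul, hsmul, hsmul, hsmul]
      show (s : G) * ((t : G) * (v.toMul : G) * (t : G)⁻¹) * (s : G)⁻¹ =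
        (t : G) * ((s : G) * (v.toMul : G) * (s : G)⁻¹) * (t : G)⁻¹
      rw [show (s : G) * ((t : G) * (v.toMul : G) * (t : G)⁻¹) * (s : G)⁻¹ =
        ((s : G) * t) * (v.toMul : G) * ((s : G) * t)⁻¹ by group, hJab s hs t ht]
      group
    · intro v w hv hw
      obtain ⟨d, hd, hdvw⟩ := (hJbij _ (hne0 v hv)).surjOn (hne0 w hw)
      exact ⟨⟨d, hJD d hd⟩, hd, hext _ _ hdvw⟩
  obtain ⟨A, hA, hAf, hAc, π, hfree, -, htwo, htriv⟩ := hG
  letI : CommGroup A := IsCyclic.commGroup
  refine ⟨A, inferInstance, hAc, π, fun g => ⟨fun hg => htriv g fun v => ?_, fun hg hcase b hb => ?_⟩⟩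
  · refine hext _ _ ?_
    rw [hsmul]
    rcases eq_or_ne v 0 with rfl | hv
    · show (g : G) * 1 * (g : G)⁻¹ = 1; group
    · rw [(hg _ (hne0 v hv)).eq, mul_inv_cancel_right]
  · have hall : ∀ v : Additive K, g • v = v := by
      rcases hcase with ⟨j, hj⟩ | ⟨w, hw, hgw⟩
      · refine htwo g hg j fun v => ?_
        rw [show g ^ 2 ^ j = 1 from Subtype.ext (by simpa using hj), one_smul]
      · refine fun v => hfree g hg (Additive.ofMul ⟨w, (hh.mem_cenGroup hfa hsc hu huc).2 (Or.inr hw)⟩)
          (fun e1 => ne_one_of_involution (hh.invol w hw.1.1)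
            (congrArg (fun v : Additive K => (v.toMul : G)) e1)) (hext _ _ ?_) v
        rw [hsmul]
        show (g : G) * w * (g : G)⁻¹ = w
        rw [hgw.eq, mul_inv_cancel_right]
    have h1 := congrArg (fun v : Additive K => (v.toMul : G))
      (hall (Additive.ofMul ⟨b, (hh.mem_cenGroup hfa hsc hu huc).2 (Or.inr hb)⟩))
    simp only [hsmul] at h1
    exact mul_inv_eq_iff_eq_mul.1 h1

/-- **The tight case does not occur.** -/
theorem false_of_tight_case (hnf : NoFour (G := G) Ω) {u : G} {c : Ω} (hu : IsBad Ω u)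
    (huc : u • c = c) (hF : (fixedBy Ω u).ncard = (cenSet Z u c).ncard + 2)
    (hm : (memAt Z c).ncard = (cenSet Z u c).ncard * ((cenSet Z u c).ncard + 2)) : False := by
  classical
  have hh := hC.base
  have hfa := hC.faith
  obtain ⟨e, he2, hecard, -⟩ := hC.exists_q hsc hbig hu huc
  have h4 : 4 ≤ 2 ^ e := (by norm_num : (4 : ℕ) = 2 ^ 2).trans_le (Nat.pow_le_pow_right (by norm_num) he2)
  have hecard' : (cenSet Z u c).ncard + 1 = 2 ^ e := hecard
  set k := (cenSet Z u c).ncard with hk
  have htwo : ∃ a ∈ cenSet Z u c, ∃ b ∈ cenSet Z u c, a ≠ b :=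
    (Set.one_lt_ncard (Set.toFinite _)).1 (by omega)
  obtain ⟨s, hks, hs, hn⟩ := hh.card_sub_one_formula hfa hsc hu huc htwo
  have hsk : s = k + 2 := Nat.eq_of_mul_eq_mul_left (by omega : 0 < k) (by rw [hks, hm])
  have hcard : Nat.card Ω = (k + 1) ^ 2 + 1 := by
    rw [← hk, hF, hsk, show k + 2 - 1 = k + 1 by omega] at hn
    have h1 : (Nat.card Ω - 1) * (k + 2) = (k + 1) ^ 2 * (k + 2) := by rw [hn]; ring
    have h2 := Nat.eq_of_mul_eq_mul_right (by omega : 0 < k + 2) h1
    have h3 : 0 < Nat.card Ω := by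
      have : Nonempty Ω := ⟨c⟩
      exact Nat.card_pos
    omega
  obtain ⟨hgal, htr⟩ := hC.exists_galois hsc hbig hu huc hF
  have H : TightHyp Ω Z u c :=
    { base := hh
      faith := hfa
      secComm := hsc
      bad := hu
      fix := huc
      two := htwo
      card_fix := hF
      swap := by
        intro x hx d hd
        -- the centre map is injective, hence bijective
        have hinj : ∀ t ∈ swapCen Z u x, ∀ t' ∈ swapCen Z u x, ∀ d' : Ω, t • d' = d' → t' • d' = d' →
            t = t' := by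
          intro t ht t' ht' d' hd1 hd2
          by_contra hne
          have hud' : u • d' = d' := hh.fix_of_commute ⟨ht.1.1, hd1⟩ ht.2
          have h1 := hh.mul_mem_cenSet hfa hsc hu hud' ⟨⟨ht.1.1, hd1⟩, ht.2⟩ ⟨⟨ht'.1.1, hd2⟩, ht'.2⟩ hne
          have h2 : (t * t') • x = x := by rw [mul_smul, ht'.1.2, hh.swap_symm ht.1]
          have h3 : d' = x := hh.unique _ h1.1.1 d' x h1.1.2 h2
          exact hx (h3 ▸ hud')
        choose F hFt using fun t : swapCen Z u x => hh.exists_fix t.1 t.2.1.1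
        let F' : swapCen Z u x → fixedBy Ω u := fun t =>
          ⟨F t, hh.fix_of_commute ⟨t.2.1.1, hFt t⟩ t.2.2⟩
        have hF' : Function.Bijective F' := by
          refine (Nat.bijective_iff_injective_and_card F').2 ⟨fun a b e1 => Subtype.ext ?_, ?_⟩
          · exact hinj a.1 a.2 b.1 b.2 (F a) (hFt a)
              (by rw [show F a = F b from congrArg Subtype.val e1]; exact hFt b)
          · rw [Nat.card_coe_set_eq, Nat.card_coe_set_eq, hs x hx, hsk, hF]
        obtain ⟨t, ht⟩ := hF'.2 ⟨d, hd⟩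
        have htd : (t : G) • d = d := by
          have h1 : F t = d := congrArg Subtype.val ht
          rw [← h1]; exact hFt t
        refine ⟨t, ⟨⟨t.2.1.1, htd⟩, t.2.2⟩, t.2.1.2, fun t' ht' htx => ?_⟩
        exact hinj t' ⟨⟨ht'.1.1, htx⟩, ht'.2⟩ t t.2 d ht'.1.2 htd
      inv := fun v hv hvc hvu => hh.inv_of_noFour hnf hu huc hv hvc hvu
      galois := hgal
      trans_odd := htr }
  exact H.false_of_tight hC.gen hcard

end Crit

end CfsgLib.StrongCrit
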