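import Cfsg.Agent.Lib.StrongCrit.TightTrans

/-!
The tight case with `q ^ 2 + 1` points: the fixed sets of the coset of `u` cover, so a Sylow 2-subgroup
preserves the coset and has no other bad involution; by the translations its part centralising the
members is transitive on the coset, and a norm over the elements with odd image gives a homomorphism
of the Sylow 2-subgroup which the transfer lemma forbids.
-/

set_option autoImplicit false

namespace CfsgLib.StrongCrit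

open CfsgLib.Involutions MulAction

universe u v

variable {G : Type u} [Group G] {Ω : Type v} [MulAction G Ω] {Z : Set G}

namespace TightHyp

variable {u : G} {c : Ω} (H : TightHyp Ω Z u c) [Finite G] [Finite Ω]
include H

/-- The fixed sets of the elements of the coset cover all other points. -/
theorem exists_coset_fix (hn : Nat.card Ω = ((cenSet Z u c).ncard + 1) ^ 2 + 1) {x : Ω} (hxc : x ≠ c) :
    ∃ b ∈ cenGroup Z u c, (u * b) • x = x := by
  classical
  have hh := H.base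
  let K := cenGroup Z u c
  let S : K → Set Ω := fun b => fixedBy Ω (u * (b : G)) \ {c}
  have hcard : ∀ b : K, (S b).ncard = (cenSet Z u c).ncard + 1 := fun b => by
    have hbc : ({c} : Set Ω) ⊆ fixedBy Ω (u * (b : G)) :=
      Set.singleton_subset_iff.2 (hh.mul_cenGroup_fix H.faith H.secComm H.bad H.fix b.2)
    show (fixedBy Ω (u * (b : G)) \ {c}).ncard = _
    rw [Set.ncard_sdiff hbc, Set.ncard_singleton]
    rcases H.mem_iff.1 b.2 with hb | hb
    · rw [hb, mul_one, H.card_fix]; rfl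
    · rw [H.card_fix_mul hb, hh.cenSet_mul H.faith H.secComm H.bad H.fix hb]; rfl
  let F : (Σ b : K, S b) → {y : Ω // y ≠ c} := fun p => ⟨p.2.1, p.2.2.2⟩
  have hF : Function.Injective F := by
    rintro ⟨b, y, hy⟩ ⟨b', y', hy'⟩ e
    obtain rfl : y = y' := congrArg Subtype.val e
    have h1 : ((b : G)⁻¹ * b') • y = y := by
      have h2 : (u * (b : G)) • y = y := hy.1
      have h3 : (u * (b' : G)) • y = y := hy'.1
      rw [show (b : G)⁻¹ * b' = (u * b)⁻¹ * (u * b') by group, mul_smul, h3, inv_smul_eq_iff, h2]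
    obtain rfl : b = b' := Subtype.ext (inv_mul_eq_one.1
      (hh.cenGroup_free H.faith H.secComm H.bad H.fix (mul_mem (inv_mem b.2) b'.2) hy.2 h1))
    rfl
  have hsurj : Function.Surjective F := by
    refine ((Nat.bijective_iff_injective_and_card F).2 ⟨hF, ?_⟩).2
    have := Fintype.ofFinite K
    rw [Nat.card_sigma, Finset.sum_congr rfl fun b _ => (Nat.card_coe_set_eq (S b)).trans (hcard b),
      Finset.sum_const, Finset.card_univ, ← Nat.card_eq_fintype_card,
      hh.card_cenGroup H.faith H.secComm H.bad H.fix, smul_eq_mul, ← pow_two]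
    have h1 : Nat.card {y : Ω // y ≠ c} = ({c}ᶜ : Set Ω).ncard := Nat.card_coe_set_eq _
    rw [h1, Set.ncard_compl, Set.ncard_singleton, hn]
    rfl
  obtain ⟨⟨b, y, hy⟩, he⟩ := hsurj ⟨x, hxc⟩
  obtain rfl : y = x := congrArg Subtype.val he
  exact ⟨b, b.2, hy.1⟩

/-- A bad involution preserving the coset lies in it. -/
theorem bad_mem_coset (hn : Nat.card Ω = ((cenSet Z u c).ncard + 1) ^ 2 + 1) {v : G}
    (hv : IsBad Ω v) (hvN : v ∈ cosetStab Z u c) : ∃ b ∈ cenGroup Z u c, v = u * b := by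
  have hh := H.base
  obtain ⟨-, x, y, hxy, hx, hy⟩ := id hv
  obtain ⟨z, hz, hzc⟩ : ∃ z, v • z = z ∧ z ≠ c := by
    rcases eq_or_ne x c with rfl | hxc
    · exact ⟨y, hy, hxy.symm⟩
    · exact ⟨x, hx, hxc⟩
  obtain ⟨b, hb, hbz⟩ := H.exists_coset_fix hn hzc
  obtain ⟨b', hb', hvb⟩ := hvN.2.1 b hb
  have h1 : (b⁻¹ * b') • z = z := by
    have h2 : (u * b') • z = z := by
      rw [← hvb, mul_smul, mul_smul, inv_smul_eq_iff.2 hz.symm, hbz, hz]
    rw [show b⁻¹ * b' = (u * b)⁻¹ * (u * b') by group, mul_smul, h2, inv_smul_eq_iff, hbz]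
  rw [← inv_mul_eq_one.1 (hh.cenGroup_free H.faith H.secComm H.bad H.fix
    (mul_mem (inv_mem hb) hb') hzc h1)] at hvb
  have hcomm : Commute v (u * b) := mul_inv_eq_iff_eq_mul.1 hvb
  obtain ⟨h, hhN, hhu⟩ := H.exists_conj_coset hb
  have hbad : IsBad Ω (h⁻¹ * v * h⁻¹⁻¹) := isBad_conj hv h⁻¹
  rw [inv_inv] at hbad
  obtain ⟨b'', hb'', he⟩ := H.inv _ hbad
    (by rw [mul_smul, mul_smul, hhN.1, hvN.1, inv_smul_eq_iff, hhN.1]) (by
      show h⁻¹ * v * h * u = u * (h⁻¹ * v * h)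
      calc h⁻¹ * v * h * u = h⁻¹ * (v * (h * u * h⁻¹)) * h := by group
        _ = h⁻¹ * ((h * u * h⁻¹) * v) * h := by rw [hhu, hcomm.eq]
        _ = u * (h⁻¹ * v * h) := by group)
  refine ⟨b * (h * b'' * h⁻¹), mul_mem hb (H.norm hhN hb''), ?_⟩
  calc v = h * (h⁻¹ * v * h) * h⁻¹ := by group
    _ = h * u * h⁻¹ * (h * b'' * h⁻¹) := by rw [he]; group
    _ = u * (b * (h * b'' * h⁻¹)) := by rw [hhu, mul_assoc]

/-- A Sylow 2-subgroup preserves the coset. -/
theorem exists_sylow (hn : Nat.card Ω = ((cenSet Z u c).ncard + 1) ^ 2 + 1) :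
    ∃ P : Sylow 2 G, (P : Subgroup G) ≤ cosetStab Z u c ∧ u ∈ (P : Subgroup G) ∧
      cenGroup Z u c ≤ (P : Subgroup G) := by
  classical
  have : Fact (Nat.Prime 2) := ⟨Nat.prime_two⟩
  have hh := H.base
  let K := cenGroup Z u c
  let N := cosetStab Z u c
  let R : Subgroup G := Subgroup.zpowers u ⊔ K
  have huN : u ∈ N := H.mem_cosetStab_of_commute H.fix (Commute.refl u)
  have hKN : K ≤ N := fun b hb => H.mem_cosetStab_of_commute
    (hh.cenGroup_fix H.faith H.secComm H.bad H.fix hb) (H.comm_self hb).symm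
  have hK2 : IsPGroup 2 K := fun b => ⟨1, Subtype.ext (by rw [pow_one, pow_two]; exact H.sq b.2)⟩
  have hu2 : IsPGroup 2 (Subgroup.zpowers u) := isPGroup_zpowers H.bad.1
  have hnorm : Subgroup.zpowers u ≤ Subgroup.normalizer (K : Set G) := by
    rw [Subgroup.zpowers_le, Subgroup.mem_normalizer_iff]
    intro b
    refine ⟨fun hb => by rw [(H.comm_self hb).eq, mul_inv_cancel_right]; exact hb, fun hb => ?_⟩
    have h1 := (H.comm_self hb).eq
    rw [show b = u⁻¹ * (u * b * u⁻¹) * u by group, mul_assoc, ← h1, inv_mul_cancel_left]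
    exact hb
  have hR2 : IsPGroup 2 R := IsPGroup.to_sup_of_normal_right' hu2 hK2 hnorm
  have hRN : R ≤ N := sup_le (Subgroup.zpowers_le.2 huN) hKN
  obtain ⟨S, hS⟩ := (hR2.comap_subtype (K := N)).exists_le_sylow
  let P0 : Subgroup G := (S : Subgroup N).map N.subtype
  have hP0N : P0 ≤ N := by rintro _ ⟨g, -, rfl⟩; exact g.2
  have hRP : R ≤ P0 := fun r hr => ⟨⟨r, hRN hr⟩, hS hr, rfl⟩
  have hP02 : IsPGroup 2 P0 := S.isPGroup'.map _
  obtain ⟨P, hP⟩ := hP02.exists_le_sylow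
  suffices heq : P0 = P by
    exact ⟨P, heq ▸ hP0N, heq ▸ hRP (Subgroup.mem_sup_left (Subgroup.mem_zpowers u)),
      heq ▸ le_trans le_sup_right hRP⟩
  by_contra hne
  have hnil : Group.IsNilpotent (P : Subgroup G) := P.isPGroup'.isNilpotent
  have hlt : P0.subgroupOf P < ⊤ := lt_top_iff_ne_top.2 fun e => hne
    (le_antisymm hP (Subgroup.subgroupOf_eq_top.1 e))
  obtain ⟨g, hgn, hg⟩ := SetLike.exists_of_lt (Group.normalizerCondition_of_isNilpotent _ hlt)
  rw [Subgroup.mem_normalizer_iff] at hgn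
  have hgP : ∀ h : G, h ∈ P0 → (g : G) * h * (g : G)⁻¹ ∈ P0 := fun h hh' =>
    (hgn ⟨h, hP hh'⟩).1 hh'
  obtain ⟨z, hz, -, -, -⟩ := H.two
  have hgc : (g : G) • c = c := by
    have h1 := hgP z (hRP (Subgroup.mem_sup_right (H.mem_iff.2 (Or.inr hz))))
    exact hh.unique _ (hh.conj_mem (g : G) z hz.1.1) _ _ (hh.conj_memAt (g := (g : G)) hz.1).2 (hP0N h1).1
  obtain ⟨b, hb, hgu⟩ := H.bad_mem_coset hn (isBad_conj H.bad g)
    (hP0N (hgP u (hRP (Subgroup.mem_sup_left (Subgroup.mem_zpowers u)))))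
  have hgN : (g : G) ∈ N := H.mem_cosetStab hgc hb hgu
  have hle : Subgroup.zpowers (g : G) ≤ Subgroup.normalizer (P0 : Set G) := by
    rw [Subgroup.zpowers_le, Subgroup.mem_normalizer_iff]
    intro h
    refine ⟨hgP h, fun hh' => ?_⟩
    have h2 : h ∈ (P : Subgroup G) := by
      have := mul_mem (mul_mem (inv_mem g.2) (hP hh')) g.2
      rwa [show (g : G)⁻¹ * ((g : G) * h * (g : G)⁻¹) * g = h by group] at this
    exact (hgn ⟨h, h2⟩).2 hh'
  have h2 : IsPGroup 2 (Subgroup.zpowers (g : G) ⊔ P0 : Subgroup G) :=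
    IsPGroup.to_sup_of_normal_right' (P.isPGroup'.to_le (Subgroup.zpowers_le.2 g.2)) hP02 hle
  have h3 : (Subgroup.zpowers (g : G) ⊔ P0).subgroupOf N = S := S.is_maximal' h2.comap_subtype
    fun y hy => Subgroup.mem_sup_right ⟨y, hy, rfl⟩
  exact hg ⟨⟨g, hgN⟩, h3 ▸ Subgroup.mem_sup_left (Subgroup.mem_zpowers _), rfl⟩

/-- The elements of a Sylow 2-subgroup centralising the members have the order of a Sylow 2-subgroup
of all such elements preserving the coset, and move `u` to every element of the coset. -/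
theorem sylow_trans {P : Sylow 2 G} (hPN : (P : Subgroup G) ≤ cosetStab Z u c) :
    Nat.card ((P : Subgroup G) ⊓ Subgroup.centralizer (cenGroup Z u c : Set G) : Subgroup G) =
        2 ^ (Nat.card (cosetStab Z u c ⊓ Subgroup.centralizer (cenGroup Z u c : Set G) :
          Subgroup G)).factorization 2 ∧
      ∀ b ∈ cenGroup Z u c, ∃ g ∈ (P : Subgroup G) ⊓ Subgroup.centralizer (cenGroup Z u c : Set G),
        g * u * g⁻¹ = u * b := by
  classical
  have : Fact (Nat.Prime 2) := ⟨Nat.prime_two⟩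
  let K := cenGroup Z u c
  let N := cosetStab Z u c
  let N1 : Subgroup G := N ⊓ Subgroup.centralizer (K : Set G)
  let P1 : Subgroup G := (P : Subgroup G) ⊓ Subgroup.centralizer (K : Set G)
  have hP1N1 : P1 ≤ N1 := fun g hg => ⟨hPN hg.1, hg.2⟩
  have hnormal : ∀ n ∈ N, ∀ g ∈ N1, n * g * n⁻¹ ∈ N1 := by
    intro n hn g hg
    refine ⟨(mul_mem (mul_mem hn hg.1) (inv_mem hn) : n * g * n⁻¹ ∈ N),
      Subgroup.mem_centralizer_iff.2 fun b hb => ?_⟩
    have h1 := Subgroup.mem_centralizer_iff.1 hg.2 _ (H.norm (inv_mem hn) hb)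
    simp only [inv_inv] at h1
    calc b * (n * g * n⁻¹) = n * (n⁻¹ * b * n * g) * n⁻¹ := by group
      _ = n * (g * (n⁻¹ * b * n)) * n⁻¹ := by rw [h1]
      _ = n * g * n⁻¹ * b := by group
  have hP12 : IsPGroup 2 P1 := P.isPGroup'.to_le inf_le_left
  have hcardP1 : Nat.card P1 = 2 ^ (Nat.card N1).factorization 2 := by
    obtain ⟨i, hi⟩ := IsPGroup.iff_card.1 hP12
    obtain ⟨S⟩ : Nonempty (Sylow 2 N1) := inferInstance
    obtain ⟨S2, hS2⟩ := (((S.isPGroup'.map N1.subtype)).comap_subtype (K := N)).exists_le_sylow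
    obtain ⟨n, hn⟩ := MulAction.exists_smul_eq N S2 (P.subtype hPN)
    have hsub : ((S : Subgroup N1).map N1.subtype).map (MulAut.conj (n : G)).toMonoidHom ≤ P1 := by
      rintro _ ⟨_, ⟨g, hg, rfl⟩, rfl⟩
      refine ⟨?_, (hnormal _ n.2 _ g.2).2⟩
      have h1 : (⟨(g : G), g.2.1⟩ : N) ∈ (S2 : Subgroup N) := hS2 ⟨g, hg, rfl⟩
      have h3 : MulAut.conj n • (⟨(g : G), g.2.1⟩ : N) ∈ ((P.subtype hPN : Sylow 2 N) : Subgroup N) := by
        rw [← hn, Sylow.coe_subgroup_smul]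
        exact Subgroup.smul_mem_pointwise_smul _ (MulAut.conj n) (S2 : Subgroup N) h1
      exact h3
    have h4 := Subgroup.card_le_of_le hsub
    rw [Subgroup.card_map_of_injective (MulAut.conj (n : G)).injective,
      Subgroup.card_map_of_injective N1.subtype_injective, S.card_eq_multiplicity, hi] at h4
    rw [hi]
    refine le_antisymm (Nat.pow_le_pow_right (by norm_num)
      ((Nat.Prime.pow_dvd_iff_le_factorization Nat.prime_two Nat.card_pos.ne').1 ?_)) h4
    rw [← hi]; exact Subgroup.card_dvd_of_le hP1N1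
  refine ⟨hcardP1, fun b hb => ?_⟩
  let P' : Subgroup N1 := P1.subgroupOf N1
  letI : MulAction N K := cosetAction
  letI : MulAction N1 K := MulAction.compHom K (Subgroup.inclusion (inf_le_left : N1 ≤ N))
  obtain ⟨e, he⟩ : ∃ e, Nat.card K = 2 ^ e :=
    IsPGroup.iff_card.1 (fun b : K => ⟨1, Subtype.ext (by rw [pow_one, pow_two]; exact H.sq b.2)⟩)
  have hval : ∀ (a : N1) (x : K), a • (1 : K) = x ↔ (a : G) * u * (a : G)⁻¹ = u * x := fun a x => by
    rw [Subtype.ext_iff]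
    show u⁻¹ * ((a : G) * (u * 1) * (a : G)⁻¹) = x ↔ _
    rw [inv_mul_eq_iff_eq_mul, mul_one]
  have htr : orbit N1 (1 : K) = Set.univ := Set.eq_univ_of_forall fun x => by
    obtain ⟨a, ha, hau, hac⟩ := H.exists_translation x.2
    exact ⟨⟨a, ha, Subgroup.mem_centralizer_iff.2 fun b hb => (hac b hb).eq.symm⟩, (hval _ _).2 hau⟩
  have hNcard : Nat.card (stabilizer N1 (1 : K)) * 2 ^ e = Nat.card N1 := by
    rw [← Subgroup.card_mul_index (stabilizer N1 (1 : K)), index_stabilizer, htr, Set.ncard_univ, he]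
  have hP'card : Nat.card P' = Nat.card P1 :=
    Nat.card_congr (Subgroup.subgroupOfEquivOfLe hP1N1).toEquiv
  set S := P' ⊓ stabilizer N1 (1 : K) with hS
  obtain ⟨i, hi⟩ := IsPGroup.iff_card.1 ((hP12.comap_subtype (K := N1)).to_le
    (inf_le_left : S ≤ P'))
  have hdvd : 2 ^ (i + e) ∣ Nat.card P1 := by
    have h1 : 2 ^ (i + e) ∣ Nat.card N1 := by
      rw [pow_add, ← hi, ← hNcard]
      exact mul_dvd_mul_right (Subgroup.card_dvd_of_le inf_le_right) _
    rw [hcardP1]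
    exact pow_dvd_pow 2 ((Nat.Prime.pow_dvd_iff_le_factorization Nat.prime_two Nat.card_pos.ne').1 h1)
  have horb : Nat.card (stabilizer P' (1 : K)) * (orbit P' (1 : K)).ncard = Nat.card P' := by
    rw [← Subgroup.card_mul_index (stabilizer P' (1 : K)), index_stabilizer]
  have hstab : Nat.card (stabilizer P' (1 : K)) = Nat.card S := Nat.card_congr
    { toFun := fun g => ⟨g.1.1, g.1.2, g.2⟩
      invFun := fun g => ⟨⟨g.1, g.2.1⟩, g.2.2⟩
      left_inv := fun g => rfl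
      right_inv := fun g => rfl }
  rw [hstab, hi, hP'card] at horb
  have hle : 2 ^ e ≤ (orbit P' (1 : K)).ncard := by
    refine Nat.le_of_dvd ((Set.ncard_pos (Set.toFinite _)).2 ⟨_, mem_orbit_self _⟩) ?_
    refine Nat.dvd_of_mul_dvd_mul_left (show 0 < 2 ^ i by positivity) ?_
    rw [← pow_add, horb]; exact hdvd
  have huniv : orbit P' (1 : K) = Set.univ :=
    Set.eq_of_subset_of_ncard_le (Set.subset_univ _) (by rw [Set.ncard_univ, he]; exact hle)
  obtain ⟨g, hg⟩ : (⟨b, hb⟩ : K) ∈ orbit P' (1 : K) := huniv ▸ Set.mem_univ _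
  exact ⟨((g : N1) : G), g.2, (hval g.1 ⟨b, hb⟩).1 hg⟩

/-- In the part centralising the members all squares lie in `cenGroup`. -/
theorem sylow_square {P : Sylow 2 G} (hPN : (P : Subgroup G) ≤ cosetStab Z u c) {g : G}
    (hg : g ∈ (P : Subgroup G) ⊓ Subgroup.centralizer (cenGroup Z u c : Set G)) :
    g * g ∈ cenGroup Z u c := by
  classical
  have hh := H.base
  set P1 : Subgroup G := (P : Subgroup G) ⊓ Subgroup.centralizer (cenGroup Z u c : Set G) with hP1
  have hcomm : ∀ x ∈ P1, ∀ b ∈ cenGroup Z u c, Commute x b := fun x hx b hb =>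
    (Subgroup.mem_centralizer_iff.1 hx.2 b hb).symm
  have hout : ∀ x ∈ P1, ¬ Commute x u → x * x ∈ cenGroup Z u c := by
    intro x hx hxu'
    obtain ⟨t, ht, hxu⟩ := (hPN hx.1).2.1 1 (one_mem _)
    rw [mul_one] at hxu
    have h1 : x * x * u * (x * x)⁻¹ = u := by
      rw [show x * x * u * (x * x)⁻¹ = x * (x * u * x⁻¹) * x⁻¹ by group, hxu,
        show x * (u * t) * x⁻¹ = x * u * x⁻¹ * (x * t * x⁻¹) by group, hxu, (hcomm x hx t ht).eq,
        mul_inv_cancel_right, mul_assoc, H.sq ht, mul_one]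
    by_contra hne
    obtain ⟨j, hj⟩ := P.isPGroup' ⟨x * x, mul_mem hx.1 hx.1⟩
    have hex : ∃ i, (x * x) ^ 2 ^ i ∈ cenGroup Z u c :=
      ⟨j, by rw [show (x * x) ^ 2 ^ j = 1 from congrArg Subtype.val hj]; exact one_mem _⟩
    obtain ⟨i, hi⟩ : ∃ i, Nat.find hex = i + 1 := Nat.exists_eq_succ_of_ne_zero fun e => hne (by
      have := Nat.find_spec hex
      rwa [e, pow_zero, pow_one] at this)
    have hlast : (x * x) ^ 2 ^ i ∉ cenGroup Z u c := Nat.find_min hex (by omega)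
    have hnext : (x * x) ^ 2 ^ i * (x * x) ^ 2 ^ i ∈ cenGroup Z u c := by
      have := Nat.find_spec hex
      rwa [hi, pow_succ, pow_mul, pow_two] at this
    rcases H.mem_or_coset_of_sq (hPN (pow_mem (mul_mem hx.1 hx.1) _)).1
      ((show Commute u (x * x) from (mul_inv_eq_iff_eq_mul.1 h1).symm).pow_right _) hnext with
      h2 | ⟨b, hb, hxb⟩
    · exact hlast h2
    · have h5 : Commute x ((x * x) ^ 2 ^ i) :=
        ((Commute.refl x).mul_right (Commute.refl x)).pow_right _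
      rw [hxb] at h5
      exact hxu' (by simpa using h5.mul_right (hcomm x hx b hb).inv_right)
  by_cases hgu : Commute g u
  swap
  · exact hout g hg hgu
  -- two elements moving `u`, with product moving it
  obtain ⟨a0, ha0, a1, ha1, hne⟩ := H.two
  obtain ⟨x, hxP, hxu⟩ := (H.sylow_trans hPN).2 a0 (H.mem_iff.2 (Or.inr ha0))
  obtain ⟨y, hyP, hyu⟩ := (H.sylow_trans hPN).2 a1 (H.mem_iff.2 (Or.inr ha1))
  have hnc : ∀ {z b : G}, z * u * z⁻¹ = u * b → b ≠ 1 → ¬ Commute z u := fun {z b} e hb hz =>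
    hb (by rw [hz.eq, mul_inv_cancel_right] at e; exact mul_eq_left.1 e.symm)
  have hb0 : a0 ≠ 1 := ne_one_of_involution (hh.invol a0 ha0.1.1)
  have hb1 : a1 ≠ 1 := ne_one_of_involution (hh.invol a1 ha1.1.1)
  have hxy : (x * y) * u * (x * y)⁻¹ = u * (a0 * a1) := by
    rw [show (x * y) * u * (x * y)⁻¹ = x * (y * u * y⁻¹) * x⁻¹ by group, hyu,
      show x * (u * a1) * x⁻¹ = x * u * x⁻¹ * (x * a1 * x⁻¹) by group, hxu,
      (hcomm x hxP a1 (H.mem_iff.2 (Or.inr ha1))).eq, mul_inv_cancel_right, mul_assoc]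
  have hb01 : a0 * a1 ≠ 1 := fun e => hne (by
    rw [← inv_eq_self_of_involution (hh.invol a0 ha0.1.1)]
    exact inv_eq_of_mul_eq_one_right e)
  let K' : Subgroup P1 := (cenGroup Z u c).subgroupOf P1
  have : K'.Normal := ⟨fun b hb p => by
    show (p : G) * b * (p : G)⁻¹ ∈ cenGroup Z u c
    rw [(hcomm p p.2 b hb).eq, mul_inv_cancel_right]; exact hb⟩
  have hinv : ∀ z ∈ P1, ¬ Commute z u → z * g * z * g ∈ cenGroup Z u c := fun z hz hzu => by
    have h1 : ¬ Commute (z * g) u := fun e => hzu (by simpa using e.mul_left hgu.inv_left)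
    have := hout _ (mul_mem hz hg) h1
    rwa [show z * g * (z * g) = z * g * z * g by group] at this
  have key : ∀ p : P1, ((p : G) ∈ cenGroup Z u c) ↔ QuotientGroup.mk' K' p = 1 :=
    fun p => (QuotientGroup.eq_one_iff (N := K') p).symm
  set X : P1 ⧸ K' := QuotientGroup.mk' K' ⟨x, hxP⟩
  set Y : P1 ⧸ K' := QuotientGroup.mk' K' ⟨y, hyP⟩
  set W : P1 ⧸ K' := QuotientGroup.mk' K' ⟨g, hg⟩
  have h2 : X * W * X * W = 1 := (key (⟨x, hxP⟩ * ⟨g, hg⟩ * ⟨x, hxP⟩ * ⟨g, hg⟩)).1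
    (hinv x hxP (hnc hxu hb0))
  have h3 : Y * W * Y * W = 1 := (key (⟨y, hyP⟩ * ⟨g, hg⟩ * ⟨y, hyP⟩ * ⟨g, hg⟩)).1
    (hinv y hyP (hnc hyu hb1))
  have h4 : (X * Y) * W * (X * Y) * W = 1 :=
    (key ((⟨x, hxP⟩ * ⟨y, hyP⟩) * ⟨g, hg⟩ * (⟨x, hxP⟩ * ⟨y, hyP⟩) * ⟨g, hg⟩)).1
    (hinv _ (mul_mem hxP hyP) (hnc hxy hb01))
  have hX : X * X = 1 := (key (⟨x, hxP⟩ * ⟨x, hxP⟩)).1 (hout x hxP (hnc hxu hb0))
  have hY : Y * Y = 1 := (key (⟨y, hyP⟩ * ⟨y, hyP⟩)).1 (hout y hyP (hnc hyu hb1))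
  have hXY : (X * Y) * (X * Y) = 1 :=
    (key ((⟨x, hxP⟩ * ⟨y, hyP⟩) * (⟨x, hxP⟩ * ⟨y, hyP⟩))).1
      (hout _ (mul_mem hxP hyP) (hnc hxy hb01))
  have e2 : X * W * X = W⁻¹ := eq_inv_of_mul_eq_one_left h2
  have e3 : Y * W * Y = W⁻¹ := eq_inv_of_mul_eq_one_left h3
  have e4 : (X * Y) * W * (X * Y) = W⁻¹ := eq_inv_of_mul_eq_one_left h4
  have e5 : (X * Y)⁻¹ = X * Y := inv_eq_of_mul_eq_one_right hXY
  have e6 : X * Y = Y * X := by
    rw [← e5, mul_inv_rev, inv_eq_of_mul_eq_one_right hX, inv_eq_of_mul_eq_one_right hY]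
  have e7 : W = W⁻¹ := by
    calc W = X * (X * W * X) * X := by
          rw [show X * (X * W * X) * X = (X * X) * W * (X * X) by group, hX]; group
      _ = X * (Y * W * Y) * X := by rw [e2, e3]
      _ = (X * Y) * W * (Y * X) := by group
      _ = W⁻¹ := by rw [← e6]; exact e4
  have h5 : QuotientGroup.mk' K' (⟨g, hg⟩ * ⟨g, hg⟩) = 1 := by
    rw [map_mul]; exact eq_inv_iff_mul_eq_one.1 e7
  exact (key _).2 h5

end TightHyp

end CfsgLib.StrongCrit
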