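import Cfsg.Agent.Lib.StrongCrit.TightEnd

/-!
The norm over the elements with odd image, and the contradiction in the tight case.
-/

set_option autoImplicit false

namespace CfsgLib.StrongCrit

open CfsgLib.Involutions MulAction

universe u v

variable {G : Type u} [Group G] {Ω : Type v} [MulAction G Ω] {Z : Set G}

/-- The automorphism of a quotient induced by conjugation. -/
theorem exists_quotient_conj (P K : Subgroup G) [(K.subgroupOf P).Normal] (S : Subgroup G)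
    (hP : ∀ s ∈ S, ∀ x ∈ P, s * x * s⁻¹ ∈ P) (hK : ∀ s ∈ S, ∀ x ∈ K, s * x * s⁻¹ ∈ K) :
    ∃ θ : S →* MulAut (P ⧸ K.subgroupOf P), ∀ (s : S) (x : P),
      θ s (x : P ⧸ K.subgroupOf P) =
        ((⟨(s : G) * x * (s : G)⁻¹, hP s s.2 x x.2⟩ : P) : P ⧸ K.subgroupOf P) := by
  let cj : S → P →* P := fun s =>
    { toFun := fun x => ⟨(s : G) * x * (s : G)⁻¹, hP s s.2 x x.2⟩
      map_one' := Subtype.ext (by simp)
      map_mul' := fun x y => Subtype.ext (by simp [mul_assoc]) }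
  let F : S → (P ⧸ K.subgroupOf P) →* (P ⧸ K.subgroupOf P) := fun s =>
    QuotientGroup.map _ _ (cj s) fun x hx => hK s s.2 x hx
  have hmk : ∀ (s : S) (x : P),
      F s (x : P ⧸ K.subgroupOf P) = ((cj s x : P) : P ⧸ K.subgroupOf P) := fun s x => rfl
  have hmul : ∀ (s t : S) (a : P ⧸ K.subgroupOf P), F s (F t a) = F (s * t) a := fun s t a => by
    induction a using QuotientGroup.induction_on with | H x => ?_
    rw [hmk, hmk, hmk]
    exact congrArg _ (Subtype.ext (show (s : G) * ((t : G) * x * (t : G)⁻¹) * (s : G)⁻¹ =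
      ((s : G) * t) * x * ((s : G) * t)⁻¹ by group))
  have hone : ∀ a : P ⧸ K.subgroupOf P, F 1 a = a := fun a => by
    induction a using QuotientGroup.induction_on with | H x => ?_
    rw [hmk]
    exact congrArg _ (Subtype.ext (show (1 : G) * x * (1 : G)⁻¹ = (x : G) by group))
  refine ⟨{ toFun := fun s =>
              { toFun := F s
                invFun := F s⁻¹
                left_inv := fun a => by rw [hmul, inv_mul_cancel, hone]
                right_inv := fun a => by rw [hmul, mul_inv_cancel, hone]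
                map_mul' := map_mul (F s) }
            map_one' := MulEquiv.ext hone
            map_mul' := fun s t => MulEquiv.ext fun a => (hmul s t a).symm }, fun s x => rfl⟩

namespace TightHyp

variable {u : G} {c : Ω} (H : TightHyp Ω Z u c) [Finite G] [Finite Ω]
include H

/-- A homomorphism killing the members, nontrivial at `u`, on the part of a Sylow 2-subgroup
centralising the members, invariant under the rest. -/
theorem exists_norm {P : Sylow 2 G} (hPN : (P : Subgroup G) ≤ cosetStab Z u c)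
    (huP : u ∈ (P : Subgroup G)) :
    ∃ M : Subgroup G, M ≤ (P : Subgroup G) ⊓ Subgroup.centralizer (cenGroup Z u c : Set G) ∧
      u ∉ M ∧ (∀ p ∈ (P : Subgroup G), ∀ x ∈ M, p * x * p⁻¹ ∈ M) ∧
      (cenGroup Z u c ⊓ (P : Subgroup G) ≤ M) ∧
      ∀ x ∈ (P : Subgroup G) ⊓ Subgroup.centralizer (cenGroup Z u c : Set G),
        x ∈ M ∨ u * x ∈ M := by
  classical
  have : Fact (Nat.Prime 2) := ⟨Nat.prime_two⟩
  have hh := H.base
  obtain ⟨hcardP1, htransP⟩ := H.sylow_trans hPN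
  set K := cenGroup Z u c with hKdef
  set P1 : Subgroup G := (P : Subgroup G) ⊓ Subgroup.centralizer (K : Set G) with hP1
  have hcomm : ∀ x ∈ P1, ∀ b ∈ K, Commute x b := fun x hx b hb =>
    (Subgroup.mem_centralizer_iff.1 hx.2 b hb).symm
  have huP1 : u ∈ P1 := ⟨huP, Subgroup.mem_centralizer_iff.2 fun b hb => (H.comm_self hb).eq.symm⟩
  let K' : Subgroup P1 := K.subgroupOf P1
  have : K'.Normal := ⟨fun b hb p => by
    show (p : G) * b * (p : G)⁻¹ ∈ K
    rw [(hcomm p p.2 b hb).eq, mul_inv_cancel_right]; exact hb⟩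
  have hexp : ∀ a : P1 ⧸ K', a * a = 1 := fun a => by
    induction a using QuotientGroup.induction_on with | H g => ?_
    rw [← QuotientGroup.mk_mul, QuotientGroup.eq_one_iff]
    exact H.sylow_square hPN g.2
  have habel : ∀ a b : P1 ⧸ K', a * b = b * a := fun a b => by
    have hi : ∀ x : P1 ⧸ K', x⁻¹ = x := fun x => inv_eq_of_mul_eq_one_right (hexp x)
    rw [← hi (a * b), mul_inv_rev, hi, hi]
  letI : CommGroup (P1 ⧸ K') := { (inferInstance : Group (P1 ⧸ K')) with mul_comm := habel }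
  -- the elements centralising `u` inside
  have hcent : ∀ x ∈ P1, Commute x u → x ∈ K ∨ ∃ b ∈ K, x = u * b := fun x hx hxu =>
    H.mem_or_coset_of_sq (hPN hx.1).1 hxu.symm (H.sylow_square hPN hx)
  set ub : P1 ⧸ K' := ((⟨u, huP1⟩ : P1) : P1 ⧸ K') with hub
  have hub1 : ub ≠ 1 := fun e => by
    have h1 : u ∈ K := (QuotientGroup.eq_one_iff (N := K') (⟨u, huP1⟩ : P1)).1 e
    rcases H.mem_iff.1 h1 with h2 | h2
    · exact ne_one_of_involution H.bad.1 h2
    · obtain ⟨-, x, y, hxy, hx, hy⟩ := H.bad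
      exact hxy (hh.unique u h2.1.1 x y hx hy)
  -- the odd exponent
  obtain ⟨j₀, o, hond, hoeq⟩ :=
    Nat.exists_eq_pow_mul_and_not_dvd (Nat.card_pos (α := G)).ne' 2 (by norm_num)
  have ho2 : Odd o := Nat.not_even_iff_odd.1 fun ev => hond (even_iff_two_dvd.1 ev)
  have ho : ∀ g : G, ∃ j, (g ^ o) ^ 2 ^ j = 1 := fun g =>
    ⟨j₀, by rw [← pow_mul, mul_comm, ← hoeq, pow_card_eq_one']⟩
  obtain ⟨C, hC⟩ := H.exists_plus ho
  set S : Subgroup G := C ⊓ Subgroup.normalizer (P1 : Set G) with hS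
  have hSN : ∀ s ∈ S, s ∈ cosetStab Z u c := fun s hs =>
    H.mem_cosetStab_of_commute ((hC s).1 hs.1).1 ((hC s).1 hs.1).2.1
  have hSP : ∀ s ∈ S, ∀ x ∈ P1, s * x * s⁻¹ ∈ P1 := fun s hs x hx =>
    (Subgroup.mem_normalizer_iff.1 hs.2 x).1 hx
  have hSK : ∀ s ∈ S, ∀ x ∈ K, s * x * s⁻¹ ∈ K := fun s hs x hx => H.norm (hSN s hs) hx
  obtain ⟨θ, hθ⟩ := exists_quotient_conj P1 K S hSP hSK
  -- odd order
  have hodd : Odd (Nat.card θ.range) := by
    by_contra hev
    obtain ⟨⟨_, s, rfl⟩, hs⟩ := exists_prime_orderOf_dvd_card' (G := θ.range) 2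
      (even_iff_two_dvd.1 (Nat.not_odd_iff_even.1 hev))
    set z := (s : G) ^ o with hz
    obtain ⟨hsc, hsu, hso⟩ := (hC s).1 s.2.1
    have hzN1 : z ∈ cosetStab Z u c ⊓ Subgroup.centralizer (K : Set G) :=
      ⟨pow_mem (hSN s s.2) o, Subgroup.mem_centralizer_iff.2 fun b hb => (hso b hb).eq.symm⟩
    have hzn : Subgroup.zpowers z ≤ Subgroup.normalizer (P1 : Set G) :=
      Subgroup.zpowers_le.2 (pow_mem s.2.2 o)
    obtain ⟨j, hj⟩ := ho (s : G)
    have hz2 : IsPGroup 2 (Subgroup.zpowers z) := by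
      obtain ⟨i, -, hi⟩ := (Nat.dvd_prime_pow Nat.prime_two).1 (orderOf_dvd_of_pow_eq_one hj)
      exact IsPGroup.of_card (n := i) (by rw [Nat.card_zpowers, hz, hi])
    have hsup : IsPGroup 2 (Subgroup.zpowers z ⊔ P1 : Subgroup G) :=
      IsPGroup.to_sup_of_normal_right' hz2 (P.isPGroup'.to_le inf_le_left) hzn
    have hzP : z ∈ P1 := by
      have hle : Subgroup.zpowers z ⊔ P1 ≤ cosetStab Z u c ⊓ Subgroup.centralizer (K : Set G) :=
        sup_le (Subgroup.zpowers_le.2 hzN1) fun g hg => ⟨hPN hg.1, hg.2⟩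
      obtain ⟨i, hi⟩ := IsPGroup.iff_card.1 hsup
      have hcard : Nat.card (Subgroup.zpowers z ⊔ P1 : Subgroup G) ≤ Nat.card P1 := by
        rw [hcardP1, hi]
        refine Nat.pow_le_pow_right (by norm_num)
          ((Nat.Prime.pow_dvd_iff_le_factorization Nat.prime_two Nat.card_pos.ne').1 ?_)
        rw [← hi]; exact Subgroup.card_dvd_of_le hle
      rw [Subgroup.eq_of_le_of_card_ge le_sup_right hcard]
      exact Subgroup.mem_sup_left (Subgroup.mem_zpowers z)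
    have h1 : (θ s) ^ o = 1 := by
      rw [← map_pow]
      refine MulEquiv.ext fun a => ?_
      induction a using QuotientGroup.induction_on with | H x => ?_
      rw [hθ]
      have h2 : ((⟨z * (x : G) * z⁻¹, mul_mem (mul_mem hzP x.2) (inv_mem hzP)⟩ : P1) : P1 ⧸ K') =
          ((x : P1) : P1 ⧸ K') := by
        rw [show (⟨z * (x : G) * z⁻¹, mul_mem (mul_mem hzP x.2) (inv_mem hzP)⟩ : P1) =
          ⟨z, hzP⟩ * x * ⟨z, hzP⟩⁻¹ from rfl, QuotientGroup.mk_mul, QuotientGroup.mk_mul,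
          QuotientGroup.mk_inv, habel, ← mul_assoc, inv_mul_cancel, one_mul]
      exact h2
    have h3 : orderOf (θ s) = 2 := by rwa [← Subgroup.orderOf_coe] at hs
    have h4 := orderOf_dvd_of_pow_eq_one h1
    rw [h3] at h4
    exact (Nat.not_even_iff_odd.2 ho2) (even_iff_two_dvd.2 h4)
  -- transitivity on the members
  have htransS : ∀ a ∈ cenSet Z u c, ∀ b ∈ cenSet Z u c, ∃ s ∈ S, s * a * s⁻¹ = b := by
    intro a ha b hb
    obtain ⟨d, hdc, hdu, hdo, hdab⟩ := H.trans_odd a ha b hb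
    have hdN : d ∈ cosetStab Z u c := H.mem_cosetStab_of_commute hdc hdu
    set N1 : Subgroup G := cosetStab Z u c ⊓ Subgroup.centralizer (K : Set G) with hN1
    have hdN1 : ∀ x ∈ N1, d * x * d⁻¹ ∈ N1 := fun x hx => by
      refine ⟨(mul_mem (mul_mem hdN hx.1) (inv_mem hdN) : d * x * d⁻¹ ∈ cosetStab Z u c),
        Subgroup.mem_centralizer_iff.2 fun k hk => ?_⟩
      have h1 := Subgroup.mem_centralizer_iff.1 hx.2 _ (H.norm (inv_mem hdN) hk)
      simp only [inv_inv] at h1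
      calc k * (d * x * d⁻¹) = d * (d⁻¹ * k * d * x) * d⁻¹ := by group
        _ = d * (x * (d⁻¹ * k * d)) * d⁻¹ := by rw [h1]
        _ = d * x * d⁻¹ * k := by group
    have hle : P1 ≤ N1 := fun g hg => ⟨hPN hg.1, hg.2⟩
    have hle' : P1.map (MulAut.conj d).toMonoidHom ≤ N1 := by
      rintro _ ⟨g, hg, rfl⟩; exact hdN1 g (hle hg)
    let S1 : Sylow 2 N1 := Sylow.ofCard (P1.subgroupOf N1) (by
      rw [Nat.card_congr (Subgroup.subgroupOfEquivOfLe hle).toEquiv, hcardP1])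
    let S2 : Sylow 2 N1 := Sylow.ofCard ((P1.map (MulAut.conj d).toMonoidHom).subgroupOf N1) (by
      rw [Nat.card_congr (Subgroup.subgroupOfEquivOfLe hle').toEquiv,
        Subgroup.card_map_of_injective (MulAut.conj d).injective, hcardP1])
    obtain ⟨n, hn⟩ := MulAction.exists_smul_eq N1 S1 S2
    have hn' : ∀ x ∈ P1, (n : G) * x * (n : G)⁻¹ ∈ P1.map (MulAut.conj d).toMonoidHom := fun x hx => by
      have h1 : MulAut.conj n • (⟨x, hle hx⟩ : N1) ∈ (S2 : Subgroup N1) := by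
        rw [← hn, Sylow.coe_subgroup_smul]
        exact Subgroup.smul_mem_pointwise_smul _ (MulAut.conj n) (S1 : Subgroup N1) hx
      exact h1
    set y := (n : G)⁻¹ * d with hy
    have hyP : y ∈ Subgroup.normalizer (P1 : Set G) := by
      have hsub : ∀ x ∈ P1, y⁻¹ * x * y ∈ P1 := fun x hx => by
        obtain ⟨x', hx', he⟩ := hn' x hx
        have he' : d * x' * d⁻¹ = (n : G) * x * (n : G)⁻¹ := he
        have h2 : y⁻¹ * x * y = x' := by
          rw [hy, show ((n : G)⁻¹ * d)⁻¹ * x * ((n : G)⁻¹ * d) =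
            d⁻¹ * ((n : G) * x * (n : G)⁻¹) * d by group, ← he']
          group
        rw [h2]; exact hx'
      have hy' : y⁻¹ ∈ Subgroup.normalizer (P1 : Set G) := by
        have heq : P1.map (MulAut.conj y⁻¹).toMonoidHom = P1 := Subgroup.eq_of_le_of_card_ge
          (by
            rintro _ ⟨x, hx, rfl⟩
            rw [MulEquiv.coe_toMonoidHom, MulAut.conj_apply, inv_inv]
            exact hsub x hx)
          (le_of_eq (Subgroup.card_map_of_injective (MulAut.conj y⁻¹).injective).symm)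
        refine Subgroup.mem_normalizer_iff.2 fun x => ⟨fun hx => by simpa using hsub x hx, fun hx => ?_⟩
        rw [← heq] at hx
        obtain ⟨x', hx', he⟩ := hx
        have he' : y⁻¹ * x' * y⁻¹⁻¹ = y⁻¹ * x * y⁻¹⁻¹ := he
        rwa [mul_left_cancel (mul_right_cancel he')] at hx'
      simpa using inv_mem hy'
    have hnN : (n : G) ∈ cosetStab Z u c := n.2.1
    obtain ⟨t, ht, hyu⟩ := (mul_mem (inv_mem hnN) hdN).2.1 1 (one_mem _)
    rw [mul_one, ← hy] at hyu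
    obtain ⟨g, hg, hgu⟩ := htransP t ht
    set s := g⁻¹ * y with hs
    have hsu : Commute s u := by
      refine mul_inv_eq_iff_eq_mul.1 ?_
      rw [hs, show g⁻¹ * y * u * (g⁻¹ * y)⁻¹ = g⁻¹ * (y * u * y⁻¹) * g by group, hyu, ← hgu]
      group
    have hact : ∀ k ∈ K, s * k * s⁻¹ = d * k * d⁻¹ := fun k hk => by
      have h1 := H.norm hdN hk
      have h2 : (g⁻¹ * (n : G)⁻¹) * (d * k * d⁻¹) = (d * k * d⁻¹) * (g⁻¹ * (n : G)⁻¹) :=
        ((hcomm g hg _ h1).inv_left.mul_left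
          (show Commute (n : G) (d * k * d⁻¹) from
            (Subgroup.mem_centralizer_iff.1 n.2.2 _ h1).symm).inv_left).eq
      rw [hs, hy, show g⁻¹ * ((n : G)⁻¹ * d) * k * (g⁻¹ * ((n : G)⁻¹ * d))⁻¹ =
        (g⁻¹ * (n : G)⁻¹) * (d * k * d⁻¹) * (g⁻¹ * (n : G)⁻¹)⁻¹ by group, h2, mul_inv_cancel_right]
    have hpow : ∀ (i : ℕ), ∀ k ∈ K, s ^ i * k * (s ^ i)⁻¹ = d ^ i * k * (d ^ i)⁻¹ := by
      intro i
      induction i with
      | zero => simp
      | succ i ih =>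
        intro k hk
        rw [pow_succ, pow_succ, show s ^ i * s * k * (s ^ i * s)⁻¹ = s ^ i * (s * k * s⁻¹) * (s ^ i)⁻¹ by
          group, hact k hk, ih _ (H.norm hdN hk)]
        group
    have hdo' : d ^ o = 1 := by
      refine orderOf_dvd_iff_pow_eq_one.1 ?_
      have h1 : orderOf d ∣ 2 ^ j₀ * o := hoeq ▸ orderOf_dvd_natCard d
      exact (Nat.Coprime.pow_right _ (Nat.coprime_two_right.2 hdo)).dvd_of_dvd_mul_left h1
    refine ⟨s, ⟨(hC s).2 ⟨?_, hsu, fun k hk => ?_⟩, ?_⟩, ?_⟩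
    · rw [hs, mul_smul, hy, mul_smul, hdc, inv_smul_eq_iff.2 n.2.1.1.symm,
        inv_smul_eq_iff.2 (hPN hg.1).1.symm]
    · refine mul_inv_eq_iff_eq_mul.1 ?_
      rw [hpow o k hk, hdo']; group
    · have hgn : g ∈ Subgroup.normalizer (P1 : Set G) := Subgroup.le_normalizer hg
      show g⁻¹ * y ∈ Subgroup.normalizer (P1 : Set G)
      exact mul_mem (inv_mem hgn) hyP
    · rw [hact a (H.mem_iff.2 (Or.inr ha)), hdab]
  -- the norm
  have := Fintype.ofFinite θ.range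
  let χ : (P1 ⧸ K') →* (P1 ⧸ K') :=
    ∏ σ : θ.range, ((σ : MulAut (P1 ⧸ K')).toMonoidHom)
  have hχ : ∀ a, χ a = ∏ σ : θ.range, (σ : MulAut (P1 ⧸ K')) a := fun a =>
    MonoidHom.finsetProd_apply _ _ a
  have hfix : ∀ (τ : θ.range) (a : P1 ⧸ K'), (τ : MulAut (P1 ⧸ K')) (χ a) = χ a := fun τ a => by
    rw [hχ, map_prod]
    exact Fintype.prod_equiv (Equiv.mulLeft τ) _ _ fun σ => rfl
  have hfixub : ∀ σ : θ.range, (σ : MulAut (P1 ⧸ K')) ub = ub := by
    rintro ⟨_, s, rfl⟩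
    rw [hub, hθ]
    exact congrArg _ (Subtype.ext (show (s : G) * u * (s : G)⁻¹ = u by
      rw [((hC s).1 s.2.1).2.1.eq, mul_inv_cancel_right]))
  have hχub : χ ub = ub := by
    rw [hχ, Finset.prod_congr rfl fun σ _ => hfixub σ, Finset.prod_const, Finset.card_univ,
      ← Nat.card_eq_fintype_card]
    obtain ⟨k, hk⟩ := hodd
    rw [hk, pow_succ, pow_mul, pow_two, hexp, one_pow, one_mul]
  have hrange : ∀ a, χ a = 1 ∨ χ a = ub := by
    intro a
    obtain ⟨⟨x, hx⟩, hxe⟩ := QuotientGroup.mk_surjective (χ a)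
    obtain ⟨t, ht, hxu⟩ := (hPN hx.1).2.1 1 (one_mem _)
    rw [mul_one] at hxu
    have hfixt : ∀ s ∈ S, s * t * s⁻¹ = t := by
      intro s hs
      have h1 := hfix ⟨θ ⟨s, hs⟩, ⟨s, hs⟩, rfl⟩ a
      rw [← hxe] at h1
      simp only at h1
      rw [hθ, QuotientGroup.eq] at h1
      have h2 : (s * x * s⁻¹)⁻¹ * x ∈ K := h1
      have hsu := ((hC s).1 hs.1).2.1
      have h3 : (s * x * s⁻¹) * u * (s * x * s⁻¹)⁻¹ = u * t := by
        have hk : x = (s * x * s⁻¹) * ((s * x * s⁻¹)⁻¹ * x) := by group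
        have hc := (H.comm_self h2).eq
        calc (s * x * s⁻¹) * u * (s * x * s⁻¹)⁻¹
            = (s * x * s⁻¹) * (u * ((s * x * s⁻¹)⁻¹ * x)) * ((s * x * s⁻¹)⁻¹ * x)⁻¹ *
                (s * x * s⁻¹)⁻¹ := by group
          _ = (s * x * s⁻¹) * (((s * x * s⁻¹)⁻¹ * x) * u) * ((s * x * s⁻¹)⁻¹ * x)⁻¹ *
                (s * x * s⁻¹)⁻¹ := by rw [hc]
          _ = x * u * x⁻¹ := by group
          _ = u * t := hxu
      have h4 : (s * x * s⁻¹) * u * (s * x * s⁻¹)⁻¹ = s * (x * (s⁻¹ * u * s) * x⁻¹) * s⁻¹ := by group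
      rw [h4, show s⁻¹ * u * s = u by rw [mul_assoc, ← hsu.eq, inv_mul_cancel_left], hxu,
        show s * (u * t) * s⁻¹ = (s * u * s⁻¹) * (s * t * s⁻¹) by group, hsu.eq,
        mul_inv_cancel_right] at h3
      exact mul_left_cancel h3
    have ht1 : t = 1 := by
      by_contra hne
      have htm : t ∈ cenSet Z u c := (H.mem_iff.1 ht).resolve_left hne
      obtain ⟨a0, ha0, a1, ha1, h01⟩ := H.two
      rcases eq_or_ne t a0 with e | e
      · obtain ⟨s, hs, hst⟩ := htransS t htm a1 ha1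
        rw [hfixt s hs] at hst
        exact h01 (e.symm.trans hst)
      · obtain ⟨s, hs, hst⟩ := htransS t htm a0 ha0
        rw [hfixt s hs] at hst
        exact e hst
    rw [ht1, mul_one] at hxu
    rcases hcent x hx (mul_inv_eq_iff_eq_mul.1 hxu) with h1 | ⟨b, hb, h1⟩
    · left; rw [← hxe]; exact (QuotientGroup.eq_one_iff (N := K') (⟨x, hx⟩ : P1)).2 h1
    · right
      rw [← hxe, hub, QuotientGroup.eq]
      show x⁻¹ * u ∈ K
      rw [h1, mul_inv_rev, inv_eq_self_of_involution H.bad.1, mul_assoc,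
        mul_self_eq_one H.bad.1, mul_one]
      exact inv_mem hb
  -- invariance under the elements of `P` centralising `u`
  have hPnorm : ∀ p ∈ (P : Subgroup G), ∀ x ∈ P1, p * x * p⁻¹ ∈ P1 := fun p hp x hx =>
    ⟨(mul_mem (mul_mem hp hx.1) (inv_mem hp) : p * x * p⁻¹ ∈ (P : Subgroup G)),
      Subgroup.mem_centralizer_iff.2 fun k hk => by
      have h1 := (hcomm x hx _ (H.norm (inv_mem (hPN hp)) hk)).eq
      simp only [inv_inv] at h1
      calc k * (p * x * p⁻¹) = p * (p⁻¹ * k * p * x) * p⁻¹ := by group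
        _ = p * (x * (p⁻¹ * k * p)) * p⁻¹ := by rw [h1]
        _ = p * x * p⁻¹ * k := by group⟩
  let M1 : Subgroup P1 := χ.ker.comap (QuotientGroup.mk' K')
  refine ⟨M1.map P1.subtype, fun x hx => ?_, ?_, ?_, ?_, ?_⟩
  · obtain ⟨y, -, rfl⟩ := hx; exact y.2
  · rintro ⟨y, hy, he⟩
    obtain rfl : y = ⟨u, huP1⟩ := Subtype.ext he
    have h1 : χ ub = 1 := hy
    exact hub1 (hχub.symm.trans h1)
  · rintro p hp _ ⟨y, hy, rfl⟩
    have hy1 : χ (y : P1 ⧸ K') = 1 := hy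
    refine ⟨⟨p * y * p⁻¹, hPnorm p hp y y.2⟩, ?_, rfl⟩
    show χ ((⟨p * y * p⁻¹, hPnorm p hp y y.2⟩ : P1) : P1 ⧸ K') = 1
    -- split off the translation
    obtain ⟨t, ht, hpu⟩ := (hPN hp).2.1 1 (one_mem _)
    rw [mul_one] at hpu
    obtain ⟨g, hg, hgu⟩ := htransP t ht
    set q := g⁻¹ * p with hq
    have hqu : Commute q u := by
      refine mul_inv_eq_iff_eq_mul.1 ?_
      rw [hq, show g⁻¹ * p * u * (g⁻¹ * p)⁻¹ = g⁻¹ * (p * u * p⁻¹) * g by group, hpu, ← hgu]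
      group
    have hqP : q ∈ (P : Subgroup G) := mul_mem (inv_mem hg.1) hp
    have hsplit : ((⟨p * y * p⁻¹, hPnorm p hp y y.2⟩ : P1) : P1 ⧸ K') =
        ((⟨q * y * q⁻¹, hPnorm q hqP y y.2⟩ : P1) : P1 ⧸ K') := by
      have : (⟨p * y * p⁻¹, hPnorm p hp y y.2⟩ : P1) =
          ⟨g, hg⟩ * ⟨q * y * q⁻¹, hPnorm q hqP y y.2⟩ * ⟨g, hg⟩⁻¹ := Subtype.ext (by
        show p * y * p⁻¹ = g * (q * y * q⁻¹) * g⁻¹
        rw [hq]; group)
      rw [this, QuotientGroup.mk_mul, QuotientGroup.mk_mul, QuotientGroup.mk_inv, habel,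
        ← mul_assoc, inv_mul_cancel, one_mul]
    rw [hsplit]
    -- `q` normalises `S`
    have hqn : q ∈ Subgroup.normalizer (P1 : Set G) := Subgroup.mem_normalizer_iff.2 fun x =>
      ⟨hPnorm q hqP x, fun hx => by
        have := hPnorm q⁻¹ (inv_mem hqP) _ hx
        rwa [show q⁻¹ * (q * x * q⁻¹) * q⁻¹⁻¹ = x by group] at this⟩
    have hconj : ∀ r : G, r ∈ (P : Subgroup G) → Commute r u → r ∈ Subgroup.normalizer (P1 : Set G) →
        ∀ s ∈ S, r * s * r⁻¹ ∈ S := by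
      intro r hr hru hrn s hs
      obtain ⟨hsc, hsu, hso⟩ := (hC s).1 hs.1
      refine ⟨(hC _).2 ⟨?_, (hru.mul_left hsu).mul_left hru.inv_left, fun k hk => ?_⟩,
        (mul_mem (mul_mem hrn hs.2) (inv_mem hrn) : r * s * r⁻¹ ∈ Subgroup.normalizer (P1 : Set G))⟩
      · rw [mul_smul, mul_smul, inv_smul_eq_iff.2 (hPN hr).1.symm, hsc, (hPN hr).1]
      · rw [conj_pow]
        have h1 := (hso _ (H.norm (inv_mem (hPN hr)) hk)).eq
        simp only [inv_inv] at h1
        show r * s ^ o * r⁻¹ * k = k * (r * s ^ o * r⁻¹)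
        calc r * s ^ o * r⁻¹ * k = r * (s ^ o * (r⁻¹ * k * r)) * r⁻¹ := by group
          _ = r * ((r⁻¹ * k * r) * s ^ o) * r⁻¹ := by rw [h1]
          _ = k * (r * s ^ o * r⁻¹) := by group
    let Q : Subgroup G := Subgroup.zpowers q
    have hQP : Q ≤ (P : Subgroup G) := Subgroup.zpowers_le.2 hqP
    obtain ⟨η, hη⟩ := exists_quotient_conj P1 K Q (fun r hr x hx => hPnorm r (hQP hr) x hx)
      (fun r hr x hx => H.norm (hPN (hQP hr)) hx)
    let q' : Q := ⟨q, Subgroup.mem_zpowers q⟩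
    have hcj : ∀ σ : MulAut (P1 ⧸ K'), σ ∈ θ.range → (η q')⁻¹ * σ * η q' ∈ θ.range := by
      rintro _ ⟨s, rfl⟩
      have hs' : q⁻¹ * (s : G) * q⁻¹⁻¹ ∈ S :=
        hconj q⁻¹ (inv_mem hqP) hqu.inv_left (inv_mem hqn) s s.2
      refine ⟨⟨_, hs'⟩, MulEquiv.ext fun a => ?_⟩
      induction a using QuotientGroup.induction_on with | H x => ?_
      rw [MulAut.mul_apply, MulAut.mul_apply, ← map_inv η, hθ, hη, hθ, hη]
      exact congrArg _ (Subtype.ext (show q⁻¹ * (s : G) * q⁻¹⁻¹ * x * (q⁻¹ * (s : G) * q⁻¹⁻¹)⁻¹ =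
        q⁻¹ * ((s : G) * (q * x * q⁻¹) * (s : G)⁻¹) * q⁻¹⁻¹ by group))
    let conjR : θ.range → θ.range := fun σ => ⟨(η q')⁻¹ * σ * η q', hcj σ σ.2⟩
    have hbij : Function.Bijective conjR := Finite.injective_iff_bijective.1 fun a b e =>
      Subtype.ext (mul_left_cancel (mul_right_cancel (congrArg Subtype.val e)))
    have hcommχ : χ (η q' (y : P1 ⧸ K')) = η q' (χ (y : P1 ⧸ K')) := by
      rw [hχ, hχ, map_prod]
      refine Fintype.prod_equiv (Equiv.ofBijective conjR hbij) _ _ fun σ => ?_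
      show (σ : MulAut (P1 ⧸ K')) (η q' y) = η q' (((η q')⁻¹ * σ * η q' : MulAut (P1 ⧸ K')) y)
      rw [MulAut.mul_apply, MulAut.mul_apply, MulAut.apply_inv_self]
    rw [hη q' y] at hcommχ
    rw [hcommχ, hy1, map_one]
  · intro b hb
    refine ⟨⟨b, hb.2, Subgroup.mem_centralizer_iff.2 fun k hk =>
      (hh.cenGroup_commute H.faith H.secComm H.bad H.fix hk hb.1).eq⟩, ?_, rfl⟩
    have hbP1 : b ∈ P1 := ⟨hb.2, Subgroup.mem_centralizer_iff.2 fun k hk =>
      (hh.cenGroup_commute H.faith H.secComm H.bad H.fix hk hb.1).eq⟩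
    show χ ((⟨b, hbP1⟩ : P1) : P1 ⧸ K') = 1
    rw [(QuotientGroup.eq_one_iff (N := K') (⟨b, hbP1⟩ : P1)).2 hb.1, map_one]
  · intro x hx
    rcases hrange ((⟨x, hx⟩ : P1) : P1 ⧸ K') with h1 | h1
    · exact Or.inl ⟨⟨x, hx⟩, h1, rfl⟩
    · refine Or.inr ⟨⟨u, huP1⟩ * ⟨x, hx⟩, ?_, rfl⟩
      show χ ((⟨u, huP1⟩ * ⟨x, hx⟩ : P1) : P1 ⧸ K') = 1
      rw [QuotientGroup.mk_mul, map_mul, h1, ← hub, hχub, hexp]

/-- The tight case with `q ^ 2 + 1` points does not occur. -/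
theorem false_of_tight (hgen : Subgroup.closure Z = ⊤)
    (hn : Nat.card Ω = ((cenSet Z u c).ncard + 1) ^ 2 + 1) : False := by
  classical
  have : Fact (Nat.Prime 2) := ⟨Nat.prime_two⟩
  have hh := H.base
  obtain ⟨P, hPN, huP, hKP⟩ := H.exists_sylow hn
  obtain ⟨M, hMle, huM, hMn, hKM, hsplit⟩ := H.exists_norm hPN huP
  let M' : Subgroup (P : Subgroup G) := M.subgroupOf P
  have : M'.Normal := ⟨fun x hx p => hMn p p.2 x hx⟩
  set ub := QuotientGroup.mk' M' ⟨u, huP⟩ with hub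
  -- a generator modulo the part centralising the members
  obtain ⟨A, hA, hcyc, π, hπ⟩ := H.galois
  let T : Subgroup G := (P : Subgroup G) ⊓ (stabilizer G c ⊓ Subgroup.centralizer {u})
  let ψ : T →* A := π.comp (Subgroup.inclusion inf_le_right)
  obtain ⟨t₀, ht₀⟩ : ∃ t₀ : T, ∀ t : T, ∃ i : ℤ, ψ t = ψ t₀ ^ i := by
    obtain ⟨⟨_, t₀, rfl⟩, hgen'⟩ := IsCyclic.exists_generator (α := ψ.range)
    exact ⟨t₀, fun t => by
      obtain ⟨i, hi⟩ := hgen' ⟨ψ t, t, rfl⟩
      exact ⟨i, (congrArg Subtype.val hi).symm⟩⟩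
  set g₀ := QuotientGroup.mk' M' ⟨t₀, t₀.2.1⟩ with hg₀
  have hcent : Commute g₀ ub := by
    show g₀ * ub = ub * g₀
    rw [hg₀, hub, ← map_mul, ← map_mul]
    exact congrArg _ (Subtype.ext (Subgroup.mem_centralizer_singleton_iff.1 t₀.2.2.2))
  have hP1 : ∀ x : (P : Subgroup G), (x : G) ∈ Subgroup.centralizer (cenGroup Z u c : Set G) →
      QuotientGroup.mk' M' x ∈ Subgroup.closure {g₀, ub} := by
    intro x hx
    rcases hsplit x ⟨x.2, hx⟩ with h1 | h1
    · have h2 : QuotientGroup.mk' M' x = 1 := (QuotientGroup.eq_one_iff (N := M') x).2 h1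
      rw [h2]; exact one_mem _
    · have h2 : QuotientGroup.mk' M' (⟨u, huP⟩ * x) = 1 :=
        (QuotientGroup.eq_one_iff (N := M') _).2 h1
      rw [map_mul, mul_eq_one_iff_inv_eq] at h2
      rw [← h2]
      exact inv_mem (Subgroup.subset_closure (by simp [hub]))
  have hgenQ : ∀ q : (P : Subgroup G) ⧸ M', q ∈ Subgroup.closure {g₀, ub} := by
    intro q
    obtain ⟨p, rfl⟩ := QuotientGroup.mk'_surjective M' q
    obtain ⟨t, ht, hpu⟩ := (hPN p.2).2.1 1 (one_mem _)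
    rw [mul_one] at hpu
    obtain ⟨g, hg, hgu⟩ := (H.sylow_trans hPN).2 t ht
    have hgP : g ∈ (P : Subgroup G) := hg.1
    let q' : T := ⟨g⁻¹ * (p : G), (show g⁻¹ * (p : G) ∈ (P : Subgroup G) from mul_mem (inv_mem hgP) p.2),
      show (g⁻¹ * (p : G)) • c = c by rw [mul_smul, (hPN p.2).1, inv_smul_eq_iff, (hPN hg.1).1],
      Subgroup.mem_centralizer_singleton_iff.2 (mul_inv_eq_iff_eq_mul.1 (by
        rw [show g⁻¹ * (p : G) * u * (g⁻¹ * (p : G))⁻¹ = g⁻¹ * ((p : G) * u * (p : G)⁻¹) * g by group,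
          hpu, ← hgu]
        group))⟩
    obtain ⟨i, hi⟩ := ht₀ q'
    set r := q' * (t₀ ^ i)⁻¹ with hr
    have hr1 : ψ r = 1 := by rw [hr, map_mul, map_inv, map_zpow, hi, mul_inv_cancel]
    have hrc : ∀ b ∈ cenGroup Z u c, Commute (r : G) b := fun b hb => by
      rcases H.mem_iff.1 hb with rfl | hb
      · exact Commute.one_right _
      · obtain ⟨j, hj⟩ := P.isPGroup' ⟨(r : G), r.2.1⟩
        exact (hπ (Subgroup.inclusion inf_le_right r)).2 hr1
          (Or.inl ⟨j, congrArg Subtype.val hj⟩) b hb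
    have hp : p = ⟨g, hg.1⟩ * (⟨(r : G), r.2.1⟩ * (⟨t₀, t₀.2.1⟩ : (P : Subgroup G)) ^ i) := by
      apply Subtype.ext
      show (p : G) = g * ((r : G) * (((⟨t₀, t₀.2.1⟩ : (P : Subgroup G)) ^ i : (P : Subgroup G)) : G))
      rw [SubgroupClass.coe_zpow, hr, Subgroup.coe_mul, Subgroup.coe_inv, SubgroupClass.coe_zpow]
      show (p : G) = g * (g⁻¹ * (p : G) * ((t₀ : G) ^ i)⁻¹ * (t₀ : G) ^ i)
      group
    rw [hp, map_mul, map_mul, map_zpow]
    exact mul_mem (hP1 _ hg.2) (mul_mem (hP1 _ (Subgroup.mem_centralizer_iff.2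
      fun b hb => (hrc b hb).eq.symm)) (zpow_mem (Subgroup.subset_closure (by simp [hg₀])) i))
  have habel : ∀ a b : (P : Subgroup G) ⧸ M', a * b = b * a := by
    intro a b
    have hle : Subgroup.closure ({g₀, ub} : Set ((P : Subgroup G) ⧸ M')) ≤
        Subgroup.centralizer {g₀, ub} := by
      rw [Subgroup.closure_le]
      rintro x (rfl | rfl) <;>
        · rw [SetLike.mem_coe, Subgroup.mem_centralizer_iff]
          rintro y (rfl | rfl) <;> first | rfl | exact hcent.eq | exact hcent.eq.symm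
    have h1 : ∀ x : (P : Subgroup G) ⧸ M', Subgroup.closure ({g₀, ub} : Set ((P : Subgroup G) ⧸ M')) ≤
        Subgroup.centralizer {x} := fun x => by
      rw [Subgroup.closure_le]
      intro y hy
      rw [SetLike.mem_coe, Subgroup.mem_centralizer_singleton_iff]
      exact Subgroup.mem_centralizer_iff.1 (hle (hgenQ x)) y hy
    exact Subgroup.mem_centralizer_singleton_iff.1 (h1 b (hgenQ a))
  letI : CommGroup ((P : Subgroup G) ⧸ M') :=
    { (inferInstance : Group ((P : Subgroup G) ⧸ M')) with mul_comm := habel }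
  refine hh.false_of_sylow_hom H.faith P (QuotientGroup.mk' M') (i := ub) ?_ ?_ H.bad
    (by rw [hgen]; trivial)
  · intro e
    exact huM ((QuotientGroup.eq_one_iff (N := M') (⟨u, huP⟩ : (P : Subgroup G))).1 e)
  · intro x hx
    obtain ⟨b, hb, hxb⟩ := H.bad_mem_coset hn hx (hPN x.2)
    have h1 : x = ⟨u, huP⟩ * ⟨b, hKP hb⟩ := Subtype.ext hxb
    rw [h1, map_mul]
    have h2 : (QuotientGroup.mk' M') ⟨b, hKP hb⟩ = 1 :=
      (QuotientGroup.eq_one_iff (N := M') _).2 (hKM ⟨hb, hKP hb⟩)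
    rw [h2, mul_one]

end TightHyp

end CfsgLib.StrongCrit
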