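import Cfsg.Agent.Lib.StrongCrit.Tight

/-!
Translations in the tight case: the subgroup permuting the coset of `u` is 2-transitive on it with
commutative pair stabilisers and has a fixed point free involution centralising the odd elements of
the stabiliser of a pair it interchanges; hence its elements centralising the members are transitive
on the coset.
-/

set_option autoImplicit false

namespace CfsgLib.StrongCrit

open CfsgLib.Involutions MulAction

universe u v

variable {G : Type u} [Group G]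

variable {Ω : Type v} [MulAction G Ω] {Z : Set G}

/-- The conjugation action of `cosetStab` on the coset of `u`. -/
@[reducible] def cosetAction {u : G} {c : Ω} : MulAction (cosetStab Z u c) (cenGroup Z u c) where
  smul g b := ⟨u⁻¹ * ((g : G) * (u * b) * (g : G)⁻¹), by
    obtain ⟨b', hb', e⟩ := g.2.2.1 b b.2
    rw [e, inv_mul_cancel_left]; exact hb'⟩
  one_smul b := Subtype.ext (show u⁻¹ * ((1 : G) * (u * b) * (1 : G)⁻¹) = (b : G) by group)
  mul_smul g h b := Subtype.ext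
    (show u⁻¹ * ((g : G) * h * (u * b) * ((g : G) * h)⁻¹) =
      u⁻¹ * ((g : G) * (u * (u⁻¹ * ((h : G) * (u * b) * (h : G)⁻¹))) * (g : G)⁻¹) by group)

namespace TightHyp

variable {u : G} {c : Ω} (H : TightHyp Ω Z u c) [Finite G] [Finite Ω]
include H

/-- The elements centralising `u`, with a given odd power centralising the members, form a subgroup. -/
theorem exists_plus {o : ℕ} (ho : ∀ g : G, ∃ j, (g ^ o) ^ 2 ^ j = 1) :
    ∃ C : Subgroup G, ∀ g : G, g ∈ C ↔
      g • c = c ∧ Commute g u ∧ ∀ b ∈ cenGroup Z u c, Commute (g ^ o) b := by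
  obtain ⟨A, hA, hcyc, π, hπ⟩ := H.galois
  refine ⟨((powMonoidHom o).ker.comap π).map (stabilizer G c ⊓ Subgroup.centralizer {u}).subtype, fun g => ⟨?_, fun hg => ?_⟩⟩
  · rintro ⟨⟨g, hg⟩, hgo, rfl⟩
    refine ⟨hg.1, Subgroup.mem_centralizer_singleton_iff.1 hg.2, fun b hb => ?_⟩
    rcases H.mem_iff.1 hb with rfl | hb
    · exact Commute.one_right _
    · have h1 : π (⟨g, hg⟩ ^ o) = 1 := by rw [map_pow]; exact hgo
      have := (hπ (⟨g, hg⟩ ^ o)).2 h1 (Or.inl (by simpa using ho g)) b hb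
      simpa using this
  · refine ⟨⟨g, hg.1, Subgroup.mem_centralizer_singleton_iff.2 hg.2.1⟩, ?_, rfl⟩
    show π _ ^ o = 1
    rw [← map_pow]
    refine (hπ _).1 fun b hb => ?_
    simpa using hg.2.2 b (H.mem_iff.2 (Or.inr hb))

/-- Two elements centralising `u` and one member commute up to an element centralising all. -/
theorem commutator_central {g h w : G} (hw : w ∈ cenSet Z u c) (hgc : g • c = c) (hhc : h • c = c)
    (hgu : Commute g u) (hhu : Commute h u) (hgw : Commute g w) (hhw : Commute h w) :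
    ∀ b ∈ cenGroup Z u c, Commute (g * h * g⁻¹ * h⁻¹) b := by
  obtain ⟨A, hA, hcyc, π, hπ⟩ := H.galois
  let g' : (stabilizer G c ⊓ Subgroup.centralizer {u} : Subgroup G) := ⟨g, hgc, Subgroup.mem_centralizer_singleton_iff.2 hgu⟩
  let h' : (stabilizer G c ⊓ Subgroup.centralizer {u} : Subgroup G) := ⟨h, hhc, Subgroup.mem_centralizer_singleton_iff.2 hhu⟩
  have h1 : π (g' * h' * g'⁻¹ * h'⁻¹) = 1 := by
    simp only [map_mul, map_inv]
    rw [mul_comm (π g') (π h'), mul_inv_cancel_right, mul_inv_cancel]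
  intro b hb
  rcases H.mem_iff.1 hb with rfl | hb
  · exact Commute.one_right _
  · exact (hπ (g' * h' * g'⁻¹ * h'⁻¹)).2 h1 (Or.inr ⟨w, hw, (((hgw.mul_left hhw).mul_left hgw.inv_left).mul_left
      hhw.inv_left)⟩) b hb

/-- An element centralising `u` with square in `cenGroup` lies in it or in its coset. -/
theorem mem_or_coset_of_sq {g : G} (hgc : g • c = c) (hgu : Commute u g)
    (hsq : g * g ∈ cenGroup Z u c) :
    g ∈ cenGroup Z u c ∨ ∃ b ∈ cenGroup Z u c, g = u * b := by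
  have hh := H.base
  obtain ⟨-, x, y, hxy, hx, hy⟩ := id H.bad
  obtain ⟨p, hp, hpc⟩ : ∃ p, u • p = p ∧ p ≠ c := by
    rcases eq_or_ne x c with rfl | hxc
    · exact ⟨y, hy, hxy.symm⟩
    · exact ⟨x, hx, hxc⟩
  obtain ⟨b, hb, hbp⟩ := hh.exists_cenGroup_smul H.faith H.secComm H.bad H.fix H.card_fix hp hpc
    (q := g • p) (by rw [smul_smul, hgu.eq, mul_smul, hp])
    (fun e => hpc (MulAction.injective g (e.trans hgc.symm)))
  set g' := b⁻¹ * g with hg'
  have hg'c : g' • c = c := by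
    rw [hg', mul_smul, hgc, inv_smul_eq_iff, hh.cenGroup_fix H.faith H.secComm H.bad H.fix hb]
  have hg'u : Commute u g' := (H.comm_self hb).inv_right.mul_right hgu
  have hg'p : g' • p = p := by rw [hg', mul_smul, inv_smul_eq_iff, hbp]
  have hn := H.norm (H.mem_cosetStab_of_commute hgc hgu.symm) (inv_mem hb)
  have hsq' : g' * g' ∈ cenGroup Z u c := by
    rw [hg', show b⁻¹ * g * (b⁻¹ * g) = b⁻¹ * (g * b⁻¹ * g⁻¹) * (g * g) by group]
    exact mul_mem (mul_mem (inv_mem hb) hn) hsq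
  have hg2 : g' * g' = 1 := hh.cenGroup_free H.faith H.secComm H.bad H.fix hsq' hpc
    (by rw [mul_smul, hg'p, hg'p])
  have hg : g = b * g' := by rw [hg', mul_inv_cancel_left]
  by_cases hg1 : g' = 1
  · rw [hg, hg1, mul_one]; exact Or.inl hb
  rcases hh.mem_or_isBad H.faith (orderOf_eq_two_iff_mul.2 ⟨hg1, hg2⟩) hg'c with hm | hm
  · exact absurd (hh.unique g' hm p c hg'p hg'c) hpc
  · obtain ⟨b', hb', he⟩ := H.inv g' hm hg'c hg'u.symm
    refine Or.inr ⟨b * b', mul_mem hb hb', ?_⟩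
    rw [hg, he, ← mul_assoc, ← mul_assoc, (H.comm_self hb).eq]

/-- The elements fixing `u` and one member, with odd image on all members, are generated by those
centralising all members and a fixed odd group. -/
theorem exists_odd_supplement {o : ℕ} (ho2 : Odd o) (ho : ∀ g : G, ∃ j, (g ^ o) ^ 2 ^ j = 1) (w : G) :
    ∃ W : Subgroup G, Odd (Nat.card W) ∧ (∀ g ∈ W, g • c = c) ∧ (∀ g ∈ W, Commute g u) ∧
      (∀ g ∈ W, Commute g w) ∧ ∀ L : Subgroup G,
        (∀ g : G, g • c = c → Commute g u → (∀ b ∈ cenGroup Z u c, Commute g b) → Commute g w →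
          g ∈ L) →
        W ≤ L → ∀ g : G, g • c = c → Commute g u → Commute g w →
          (∀ b ∈ cenGroup Z u c, Commute (g ^ o) b) → g ∈ L := by
  classical
  have : Fact (Nat.Prime 2) := ⟨Nat.prime_two⟩
  obtain ⟨C, hC⟩ := H.exists_plus ho
  set A : Subgroup G := C ⊓ Subgroup.centralizer {w} with hA
  have hmemA : ∀ {g : G}, g ∈ A ↔ g • c = c ∧ Commute g u ∧ Commute g w ∧
      ∀ b ∈ cenGroup Z u c, Commute (g ^ o) b := fun {g} =>
    ⟨fun hg => ⟨((hC g).1 hg.1).1, ((hC g).1 hg.1).2.1,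
        Subgroup.mem_centralizer_singleton_iff.1 hg.2, ((hC g).1 hg.1).2.2⟩,
      fun hg => ⟨(hC g).2 ⟨hg.1, hg.2.1, hg.2.2.2⟩,
        Subgroup.mem_centralizer_singleton_iff.2 hg.2.2.1⟩⟩
  let K : Subgroup A := (Subgroup.centralizer (cenGroup Z u c : Set G)).subgroupOf A
  have : K.Normal := ⟨fun k hk g => by
    rw [Subgroup.mem_subgroupOf, Subgroup.mem_centralizer_iff] at hk ⊢
    intro b hb
    obtain ⟨hgc, hgu, -, -⟩ := hmemA.1 (inv_mem g.2)
    have hb' : (g : G)⁻¹ * b * g ∈ cenGroup Z u c := by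
      have := H.norm (H.mem_cosetStab_of_commute hgc hgu) hb
      rwa [inv_inv] at this
    have h1 := hk _ hb'
    show b * ((g : G) * k * (g : G)⁻¹) = (g : G) * k * (g : G)⁻¹ * b
    calc b * ((g : G) * k * (g : G)⁻¹) = (g : G) * ((g : G)⁻¹ * b * g * k) * (g : G)⁻¹ := by group
      _ = (g : G) * (k * ((g : G)⁻¹ * b * g)) * (g : G)⁻¹ := by rw [h1]
      _ = (g : G) * k * (g : G)⁻¹ * b := by group⟩
  obtain ⟨T⟩ : Nonempty (Sylow 2 A) := inferInstance
  have hTK : (T : Subgroup A) ≤ K := by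
    intro g hg
    obtain ⟨j, hj⟩ := T.isPGroup' ⟨g, hg⟩
    have hj' : (g : G) ^ 2 ^ j = 1 := congrArg (fun x : T => ((x : A) : G)) hj
    have hcop : o.Coprime (orderOf (g : G)) := by
      obtain ⟨i, -, hi⟩ := (Nat.dvd_prime_pow Nat.prime_two).1 (orderOf_dvd_of_pow_eq_one hj')
      rw [hi]
      exact (Nat.Coprime.pow_left i (Nat.coprime_two_left.2 ho2)).symm
    obtain ⟨m, hm⟩ := exists_pow_eq_self_of_coprime hcop
    obtain ⟨-, -, -, hgo⟩ := hmemA.1 g.2
    rw [Subgroup.mem_subgroupOf, Subgroup.mem_centralizer_iff]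
    intro b hb
    rw [← hm]
    exact ((hgo b hb).pow_left m).eq.symm
  set N := Subgroup.normalizer (T : Set A) with hN
  have hsup : N ⊔ K = ⊤ := by
    have h1 := Sylow.normalizer_sup_eq_top (T.subtype hTK)
    rwa [Sylow.coe_subtype, Subgroup.map_subgroupOf_eq_of_le hTK] at h1
  let T' : Subgroup N := (T : Subgroup A).subgroupOf N
  have : T'.Normal := Subgroup.normal_subgroupOf_of_le_normalizer le_rfl
  have hcop : Nat.Coprime (Nat.card T') T'.index := by
    have hT'2 : IsPGroup 2 T' := T.isPGroup'.comap_subtype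
    obtain ⟨k, hk⟩ := IsPGroup.iff_card.1 hT'2
    rw [hk]
    refine Nat.Coprime.pow_left k ((Nat.Prime.coprime_iff_not_dvd Nat.prime_two).2 fun hd => ?_)
    refine T.not_dvd_index (hd.trans ?_)
    show (T : Subgroup A).relIndex N ∣ (T : Subgroup A).index
    exact Subgroup.relIndex_dvd_index_of_le (Subgroup.le_normalizer)
  obtain ⟨W', hW'⟩ := Subgroup.exists_right_complement'_of_coprime hcop
  refine ⟨(W'.map N.subtype).map A.subtype, ?_, ?_, ?_, ?_, ?_⟩
  · rw [Subgroup.card_map_of_injective A.subtype_injective,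
      Subgroup.card_map_of_injective N.subtype_injective]
    have h2 : Nat.card W' ∣ (T : Subgroup A).index := by
      rw [← hW'.symm.index_eq_card]
      exact Subgroup.relIndex_dvd_index_of_le (Subgroup.le_normalizer)
    exact (Nat.not_even_iff_odd.1 fun he => T.not_dvd_index ((even_iff_two_dvd.1 he))).of_dvd_nat h2
  · rintro _ ⟨g, -, rfl⟩; exact (hmemA.1 g.2).1
  · rintro _ ⟨g, -, rfl⟩; exact (hmemA.1 g.2).2.1
  · rintro _ ⟨g, -, rfl⟩; exact (hmemA.1 g.2).2.2.1
  intro L hL hWL g hgc hgu hgw hgo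
  have hKL : ∀ k ∈ K, (k : G) ∈ L := fun k hk => by
    obtain ⟨h1, h2, h3, -⟩ := hmemA.1 k.2
    exact hL _ h1 h2 (fun b hb => (Subgroup.mem_centralizer_iff.1 hk b hb).symm) h3
  have hNL : N ⊔ K ≤ L.subgroupOf A := by
    refine sup_le (fun y hy => ?_) hKL
    have hmem : (⟨y, hy⟩ : N) ∈ (T' ⊔ W' : Subgroup N) := by
      rw [hW'.sup_eq_top]; trivial
    have hle : (T' ⊔ W' : Subgroup N) ≤ (L.subgroupOf A).subgroupOf N := by
      refine sup_le (fun t ht => hKL _ (hTK ht)) fun x hx => hWL ?_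
      exact ⟨_, ⟨x, hx, rfl⟩, rfl⟩
    exact hle hmem
  exact hNL (show (⟨g, hmemA.2 ⟨hgc, hgu, hgw, hgo⟩⟩ : A) ∈ N ⊔ K by rw [hsup]; trivial)

/-- Translations: every element of the coset is a conjugate of `u` by an element centralising the
members. -/
theorem exists_translation {b₀ : G} (hb₀ : b₀ ∈ cenGroup Z u c) :
    ∃ g ∈ cosetStab Z u c, g * u * g⁻¹ = u * b₀ ∧ ∀ b ∈ cenGroup Z u c, Commute g b := by
  classical
  have hh := H.base
  let K := cenGroup Z u c
  let N := cosetStab Z u c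
  letI : MulAction N K := cosetAction
  have hcoe : ∀ (a : N) (b : K), ((a • b : K) : G) = u⁻¹ * ((a : G) * (u * b) * (a : G)⁻¹) :=
    fun a b => rfl
  have hfix_iff : ∀ (a : N) (b : K), a • b = b ↔ Commute (a : G) (u * b) := fun a b => by
    rw [Subtype.ext_iff, hcoe, inv_mul_eq_iff_eq_mul, mul_inv_eq_iff_eq_mul]
    rfl
  have hval : ∀ (a : N) (b b' : K), a • b = b' ↔ (a : G) * (u * b) * (a : G)⁻¹ = u * b' :=
    fun a b b' => by rw [Subtype.ext_iff, hcoe, inv_mul_eq_iff_eq_mul]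
  let f : N →* Equiv.Perm K := MulAction.toPermHom N K
  let X : Subgroup (Equiv.Perm K) := f.range
  have hker : ∀ a : N, (∀ b : K, a • b = b) ↔
      Commute (a : G) u ∧ ∀ b ∈ K, Commute (a : G) b := fun a => by
    constructor
    · intro ha
      have h1 : Commute (a : G) u := by simpa using (hfix_iff a 1).1 (ha 1)
      refine ⟨h1, fun b hb => ?_⟩
      simpa using h1.inv_right.mul_right ((hfix_iff a ⟨b, hb⟩).1 (ha _))
    · exact fun ha b => (hfix_iff a b).2 (ha.1.mul_right (ha.2 b b.2))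
  have hX : ∀ σ : X, ∃ a : N, ∀ b : K, σ • b = a • b := by
    rintro ⟨_, a, rfl⟩
    exact ⟨a, fun b => rfl⟩
  have hfaith : ∀ σ : X, (∀ b : K, σ • b = b) → σ = 1 := fun σ hσ =>
    Subtype.ext (Equiv.ext fun b => hσ b)
  obtain ⟨e, he⟩ : ∃ e, Nat.card K = 2 ^ e :=
    IsPGroup.iff_card.1 (fun b : K => ⟨1, Subtype.ext (by rw [pow_one, pow_two]; exact H.sq b.2)⟩)
  obtain ⟨j₀, o, hond, hoeq⟩ :=
    Nat.exists_eq_pow_mul_and_not_dvd (Nat.card_pos (α := G)).ne' 2 (by norm_num)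
  have ho2 : Odd o := Nat.not_even_iff_odd.1 fun ev => hond (even_iff_two_dvd.1 ev)
  have ho : ∀ g : G, ∃ j, (g ^ o) ^ 2 ^ j = 1 := fun g =>
    ⟨j₀, by rw [← pow_mul, mul_comm, ← hoeq, pow_card_eq_one']⟩
  have hpow : ∀ (σ : X) (a : N), (∀ x : K, σ • x = a • x) → ∀ (i : ℕ) (x : K), σ ^ i • x = a ^ i • x := by
    intro σ a ha i
    induction i with
    | zero => intro x; rw [pow_zero, pow_zero, one_smul, one_smul]
    | succ i ih => intro x; rw [pow_succ', pow_succ', mul_smul, mul_smul, ih, ha]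
  -- one good pair
  obtain ⟨w, hw, -, -, -⟩ := H.two
  obtain ⟨W, hWodd, hWc, hWu, hWw, hWgen⟩ := H.exists_odd_supplement ho2 ho w
  obtain ⟨d, v, hv, hdc, hdu, hdd, hWd⟩ := H.exists_swapper hw hWodd hWc hWu hWw
  have hvK : v ∈ K := H.mem_iff.2 (Or.inr hv)
  have hv1 : v ≠ 1 := ne_one_of_involution (hh.invol v hv.1.1)
  let d' : N := ⟨d, H.mem_cosetStab hdc hvK hdu⟩
  let σd : X := ⟨f d', d', rfl⟩
  have hdd' : ∀ x : K, d' • d' • x = x := fun x => by
    rw [smul_smul]
    refine (hker (d' * d')).2 ⟨?_, fun b hb => ?_⟩ x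
    · show Commute (d * d) u; rw [hdd]; exact hv.2.symm
    · show Commute (d * d) b; rw [hdd]
      exact hh.cenGroup_commute H.faith H.secComm H.bad H.fix hvK hb
  have hdv : d' • (1 : K) = ⟨v, hvK⟩ := (hval _ _ _).2 (by
    show d * (u * 1) * d⁻¹ = u * v; rw [mul_one, hdu])
  have hdfix : ∀ x : K, σd • x ≠ x := by
    intro x hx
    have hdx : Commute d (u * x) := (hfix_iff d' x).1 hx
    obtain ⟨h, hhN, hhu⟩ := H.exists_conj_coset x.2
    set g := h⁻¹ * d * h with hg
    have hgc : g • c = c := by rw [hg, mul_smul, mul_smul, hhN.1, hdc, inv_smul_eq_iff, hhN.1]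
    have hgu : Commute u g := by
      show u * g = g * u
      calc u * g = h⁻¹ * ((h * u * h⁻¹) * d) * h := by rw [hg]; group
        _ = h⁻¹ * (d * (h * u * h⁻¹)) * h := by rw [hhu, hdx.eq]
        _ = g * u := by rw [hg]; group
    have hgg : g * g ∈ K := by
      rw [hg, show h⁻¹ * d * h * (h⁻¹ * d * h) = h⁻¹ * (d * d) * h by group, hdd]
      have := H.norm (inv_mem hhN) hvK
      rwa [inv_inv] at this
    have hgK : ∀ b ∈ K, Commute g b := fun b hb => by
      rcases H.mem_or_coset_of_sq hgc hgu hgg with h1 | ⟨b', hb', h1⟩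
      · exact hh.cenGroup_commute H.faith H.secComm H.bad H.fix h1 hb
      · rw [h1]
        exact (H.comm_self hb).mul_left (hh.cenGroup_commute H.faith H.secComm H.bad H.fix hb' hb)
    have hdK : Commute d x := by
      have h1 : Commute g (h⁻¹ * x * h) := hgK _ (by
        have := H.norm (inv_mem hhN) x.2
        rwa [inv_inv] at this)
      show d * x = x * d
      calc d * x = h * (g * (h⁻¹ * x * h)) * h⁻¹ := by rw [hg]; group
        _ = h * ((h⁻¹ * x * h) * g) * h⁻¹ := by rw [h1.eq]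
        _ = x * d := by rw [hg]; group
    have h2 : Commute d u := by simpa using hdx.mul_right hdK.inv_right
    rw [h2.eq, mul_inv_cancel_right] at hdu
    exact hv1 (mul_eq_left.1 hdu.symm)
  have hplus : ∀ a : G, a • c = c → Commute a u → Commute a v →
      (∀ b ∈ K, Commute (a ^ o) b) → Commute a w := by
    intro a hac hau hav hao
    let S : G → Set G := fun t => {y | y • c = c ∧ Commute y u ∧ Commute y t ∧
      ∀ b ∈ K, Commute (y ^ o) b}
    have hle : S w ⊆ S v := by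
      rintro y ⟨h1, h2, h3, h4⟩
      refine ⟨h1, h2, ?_, h4⟩
      let L : Subgroup G := Subgroup.centralizer {v}
      exact Subgroup.mem_centralizer_singleton_iff.1 (hWgen L
        (fun z _ _ hz3 _ => Subgroup.mem_centralizer_singleton_iff.2 (hz3 v hvK))
        (fun z hz => Subgroup.mem_centralizer_singleton_iff.2 (hWd z hz).2) y h1 h2 h3 h4)
    obtain ⟨h, hhc, hhu, hhw⟩ := hh.exists_conj_cenSet H.bad hw hv
    have hmap : S v ⊆ (fun y => h * y * h⁻¹) '' S w := by
      rintro y ⟨h1, h2, h3, h4⟩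
      refine ⟨h⁻¹ * y * h, ⟨?_, (hhu.inv_left.mul_left h2).mul_left hhu, ?_, fun b hb => ?_⟩,
        by group⟩
      · rw [mul_smul, mul_smul, hhc, h1, inv_smul_eq_iff, hhc]
      · show h⁻¹ * y * h * w = w * (h⁻¹ * y * h)
        calc h⁻¹ * y * h * w = h⁻¹ * (y * (h * w * h⁻¹)) * h := by group
          _ = h⁻¹ * (h * w * h⁻¹ * y) * h := by rw [hhw, h3.eq]
          _ = w * (h⁻¹ * y * h) := by group
      · have hb' := h4 _ (H.norm (H.mem_cosetStab_of_commute hhc hhu) hb)
        rw [show h⁻¹ * y * h = h⁻¹ * y * h⁻¹⁻¹ by group, conj_pow, inv_inv]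
        show h⁻¹ * y ^ o * h * b = b * (h⁻¹ * y ^ o * h)
        calc h⁻¹ * y ^ o * h * b = h⁻¹ * (y ^ o * (h * b * h⁻¹)) * h := by group
          _ = h⁻¹ * (h * b * h⁻¹ * y ^ o) * h := by rw [hb'.eq]
          _ = b * (h⁻¹ * y ^ o * h) := by group
    have heq : S w = S v := Set.eq_of_subset_of_ncard_le hle
      ((Set.ncard_le_ncard hmap (Set.toFinite _)).trans (Set.ncard_image_le (Set.toFinite _)))
      (Set.toFinite _)
    have : a ∈ S w := heq ▸ ⟨hac, hau, hav, hao⟩
    exact this.2.2.1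
  have hlift : ∀ (σ : X), σ • (1 : K) = 1 → σ • (⟨v, hvK⟩ : K) = ⟨v, hvK⟩ →
      ∃ a : N, (∀ x : K, σ • x = a • x) ∧ Commute (a : G) u ∧ Commute (a : G) v := by
    intro σ h1 h3
    obtain ⟨a, ha⟩ := hX σ
    rw [ha, hfix_iff] at h1 h3
    have hau : Commute (a : G) u := by simpa using h1
    exact ⟨a, ha, hau, by simpa using hau.inv_right.mul_right h3⟩
  have hab : ∀ σ τ : X, σ • (1 : K) = 1 → σ • (⟨v, hvK⟩ : K) = ⟨v, hvK⟩ → τ • (1 : K) = 1 →
      τ • (⟨v, hvK⟩ : K) = ⟨v, hvK⟩ → Commute σ τ := by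
    intro σ τ h1 h2 h3 h4
    obtain ⟨a, ha, hau, hav⟩ := hlift σ h1 h2
    obtain ⟨b, hb, hbu, hbv⟩ := hlift τ h3 h4
    have h5 : ∀ x : K, (a * b * a⁻¹ * b⁻¹) • x = x := (hker _).2
      ⟨(((hau.mul_left hbu).mul_left hau.inv_left).mul_left hbu.inv_left),
        H.commutator_central hv a.2.1 b.2.1 hau hbu hav hbv⟩
    show σ * τ = τ * σ
    refine Subtype.ext (Equiv.ext fun x => ?_)
    show (σ * τ) • x = (τ * σ) • x
    have h6 := h5 ((b * a) • x)
    rw [mul_smul σ τ, hb, ha, mul_smul τ σ, ha, hb, ← mul_smul, ← mul_smul]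
    rw [smul_smul, show a * b * a⁻¹ * b⁻¹ * (b * a) = a * b by group] at h6
    exact h6
  have hcomm : ∀ σ : X, σ • (1 : K) = 1 → σ • (⟨v, hvK⟩ : K) = ⟨v, hvK⟩ → Odd (orderOf σ) →
      Commute σd σ := by
    intro σ h1 h3 hσ
    obtain ⟨a, ha, hau, hav⟩ := hlift σ h1 h3
    have hao : ∀ b ∈ K, Commute ((a : G) ^ o) b := by
      have h4 : σ ^ o = 1 := by
        obtain ⟨j, hj⟩ := ho (a : G)
        have h6 : (σ ^ o) ^ 2 ^ j = 1 := hfaith _ fun x => by
          rw [← pow_mul, hpow σ a ha,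
            show a ^ (o * 2 ^ j) = 1 from Subtype.ext (by rw [pow_mul]; simpa using hj), one_smul]
        obtain ⟨i, -, hi⟩ := (Nat.dvd_prime_pow Nat.prime_two).1 (orderOf_dvd_of_pow_eq_one h6)
        have h7 : Odd (orderOf (σ ^ o)) := hσ.of_dvd_nat (orderOf_pow_dvd o)
        rw [hi] at h7
        rcases Nat.eq_zero_or_pos i with rfl | hi0
        · rwa [pow_zero, orderOf_eq_one_iff] at hi
        · exact absurd h7 (Nat.not_odd_iff_even.2 (Nat.even_pow.2 ⟨even_two, hi0.ne'⟩))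
      intro b hb
      have h5 : ∀ x : K, (a ^ o) • x = x := fun x => by rw [← hpow σ a ha, h4, one_smul]
      simpa using ((hker _).1 h5).2 b hb
    let L : Subgroup G := ((Subgroup.centralizer ({σd} : Set X)).comap f.rangeRestrict).map N.subtype
    have haL : (a : G) ∈ L := by
      refine hWgen L (fun y hy1 hy2 hy3 _ => ?_) (fun y hy => ?_) a a.2.1 hau
        (hplus a a.2.1 hau hav hao) hao
      · refine ⟨⟨y, H.mem_cosetStab_of_commute hy1 hy2⟩, ?_, rfl⟩
        rw [SetLike.mem_coe, Subgroup.mem_comap, Subgroup.mem_centralizer_singleton_iff]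
        have h4 : f.rangeRestrict ⟨y, H.mem_cosetStab_of_commute hy1 hy2⟩ = (1 : X) :=
          hfaith _ fun x => (hker ⟨y, _⟩).2 ⟨hy2, hy3⟩ x
        rw [h4, one_mul, mul_one]
      · refine ⟨⟨y, H.mem_cosetStab_of_commute (hWc y hy) (hWu y hy)⟩, ?_, rfl⟩
        rw [SetLike.mem_coe, Subgroup.mem_comap, Subgroup.mem_centralizer_singleton_iff]
        rw [show σd = f.rangeRestrict d' from rfl, ← map_mul, ← map_mul]
        congr 1
        exact Subtype.ext (hWd y hy).1
    obtain ⟨a', ha', he'⟩ := haL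
    rw [N.subtype_injective he', SetLike.mem_coe, Subgroup.mem_comap,
      Subgroup.mem_centralizer_singleton_iff] at ha'
    have h5 : f.rangeRestrict a = σ := Subtype.ext (Equiv.ext fun x => (ha x).symm)
    rw [h5] at ha'
    exact (ha').symm
  -- two-transitivity
  have htrans : ∀ b : K, ∃ τ : X, τ • (1 : K) = b := fun b => by
    obtain ⟨a, ha, hau⟩ := H.exists_conj_coset b.2
    exact ⟨f.rangeRestrict ⟨a, ha⟩, (hval ⟨a, ha⟩ 1 b).2 (by
      show a * (u * 1) * a⁻¹ = u * b; rw [mul_one, hau])⟩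
  have htrans2 : ∀ b : K, b ≠ 1 → ∃ τ : X, τ • (1 : K) = 1 ∧ τ • (⟨v, hvK⟩ : K) = b := fun b hb => by
    have hb' : (b : G) ∈ cenSet Z u c :=
      (H.mem_iff.1 b.2).resolve_left fun e => hb (Subtype.ext e)
    obtain ⟨a, hac, hau, hav⟩ := hh.exists_conj_cenSet H.bad hv hb'
    let a' : N := ⟨a, H.mem_cosetStab_of_commute hac hau⟩
    refine ⟨f.rangeRestrict a', (hfix_iff a' 1).2 (by simpa using hau), (hval a' _ _).2 ?_⟩
    show a * (u * v) * a⁻¹ = u * b
    rw [show a * (u * v) * a⁻¹ = (a * u * a⁻¹) * (a * v * a⁻¹) by group, hav, hau.eq,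
      mul_inv_cancel_right]
  obtain ⟨R, hRn, hRsq, -, hRtrans, -⟩ := exists_regular_normal he hfaith
    (x₀ := (1 : K)) (y₀ := ⟨v, hvK⟩) (fun e => hv1 (congrArg Subtype.val e).symm) htrans htrans2
    hab (s := σd) (hfaith _ fun x => by rw [mul_smul]; exact hdd' x) hdv hdfix hcomm
  -- the linear part
  let ψ : N →* MulAut K :=
    { toFun := fun a =>
        { toFun := fun b => ⟨(a : G) * b * (a : G)⁻¹, H.norm a.2 b.2⟩
          invFun := fun b => ⟨(a : G)⁻¹ * b * a, by
            have := H.norm (inv_mem a.2) b.2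
            rwa [inv_inv] at this⟩
          left_inv := fun b => Subtype.ext (show (a : G)⁻¹ * ((a : G) * b * (a : G)⁻¹) * a = b by group)
          right_inv := fun b => Subtype.ext (show (a : G) * ((a : G)⁻¹ * b * a) * (a : G)⁻¹ = b by group)
          map_mul' := fun b b' => Subtype.ext (show (a : G) * (b * b') * (a : G)⁻¹ =
            (a : G) * b * (a : G)⁻¹ * ((a : G) * b' * (a : G)⁻¹) by group) }
      map_one' := MulEquiv.ext fun b => Subtype.ext (show (1 : G) * b * (1 : G)⁻¹ = b by group)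
      map_mul' := fun a a' => MulEquiv.ext fun b => Subtype.ext (show ((a : G) * a') * b * ((a : G) * a')⁻¹
        = (a : G) * ((a' : G) * b * (a' : G)⁻¹) * (a : G)⁻¹ by group) }
  have hle : f.rangeRestrict.ker ≤ ψ.ker := fun a ha => by
    refine MulEquiv.ext fun b => Subtype.ext ?_
    show (a : G) * b * (a : G)⁻¹ = b
    have h1 : ∀ x : K, a • x = x := fun x => congrArg (fun σ : X => (σ : Equiv.Perm K) x) ha
    rw [(((hker a).1 h1).2 b b.2).eq, mul_inv_cancel_right]
  let ρ : X →* MulAut K :=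
    MonoidHom.liftOfSurjective f.rangeRestrict f.rangeRestrict_surjective ⟨ψ, hle⟩
  have hρ : ∀ a : N, ρ (f.rangeRestrict a) = ψ a :=
    MonoidHom.liftOfRightInverse_comp_apply f.rangeRestrict _ _ ⟨ψ, hle⟩
  have hR2 : IsPGroup 2 R := fun σ => ⟨1, Subtype.ext (by rw [pow_one, pow_two]; exact hRsq σ σ.2)⟩
  have hK2 : IsPGroup 2 K := IsPGroup.of_card he
  have hone := eq_one_of_transitive_image ρ hK2 (fun b b' hb hb' => by
    have h1 : (b : G) ∈ cenSet Z u c := (H.mem_iff.1 b.2).resolve_left fun e => hb (Subtype.ext e)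
    have h1' : (b' : G) ∈ cenSet Z u c :=
      (H.mem_iff.1 b'.2).resolve_left fun e => hb' (Subtype.ext e)
    obtain ⟨a, hac, hau, hab⟩ := hh.exists_conj_cenSet H.bad h1 h1'
    exact ⟨f.rangeRestrict ⟨a, H.mem_cosetStab_of_commute hac hau⟩, by
      rw [hρ]; exact Subtype.ext hab⟩) hRn hR2
  obtain ⟨σ, hσR, hσ⟩ := hRtrans (1 : K) ⟨b₀, hb₀⟩
  obtain ⟨a, ha⟩ : ∃ a : N, f.rangeRestrict a = σ := f.rangeRestrict_surjective σ
  refine ⟨a, a.2, ?_, fun b hb => ?_⟩
  · have h1 := (hval a 1 ⟨b₀, hb₀⟩).1 (show a • (1 : K) = ⟨b₀, hb₀⟩ by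
      rw [← hσ, ← ha]; rfl)
    simpa using h1
  · have h1 : ψ a = 1 := by rw [← hρ, ha]; exact hone σ hσR
    have h3 : (a : G) * b * (a : G)⁻¹ = b :=
      congrArg (fun t : MulAut K => ((t ⟨b, hb⟩ : K) : G)) h1
    exact mul_inv_eq_iff_eq_mul.1 h3

end TightHyp

end CfsgLib.StrongCrit
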