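import Mathlib
import Cfsg.Agent.Lib.TransOdd.Semilinear

/-!
A transitive affine group on a finite field of characteristic two in which the stabiliser of `0` is
semilinear, contains the scalars and contains an element with an involutive field part contains all
translations: the fixed sets of its involutions with fixed points are the lines of an affine plane
over the fixed field, and the involutions of one parallel class generate an abelian group.
-/

set_option autoImplicit false

namespace CfsgLib.StrongCrit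

namespace TransSigma

universe v

variable {F : Type v} [Field F] [Finite F] [CharP F 2]

/-- The hypotheses: affine, transitive, semilinear stabiliser with all scalars, and `x ↦ τ x`. -/
structure Hyp (Y : Subgroup (Equiv.Perm F)) (τ : F ≃+* F) : Prop where
  aff : ∀ g ∈ Y, ∀ x y : F, g (x + y) + g 0 = g x + g y
  trans : ∀ x : F, ∃ g ∈ Y, g 0 = x
  stab : ∀ g ∈ Y, g 0 = 0 → ∃ (a : F) (σ : F ≃+* F), a ≠ 0 ∧ ∀ x, g x = a * σ x
  scalar : ∀ a : F, a ≠ 0 → ∃ g ∈ Y, ∀ x, g x = a * x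
  tau_ne : τ ≠ 1
  tau_sq : ∀ x, τ (τ x) = x
  tau_mem : ∃ g ∈ Y, ∀ x, g x = τ x

/-- The involutions with fixed points. -/
def IsLine (Y : Subgroup (Equiv.Perm F)) (g : Equiv.Perm F) : Prop :=
  g ∈ Y ∧ g ≠ 1 ∧ g * g = 1 ∧ ∃ x, g x = x

omit [Field F] [Finite F] [CharP F 2] in
theorem apply_mul_self {g : Equiv.Perm F} (hg : g * g = 1) (x : F) : g (g x) = x :=
  congrArg (fun p : Equiv.Perm F => p x) hg

omit [Field F] [Finite F] [CharP F 2] in
theorem commute_apply {g h : Equiv.Perm F} (hgh : Commute g h) (x : F) : g (h x) = h (g x) :=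
  congrArg (fun p : Equiv.Perm F => p x) hgh.eq

omit [Field F] [Finite F] [CharP F 2] in
theorem conj_apply {h g : Equiv.Perm F} (x : F) : (h * g * h⁻¹) (h x) = h (g x) := by
  simp

variable {Y : Subgroup (Equiv.Perm F)} {τ : F ≃+* F}

theorem isLine_conj {g h : Equiv.Perm F} (hh : h ∈ Y) (hg : IsLine Y g) :
    IsLine Y (h * g * h⁻¹) := by
  obtain ⟨hgY, hg1, hgg, x, hx⟩ := hg
  refine ⟨Y.mul_mem (Y.mul_mem hh hgY) (Y.inv_mem hh), fun e => hg1 ?_, ?_, h x, ?_⟩
  · have := congrArg (fun z => h⁻¹ * z * h) e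
    simpa [mul_assoc] using this
  · rw [show h * g * h⁻¹ * (h * g * h⁻¹) = h * (g * g) * h⁻¹ by group, hgg, mul_one, mul_inv_cancel]
  · rw [conj_apply, hx]

namespace Hyp

variable (H : Hyp Y τ)
include H

theorem line_zero {g : Equiv.Perm F} (hg : IsLine Y g) (h0 : g 0 = 0) :
    ∃ b : F, b ≠ 0 ∧ b * τ b = 1 ∧ ∀ x, g x = b * τ x := by
  obtain ⟨hgY, hg1, hgg, -⟩ := hg
  obtain ⟨b, σ, hb, hbσ⟩ := H.stab g hgY h0
  have h1 : ∀ x, b * (σ b * σ (σ x)) = x := fun x => by
    rw [← map_mul, ← hbσ, ← hbσ, apply_mul_self hgg]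
  have hbb : b * σ b = 1 := by simpa using h1 1
  have hσ2 : σ * σ = 1 := RingEquiv.ext fun x => by
    have := h1 x
    rwa [← mul_assoc, hbb, one_mul] at this
  have hσ1 : σ ≠ 1 := by
    rintro rfl
    have hb1 : b = 1 := by
      have h2 : (b + 1) * (b + 1) = 0 := by
        rw [add_mul, mul_add, mul_one, one_mul]
        rw [show b * b = 1 from hbb]
        rw [show (1 : F) + b + (b + 1) = (1 + 1) + (b + b) by ring, CharTwo.add_self_eq_zero,
          CharTwo.add_self_eq_zero, add_zero]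
      exact CharTwo.add_eq_zero.1 (mul_self_eq_zero.1 h2)
    exact hg1 (Equiv.ext fun x => by rw [hbσ, hb1, one_mul]; rfl)
  have hτ2 : τ * τ = 1 := RingEquiv.ext H.tau_sq
  haveI : Finite (F ≃+* F) :=
    Finite.of_injective (fun s : F ≃+* F => (s : F → F)) DFunLike.coe_injective
  haveI := TransOdd.isCyclic_ringEquiv F
  have hστ : σ = τ := by
    classical
    have := Fintype.ofFinite (F ≃+* F)
    by_contra hne
    have hle := IsCyclic.card_pow_eq_one_le (α := F ≃+* F) (n := 2) (by norm_num)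
    have hsub : ({1, σ, τ} : Finset (F ≃+* F)) ⊆ Finset.univ.filter fun z => z ^ 2 = 1 := by
      intro z hz
      simp only [Finset.mem_insert, Finset.mem_singleton] at hz
      rw [Finset.mem_filter, pow_two]
      rcases hz with rfl | rfl | rfl
      · exact ⟨Finset.mem_univ _, one_mul 1⟩
      · exact ⟨Finset.mem_univ _, hσ2⟩
      · exact ⟨Finset.mem_univ _, hτ2⟩
    have h3 : ({1, σ, τ} : Finset (F ≃+* F)).card = 3 := Finset.card_eq_three.2
      ⟨1, σ, τ, Ne.symm hσ1, Ne.symm H.tau_ne, hne, rfl⟩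
    have := (Finset.card_le_card hsub).trans hle
    omega
  subst hστ
  exact ⟨b, hb, hbb, hbσ⟩

/-- Move a point to zero. -/
theorem to_zero {g : Equiv.Perm F} (hg : IsLine Y g) {x : F} (hx : g x = x) :
    ∃ h ∈ Y, h 0 = x ∧ IsLine Y (h⁻¹ * g * h) ∧ (h⁻¹ * g * h) 0 = 0 := by
  obtain ⟨h, hh, hh0⟩ := H.trans x
  refine ⟨h, hh, hh0, ?_, ?_⟩
  · have := isLine_conj (Y.inv_mem hh) hg
    rwa [inv_inv] at this
  · show h⁻¹ (g (h 0)) = 0
    rw [hh0, hx, ← hh0]; simp

/-- Two lines with two common points coincide. -/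
theorem eq_of_two {g g' : Equiv.Perm F} (hg : IsLine Y g) (hg' : IsLine Y g') {x y : F}
    (hxy : x ≠ y) (h1 : g x = x) (h2 : g y = y) (h3 : g' x = x) (h4 : g' y = y) : g = g' := by
  obtain ⟨h, hh, hh0, hl, hl0⟩ := H.to_zero hg h1
  have hl' : IsLine Y (h⁻¹ * g' * h) := by
    have := isLine_conj (Y.inv_mem hh) hg'
    rwa [inv_inv] at this
  have hl0' : (h⁻¹ * g' * h) 0 = 0 := by
    show h⁻¹ (g' (h 0)) = 0
    rw [hh0, h3, ← hh0]; simp
  obtain ⟨b, -, -, hb⟩ := H.line_zero hl hl0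
  obtain ⟨b', -, -, hb'⟩ := H.line_zero hl' hl0'
  set v := h⁻¹ y with hv
  have hvy : h v = y := by simp [hv]
  have hv0 : v ≠ 0 := fun e => hxy (by rw [← hh0, ← hvy, e])
  have e1 : b * τ v = v := by
    rw [← hb]; show h⁻¹ (g (h v)) = v; rw [hvy, h2]
  have e2 : b' * τ v = v := by
    rw [← hb']; show h⁻¹ (g' (h v)) = v; rw [hvy, h4]
  have hbb : b = b' := mul_right_cancel₀ (fun e => hv0 (by simpa using e)) (e1.trans e2.symm)
  have h5 : h⁻¹ * g * h = h⁻¹ * g' * h := Equiv.ext fun z => by rw [hb, hb', hbb]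
  simpa using h5

/-- Two commuting lines with one common point coincide. -/
theorem eq_of_commute {g g' : Equiv.Perm F} (hg : IsLine Y g) (hg' : IsLine Y g')
    (hgg' : Commute g g') {x : F} (h1 : g x = x) (h3 : g' x = x) : g = g' := by
  obtain ⟨h, hh, hh0, hl, hl0⟩ := H.to_zero hg h1
  have hl' : IsLine Y (h⁻¹ * g' * h) := by
    have := isLine_conj (Y.inv_mem hh) hg'
    rwa [inv_inv] at this
  have hl0' : (h⁻¹ * g' * h) 0 = 0 := by
    show h⁻¹ (g' (h 0)) = 0
    rw [hh0, h3, ← hh0]; simp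
  obtain ⟨b, hb0, hbb, hb⟩ := H.line_zero hl hl0
  obtain ⟨b', hb0', hbb', hb'⟩ := H.line_zero hl' hl0'
  have hc : Commute (h⁻¹ * g * h) (h⁻¹ * g' * h) := by
    have := Commute.conj_iff h⁻¹ |>.2 hgg'
    rwa [inv_inv] at this
  have h5 := commute_apply hc 1
  simp only [hb, hb', map_one, mul_one] at h5
  -- `b * τ b' = b' * τ b`
  have h6 : b * b = b' * b' := by
    calc b * b = b * b * (b' * τ b') := by rw [hbb', mul_one]
      _ = b * b' * (b * τ b') := by ring
      _ = b * b' * (b' * τ b) := by rw [h5]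
      _ = b' * b' * (b * τ b) := by ring
      _ = b' * b' := by rw [hbb, mul_one]
  have h7 : b = b' := by
    have h8 : (b + b') * (b + b') = 0 := by
      calc (b + b') * (b + b') = (b * b + b' * b') + (b * b' + b * b') := by ring
        _ = 0 := by rw [h6, CharTwo.add_self_eq_zero, CharTwo.add_self_eq_zero, add_zero]
    exact CharTwo.add_eq_zero.1 (mul_self_eq_zero.1 h8)
  have h9 : h⁻¹ * g * h = h⁻¹ * g' * h := Equiv.ext fun z => by rw [hb, hb', h7]
  simpa using h9

/-- There is a line through two points. -/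
theorem exists_line {x y : F} (hxy : x ≠ y) : ∃ g, IsLine Y g ∧ g x = x ∧ g y = y := by
  obtain ⟨s, hs, hsτ⟩ := H.tau_mem
  obtain ⟨h, hh, hh0⟩ := H.trans x
  set v := h⁻¹ y with hv
  have hvy : h v = y := by simp [hv]
  have hv0 : v ≠ 0 := fun e => hxy (by rw [← hh0, ← hvy, e])
  have hτv : τ v ≠ 0 := fun e => hv0 (by simpa using e)
  obtain ⟨m, hm, hmb⟩ := H.scalar (v / τ v) (div_ne_zero hv0 hτv)
  set g := m * s with hg
  have hgx : ∀ z, g z = v / τ v * τ z := fun z => by
    show m (s z) = _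
    rw [hsτ, hmb]
  have hl : IsLine Y g := by
    refine ⟨Y.mul_mem hm hs, fun e => H.tau_ne (RingEquiv.ext fun z => ?_), Equiv.ext fun z => ?_,
      0, by rw [hgx]; simp⟩
    · have h1 : v / τ v = 1 := by simpa [e] using (hgx 1).symm
      have h2 := hgx z
      rw [e, h1, one_mul] at h2
      exact h2.symm
    · show g (g z) = z
      rw [hgx, hgx, map_mul, map_div₀, H.tau_sq, H.tau_sq]
      field_simp
  refine ⟨h * g * h⁻¹, isLine_conj hh hl, ?_, ?_⟩
  · rw [← hh0, conj_apply, hgx]; simp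
  · rw [← hvy, conj_apply, hgx, div_mul_cancel₀ _ hτv]

/-- A line has as many points as the fixed field. -/
theorem ncard_line {g : Equiv.Perm F} (hg : IsLine Y g) :
    {z | g z = z}.ncard = {k : F | τ k = k}.ncard := by
  obtain ⟨x, hx⟩ := hg.2.2.2
  obtain ⟨h, hh, hh0, hl, hl0⟩ := H.to_zero hg hx
  obtain ⟨b, hb0, hbb, hb⟩ := H.line_zero hl hl0
  obtain ⟨μ, hμ0, hμ⟩ : ∃ μ : F, μ ≠ 0 ∧ b * τ μ = μ := by
    by_contra hc
    push Not at hc
    have h1 : ∀ y, b * τ y = y := fun y => by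
      by_contra hy
      refine hc (y + b * τ y) (fun e => hy (CharTwo.add_eq_zero.1 e).symm) ?_
      rw [map_add, map_mul, H.tau_sq, mul_add, ← mul_assoc, hbb, one_mul, add_comm]
    exact hc 1 one_ne_zero (h1 1)
  refine (Set.ncard_congr (fun k _ => h (μ * k)) (fun k hk => ?_) (fun a a' _ _ haa => ?_)
    fun z hz => ⟨h⁻¹ z / μ, ?_, ?_⟩).symm
  · show g (h (μ * k)) = h (μ * k)
    have h2 : (h⁻¹ * g * h) (μ * k) = μ * k := by
      rw [hb, map_mul, ← mul_assoc, hμ, show τ k = k from hk]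
    have h3 := congrArg h h2
    simpa using h3
  · exact mul_left_cancel₀ hμ0 (h.injective haa)
  · show τ (h⁻¹ z / μ) = h⁻¹ z / μ
    have h2 : (h⁻¹ * g * h) (h⁻¹ z) = h⁻¹ z := by
      show h⁻¹ (g (h (h⁻¹ z))) = h⁻¹ z
      rw [show h (h⁻¹ z) = z by simp, show g z = z from hz]
    rw [hb] at h2
    have hτμ : τ μ ≠ 0 := fun e => hμ0 (by simpa using e)
    rw [map_div₀, div_eq_div_iff hτμ hμ0]
    calc τ (h⁻¹ z) * μ = τ (h⁻¹ z) * (b * τ μ) := by rw [hμ]
      _ = b * τ (h⁻¹ z) * τ μ := by ring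
      _ = h⁻¹ z * τ μ := by rw [h2]
  · rw [mul_div_cancel₀ _ hμ0]; simp

/-- The norm to the fixed field has a kernel element: the field is the plane over its fixed field. -/
theorem exists_basis : ∃ θ c : F, c ≠ 0 ∧ τ c = c ∧ θ + τ θ = c ∧
    ∀ x : F, τ ((x + τ x) / c) = (x + τ x) / c ∧
      τ (x + (x + τ x) / c * θ) = x + (x + τ x) / c * θ := by
  obtain ⟨θ, hθ⟩ : ∃ θ : F, τ θ ≠ θ := by
    by_contra hc
    push Not at hc
    exact H.tau_ne (RingEquiv.ext hc)
  set c := θ + τ θ with hc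
  have hc0 : c ≠ 0 := fun e => hθ (CharTwo.add_eq_zero.1 e).symm
  have hcτ : τ c = c := by rw [hc, map_add, H.tau_sq, add_comm]
  have h1 : ∀ x : F, τ ((x + τ x) / c) = (x + τ x) / c := fun x => by
    rw [map_div₀, hcτ, map_add, H.tau_sq, add_comm]
  refine ⟨θ, c, hc0, hcτ, rfl, fun x => ⟨h1 x, ?_⟩⟩
  rw [map_add, map_mul, h1, show τ θ = θ + c by
    rw [hc, ← add_assoc, CharTwo.add_self_eq_zero, zero_add], mul_add,
    div_mul_cancel₀ _ hc0]
  rw [show τ x + ((x + τ x) / c * θ + (x + τ x)) = (τ x + τ x) + (x + (x + τ x) / c * θ) by ring,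
    CharTwo.add_self_eq_zero, zero_add]

/-- The field has the square of the order of the fixed field. -/
theorem card_eq : Nat.card F = {k : F | τ k = k}.ncard * {k : F | τ k = k}.ncard := by
  obtain ⟨θ, c, hc0, hcτ, hθ, hbasis⟩ := H.exists_basis
  set K := {k : F | τ k = k}
  rw [← Nat.card_coe_set_eq, ← Nat.card_prod]
  refine (Nat.card_congr (Equiv.ofBijective
    (fun p : K × K => (p.1 : F) + (p.2 : F) * θ) ⟨fun p p' hpp => ?_, fun x => ?_⟩)).symm
  · have h1 : ∀ p : K × K, ((p.1 : F) + (p.2 : F) * θ) + τ ((p.1 : F) + (p.2 : F) * θ)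
        = (p.2 : F) * c := fun p => by
      rw [map_add, map_mul, show τ (p.1 : F) = p.1 from p.1.2, show τ (p.2 : F) = p.2 from p.2.2,
        ← hθ]
      calc _ = ((p.1 : F) + p.1) + p.2 * (θ + τ θ) := by ring
        _ = _ := by rw [CharTwo.add_self_eq_zero, zero_add]
    simp only at hpp
    have h2 := h1 p
    rw [hpp, h1 p'] at h2
    have h3 : p.2 = p'.2 := Subtype.ext (mul_right_cancel₀ hc0 h2.symm)
    rw [h3] at hpp
    exact Prod.ext (Subtype.ext (add_right_cancel hpp)) h3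
  · refine ⟨(⟨x + (x + τ x) / c * θ, (hbasis x).2⟩, ⟨(x + τ x) / c, (hbasis x).1⟩), ?_⟩
    show x + (x + τ x) / c * θ + (x + τ x) / c * θ = x
    rw [add_assoc, CharTwo.add_self_eq_zero, add_zero]

/-- Through a point off a line there is a parallel commuting with it. -/
theorem exists_parallel {s : Equiv.Perm F} (hs : IsLine Y s) {x : F} (hx : s x ≠ x) :
    ∃ g, IsLine Y g ∧ g x = x ∧ Commute s g ∧ ∀ p, s p = p → g p ≠ p := by
  obtain ⟨g, hg, hgx, hgy⟩ := H.exists_line (Ne.symm hx)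
  have hc : Commute s g := by
    have h1 : s * g * s⁻¹ = g := H.eq_of_two (isLine_conj hs.1 hg) hg (Ne.symm hx)
      (by
        conv_lhs => rw [← apply_mul_self hs.2.2.1 x]
        rw [conj_apply, hgy, apply_mul_self hs.2.2.1])
      (by rw [conj_apply, hgx]) hgx hgy
    exact mul_inv_eq_iff_eq_mul.1 h1
  refine ⟨g, hg, hgx, hc, fun p hp hgp => hx ?_⟩
  rw [H.eq_of_commute hs hg hc hp hgp]
  exact hgx

/-- The parallel through a point is unique. -/
theorem parallel_unique {s g g' : Equiv.Perm F} (hs : IsLine Y s) (hg : IsLine Y g)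
    (hg' : IsLine Y g') {x : F} (hgx : g x = x) (hgx' : g' x = x)
    (hd : ∀ p, s p = p → g p ≠ p) (hd' : ∀ p, s p = p → g' p ≠ p) : g = g' := by
  classical
  have := Fintype.ofFinite F
  by_contra hne
  have hsx : s x ≠ x := fun e => hd x e hgx
  choose ℓ hℓ hℓx hℓy using fun y : {y : F // y ≠ x} => H.exists_line (Ne.symm y.2)
  set q₀ := {k : F | τ k = k}.ncard with hq₀
  -- the lines through `x`
  let L : Finset (Equiv.Perm F) := Finset.univ.image ℓ
  have hfib : ∀ l ∈ L, (Finset.univ.filter fun y => ℓ y = l).card = q₀ - 1 := by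
    intro l hl
    obtain ⟨y₀, -, rfl⟩ := Finset.mem_image.1 hl
    have h1 : ((Finset.univ.filter fun y => ℓ y = ℓ y₀).map (Function.Embedding.subtype _) :
        Finset F) = (Finset.univ.filter fun z => ℓ y₀ z = z).erase x := by
      ext z
      simp only [Finset.mem_map, Finset.mem_filter, Finset.mem_univ, true_and, Finset.mem_erase,
        Function.Embedding.coe_subtype]
      constructor
      · rintro ⟨y, hy, rfl⟩
        exact ⟨y.2, hy ▸ hℓy y⟩
      · rintro ⟨hz, hz'⟩
        exact ⟨⟨z, hz⟩, H.eq_of_two (hℓ _) (hℓ y₀) (Ne.symm hz) (hℓx _) (hℓy ⟨z, hz⟩) (hℓx y₀) hz',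
          rfl⟩
    rw [← Finset.card_map (Function.Embedding.subtype _), h1,
      Finset.card_erase_of_mem (by simp [hℓx y₀])]
    rw [hq₀, ← H.ncard_line (hℓ y₀), ← Set.ncard_coe_finset]
    simp
  have hcount : Nat.card F - 1 = L.card * (q₀ - 1) := by
    have h1 : Fintype.card {y : F // y ≠ x} = Nat.card F - 1 := by
      rw [Fintype.card_subtype_compl, Fintype.card_subtype_eq, Nat.card_eq_fintype_card]
    rw [← h1, ← Finset.card_univ,
      Finset.card_eq_sum_card_fiberwise (f := ℓ) (t := L) (fun y _ =>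
        Finset.mem_image_of_mem ℓ (Finset.mem_univ y)), Finset.sum_congr rfl hfib,
      Finset.sum_const, smul_eq_mul]
  -- the lines meeting `s`, and two more
  let M : Finset (Equiv.Perm F) :=
    (Finset.univ.filter fun y : {y : F // y ≠ x} => s y = y).image ℓ
  have hM : M.card = q₀ := by
    rw [Finset.card_image_of_injOn]
    · rw [hq₀, ← H.ncard_line hs, ← Set.ncard_coe_finset]
      refine Set.ncard_congr (fun y _ => (y : F)) (fun y hy => by simpa using hy)
        (fun a b _ _ hab => Subtype.ext hab) fun z hz => ?_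
      exact ⟨⟨z, fun e => hsx (by rw [← e]; exact hz)⟩, by simpa using hz, rfl⟩
    · intro a ha b hb hab
      simp only [Finset.coe_filter, Finset.mem_univ, true_and, Set.mem_setOf_eq] at ha hb
      by_contra hne'
      have h1 := H.eq_of_two (hℓ a) hs (fun e => hne' (Subtype.ext e)) (hℓy a)
        (by rw [hab]; exact hℓy b) ha hb
      exact hsx (h1 ▸ hℓx a)
  have hmem : ∀ k : Equiv.Perm F, IsLine Y k → k x = x → (∀ p, s p = p → k p ≠ p) →
      k ∈ L ∧ k ∉ M := by
    intro k hk hkx hkd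
    obtain ⟨y, hy, hyx⟩ : ∃ y, k y = y ∧ y ≠ x := by
      by_contra hc
      push Not at hc
      have h1 : {z | k z = z} = {x} :=
        Set.eq_singleton_iff_unique_mem.2 ⟨hkx, hc⟩
      have h2 := H.ncard_line hk
      rw [h1, Set.ncard_singleton, ← hq₀] at h2
      have h3 : 1 < q₀ := by
        rw [hq₀, Set.one_lt_ncard]
        exact ⟨0, map_zero τ, 1, map_one τ, zero_ne_one⟩
      omega
    have hkℓ : ℓ ⟨y, hyx⟩ = k :=
      H.eq_of_two (hℓ _) hk (Ne.symm hyx) (hℓx _) (hℓy ⟨y, hyx⟩) hkx hy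
    refine ⟨hkℓ ▸ Finset.mem_image_of_mem ℓ (Finset.mem_univ _), fun hkM => ?_⟩
    obtain ⟨p, hp, rfl⟩ := Finset.mem_image.1 hkM
    exact hkd p (by simpa using hp) (hℓy p)
  have hle : insert g (insert g' M) ⊆ L := by
    refine Finset.insert_subset (hmem g hg hgx hd).1
      (Finset.insert_subset (hmem g' hg' hgx' hd').1 ?_)
    exact Finset.image_subset_image (Finset.filter_subset _ _)
  have h4 := Finset.card_le_card hle
  rw [Finset.card_insert_of_notMem (by
      rw [Finset.mem_insert]; exact not_or_intro hne (hmem g hg hgx hd).2),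
    Finset.card_insert_of_notMem (hmem g' hg' hgx' hd').2, hM] at h4
  have h3 : 1 < q₀ := by
    rw [hq₀, Set.one_lt_ncard]
    exact ⟨0, map_zero τ, 1, map_one τ, zero_ne_one⟩
  rw [H.card_eq, ← hq₀] at hcount
  obtain ⟨r, rfl⟩ : ∃ r, L.card = r := ⟨_, rfl⟩
  have h5 : (q₀ + 2) * (q₀ - 1) ≤ L.card * (q₀ - 1) := Nat.mul_le_mul_right _ h4
  rw [← hcount] at h5
  obtain ⟨n, hn⟩ : ∃ n, q₀ = n + 2 := ⟨q₀ - 2, by omega⟩
  rw [hn] at h5
  simp only [show n + 2 - 1 = n + 1 by omega] at h5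
  have h6 : (n + 2) * (n + 2) - 1 = (n + 3) * (n + 1) := by
    rw [show (n + 2) * (n + 2) = (n + 3) * (n + 1) + 1 by ring, Nat.add_sub_cancel]
  rw [h6] at h5
  nlinarith [h5]

/-- All translations. -/
theorem exists_translation (b : F) : ∃ g ∈ Y, ∀ x, g x = x + b := by
  classical
  obtain ⟨s, hsY, hsτ⟩ := H.tau_mem
  obtain ⟨θ, c, hc0, hcτ, hθ, hbasis⟩ := H.exists_basis
  have hs : IsLine Y s := by
    refine ⟨hsY, fun e => H.tau_ne (RingEquiv.ext fun z => ?_), Equiv.ext fun z => ?_, 0,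
      by rw [hsτ, map_zero]⟩
    · rw [← hsτ z, e]; rfl
    · show s (s z) = z; rw [hsτ, hsτ, H.tau_sq]
  let P : Set (Equiv.Perm F) := {g | IsLine Y g ∧ Commute s g}
  have hPs : s ∈ P := ⟨hs, Commute.refl s⟩
  have hPd : ∀ g ∈ P, g ≠ s → ∀ p, s p = p → g p ≠ p := fun g hg hne p hp hgp =>
    hne (H.eq_of_commute hg.1 hs hg.2.symm hgp hp)
  have hPc : ∀ g ∈ P, ∀ g' ∈ P, g * g' = g' * g := by
    intro g hg g' hg'
    by_cases e : g = s
    · subst e; exact hg'.2.eq
    by_cases e' : g' = s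
    · subst e'; exact hg.2.eq.symm
    by_cases hcom : ∃ x, g x = x ∧ g' x = x
    · obtain ⟨x, hx, hx'⟩ := hcom
      rw [H.parallel_unique hs hg.1 hg'.1 hx hx' (hPd g hg e) (hPd g' hg' e')]
    push Not at hcom
    obtain ⟨x, hx⟩ := hg'.1.2.2.2
    have hgx : g x ≠ x := fun e => hcom x e hx
    obtain ⟨k, hk, hkx, hkc, hkd⟩ := H.exists_parallel hg.1 hgx
    have : k = g' := H.parallel_unique hg.1 hk hg'.1 hkx hx hkd hcom
    exact this ▸ hkc.eq
  set Γ := Subgroup.closure P with hΓ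
  have hΓY : Γ ≤ Y := (Subgroup.closure_le _).2 fun g hg => hg.1.1
  haveI hΓc : IsMulCommutative Γ := Subgroup.isMulCommutative_closure hPc
  have hcomm : ∀ g ∈ Γ, ∀ g' ∈ Γ, Commute g g' := fun g hg g' hg' =>
    congrArg Subtype.val (hΓc.is_comm.comm ⟨g, hg⟩ ⟨g', hg'⟩)
  have hsq : ∀ g ∈ Γ, g * g = 1 := by
    intro g hg
    induction hg using Subgroup.closure_induction with
    | mem x hx => exact hx.1.2.2.1
    | one => exact one_mul 1
    | mul x y hx hy ihx ihy =>
      rw [mul_assoc, ← mul_assoc y, (hcomm y hy x hx).eq, mul_assoc x y, ihy, mul_one, ihx]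
    | inv x hx ih => rw [← mul_inv_rev, ih, inv_one]
  have hsΓ : s ∈ Γ := Subgroup.subset_closure hPs
  have hfixK : ∀ g ∈ Γ, ∀ k, τ k = k → τ (g k) = g k := fun g hg k hk => by
    rw [← hsτ, commute_apply (hcomm s hsΓ g hg), hsτ, hk]
  -- scalars of the fixed field normalise
  have hscal : ∀ μ : F, μ ≠ 0 → τ μ = μ → ∀ g ∈ Γ, ∃ g' ∈ Γ, ∀ x, g' x = μ * g (x / μ) := by
    intro μ hμ hμτ
    obtain ⟨m, hm, hmμ⟩ := H.scalar μ hμ
    have hminv : ∀ x, m⁻¹ x = x / μ := fun x => m.injective (by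
      rw [show m (m⁻¹ x) = x by simp, hmμ, mul_div_cancel₀ _ hμ])
    intro g hg
    refine ⟨m * g * m⁻¹, ?_, fun x => by show m (g (m⁻¹ x)) = _; rw [hminv, hmμ]⟩
    have hms : m * s * m⁻¹ = s := Equiv.ext fun x => by
      show m (s (m⁻¹ x)) = s x
      rw [hminv, hsτ, hsτ, hmμ, map_div₀, hμτ, mul_div_cancel₀ _ hμ]
    induction hg using Subgroup.closure_induction with
    | mem y hy =>
      refine Subgroup.subset_closure ⟨isLine_conj hm hy.1, ?_⟩
      rw [← hms]
      exact (Commute.conj_iff m).2 hy.2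
    | one => rw [mul_one, mul_inv_cancel]; exact Γ.one_mem
    | mul a b _ _ ha hb =>
      rw [show m * (a * b) * m⁻¹ = m * a * m⁻¹ * (m * b * m⁻¹) by group]
      exact Γ.mul_mem ha hb
    | inv a _ ha =>
      rw [show m * a⁻¹ * m⁻¹ = (m * a * m⁻¹)⁻¹ by group]
      exact Γ.inv_mem ha
  -- transitive on the fixed field
  have hΓtr : ∀ t, τ t = t → ∃ g ∈ Γ, g 0 = t := by
    intro t ht
    rcases eq_or_ne t 0 with rfl | ht0
    · exact ⟨1, Γ.one_mem, rfl⟩
    obtain ⟨x, hx⟩ : ∃ x, s x ≠ x := by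
      by_contra hcon
      push Not at hcon
      exact hs.2.1 (Equiv.ext hcon)
    obtain ⟨g, hg, hgx, hgc, hgd⟩ := H.exists_parallel hs hx
    have hgΓ : g ∈ Γ := Subgroup.subset_closure ⟨hg, hgc⟩
    have h0 : g 0 ≠ 0 := hgd 0 (by rw [hsτ, map_zero])
    have h0τ : τ (g 0) = g 0 := hfixK g hgΓ 0 (map_zero τ)
    obtain ⟨g', hg', hg'x⟩ := hscal (t / g 0) (div_ne_zero ht0 h0) (by rw [map_div₀, ht, h0τ]) g hgΓ
    exact ⟨g', hg', by rw [hg'x, zero_div, div_mul_cancel₀ _ h0]⟩
  -- semiregular there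
  have hΓreg : ∀ g ∈ Γ, g 0 = 0 → g = 1 ∨ g = s := by
    intro g hg h0
    by_cases h1 : g = 1
    · exact Or.inl h1
    exact Or.inr (H.eq_of_commute ⟨hΓY hg, h1, hsq g hg, 0, h0⟩ hs (hcomm g hg s hsΓ) h0
      (by rw [hsτ, map_zero]))
  -- linear parts fix the fixed field
  let K := {k : F // τ k = k}
  letI : MulAction Γ K :=
    { smul := fun g k => ⟨(g : Equiv.Perm F) k + (g : Equiv.Perm F) 0, by
        rw [map_add, hfixK g g.2 k k.2, hfixK g g.2 0 (map_zero τ)]⟩
      one_smul := fun k => Subtype.ext (add_zero (k : F))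
      mul_smul := fun a b k => Subtype.ext (by
        show (a : Equiv.Perm F) ((b : Equiv.Perm F) k) + (a : Equiv.Perm F) ((b : Equiv.Perm F) 0) =
          (a : Equiv.Perm F) ((b : Equiv.Perm F) k + (b : Equiv.Perm F) 0) + (a : Equiv.Perm F) 0
        rw [H.aff a (hΓY a.2)]) }
  haveI : Fact (Nat.Prime 2) := ⟨Nat.prime_two⟩
  have hK2 : 2 ∣ Nat.card K := by
    have h1 : 2 ∣ Nat.card F := by
      haveI := Fintype.ofFinite F
      obtain ⟨n, -, hn⟩ := FiniteField.card F 2
      rw [Nat.card_eq_fintype_card, hn]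
      exact dvd_pow_self 2 n.ne_zero
    rw [H.card_eq] at h1
    exact ((Nat.Prime.dvd_mul Nat.prime_two).1 h1).elim id id
  have hLfix : ∀ g ∈ Γ, ∀ k, τ k = k → g k + g 0 = k := by
    have h2 : IsPGroup 2 Γ := fun g => ⟨1, Subtype.ext (by
      show (g : Equiv.Perm F) ^ 2 ^ 1 = 1
      rw [pow_one, pow_two, hsq g g.2])⟩
    have h0 : (⟨0, map_zero τ⟩ : K) ∈ MulAction.fixedPoints Γ K := fun g =>
      Subtype.ext (CharTwo.add_self_eq_zero _)
    obtain ⟨v, hv, hv0⟩ := h2.exists_fixed_point_of_prime_dvd_card_of_fixed_point K hK2 h0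
    intro g hg k hk
    rcases eq_or_ne k 0 with rfl | hk0
    · exact CharTwo.add_self_eq_zero _
    have hv0' : (v : F) ≠ 0 := fun e => hv0 (Subtype.ext e).symm
    obtain ⟨g', hg', hg'x⟩ := hscal ((v : F) / k) (div_ne_zero hv0' hk0)
      (by rw [map_div₀, v.2, hk]) g hg
    have h3 : g' v + g' 0 = v := congrArg Subtype.val (hv ⟨g', hg'⟩)
    rw [hg'x, hg'x, zero_div, div_div_cancel₀ hv0', ← mul_add] at h3
    exact mul_left_cancel₀ (div_ne_zero hv0' hk0) (h3.trans (div_mul_cancel₀ _ hk0).symm)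
  -- the lines of the class have direction the fixed field
  have hdir : ∀ g ∈ P, ∀ x, g x = x → ∀ d, g (x + d) = x + d ↔ τ d = d := by
    intro g hg x hx
    have hgΓ : g ∈ Γ := Subgroup.subset_closure hg
    have h1 : ∀ d, g (x + d) = x + (g d + g 0) := fun d => by
      have h2 := H.aff g hg.1.1 x d
      rw [hx] at h2
      rw [← add_assoc, ← h2, add_assoc, CharTwo.add_self_eq_zero, add_zero]
    have hsub : {k : F | τ k = k} ⊆ (fun d => x + d) ⁻¹' {z | g z = z} := fun k hk => by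
      show g (x + k) = x + k
      rw [h1, hLfix g hgΓ k hk]
    have h2 : ((fun d => x + d) ⁻¹' {z | g z = z}).ncard ≤ {k : F | τ k = k}.ncard := by
      rw [← H.ncard_line hg.1]
      exact Set.ncard_le_ncard_of_injOn (fun d => x + d) (fun d hd => hd)
        (fun a _ a' _ e => add_left_cancel e) (Set.toFinite _)
    have h3 := Set.eq_of_subset_of_ncard_le hsub h2 (Set.toFinite _)
    intro d
    exact (Set.ext_iff.1 h3 d).symm
  -- every line is a coset of a line through zero
  have hlines : ∀ g, IsLine Y g → ∀ x d, d ≠ 0 → g x = x → g (x + d) = x + d →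
      ∀ z, g z = z → ∃ k, τ k = k ∧ z = x + d * k := by
    intro g hg x d hd hx hxd z hz
    obtain ⟨m, hm, hmd⟩ := H.scalar d hd
    obtain ⟨ρ, hρ, hρx⟩ : ∃ ρ ∈ P, ρ (x / d) = x / d := by
      by_cases e : s (x / d) = x / d
      · exact ⟨s, hPs, e⟩
      · obtain ⟨ρ, h1, h2, h3, -⟩ := H.exists_parallel hs e
        exact ⟨ρ, ⟨h1, h3⟩, h2⟩
    have hpt : ∀ k, τ k = k → (m * ρ * m⁻¹) (x + d * k) = x + d * k := fun k hk => by
      have h1 : m (x / d + k) = x + d * k := by rw [hmd, mul_add, mul_div_cancel₀ _ hd]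
      rw [← h1, conj_apply, (hdir ρ hρ _ hρx k).2 hk]
    have heq : g = m * ρ * m⁻¹ := H.eq_of_two hg (isLine_conj hm hρ.1) (x := x) (y := x + d)
      (fun e => hd (left_eq_add.1 e)) hx hxd
      (by simpa using hpt 0 (map_zero τ)) (by simpa using hpt 1 (map_one τ))
    rw [heq] at hz
    refine ⟨z / d + x / d, (hdir ρ hρ _ hρx _).1 ?_, ?_⟩
    · rw [show x / d + (z / d + x / d) = z / d + (x / d + x / d) by ring,
        CharTwo.add_self_eq_zero, add_zero]
      refine m.injective ?_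
      rw [← conj_apply (h := m) (g := ρ), show m (z / d) = z by rw [hmd, mul_div_cancel₀ _ hd], hz]
    · rw [mul_add, mul_div_cancel₀ _ hd, mul_div_cancel₀ _ hd,
        show x + (z + x) = z + (x + x) by ring, CharTwo.add_self_eq_zero, add_zero]
  -- the shape of the elements
  have hshape : ∀ g ∈ Γ, ∃ A t : F, τ A = A ∧ τ t = t ∧ ∀ x, g x = x + A * (x + τ x) + t := by
    intro g hg
    induction hg using Subgroup.closure_induction with
    | mem g hg =>
      have hgΓ : g ∈ Γ := Subgroup.subset_closure hg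
      have hgY := hg.1.1
      set M : F → F := fun x => g x + g 0 with hM
      have hMadd : ∀ x y, M (x + y) = M x + M y := fun x y => by
        show g (x + y) + g 0 = g x + g 0 + (g y + g 0)
        rw [H.aff g hgY, add_add_add_comm (g x), CharTwo.add_self_eq_zero, add_zero]
      have hMK : ∀ k, τ k = k → M k = k := hLfix g hgΓ
      obtain ⟨x₀, hx₀⟩ := hg.1.2.2.2
      have hMv : ∀ v, τ (M v + v) = M v + v := fun v => by
        refine (hdir g hg x₀ hx₀ (M v + v)).1 ?_
        -- `M` fixes `M v + v`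
        have hMM : M (M v) = v := by
          show g (g v + g 0) + g 0 = v
          rw [H.aff g hgY, apply_mul_self hg.1.2.2.1, apply_mul_self hg.1.2.2.1, add_zero]
        have h2 := H.aff g hgY x₀ (M v + v)
        have h3 : M (M v + v) = M v + v := by rw [hMadd, hMM, add_comm]
        rw [hx₀] at h2
        calc g (x₀ + (M v + v)) = g (x₀ + (M v + v)) + g 0 + g 0 := by
              rw [add_assoc (g (x₀ + (M v + v))), CharTwo.add_self_eq_zero, add_zero]
          _ = x₀ + M (M v + v) := by rw [h2, add_assoc]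
          _ = x₀ + (M v + v) := by rw [h3]
      set n := M θ + θ with hn
      have hnτ : τ n = n := hMv θ
      have hMθ : M θ = θ + n := by
        rw [hn, show θ + (M θ + θ) = M θ + (θ + θ) by ring, CharTwo.add_self_eq_zero, add_zero]
      have hθK : τ θ ≠ θ := fun e => hc0 (by rw [← hθ, e, CharTwo.add_self_eq_zero])
      have hlin : ∀ k, τ k = k → M (k * θ) = k * θ + k * n := by
        intro k hk
        have hθ0 : θ ≠ 0 := fun e => hθK (by rw [e, map_zero])
        obtain ⟨l, hl, hl0, hlθ⟩ := H.exists_line (Ne.symm hθ0)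
        -- the line through `0` and `θ` contains `k * θ`
        have hlk : l (k * θ) = k * θ := by
          obtain ⟨b, -, -, hb⟩ := H.line_zero hl hl0
          rw [hb, map_mul, hk, mul_left_comm, ← hb, hlθ]
        have himg : ∀ z, g z = g 0 + M z := fun z => by
          show g z = g 0 + (g z + g 0)
          rw [show g 0 + (g z + g 0) = g z + (g 0 + g 0) by ring, CharTwo.add_self_eq_zero,
            add_zero]
        obtain ⟨k', hk', he⟩ := hlines (g * l * g⁻¹) (isLine_conj hgY hl) (g 0) (M θ)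
          (fun e => hθK (by
            have : θ = n := CharTwo.add_eq_zero.1 (hMθ ▸ e)
            rw [this]; exact hnτ))
          (by rw [conj_apply, hl0]) (by rw [← himg, conj_apply, hlθ]) (g (k * θ))
          (by rw [conj_apply, hlk])
        rw [himg, add_right_inj, hMθ] at he
        have h5 : τ (M (k * θ) + k * θ) = M (k * θ) + k * θ := hMv _
        have h6 : k' = k := by
          by_contra hne
          have hkk : k' + k ≠ 0 := fun e => hne (CharTwo.add_eq_zero.1 e)
          have h7 : τ ((k' + k) * θ) = (k' + k) * θ := by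
            have h8 : (k' + k) * θ = (M (k * θ) + k * θ) + n * k' := by
              rw [he]
              calc (k' + k) * θ = (k' * θ + k * θ) + (n * k' + n * k') := by
                    rw [CharTwo.add_self_eq_zero, add_zero, add_mul]
                _ = _ := by ring
            rw [h8, map_add, h5, map_mul, hnτ, hk']
          rw [map_mul, map_add, hk', hk] at h7
          exact hθK (mul_left_cancel₀ hkk h7)
        rw [he, h6]; ring
      refine ⟨n / c, g 0, by rw [map_div₀, hnτ, hcτ], hfixK g hgΓ 0 (map_zero τ), fun x => ?_⟩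
      set k₁ := (x + τ x) / c with hk₁
      have hx : M x = x + k₁ * n := by
        have h8 : x = (x + k₁ * θ) + k₁ * θ := by
          rw [add_assoc, CharTwo.add_self_eq_zero, add_zero]
        calc M x = M (x + k₁ * θ) + M (k₁ * θ) := by rw [← hMadd, ← h8]
          _ = (x + k₁ * θ) + (k₁ * θ + k₁ * n) := by
            rw [hMK _ (hbasis x).2, hlin _ (hbasis x).1]
          _ = x + k₁ * n := by rw [← add_assoc, ← h8]
      calc g x = M x + g 0 := by
            show g x = g x + g 0 + g 0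
            rw [add_assoc, CharTwo.add_self_eq_zero, add_zero]
        _ = x + n / c * (x + τ x) + g 0 := by rw [hx, hk₁]; ring
    | one => exact ⟨0, 0, map_zero τ, map_zero τ, fun x => by simp⟩
    | mul a b _ _ ha hb =>
      obtain ⟨A, t, hA, ht, ha⟩ := ha
      obtain ⟨A', t', hA', ht', hb⟩ := hb
      refine ⟨A + A', t + t', by rw [map_add, hA, hA'], by rw [map_add, ht, ht'], fun x => ?_⟩
      show a (b x) = _
      rw [ha, hb, map_add, map_add, map_mul, hA', map_add, H.tau_sq, ht']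
      calc _ = x + (A + A') * (x + τ x) + (t + t') +
            (A * A' * (x + τ x) + A * A' * (x + τ x) + (A * t' + A * t')) := by ring
        _ = _ := by simp only [CharTwo.add_self_eq_zero, add_zero]
    | inv a ha' ha =>
      rwa [inv_eq_of_mul_eq_one_right (hsq a ha')]
  -- a translation by a fixed element
  obtain ⟨t, ht, g, hg, hgt⟩ : ∃ t, t ≠ 0 ∧ ∃ g ∈ Y, ∀ x, g x = x + t := by
    obtain ⟨g, hg, hg1⟩ := hΓtr 1 (map_one τ)
    obtain ⟨A, t, hA, ht, hgA⟩ := hshape g hg
    have ht1 : t = 1 := by simpa [hg1] using (hgA 0).symm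
    subst ht1
    by_cases hK : ∃ μ, τ μ = μ ∧ μ ≠ 0 ∧ μ ≠ 1
    · obtain ⟨μ, hμ, hμ0, hμ1⟩ := hK
      obtain ⟨g', hg', hg'x⟩ := hscal μ hμ0 hμ g hg
      refine ⟨1 + μ, fun e => hμ1 (CharTwo.add_eq_zero.1 e).symm, g * g',
        hΓY (Γ.mul_mem hg hg'), fun x => ?_⟩
      have hg'A : g' x = x + A * (x + τ x) + μ := by
        rw [hg'x, hgA, map_div₀, hμ]; field_simp
      show g (g' x) = _
      rw [hgA, hg'A, map_add, map_add, map_mul, hA, map_add, H.tau_sq, hμ]
      calc _ = x + (1 + μ) + (A * (x + τ x) + A * (x + τ x) +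
            (A * A * (x + τ x) + A * A * (x + τ x)) + (A * μ + A * μ)) := by ring
        _ = _ := by simp only [CharTwo.add_self_eq_zero, add_zero]
    · push Not at hK
      by_cases hA0 : A = 0
      · exact ⟨1, one_ne_zero, g, hΓY hg, fun x => by rw [hgA, hA0, zero_mul, add_zero]⟩
      · refine ⟨1, one_ne_zero, g * s, hΓY (Γ.mul_mem hg hsΓ), fun x => ?_⟩
        show g (s x) = _
        rw [hgA, hsτ, hK A hA hA0, one_mul, H.tau_sq]
        calc _ = x + 1 + (τ x + τ x) := by ring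
          _ = _ := by rw [CharTwo.add_self_eq_zero, add_zero]
  rcases eq_or_ne b 0 with rfl | hb
  · exact ⟨1, Y.one_mem, fun x => (add_zero x).symm⟩
  obtain ⟨m, hm, hmb⟩ := H.scalar (b / t) (div_ne_zero hb ht)
  refine ⟨m * g * m⁻¹, Y.mul_mem (Y.mul_mem hm hg) (Y.inv_mem hm), fun x => ?_⟩
  have h1 : m (x / (b / t)) = x := by rw [hmb, mul_div_cancel₀ _ (div_ne_zero hb ht)]
  conv_lhs => rw [← h1]
  rw [conj_apply, hgt, hmb]
  field_simp

end Hyp

end TransSigma

universe w

variable {F : Type w} [Field F] [Finite F] [CharP F 2]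

/-- A transitive affine action on a field with semilinear stabiliser of `0` containing the scalars
and an involutive field part contains all translations. -/
theorem exists_translation_of_field_involution {X : Type*} [Group X] [MulAction X F]
    (haff : ∀ g : X, ∀ x y : F, g • (x + y) + g • (0 : F) = g • x + g • y)
    (htr : ∀ x : F, ∃ g : X, g • (0 : F) = x)
    (hstab : ∀ g : X, g • (0 : F) = 0 → ∃ (a : F) (σ : F ≃+* F), a ≠ 0 ∧ ∀ x, g • x = a * σ x)
    (hmul : ∀ a : F, a ≠ 0 → ∃ g : X, ∀ x : F, g • x = a * x)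
    {τ : F ≃+* F} (hτ : τ ≠ 1) (hτ2 : ∀ x, τ (τ x) = x) {g₀ : X} {a₀ : F} (ha₀ : a₀ ≠ 0)
    (hg₀ : ∀ x : F, g₀ • x = a₀ * τ x) (b : F) : ∃ g : X, ∀ x : F, g • x = x + b := by
  have H : TransSigma.Hyp (MulAction.toPermHom X F).range τ := by
    refine ⟨?_, fun x => ?_, ?_, fun a ha => ?_, hτ, hτ2, ?_⟩
    · rintro _ ⟨g, rfl⟩ x y
      exact haff g x y
    · obtain ⟨g, hg⟩ := htr x
      exact ⟨_, ⟨g, rfl⟩, hg⟩
    · rintro _ ⟨g, rfl⟩ h0
      exact hstab g h0
    · obtain ⟨g, hg⟩ := hmul a ha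
      exact ⟨_, ⟨g, rfl⟩, hg⟩
    · obtain ⟨g, hg⟩ := hmul a₀⁻¹ (inv_ne_zero ha₀)
      refine ⟨_, ⟨g * g₀, rfl⟩, fun x => ?_⟩
      show (g * g₀) • x = τ x
      rw [mul_smul, hg₀, hg, ← mul_assoc, inv_mul_cancel₀ ha₀, one_mul]
  obtain ⟨_, ⟨g, rfl⟩, hg⟩ := H.exists_translation b
  exact ⟨g, hg⟩

end CfsgLib.StrongCrit
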